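import Cfsg.Agent.Lib.Invol.OctahedralCore

/-!
A group of order forty-eight with a quaternion normal subgroup, an element of order three moving it
and an involution inverting that element modulo it is `GL(2,3)`.
-/

set_option autoImplicit false
set_option linter.style.haveILetI false

namespace CfsgLib.OrderSix

open QuaternionGroup CfsgLib.GL2 CfsgLib.Invol.Octa

local notation "Q8" => QuaternionGroup 2

theorem hom_ext_eight {X : Type*} [Monoid X] {f g : Q8 →* X} (h1 : f (a 1) = g (a 1))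
    (h2 : f (xa 0) = g (xa 0)) : f = g := by
  refine MonoidHom.ext fun x => ?_
  cases x with
  | a i =>
    rw [show (a i : Q8) = a 1 ^ i.val by rw [a_one_pow]; simp, map_pow, map_pow, h1]
  | xa i =>
    rw [show (xa i : Q8) = xa 0 * a 1 ^ i.val by rw [a_one_pow, xa_mul_a]; simp, map_mul, map_mul,
      map_pow, map_pow, h1, h2]

/-- A homomorphism from `Q₈` with prescribed values. -/
theorem exists_hom_eight {X : Type*} [Group X] {g k : X} (hg : g ^ 4 = 1) (hk : k * k = g * g)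
    (hgk : k * g * k⁻¹ = g⁻¹) : ∃ f : Q8 →* X, f (a 1) = g ∧ f (xa 0) = k := by
  let r : ZMod 4 → X := fun i => g ^ i.val
  have hr : ∀ i j, r (i + j) = r i * r j := fun i j => by
    show g ^ (i + j).val = g ^ i.val * g ^ j.val
    rw [← pow_add, ZMod.val_add, ← pow_eq_pow_mod _ hg]
  have hr0 : r 0 = 1 := by simp [r]
  have hneg : ∀ i, r (-i) = (r i)⁻¹ := fun i => eq_inv_of_mul_eq_one_left (by
    rw [← hr, neg_add_cancel, hr0])
  have hflip : ∀ i, r i * k = k * r (-i) := fun i => by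
    rw [hneg]
    have h2 : k * g ^ i.val * k⁻¹ = (g ^ i.val)⁻¹ := by rw [← conj_pow, hgk, inv_pow]
    have h3 : k * (g ^ i.val)⁻¹ * k⁻¹ = g ^ i.val := by rw [← conj_inv, h2, inv_inv]
    exact (mul_inv_eq_iff_eq_mul.1 h3).symm
  have hk2 : k * k = r (2 : ZMod 4) := by rw [hk]; exact (pow_two g).symm
  let f : Q8 →* X :=
    MonoidHom.mk' (fun | .a i => r i | .xa i => k * r i) fun p q => by
      rcases p with i | i <;> rcases q with j | j
      · rw [a_mul_a]; exact hr i j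
      · rw [a_mul_xa]
        show k * r (j - i) = r i * (k * r j)
        rw [← mul_assoc, hflip, mul_assoc, ← hr, neg_add_eq_sub]
      · rw [xa_mul_a]
        show k * r (i + j) = k * r i * r j
        rw [mul_assoc, hr]
      · rw [xa_mul_xa]
        show r ((2 : ℕ) + j - i) = k * r i * (k * r j)
        rw [mul_assoc, ← mul_assoc (r i), hflip, mul_assoc, ← hr, ← mul_assoc, hk2, ← hr]
        congr 1
        push_cast
        ring
  refine ⟨f, ?_, ?_⟩
  · show g ^ (1 : ZMod 4).val = g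
    rw [show (1 : ZMod 4).val = 1 from rfl, pow_one]
  · show k * r 0 = k
    rw [hr0, mul_one]

theorem eight_cases (x : Q8) : x = 1 ∨ x = a 2 ∨ x ≠ 1 ∧ x ^ 2 = a 2 := by
  revert x; decide

/-- Recognition of `GL(2,3)` from its parts. -/
theorem gl_of_parts {X : Type*} [Group X] [Finite X] (T : Subgroup X) (hTn : T.Normal)
    (hX : Nat.card X = 48) (hT : Nat.card T = 8) {z : X} (hzT : z ∈ T) (hz1 : z ≠ 1) (hzz : z * z = 1)
    (hzc : ∀ x : X, x * z = z * x) (hsq : ∀ t ∈ T, t ≠ 1 → t ≠ z → t * t = z) {s c : X} (hss : s * s = 1)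
    (hc3 : c ^ 3 = 1) (hcT : c ∉ T) (hsc : s * c * s⁻¹ * c ∈ T)
    (hfix : ∀ t ∈ T, (c * t * c⁻¹ * t⁻¹ = 1 ∨ c * t * c⁻¹ * t⁻¹ = z) → t = 1 ∨ t = z) :
    Nonempty (X ≃* GL (Fin 2) (ZMod 3)) := by
  have := hTn
  set U : Subgroup X := Subgroup.zpowers z with hU
  have hzo : orderOf z = 2 := orderOf_eq_prime (by rw [pow_two, hzz]) hz1
  have hmemU : ∀ x, x ∈ U ↔ x = 1 ∨ x = z := by
    intro x
    rw [hU, ← mem_powers_iff_mem_zpowers, Submonoid.mem_powers_iff]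
    constructor
    · rintro ⟨n, rfl⟩
      rw [← pow_mod_orderOf, hzo]
      rcases Nat.mod_two_eq_zero_or_one n with e | e <;> simp [e]
    · rintro (rfl | rfl)
      · exact ⟨0, pow_zero _⟩
      · exact ⟨1, pow_one _⟩
  have hUn : U.Normal := ⟨fun x hx g => by
    rcases (hmemU x).mp hx with rfl | rfl
    · simp
    · rw [hzc g, mul_inv_cancel_right]; exact Subgroup.mem_zpowers _⟩
  -- work modulo `z`
  set ρ := QuotientGroup.mk' U with hρ
  have hker : ∀ x, ρ x = 1 ↔ x = 1 ∨ x = z := fun x => by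
    rw [← hmemU x]; exact QuotientGroup.eq_one_iff x
  have hρT : ∀ t ∈ T, ρ t * ρ t = 1 := by
    intro t ht
    rw [← map_mul, hker]
    by_cases h1 : t = 1
    · simp [h1]
    by_cases h2 : t = z
    · simp [h2, hzz]
    exact Or.inr (hsq t ht h1 h2)
  have hρinv : ∀ t ∈ T, (ρ t)⁻¹ = ρ t := fun t ht => inv_eq_of_mul_eq_one_left (hρT t ht)
  have hρcomm : ∀ t ∈ T, ∀ t' ∈ T, ρ t * ρ t' = ρ t' * ρ t := by
    intro t ht t' ht'
    have e := hρinv _ (mul_mem ht ht')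
    rw [map_mul, mul_inv_rev, hρinv t ht, hρinv t' ht'] at e
    exact e.symm
  have hlift : ∀ {a b : X}, ρ a = ρ b → a = b ∨ a = b * z := by
    intro a b e
    have h1 : ρ (b⁻¹ * a) = 1 := by rw [map_mul, map_inv, e, inv_mul_cancel]
    rcases (hker _).mp h1 with h | h
    · exact Or.inl (inv_mul_eq_one.mp h).symm
    · exact Or.inr (inv_mul_eq_iff_eq_mul.mp h)
  have hρfix : ∀ t ∈ T, ρ c * ρ t * (ρ c)⁻¹ = ρ t → ρ t = 1 := by
    intro t ht e
    rw [hker]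
    refine hfix t ht ?_
    rw [← hker, map_mul, map_mul, map_mul, map_inv, map_inv, e, mul_inv_cancel]
  -- the element of order three inverted by `s`
  have hsinv : s⁻¹ = s := inv_eq_of_mul_eq_one_left hss
  set d := s * (c * s * c⁻¹) with hd
  have hdT : d * c⁻¹ ∈ T := by
    have e : d * c⁻¹ = (s * c * s⁻¹ * c) * (c ^ 3)⁻¹ := by rw [hd, hsinv]; group
    rw [e, hc3, inv_one, mul_one]; exact hsc
  have hd3 : d ^ 3 ∈ T := by
    have e : (QuotientGroup.mk' T) d = QuotientGroup.mk' T c := by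
      rw [← mul_inv_eq_one, ← map_inv, ← map_mul]
      exact (QuotientGroup.eq_one_iff _).mpr hdT
    refine (QuotientGroup.eq_one_iff _).mp ?_
    show QuotientGroup.mk' T (d ^ 3) = 1
    rw [map_pow, e, ← map_pow, hc3, map_one]
  set α := d ^ 4 with hαd
  have hαc : α * c⁻¹ ∈ T := by
    have e : α * c⁻¹ = d ^ 3 * (d * c⁻¹) := by rw [hαd, pow_succ, mul_assoc]
    rw [e]; exact mul_mem hd3 hdT
  have hT4 : ∀ t ∈ T, t ^ 4 = 1 := by
    intro t ht
    have e : t ^ 4 = (t * t) * (t * t) := by simp [pow_succ, mul_assoc]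
    rw [e]
    by_cases h1 : t = 1
    · simp [h1]
    by_cases h2 : t = z
    · simp [h2, hzz]
    rw [hsq t ht h1 h2, hzz]
  have hα3 : α ^ 3 = 1 := by
    rw [hαd, ← pow_mul, show 4 * 3 = 3 * 4 by norm_num, pow_mul]
    exact hT4 _ hd3
  have hαT : α ∉ T := fun h => hcT (by
    have := mul_mem (inv_mem hαc) h
    rwa [mul_inv_rev, inv_inv, inv_mul_cancel_right] at this)
  have hτα : s * α * s⁻¹ = α⁻¹ := by
    have e : s * d * s⁻¹ = d⁻¹ := by
      calc s * d * s⁻¹ = (s * s) * (c * s * c⁻¹) * s⁻¹ := by rw [hd]; group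
        _ = (c * s⁻¹ * c⁻¹) * s⁻¹ := by rw [hss, one_mul, hsinv]
        _ = d⁻¹ := by rw [hd]; group
    rw [hαd, ← conj_pow, e, inv_pow]
  have hρα : ∀ t ∈ T, ρ (α * t * α⁻¹) = ρ c * ρ t * (ρ c)⁻¹ := by
    intro t ht
    have hct : c * t * c⁻¹ ∈ T := hTn.conj_mem t ht c
    have e : α * t * α⁻¹ = (α * c⁻¹) * (c * t * c⁻¹) * (α * c⁻¹)⁻¹ := by group
    rw [e, map_mul, map_mul, map_inv, hρcomm _ hαc _ hct, mul_inv_cancel_right, map_mul, map_mul, map_inv]
  have hαfix : ∀ t ∈ T, ρ (α * t * α⁻¹) = ρ t → ρ t = 1 := fun t ht e =>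
    hρfix t ht (by rw [← hρα t ht, e])
  -- a nontrivial class fixed by `s`
  obtain ⟨t₀, ht₀T, ht₀⟩ : ∃ t ∈ T, ρ t ≠ 1 := by
    by_contra hcon
    push Not at hcon
    letI : Fintype X := Fintype.ofFinite X
    classical
    have hle : (Finset.univ.filter fun x : X => x ∈ T) ⊆ {1, z} := fun x hx => by
      simpa using (hker x).mp (hcon x (Finset.mem_filter.mp hx).2)
    have h8 := (Finset.card_le_card hle).trans Finset.card_le_two
    rw [← Fintype.card_subtype, ← Nat.card_eq_fintype_card] at h8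
    rw [show Nat.card {x // x ∈ T} = 8 from hT] at h8
    omega
  obtain ⟨t, htT, ht1, htfix⟩ : ∃ t ∈ T, ρ t ≠ 1 ∧ ρ (s * t * s⁻¹) = ρ t := by
    by_cases he : ρ (s * t₀ * s⁻¹) = ρ t₀
    · exact ⟨t₀, ht₀T, ht₀, he⟩
    have hs₀ := hTn.conj_mem t₀ ht₀T s
    refine ⟨t₀ * (s * t₀ * s⁻¹), mul_mem ht₀T hs₀, fun e => he ?_, ?_⟩
    · rw [map_mul, mul_eq_one_iff_inv_eq, hρinv t₀ ht₀T] at e
      exact e.symm
    · have e : s * (t₀ * (s * t₀ * s⁻¹)) * s⁻¹ = (s * t₀ * s⁻¹) * ((s * s) * t₀ * (s * s)⁻¹) := by group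
      rw [e, hss]
      simp only [one_mul, inv_one, mul_one, map_mul]
      exact hρcomm _ hs₀ _ ht₀T
  have hne1 : ∀ {y : X}, ρ y ≠ 1 → y ≠ 1 ∧ y ≠ z := fun {y} h =>
    ⟨fun e => h ((hker y).mpr (Or.inl e)), fun e => h ((hker y).mpr (Or.inr e))⟩
  have hinvz : ∀ y ∈ T, ρ y ≠ 1 → y⁻¹ = y * z := by
    intro y hy h
    refine inv_eq_of_mul_eq_one_right ?_
    rw [← mul_assoc, hsq y hy (hne1 h).1 (hne1 h).2, hzz]
  -- signs
  have hsqz : ∀ y ∈ T, ρ y ≠ 1 → y * y = z := fun y hy h => hsq y hy (hne1 h).1 (hne1 h).2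
  have hα_cycle : ∀ y : X, α * (α * (α * y * α⁻¹) * α⁻¹) * α⁻¹ = y := fun y => by
    have h3 : α * α * α = 1 := by rw [← hα3, pow_succ, pow_two]
    calc _ = α * α * α * y * (α * α * α)⁻¹ := by group
      _ = y := by rw [h3, one_mul, inv_one, mul_one]
  -- the product of the three conjugates
  have hident : ∀ y ∈ T, y * (α * y * α⁻¹) * (α * (α * y * α⁻¹) * α⁻¹) = 1 ∨
      y * (α * y * α⁻¹) * (α * (α * y * α⁻¹) * α⁻¹) = z := by
    intro y hy
    have h1 := hTn.conj_mem y hy α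
    have h2 := hTn.conj_mem _ h1 α
    refine (hker _).mp (hαfix _ (mul_mem (mul_mem hy h1) h2) ?_)
    have e : α * (y * (α * y * α⁻¹) * (α * (α * y * α⁻¹) * α⁻¹)) * α⁻¹ =
        (α * y * α⁻¹) * (α * (α * y * α⁻¹) * α⁻¹) * (α * (α * (α * y * α⁻¹) * α⁻¹) * α⁻¹) := by group
    rw [e, hα_cycle]
    generalize α * (α * y * α⁻¹) * α⁻¹ = y₂ at h2 ⊢
    generalize α * y * α⁻¹ = y₁ at h1 ⊢
    rw [map_mul ρ (y₁ * y₂) y, map_mul ρ (y * y₁) y₂, hρcomm _ (mul_mem h1 h2) y hy, map_mul, map_mul,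
      mul_assoc]
  obtain ⟨g, hgT, hg1, hgfix, hgw⟩ : ∃ g ∈ T, ρ g ≠ 1 ∧ ρ (s * g * s⁻¹) = ρ g ∧
      g * (α * g * α⁻¹) * (α * (α * g * α⁻¹) * α⁻¹) = z := by
    rcases hident t htT with e | e
    · have hz' : ∀ x, z * x = x * z := fun x => (hzc x).symm
      have hcz : ∀ y : X, α * (y * z) * α⁻¹ = α * y * α⁻¹ * z := fun y => by
        rw [mul_assoc α (y * z), mul_assoc y z, hz' α⁻¹]; group
      refine ⟨t * z, mul_mem htT hzT, ?_, ?_, ?_⟩
      · rw [map_mul, (hker z).mpr (Or.inr rfl), mul_one]; exact ht1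
      · rw [show s * (t * z) * s⁻¹ = s * t * s⁻¹ * z by
          rw [mul_assoc s (t * z), mul_assoc t z, hz' s⁻¹]; group]
        rw [map_mul, map_mul ρ t, htfix]
      · rw [hcz, hcz]
        have e2 : ∀ p q r : X, p * z * (q * z) * (r * z) = p * q * r * (z * z * z) := fun p q r => by
          calc p * z * (q * z) * (r * z) = p * ((z * q) * (z * r) * z) := by group
            _ = p * ((q * z) * (r * z) * z) := by rw [hz' q, hz' r]
            _ = p * (q * (z * r) * (z * z)) := by group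
            _ = p * (q * (r * z) * (z * z)) := by rw [hz' r]
            _ = p * q * r * (z * z * z) := by group
        rw [e2, e, hzz, one_mul, one_mul]
    · exact ⟨t, htT, ht1, htfix, e⟩
  clear! t t₀
  set g₁ := α * g * α⁻¹ with hg₁
  set g₂ := α * g₁ * α⁻¹ with hg₂
  have hg₁T : g₁ ∈ T := hTn.conj_mem g hgT α
  have hg₁1 : ρ g₁ ≠ 1 := by
    intro e
    rw [hg₁, map_mul, map_mul, map_inv, conj_eq_one_iff] at e
    exact hg1 e
  have hne : ρ g₁ ≠ ρ g := fun e => hg1 (hαfix g hgT e)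
  have hgz : g⁻¹ = g * z := hinvz g hgT hg1
  have hg₁z : g₁⁻¹ = g₁ * z := hinvz g₁ hg₁T hg₁1
  have hp : g₁ * g * (g₁ * g) = z := by
    refine hsqz _ (mul_mem hg₁T hgT) fun e => hne ?_
    rw [map_mul, mul_eq_one_iff_eq_inv, hρinv g hgT] at e
    exact e
  have hgk : g₁ * g * g₁⁻¹ = g⁻¹ := by
    calc g₁ * g * g₁⁻¹ = g₁ * g * (g₁ * z) := by rw [hg₁z]
      _ = g₁ * g * (g₁ * g) * (g⁻¹ * z) := by group
      _ = (z * g⁻¹) * z := by rw [hp, mul_assoc]
      _ = g⁻¹ * (z * z) := by rw [← hzc g⁻¹, mul_assoc]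
      _ = g⁻¹ := by rw [hzz, mul_one]
  have hg₂e : g₂ = g₁ * g⁻¹ := by
    calc g₂ = g₁⁻¹ * (g⁻¹ * (g * g₁ * g₂)) := by group
      _ = g₁⁻¹ * (g⁻¹ * z) := by rw [hgw]
      _ = g₁ * (z * g⁻¹) * z := by rw [hg₁z]; group
      _ = g₁ * g⁻¹ * (z * z) := by rw [← hzc g⁻¹]; group
      _ = g₁ * g⁻¹ := by rw [hzz, mul_one]
  have hα2 : α⁻¹ * g * α = g₂ := by
    calc α⁻¹ * g * α = α⁻¹ * (α * g₂ * α⁻¹) * α := by rw [hg₂, hg₁, hα_cycle]
      _ = g₂ := by group
  have hswap : ∀ y, s * (α * y * α⁻¹) * s⁻¹ = α⁻¹ * (s * y * s⁻¹) * α := by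
    intro y
    calc s * (α * y * α⁻¹) * s⁻¹ = (s * α * s⁻¹) * (s * y * s⁻¹) * (s * α * s⁻¹)⁻¹ := by group
      _ = α⁻¹ * (s * y * s⁻¹) * α := by rw [hτα, inv_inv]
  have hgs : s * g * s⁻¹ = g⁻¹ := by
    rcases hlift hgfix with e | e
    · exfalso
      have e1 : s * g₁ * s⁻¹ = g₂ := by rw [hg₁, hswap, e, hα2]
      have e2 : s * g₂ * s⁻¹ = g₁ := by
        rw [hg₂, hswap, e1, hg₂]; group
      rw [hg₂e] at e2
      have e3 : g₂ * g⁻¹ = g₁ := by
        calc g₂ * g⁻¹ = (s * g₁ * s⁻¹) * (s * g * s⁻¹)⁻¹ := by rw [e1, e]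
          _ = s * (g₁ * g⁻¹) * s⁻¹ := by group
          _ = g₁ := e2
      rw [hg₂e, mul_assoc, ← mul_inv_rev, hsqz g hgT hg1] at e3
      exact hz1 (inv_eq_one.mp (mul_eq_left.mp e3))
    · rw [e, hgz]
  have hgs₁ : s * g₁ * s⁻¹ = g₁ * g := by
    have e : α⁻¹ * g⁻¹ * α = g₂⁻¹ := by rw [← hα2]; group
    have h0 : s * g₁ * s⁻¹ = g₂⁻¹ := by rw [hg₁, hswap, hgs, e]
    have e' : g₁ * g = g⁻¹ * g₁ := mul_inv_eq_iff_eq_mul.mp hgk
    rw [h0, hg₂e, mul_inv_rev, inv_inv, e', hg₁z, hgz, mul_assoc g z, ← hzc g₁]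
  have hg4 : g ^ 4 = 1 := hT4 g hgT
  obtain ⟨f, hf1, hf2⟩ := exists_hom_eight (k := g₁) hg4
    (by rw [hsqz g hgT hg1, hsqz g₁ hg₁T hg₁1]) hgk
  have hf3 : f (a 3) = g⁻¹ := by
    rw [← hf1, ← map_inv]; rfl
  have hfT : f.range ≤ T := by
    rintro _ ⟨x, rfl⟩
    cases x with
    | a i => rw [show (a i : Q8) = a 1 ^ i.val by rw [a_one_pow]; simp, map_pow, hf1]; exact pow_mem hgT _
    | xa i =>
      rw [show (xa i : Q8) = xa 0 * a 1 ^ i.val by rw [a_one_pow, xa_mul_a]; simp, map_mul, map_pow,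
        hf1, hf2]
      exact mul_mem hg₁T (pow_mem hgT _)
  have hfinj : Function.Injective f := by
    have hf22 : f (a 2) = z := by
      rw [show (a 2 : Q8) = a 1 * a 1 by rfl, map_mul, hf1, hsqz g hgT hg1]
    refine (injective_iff_map_eq_one f).mpr fun x hx => ?_
    rcases eight_cases x with e | e | ⟨-, e⟩
    · exact e
    · rw [e, hf22] at hx; exact absurd hx hz1
    · refine absurd ?_ hz1
      rw [← hf22, ← e, map_pow, hx, one_pow]
  let ρr : Q8 →* Q8 := MonoidHom.mk' rot (act_map (DihedralGroup.r 1))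
  let ρf : Q8 →* Q8 := MonoidHom.mk' flip (act_map (DihedralGroup.sr 0))
  refine equiv_gl hX f hfinj α s (by rw [← hα3, pow_succ, pow_two]) (fun h => hαT (hfT h)) hss hτα
    (fun x => ?_) (fun x => ?_)
  · refine DFunLike.congr_fun (hom_ext_eight (f := (MulAut.conj α).toMonoidHom.comp f) (g := f.comp ρr) ?_ ?_) x
    · show α * f (a 1) * α⁻¹ = f (rot (a 1))
      rw [hf1, show rot (a 1) = xa 0 by decide, hf2]
    · show α * f (xa 0) * α⁻¹ = f (rot (xa 0))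
      rw [hf2, show rot (xa 0) = xa 0 * a 3 by decide, map_mul, hf2, hf3, ← hg₂, hg₂e]
  · refine DFunLike.congr_fun (hom_ext_eight (f := (MulAut.conj s).toMonoidHom.comp f) (g := f.comp ρf) ?_ ?_) x
    · show s * f (a 1) * s⁻¹ = f (flip (a 1))
      rw [hf1, show flip (a 1) = a 3 by decide, hf3, hgs]
    · show s * f (xa 0) * s⁻¹ = f (flip (xa 0))
      rw [hf2, show flip (xa 0) = xa 0 * a 1 by decide, map_mul, hf2, hf1, hgs₁]

end CfsgLib.OrderSix
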