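import Cfsg.Agent.Lib.OrderSix.Center

/-!
Large `O_2`: an involution fixed modulo `u` by a Sylow subgroup of the centralizer.
-/

set_option autoImplicit false
set_option linter.unusedVariables false
set_option linter.unusedSectionVars false
set_option linter.style.haveILetI false

namespace CfsgLib.OrderSix

open CfsgLib.SelfCent CfsgLib.SCThree
open scoped commutatorElement

universe v

variable {G : Type v} [Group G] [Finite G] {u c x : G}

/-- A subgroup generated by two commuting involutions. -/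
theorem mem_pair {a b z : G} (ha : a * a = 1) (hb : b * b = 1) (hab : a * b = b * a) :
    z ∈ Subgroup.closure ({a, b} : Set G) ↔ z = 1 ∨ z = a ∨ z = b ∨ z = a * b := by
  constructor
  · intro hz
    refine Subgroup.closure_induction (p := fun w _ => w = 1 ∨ w = a ∨ w = b ∨ w = a * b) ?_ (Or.inl rfl) ?_ ?_ hz
    · rintro w (rfl | rfl) <;> simp
    · have e1 : a * (a * b) = b := by rw [← mul_assoc, ha, one_mul]
      have e2 : b * (a * b) = a := by rw [hab, ← mul_assoc, hb, one_mul]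
      have e3 : a * b * a = b := by rw [hab, mul_assoc, ha, mul_one]
      have e4 : a * b * b = a := by rw [mul_assoc, hb, mul_one]
      have e5 : a * b * (a * b) = 1 := by rw [mul_assoc, e2, ha]
      rintro p q _ _ (rfl | rfl | rfl | rfl) (rfl | rfl | rfl | rfl) <;>
        simp [ha, hb, e1, e2, e3, e4, e5, hab.symm]
    · intro p _ hp
      rcases hp with rfl | rfl | rfl | rfl
      · simp
      · simp [inv_eq_of_mul_eq_one_left ha]
      · simp [inv_eq_of_mul_eq_one_left hb]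
      · refine Or.inr (Or.inr (Or.inr ?_))
        rw [mul_inv_rev, inv_eq_of_mul_eq_one_left ha, inv_eq_of_mul_eq_one_left hb, hab]
  · have h1 : a ∈ Subgroup.closure ({a, b} : Set G) := Subgroup.subset_closure (by simp)
    have h2 : b ∈ Subgroup.closure ({a, b} : Set G) := Subgroup.subset_closure (by simp)
    rintro (rfl | rfl | rfl | rfl)
    · exact one_mem _
    · exact h1
    · exact h2
    · exact mul_mem h1 h2

/-- An admissible involution. -/
structure Adm (u c x : G) (S : Sylow 2 G) : Prop where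
  good : Good u c
  sylow : (S : Subgroup G) ≤ cC u
  mem : x ∈ cT u
  two : orderOf x = 2
  ne : x ≠ u
  fixS : ∀ s ∈ (S : Subgroup G), ⁅s, x⁆ ∈ Subgroup.zpowers u

theorem comm_U_symm {a b : G} (hab : ⁅a, b⁆ ∈ Subgroup.zpowers u) : ⁅b, a⁆ ∈ Subgroup.zpowers u := by
  rw [← commutatorElement_inv]; exact inv_mem hab

/-- An element fixed modulo `u` by a Sylow subgroup of the centralizer. -/
theorem exists_fixed_two (h : Six u c) (S : Sylow 2 G) (hS : (S : Subgroup G) ≤ cC u) {W : Subgroup G}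
    (hW : W ≤ (S : Subgroup G)) (huW : u ∈ W) (hn : (S : Subgroup G) ≤ Subgroup.normalizer (W : Set G))
    {w : G} (hw : w ∈ W) (hwU : w ∉ Subgroup.zpowers u) :
    ∃ x ∈ W, x ∉ Subgroup.zpowers u ∧ x * x ∈ Subgroup.zpowers u ∧
      ∀ s ∈ (S : Subgroup G), ⁅s, x⁆ ∈ Subgroup.zpowers u := by
  haveI := Fact.mk Nat.prime_two
  set US := (Subgroup.zpowers u).subgroupOf (S : Subgroup G) with hUS
  haveI : US.Normal := Subgroup.normal_subgroupOf_iff_le_normalizer
    (Subgroup.zpowers_le.mpr (hW huW)) |>.mpr (hS.trans (U_normalized u))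
  haveI : (W.subgroupOf (S : Subgroup G)).Normal :=
    Subgroup.normal_subgroupOf_iff_le_normalizer hW |>.mpr hn
  set Wb := (W.subgroupOf (S : Subgroup G)).map (QuotientGroup.mk' US) with hWb
  haveI : Wb.Normal := Subgroup.Normal.map inferInstance _ (QuotientGroup.mk'_surjective US)
  have hne : Wb ≠ ⊥ := by
    intro hb
    have : QuotientGroup.mk' US ⟨w, hW hw⟩ ∈ Wb := ⟨_, Subgroup.mem_subgroupOf.mpr hw, rfl⟩
    rw [hb, Subgroup.mem_bot, QuotientGroup.mk'_apply, QuotientGroup.eq_one_iff, Subgroup.mem_subgroupOf] at this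
    exact hwU this
  have hp : IsPGroup 2 (↥(S : Subgroup G) ⧸ US) := S.isPGroup'.to_quotient _
  set Z := Wb ⊓ Subgroup.center (↥(S : Subgroup G) ⧸ US) with hZ
  have hZne := SCThree.normal_inf_center hp Wb hne
  obtain ⟨k, hk⟩ := IsPGroup.iff_card.mp (hp.to_subgroup Z)
  haveI : Nontrivial Z := (Subgroup.nontrivial_iff_ne_bot _).mpr hZne
  obtain ⟨z, hz⟩ := exists_prime_orderOf_dvd_card' (G := Z) 2 (by
    rw [hk]
    refine dvd_pow_self 2 ?_
    rintro rfl
    have h1 : 1 < 2 ^ 0 := hk ▸ Finite.one_lt_card (α := Z)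
    simp at h1)
  obtain ⟨hzW, hzc⟩ := z.2
  obtain ⟨⟨x, hxS⟩, hxW, hxz⟩ := hzW
  have hz2 : (z : ↥(S : Subgroup G) ⧸ US) * z = 1 := by
    have := pow_orderOf_eq_one z
    rw [hz, pow_two] at this
    exact congrArg Subtype.val this
  refine ⟨x, Subgroup.mem_subgroupOf.mp hxW, fun hxU => ?_, ?_, fun s hs => ?_⟩
  · have : (z : ↥(S : Subgroup G) ⧸ US) = 1 := by
      rw [← hxz, QuotientGroup.mk'_apply, QuotientGroup.eq_one_iff]
      exact Subgroup.mem_subgroupOf.mpr hxU
    rw [← Subgroup.orderOf_coe, this, orderOf_one] at hz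
    omega
  · rw [← hxz, QuotientGroup.mk'_apply, ← QuotientGroup.mk_mul, QuotientGroup.eq_one_iff,
      Subgroup.mem_subgroupOf] at hz2
    exact hz2
  · have hcomm := Subgroup.mem_center_iff.mp hzc (QuotientGroup.mk' US ⟨s, hs⟩)
    rw [← hxz] at hcomm
    have h1 : QuotientGroup.mk' US ⁅(⟨s, hs⟩ : ↥(S : Subgroup G)), ⟨x, hxS⟩⁆ = 1 := by
      rw [map_commutatorElement]; exact commutatorElement_eq_one_iff_mul_comm.mpr hcomm
    rw [QuotientGroup.mk'_apply, QuotientGroup.eq_one_iff, Subgroup.mem_subgroupOf] at h1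
    exact h1

/-- The third conjugate under `c`. -/
theorem Six.ident_U (h : Six u c) {m : G} (hm : m ∈ cT u) :
    m * (c * m * c⁻¹) * (c * (c * m * c⁻¹) * c⁻¹) ∈ Subgroup.zpowers u := by
  have := h.three.ident (tb m hm)
  rw [Six.phi, actT_tb, actT_tb, tb_mul, tb_mul, tb_eq_one] at this
  exact this

theorem comm_mem_U_of_central (h : Six u c) {a m : G} (ha : a ∈ cT u) (hm : m ∈ cT u) (hb : a ∈ cD u) :
    ⁅a, m⁆ ∈ Subgroup.zpowers u := by
  have key : cD u ≤ ((Subgroup.center (Tb u)).comap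
      (QuotientGroup.mk' ((Subgroup.zpowers u).subgroupOf (cT u)))).map (cT u).subtype := by
    rw [Subgroup.commutator_le]
    intro p hp q hq
    refine ⟨⁅(⟨p, hp⟩ : ↥(cT u)), ⟨q, hq⟩⁆, ?_, rfl⟩
    show QuotientGroup.mk' _ _ ∈ Subgroup.center (Tb u)
    rw [map_commutatorElement, Subgroup.mem_center_iff]
    intro g
    exact (h.three.comm_central _ _ g).symm
  obtain ⟨z, hz, rfl⟩ := key hb
  have := Subgroup.mem_center_iff.mp hz (tb m hm)
  have h1 : ⁅tb (u := u) (z : G) z.2, tb m hm⁆ = 1 := commutatorElement_eq_one_iff_mul_comm.mpr this.symm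
  rw [tb_comm, tb_eq_one] at h1
  exact h1

theorem cD_comm (h : Six u c) {a b : G} (ha : a ∈ cD u) (hb : b ∈ cD u) : a * b = b * a := by
  suffices cD u ≤ Subgroup.centralizer ({b} : Set G) from
    Subgroup.mem_centralizer_singleton_iff.mp (this ha)
  rw [Subgroup.commutator_le]
  intro p hp q hq
  rw [Subgroup.mem_centralizer_singleton_iff]
  -- commutation with `b` is a central character
  have hbT := cD_le u hb
  have hU : ∀ m ∈ cT u, m * b * m⁻¹ * b⁻¹ ∈ Subgroup.zpowers u := fun m hm =>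
    comm_U_symm (comm_mem_U_of_central h hbT hm hb)
  have hcent : ∀ z ∈ Subgroup.zpowers u, ∀ m ∈ cT u, Commute z m := fun z hz m hm => by
    obtain ⟨k, rfl⟩ := Subgroup.mem_zpowers_iff.mp hz
    exact ((show Commute m u from mem_cC.mp (cT_le_cC u hm)).symm).zpow_left k
  let χ : ↥(cT u) →* ↥(Subgroup.zpowers u) :=
    MonoidHom.mk' (fun m => ⟨(m : G) * b * (m : G)⁻¹ * b⁻¹, hU m m.2⟩) (fun m n => Subtype.ext (by
      show (m : G) * n * b * ((m : G) * n)⁻¹ * b⁻¹ = _ * _
      have e := hcent _ (hU n n.2) m m.2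
      calc (m : G) * n * b * ((m : G) * n)⁻¹ * b⁻¹
          = (m : G) * ((n : G) * b * (n : G)⁻¹ * b⁻¹) * (b * (m : G)⁻¹ * b⁻¹) := by group
        _ = ((n : G) * b * (n : G)⁻¹ * b⁻¹) * ((m : G) * b * (m : G)⁻¹ * b⁻¹) := by rw [← e.eq]; group
        _ = _ := (hcent _ (hU n n.2) _
            (mul_mem (mul_mem (mul_mem m.2 hbT) (inv_mem m.2)) (inv_mem hbT))).eq))
  have hcomm : ∀ x y : ↥(Subgroup.zpowers u), x * y = y * x := fun x y => mul_comm' x y
  have h1 : χ ⁅(⟨p, hp⟩ : ↥(cT u)), ⟨q, hq⟩⁆ = 1 := by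
    rw [map_commutatorElement, commutatorElement_eq_one_iff_mul_comm]; exact hcomm _ _
  have h2 : ⁅p, q⁆ * b * ⁅p, q⁆⁻¹ * b⁻¹ = 1 := congrArg Subtype.val h1
  exact mul_inv_eq_iff_eq_mul.mp (mul_inv_eq_one.mp h2)

/-- Existence. -/
theorem Good.exists_adm (h : Good u c) (S : Sylow 2 G) (hS : (S : Subgroup G) ≤ cC u) :
    ∃ x, Adm u c x S ∧ (cD u ≠ Subgroup.zpowers u → x ∈ cD u) := by
  have hTS := cT_le_sylow h.six S hS
  have hUD : Subgroup.zpowers u ≤ cD u := Subgroup.zpowers_le.mpr h.der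
  have hn : (S : Subgroup G) ≤ Subgroup.normalizer (cT u : Set G) := hS.trans (cT_normalized u)
  have hu2 := h.six.uu
  have hUc : ∀ z ∈ Subgroup.zpowers u, c * z * c⁻¹ = z := fun z hz => by
    rcases (mem_U h.six).mp hz with rfl | rfl
    · group
    · rw [← h.six.comm, mul_inv_cancel_right]
  have hU2 : ∀ z ∈ Subgroup.zpowers u, z * z = 1 := fun z hz => by
    rcases (mem_U h.six).mp hz with rfl | rfl <;> simp [hu2]
  -- involutions from commuting conjugates
  have sq : ∀ x ∈ cT u, x * x ∈ Subgroup.zpowers u → x * (c * x * c⁻¹) = (c * x * c⁻¹) * x → x * x = 1 := by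
    intro x hx hx2 hc
    set x' := c * x * c⁻¹ with hx'
    set x'' := c * x' * c⁻¹ with hx''
    have e1 : x' * x' = x * x := by
      rw [hx', show c * x * c⁻¹ * (c * x * c⁻¹) = c * (x * x) * c⁻¹ by group, hUc _ hx2]
    have e2 : x'' * x'' = x * x := by
      rw [hx'', show c * x' * c⁻¹ * (c * x' * c⁻¹) = c * (x' * x') * c⁻¹ by group, e1, hUc _ hx2]
    have hz := h.six.ident_U hx
    rw [← hx', ← hx''] at hz
    set z := x * x' * x'' with hzdef
    have e3 : x * x' = z * x''⁻¹ := by rw [hzdef]; group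
    have hzc : Commute z x''⁻¹ := by
      obtain ⟨k, hk⟩ := Subgroup.mem_zpowers_iff.mp hz
      rw [← hk]
      have hx''C : x'' ∈ cC u := mul_mem (mul_mem h.six.c_mem (mul_mem (mul_mem h.six.c_mem (cT_le_cC u hx))
        (inv_mem h.six.c_mem))) (inv_mem h.six.c_mem)
      exact ((show Commute x'' u from mem_cC.mp hx''C).symm.inv_right).zpow_left k
    have h4 : x * x' * (x * x') = z * x''⁻¹ * (z * x''⁻¹) := by rw [e3]
    rw [(show Commute x' x from hc.symm).mul_mul_mul_comm, e1, hU2 _ hx2, hzc.symm.mul_mul_mul_comm, hU2 z hz,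
      one_mul, ← mul_inv_rev, e2] at h4
    exact inv_eq_one.mp h4.symm
  have hne : ∀ x, x ∉ Subgroup.zpowers u → x * x = 1 → orderOf x = 2 ∧ x ≠ u := fun x hx e =>
    ⟨orderOf_two_iff.mpr ⟨e, fun e1 => hx (e1 ▸ one_mem _)⟩, fun e1 => hx (e1 ▸ Subgroup.mem_zpowers u)⟩
  by_cases hab : cD u = Subgroup.zpowers u
  swap
  · obtain ⟨w, hw, hwU⟩ : ∃ w ∈ cD u, w ∉ Subgroup.zpowers u := by
      by_contra hc
      push Not at hc
      exact hab (le_antisymm hc hUD)
    obtain ⟨x, hxD, hxU, hx2, hxS⟩ := exists_fixed_two h.six S hS ((cD_le u).trans hTS) h.der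
      (fun g hg => cD_normalized_of (hn hg)) hw hwU
    have hx'D : c * x * c⁻¹ ∈ cD u :=
      (Subgroup.mem_normalizer_iff.mp (cD_normalized u h.six.c_mem) x).mp hxD
    have e := sq x (cD_le u hxD) hx2 (cD_comm h.six hxD hx'D)
    exact ⟨x, ⟨h, hS, cD_le u hxD, (hne x hxU e).1, (hne x hxU e).2, hxS⟩, fun _ => hxD⟩
  -- abelian modulo the involution
  suffices ∃ x ∈ cT u, x ∉ Subgroup.zpowers u ∧ x * x = 1 ∧
      ∀ s ∈ (S : Subgroup G), ⁅s, x⁆ ∈ Subgroup.zpowers u by
    obtain ⟨x, hx, hxU, e, hxS⟩ := this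
    exact ⟨x, ⟨h, hS, hx, (hne x hxU e).1, (hne x hxU e).2, hxS⟩, fun hh => absurd hab hh⟩
  have hcU : ∀ a ∈ cT u, ∀ b ∈ cT u, ⁅a, b⁆ ∈ Subgroup.zpowers u := fun a ha b hb =>
    hab ▸ Subgroup.commutator_mem_commutator ha hb
  obtain ⟨w, hw, hwU⟩ : ∃ w ∈ cT u, w ∉ Subgroup.zpowers u := by
    by_contra hc
    push Not at hc
    have := Subgroup.card_dvd_of_le hc
    rw [card_U h.six] at this
    have := Nat.le_of_dvd (by norm_num) this
    have := h.big
    omega
  obtain ⟨x, hxT, hxU, hx2, hxS⟩ := exists_fixed_two h.six S hS hTS (u_mem_cT h.six) hn hw hwU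
  by_cases hx1 : x * x = 1
  · exact ⟨x, hxT, hxU, hx1, hxS⟩
  set x' := c * x * c⁻¹ with hx'
  have hx'T : x' ∈ cT u := (Subgroup.mem_normalizer_iff.mp (cT_normalized u h.six.c_mem) x).mp hxT
  set C := cT u ⊓ Subgroup.centralizer ({x} : Set G) ⊓ Subgroup.centralizer ({x'} : Set G) with hC
  have hidx : ∀ a ∈ cT u, (cT u ⊓ Subgroup.centralizer ({a} : Set G)).relIndex (cT u) ≤ 2 := by
    intro a ha
    let χ : ↥(cT u) →* ↥(Subgroup.zpowers u) :=
      MonoidHom.mk' (fun m => ⟨⁅(m : G), a⁆, hcU m m.2 a ha⟩) (fun m n => Subtype.ext (by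
        show ⁅(m : G) * n, a⁆ = ⁅(m : G), a⁆ * ⁅(n : G), a⁆
        have hcm : ∀ b ∈ cT u, Commute ⁅(n : G), a⁆ b := fun b hb => by
          obtain ⟨k, hk⟩ := Subgroup.mem_zpowers_iff.mp (hcU n n.2 a ha)
          rw [← hk]
          exact ((show Commute b u from mem_cC.mp (cT_le_cC u hb)).symm).zpow_left k
        calc ⁅(m : G) * n, a⁆ = (m : G) * ⁅(n : G), a⁆ * (a * (m : G)⁻¹ * a⁻¹) := by
              simp only [commutatorElement_def]; group
          _ = ⁅(n : G), a⁆ * ⁅(m : G), a⁆ := by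
              rw [← (hcm m m.2).eq]; simp only [commutatorElement_def]; group
          _ = _ := (hcm _ (mul_mem (mul_mem (mul_mem m.2 ha) (inv_mem m.2)) (inv_mem ha))).eq))
    have e : (cT u ⊓ Subgroup.centralizer ({a} : Set G)).subgroupOf (cT u) = χ.ker := by
      ext m
      rw [Subgroup.mem_subgroupOf, Subgroup.mem_inf, Subgroup.mem_centralizer_singleton_iff, MonoidHom.mem_ker]
      refine ⟨fun hm => Subtype.ext (commutatorElement_eq_one_iff_mul_comm.mpr hm.2), fun hm => ?_⟩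
      exact ⟨m.2, commutatorElement_eq_one_iff_mul_comm.mp (congrArg Subtype.val hm)⟩
    rw [Subgroup.relIndex, e, Subgroup.index_ker]
    exact (Subgroup.card_le_card_group _).trans (le_of_eq (card_U h.six))
  have hsx : ∀ s ∈ (S : Subgroup G), ∀ m ∈ cT u, m * x = x * m → ∀ e ∈ Subgroup.zpowers u,
      m * (e * x) = e * x * m := by
    intro s hs m hm hmx e he
    obtain ⟨k, rfl⟩ := Subgroup.mem_zpowers_iff.mp he
    have hk : m * u ^ k = u ^ k * m := ((show Commute m u from mem_cC.mp (cT_le_cC u hm)).zpow_right k).eq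
    rw [← mul_assoc, hk, mul_assoc, hmx, mul_assoc]
  obtain ⟨y, hy, hyU, hy2, hyS⟩ : ∃ y ∈ C, y ∉ Subgroup.zpowers u ∧ y * y ∈ Subgroup.zpowers u ∧
      ∀ s ∈ (S : Subgroup G), ⁅s, y⁆ ∈ Subgroup.zpowers u := by
    have huC : u ∈ C := ⟨⟨u_mem_cT h.six, Subgroup.mem_centralizer_singleton_iff.mpr
      (mem_cC.mp (cT_le_cC u hxT)).symm⟩, Subgroup.mem_centralizer_singleton_iff.mpr
      (mem_cC.mp (cT_le_cC u hx'T)).symm⟩
    obtain ⟨w, hw, hwU⟩ : ∃ w ∈ C, w ∉ Subgroup.zpowers u := by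
      by_contra hc
      push Not at hc
      have h2 : C.relIndex (cT u) ≤ 4 := by
        rw [hC, show cT u ⊓ Subgroup.centralizer ({x} : Set G) ⊓ Subgroup.centralizer ({x'} : Set G) =
          (cT u ⊓ Subgroup.centralizer ({x} : Set G)) ⊓ (cT u ⊓ Subgroup.centralizer ({x'} : Set G)) by
          rw [inf_inf_inf_comm, inf_idem, inf_assoc]]
        exact Subgroup.relIndex_inf_le.trans (Nat.mul_le_mul (hidx x hxT) (hidx x' hx'T))
      have h3 : (Subgroup.zpowers u).relIndex (cT u) ∣ C.relIndex (cT u) :=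
        Subgroup.relIndex_dvd_of_le_left _ hc
      have h4 := Nat.le_of_dvd (Nat.pos_of_ne_zero Subgroup.index_ne_zero_of_finite) h3
      have := h.tb_big
      have h5 : C.relIndex (cT u) = (C.subgroupOf (cT u)).index := rfl
      omega
    refine exists_fixed_two h.six S hS (fun m hm => hTS hm.1.1) huC (fun s hs => ?_) hw hwU
    -- the pair is invariant
    have hsN := Subgroup.mem_normalizer_iff.mp (hn hs)
    have hinv : ∀ s ∈ (S : Subgroup G), ∀ m ∈ C, s * m * s⁻¹ ∈ C := by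
      intro s hs m hm
      obtain ⟨⟨hmT, hmx⟩, hmx'⟩ := hm
      have hmx := Subgroup.mem_centralizer_singleton_iff.mp hmx
      have hmx' := Subgroup.mem_centralizer_singleton_iff.mp hmx'
      have hsT := (Subgroup.mem_normalizer_iff.mp (hn hs) m).mp hmT
      have e1 : s⁻¹ * x * s = ⁅s⁻¹, x⁆ * x := by rw [commutatorElement_def]; group
      have hcx : Commute m (s⁻¹ * x * s) := by
        show _ = _
        rw [e1]
        exact hsx s hs m hmT hmx _ (hxS _ (inv_mem hs))
      have conjc : ∀ y, Commute m (s⁻¹ * y * s) → s * m * s⁻¹ * y = y * (s * m * s⁻¹) := by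
        intro y hy
        calc s * m * s⁻¹ * y = s * (m * (s⁻¹ * y * s)) * s⁻¹ := by group
          _ = s * ((s⁻¹ * y * s) * m) * s⁻¹ := by rw [hy.eq]
          _ = _ := by group
      refine ⟨⟨hsT, Subgroup.mem_centralizer_singleton_iff.mpr (conjc x hcx)⟩,
        Subgroup.mem_centralizer_singleton_iff.mpr (conjc x' ?_)⟩
      -- the image of `x'`
      have hsiC : s⁻¹ ∈ cC u := inv_mem (hS hs)
      have hX : ∀ a ∈ cX u, ∀ b ∈ cT u, Commute m b → Commute m (a * b * a⁻¹) := by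
        intro a ha b hb hmb
        obtain ⟨τ, hτ, o, ho, rfl, hco⟩ := cX_split h.six ha
        have e2 : τ * o * b * (τ * o)⁻¹ = ⁅τ, b⁆ * b := by
          rw [mul_assoc τ o b, hco b hb, commutatorElement_def]; group
        rw [e2]
        refine Commute.mul_right ?_ hmb
        obtain ⟨k, hk⟩ := Subgroup.mem_zpowers_iff.mp (hcU τ hτ b hb)
        rw [← hk]
        exact (show Commute m u from mem_cC.mp (cT_le_cC u hmT)).zpow_right k
      set b := s⁻¹ * x * s with hb
      have hbT : b ∈ cT u := by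
        rw [hb]
        simpa using (Subgroup.mem_normalizer_iff.mp (cT_normalized u hsiC) x).mp hxT
      have hmcb : Commute m (c * b * c⁻¹) := by
        rw [e1, show c * (⁅s⁻¹, x⁆ * x) * c⁻¹ = (c * ⁅s⁻¹, x⁆ * c⁻¹) * x' by rw [hx']; group,
          hUc _ (hxS _ (inv_mem hs))]
        refine Commute.mul_right ?_ hmx'
        obtain ⟨k, hk⟩ := Subgroup.mem_zpowers_iff.mp (hxS _ (inv_mem hs))
        rw [← hk]
        exact (show Commute m u from mem_cC.mp (cT_le_cC u hmT)).zpow_right k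
      have hcbT : c * b * c⁻¹ ∈ cT u := (Subgroup.mem_normalizer_iff.mp (cT_normalized u h.six.c_mem) b).mp hbT
      rcases conj_c h.six h.low hsiC with e | e
      · have := hX _ e _ hcbT hmcb
        refine (congrArg (Commute m) ?_).mp this
        rw [hx', hb]; group
      · -- the third conjugate
        set b' := c * b * c⁻¹ with hb'
        have hb''T : c * b' * c⁻¹ ∈ cT u :=
          (Subgroup.mem_normalizer_iff.mp (cT_normalized u h.six.c_mem) b').mp hcbT
        have hmcb2 : Commute m (c * b' * c⁻¹) := by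
          have h0 := h.six.ident_U hbT
          rw [← hb'] at h0
          have e3 : c * b' * c⁻¹ = (b * b')⁻¹ * (b * b' * (c * b' * c⁻¹)) := by group
          rw [e3]
          refine Commute.mul_right ((hcx.mul_right hmcb).inv_right) ?_
          obtain ⟨k, hk⟩ := Subgroup.mem_zpowers_iff.mp h0
          rw [← hk]
          exact (show Commute m u from mem_cC.mp (cT_le_cC u hmT)).zpow_right k
        have := hX _ e _ hb''T hmcb2
        refine (congrArg (Commute m) ?_).mp this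
        have hccc : c * c * c = 1 := by rw [← h.six.ccc, pow_succ, pow_two]
        calc s⁻¹ * c * s⁻¹⁻¹ * c * (c * b' * c⁻¹) * (s⁻¹ * c * s⁻¹⁻¹ * c)⁻¹
            = s⁻¹ * c * s * (c * c * c * b * (c * c * c)⁻¹) * (s⁻¹ * c * s)⁻¹ := by rw [hb']; group
          _ = s⁻¹ * x' * s := by rw [hccc, hb, hx']; group
    rw [Subgroup.mem_normalizer_iff]
    intro m
    refine ⟨hinv s hs m, fun hm => ?_⟩
    simpa [mul_assoc] using hinv s⁻¹ (inv_mem hs) _ hm
  obtain ⟨⟨hyT, hyx⟩, hyx'⟩ := hy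
  have hyx := Subgroup.mem_centralizer_singleton_iff.mp hyx
  have hyx' := Subgroup.mem_centralizer_singleton_iff.mp hyx'
  by_cases hy1 : y * y = 1
  · exact ⟨y, hyT, hyU, hy1, hyS⟩
  refine ⟨x * y, mul_mem hxT hyT, fun hh => ?_, ?_, fun s hs => ?_⟩
  · -- `y` would agree with `x` up to `u`
    apply hx1
    refine sq x hxT hx2 ?_
    rw [← hx']
    have hxy : x = (x * y) * y⁻¹ := by group
    have hu' : Commute (x * y) x' := by
      obtain ⟨k, hk⟩ := Subgroup.mem_zpowers_iff.mp hh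
      rw [← hk]
      exact ((show Commute x' u from mem_cC.mp (cT_le_cC u hx'T)).symm).zpow_left k
    rw [hxy]
    exact (hu'.mul_left (show Commute y x' from hyx').inv_left).eq
  · rw [(show Commute y x from hyx).mul_mul_mul_comm]
    rcases (mem_U h.six).mp hx2 with e1 | e1
    · exact absurd e1 hx1
    rcases (mem_U h.six).mp hy2 with e2 | e2
    · exact absurd e2 hy1
    rw [e1, e2, hu2]
  · have e : ⁅s, x * y⁆ = ⁅s, x⁆ * (x * ⁅s, y⁆ * x⁻¹) := by simp only [commutatorElement_def]; group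
    rw [e]
    exact mul_mem (hxS s hs) ((Subgroup.mem_normalizer_iff.mp (U_normalized u (cT_le_cC u hxT)) _).mp (hyS s hs))

end CfsgLib.OrderSix
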