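import Mathlib

/-!
A group of odd order with a fixed-point-free automorphism of order three acts trivially on a coprime abelian
module on which that automorphism is also fixed-point-free, compatibly.
-/

set_option autoImplicit false
set_option linter.unusedVariables false
set_option linter.unusedSectionVars false
set_option linter.style.haveILetI false

namespace CfsgLib.OrderSix.Average

universe v w

/-- The averaging lemma. -/
theorem trivial_action {M : Type v} [CommGroup M] [Finite M] {R : Type w} [Group R] [Finite R]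
    (ρ : R →* MulAut M) (φ : MulAut M) (σ : MulAut R) (hσ3 : ∀ y, σ (σ (σ y)) = y)
    (hσ : ∀ y, σ y = y → y = 1) (hφ3 : ∀ m, φ (φ (φ m)) = m) (hφ : ∀ m, φ m = m → m = 1)
    (hcompat : ∀ y m, φ (ρ y m) = ρ (σ y) (φ m)) (hinj : ∀ m : M, m ^ Nat.card R = 1 → m = 1) (y : R) (m : M) :
    ρ y m = m := by
  classical
  haveI := Fintype.ofFinite R
  -- the twisted element `ρ y ∘ φ` has no fixed points
  have hfix : ∀ (y : R) (m : M), ρ y (φ m) = m → m = 1 := by
    intro y m hm
    have hsurj : Function.Surjective fun w : R => w * (σ w)⁻¹ := by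
      refine Finite.injective_iff_surjective.mp fun w w' e => ?_
      have e' : w * (σ w)⁻¹ = w' * (σ w')⁻¹ := e
      have h1 : σ (w'⁻¹ * w) = w'⁻¹ * w := by
        rw [map_mul, map_inv]
        calc (σ w')⁻¹ * σ w = w'⁻¹ * (w' * (σ w')⁻¹) * σ w := by group
          _ = w'⁻¹ * (w * (σ w)⁻¹) * σ w := by rw [e']
          _ = _ := by group
      exact (inv_mul_eq_one.mp (hσ _ h1)).symm
    obtain ⟨w, hw⟩ := hsurj y
    have hw' : w * (σ w)⁻¹ = y := hw
    have h2 : φ (ρ w⁻¹ m) = ρ w⁻¹ m := by
      rw [hcompat, map_inv]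
      have e : ρ y (φ m) = ρ w (ρ (σ w)⁻¹ (φ m)) := by rw [← hw', map_mul]; rfl
      rw [e] at hm
      have := congrArg (ρ w⁻¹) hm
      rw [← MulAut.mul_apply, ← map_mul, inv_mul_cancel, map_one, MulAut.one_apply] at this
      exact this
    have := congrArg (ρ w) (hφ _ h2)
    rwa [map_one, ← MulAut.mul_apply, ← map_mul, mul_inv_cancel, map_one, MulAut.one_apply] at this
  -- the three-term relation
  have hrel : ∀ (y : R) (m : M), m * ρ y (φ m) * ρ (y * σ y) (φ (φ m)) = 1 := by
    intro y m
    refine hfix y _ ?_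
    have e : ρ y (φ (φ (φ m))) = ρ y m := by rw [hφ3]
    have hy3 : y * σ y * σ (σ y) = 1 := by
      have hsurj : Function.Surjective fun w : R => w * (σ w)⁻¹ := by
        refine Finite.injective_iff_surjective.mp fun w w' e => ?_
        have e' : w * (σ w)⁻¹ = w' * (σ w')⁻¹ := e
        have h1 : σ (w'⁻¹ * w) = w'⁻¹ * w := by
          rw [map_mul, map_inv]
          calc (σ w')⁻¹ * σ w = w'⁻¹ * (w' * (σ w')⁻¹) * σ w := by group
            _ = w'⁻¹ * (w * (σ w)⁻¹) * σ w := by rw [e']
            _ = _ := by group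
        exact (inv_mul_eq_one.mp (hσ _ h1)).symm
      obtain ⟨w, hw⟩ := hsurj y
      rw [show y = w * (σ w)⁻¹ from hw.symm]
      simp only [map_mul, map_inv, hσ3]
      group
    have h1 : ρ y (φ (ρ (y * σ y) (φ (φ m)))) = m := by
      rw [hcompat, hφ3, ← MulAut.mul_apply, ← map_mul, map_mul σ, ← mul_assoc, hy3, map_one, MulAut.one_apply]
    have h2 : ρ y (φ (ρ y (φ m))) = ρ (y * σ y) (φ (φ m)) := by
      rw [hcompat, ← MulAut.mul_apply, ← map_mul]
    rw [map_mul, map_mul, map_mul, map_mul, h1, h2]
    rw [mul_rotate]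
    exact mul_rotate _ _ _
  -- sum over the group
  let N : M → M := fun v => ∏ z : R, ρ z v
  have hN : ∀ z v, ρ z (N v) = N v := by
    intro z v
    simp only [N, map_prod, ← MulAut.mul_apply, ← map_mul]
    exact Equiv.prod_comp (Equiv.mulLeft z) (fun z => ρ z v)
  have hbij : Function.Bijective fun z : R => z * σ z := by
    refine Finite.injective_iff_bijective.mp fun z z' e => ?_
    have e' : z * σ z = z' * σ z' := e
    have key : ∀ z : R, σ (σ z) = (z * σ z)⁻¹ := by
      intro z
      have hsurj : Function.Surjective fun w : R => w * (σ w)⁻¹ := by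
        refine Finite.injective_iff_surjective.mp fun w w' e => ?_
        have e' : w * (σ w)⁻¹ = w' * (σ w')⁻¹ := e
        have h1 : σ (w'⁻¹ * w) = w'⁻¹ * w := by
          rw [map_mul, map_inv]
          calc (σ w')⁻¹ * σ w = w'⁻¹ * (w' * (σ w')⁻¹) * σ w := by group
            _ = w'⁻¹ * (w * (σ w)⁻¹) * σ w := by rw [e']
            _ = _ := by group
        exact (inv_mul_eq_one.mp (hσ _ h1)).symm
      obtain ⟨w, hw⟩ := hsurj z
      rw [show z = w * (σ w)⁻¹ from hw.symm]
      simp only [map_mul, map_inv, hσ3]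
      group
    exact σ.injective (σ.injective (by rw [key, key, e']))
  have htot : ∀ v, v ^ Nat.card R * N (φ v) * N (φ (φ v)) = 1 := by
    intro v
    have := Finset.prod_eq_one (s := (Finset.univ : Finset R)) fun z _ => hrel z v
    rw [Finset.prod_mul_distrib, Finset.prod_mul_distrib, Finset.prod_const, Finset.card_univ,
      ← Nat.card_eq_fintype_card] at this
    have e : ∏ z : R, ρ (z * σ z) (φ (φ v)) = N (φ (φ v)) :=
      Fintype.prod_bijective _ hbij _ _ fun z => rfl
    rw [e] at this
    exact this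
  have h1 := congrArg (ρ y) (htot m)
  rw [map_mul, map_mul, hN, hN, map_one, map_pow] at h1
  have h2 := h1.trans (htot m).symm
  have h3 : (ρ y m) ^ Nat.card R = m ^ Nat.card R := mul_right_cancel (mul_right_cancel h2)
  have := hinj (ρ y m * m⁻¹) (by rw [mul_pow, h3, inv_pow, mul_inv_cancel])
  exact mul_inv_eq_one.mp this

end CfsgLib.OrderSix.Average
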