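import Cfsg.Agent.S3779
import Cfsg.Agent.Lib.Fpf.SymThreeGroup

/-!
Two-groups with a fixed-point-free automorphism of order three: the commutator pairing.
-/

set_option autoImplicit false
set_option linter.unusedVariables false
set_option linter.unusedSectionVars false
set_option linter.style.haveILetI false

namespace CfsgLib.OrderSix.Fpf

open scoped commutatorElement

universe v

variable {Q : Type v} [Group Q] [Finite Q]

/-- A fixed-point-free automorphism with cube the identity. -/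
structure Three (φ : MulAut Q) : Prop where
  cube : ∀ a, φ (φ (φ a)) = a
  fpf : ∀ a, φ a = a → a = 1

variable {φ : MulAut Q}

theorem Three.ident (h : Three φ) (a : Q) : a * φ a * φ (φ a) = 1 :=
  CfsgLib.SymThree.mul_map_mul_map_eq_one φ h.cube h.fpf a

theorem Three.comm_central (h : Three φ) (a b q : Q) : ⁅a, b⁆ * q = q * ⁅a, b⁆ := by
  rcases subsingleton_or_nontrivial Q with hs | hn
  · exact Subsingleton.elim _ _
  obtain ⟨x, hx⟩ := exists_ne (1 : Q)
  have hne : φ ≠ 1 := fun e => hx (h.fpf x (by rw [e]; rfl))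
  have hord : orderOf φ = 3 := by
    have : Fact (Nat.Prime 3) := ⟨Nat.prime_three⟩
    refine orderOf_eq_prime ?_ hne
    ext a
    exact h.cube a
  have h2 := ((Cfsg.Agent.S3779.result Nat.prime_three φ hord h.fpf).2.1 rfl)
  have h1 : ⁅a, b⁆ ∈ (⊤ : Subgroup Q).lowerCentralSeries 1 := by
    rw [Subgroup.top_lowerCentralSeries_one]
    exact Subgroup.commutator_mem_commutator (Subgroup.mem_top _) (Subgroup.mem_top _)
  have h3 : ⁅⁅a, b⁆, q⁆ ∈ (⊤ : Subgroup Q).lowerCentralSeries 2 := by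
    rw [Subgroup.lowerCentralSeries_succ]
    exact Subgroup.commutator_mem_commutator h1 (Subgroup.mem_top _)
  rw [h2, Subgroup.mem_bot, commutatorElement_def, mul_inv_eq_one, mul_inv_eq_iff_eq_mul] at h3
  exact h3

theorem Three.mul_left' (h : Three φ) (a b d : Q) : ⁅a * b, d⁆ = ⁅a, d⁆ * ⁅b, d⁆ := by
  have e : ⁅a * b, d⁆ = a * ⁅b, d⁆ * a⁻¹ * ⁅a, d⁆ := by simp only [commutatorElement_def]; group
  rw [e, ← h.comm_central b d a, mul_inv_cancel_right, h.comm_central b d]

theorem Three.mul_right' (h : Three φ) (a b d : Q) : ⁅a, b * d⁆ = ⁅a, b⁆ * ⁅a, d⁆ := by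
  have e : ⁅a, b * d⁆ = ⁅a, b⁆ * (b * ⁅a, d⁆ * b⁻¹) := by simp only [commutatorElement_def]; group
  rw [e, ← h.comm_central a d b, mul_inv_cancel_right]

theorem Three.inv_left' (h : Three φ) (a b : Q) : ⁅a⁻¹, b⁆ = ⁅a, b⁆⁻¹ := by
  refine eq_inv_of_mul_eq_one_left ?_
  rw [← h.mul_left', inv_mul_cancel, commutatorElement_one_left]

theorem Three.inv_right' (h : Three φ) (a b : Q) : ⁅a, b⁻¹⁆ = ⁅a, b⁆⁻¹ := by
  refine eq_inv_of_mul_eq_one_left ?_
  rw [← h.mul_right', inv_mul_cancel, commutatorElement_one_right]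

theorem Three.self_comm (h : Three φ) (a : Q) : ⁅a, φ a⁆ = 1 := by
  have h1 := h.ident a
  have h2 := h.ident a⁻¹
  simp only [map_inv] at h2
  have e1 : φ (φ a) = (a * φ a)⁻¹ := eq_inv_of_mul_eq_one_right h1
  rw [e1] at h2
  rw [commutatorElement_def]
  have : a⁻¹ * (φ a)⁻¹ * (a * φ a) = 1 := by simpa using h2
  calc a * φ a * a⁻¹ * (φ a)⁻¹ = (a * φ a) * (a⁻¹ * (φ a)⁻¹ * (a * φ a)) * (a * φ a)⁻¹ := by group
    _ = 1 := by rw [this]; group

/-- `[φ a, b] = [a, φ b]`. -/
theorem Three.shift (h : Three φ) (a b : Q) : ⁅φ a, b⁆ = ⁅a, φ b⁆ := by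
  have h1 := h.self_comm (a * b)
  rw [map_mul, h.mul_left', h.mul_right', h.mul_right', h.self_comm a, h.self_comm b, one_mul, mul_one,
    ← commutatorElement_inv (φ a) b, mul_inv_eq_one] at h1
  exact h1.symm

/-- `φ [a, m] = [a, φ² m]`. -/
theorem Three.map_comm (h : Three φ) (a m : Q) : φ ⁅a, m⁆ = ⁅a, φ (φ m)⁆ := by
  rw [map_commutatorElement, h.shift]

theorem Three.small_image (h : Three φ) {a d : Q} (hd : ∀ m, ⁅a, m⁆ = 1 ∨ ⁅a, m⁆ = d) (m : Q) :
    ⁅a, m⁆ = 1 := by
  rcases hd m with e | e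
  · exact e
  · rcases hd (φ (φ m)) with e' | e' <;> rw [← h.map_comm, e] at e'
    · rw [e, ← φ.map_eq_one_iff (x := d)]; exact e'
    · rw [e]; exact h.fpf d e'

theorem Three.orth (h : Three φ) {a b : Q} (hab : ⁅a, b⁆ = 1) :
    ⁅a, φ b⁆ = 1 ∧ ⁅a, φ (φ b)⁆ = 1 := by
  have h2 : ⁅a, φ (φ b)⁆ = 1 := by rw [← h.map_comm, hab, map_one]
  refine ⟨?_, h2⟩
  have := h.map_comm a (φ (φ b))
  rw [h2, map_one, h.cube] at this
  exact this.symm

/-- An abelian subgroup generates an abelian invariant subgroup. -/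
theorem Three.span_comm (h : Three φ) {A : Subgroup Q} (hA : ∀ a ∈ A, ∀ b ∈ A, ⁅a, b⁆ = 1) :
    ∀ x ∈ A ⊔ A.map φ.toMonoidHom ⊔ A.map (φ * φ).toMonoidHom,
      ∀ y ∈ A ⊔ A.map φ.toMonoidHom ⊔ A.map (φ * φ).toMonoidHom, ⁅x, y⁆ = 1 := by
  set S : Set Q := (A : Set Q) ∪ φ '' A ∪ (fun a => φ (φ a)) '' A with hS
  have hgen : A ⊔ A.map φ.toMonoidHom ⊔ A.map (φ * φ).toMonoidHom ≤ Subgroup.closure S := by
    refine sup_le (sup_le ?_ ?_) ?_
    · exact fun a ha => Subgroup.subset_closure (Or.inl (Or.inl ha))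
    · rintro _ ⟨a, ha, rfl⟩; exact Subgroup.subset_closure (Or.inl (Or.inr ⟨a, ha, rfl⟩))
    · rintro _ ⟨a, ha, rfl⟩; exact Subgroup.subset_closure (Or.inr ⟨a, ha, rfl⟩)
  have hbase : ∀ a ∈ A, ∀ y ∈ S, ⁅a, y⁆ = 1 := by
    rintro a ha y ((hy | ⟨b, hb, rfl⟩) | ⟨b, hb, rfl⟩)
    · exact hA a ha y hy
    · exact (h.orth (hA a ha b hb)).1
    · exact (h.orth (hA a ha b hb)).2
  have hrot : ∀ y ∈ S, φ y ∈ S := by
    rintro y ((hy | ⟨b, hb, rfl⟩) | ⟨b, hb, rfl⟩)
    · exact Or.inl (Or.inr ⟨y, hy, rfl⟩)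
    · exact Or.inr ⟨b, hb, rfl⟩
    · refine Or.inl (Or.inl ?_)
      rw [h.cube]; exact hb
  have hSS : ∀ x ∈ S, ∀ y ∈ S, ⁅x, y⁆ = 1 := by
    rintro x ((hx | ⟨a, ha, rfl⟩) | ⟨a, ha, rfl⟩) y hy
    · exact hbase x hx y hy
    · rw [h.shift]; exact hbase a ha _ (hrot y hy)
    · rw [h.shift, h.shift]; exact hbase a ha _ (hrot _ (hrot y hy))
  intro x hx y hy
  have hy' := hgen hy
  have hall : ∀ z ∈ S, ⁅z, y⁆ = 1 := by
    intro z hz
    refine Subgroup.closure_induction (p := fun w _ => ⁅z, w⁆ = 1) (fun w hw => hSS z hz w hw)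
      (commutatorElement_one_right z) (fun p q _ _ hp hq => by rw [h.mul_right', hp, hq, one_mul])
      (fun p _ hp => by rw [h.inv_right', hp, inv_one]) hy'
  refine Subgroup.closure_induction (p := fun w _ => ⁅w, y⁆ = 1) (fun w hw => hall w hw)
    (commutatorElement_one_left y) (fun p q _ _ hp hq => by rw [h.mul_left', hp, hq, one_mul])
    (fun p _ hp => by rw [h.inv_left', hp, inv_one]) (hgen hx)

/-- An invariant subgroup has order one modulo three. -/
theorem Three.card_mod (h : Three φ) {N : Subgroup Q} (hN : ∀ a ∈ N, φ a ∈ N) : Nat.card N % 3 = 1 := by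
  haveI : Fact (Nat.Prime 3) := ⟨Nat.prime_three⟩
  let f : Function.End N := fun m => ⟨φ m, hN m m.2⟩
  have h1 : f ^ 3 ^ 1 = 1 := funext fun m => Subtype.ext (h.cube (m : Q))
  letI := Fintype.ofFinite N
  classical
  have := Equiv.Perm.card_fixedPoints_modEq h1
  have hfix : Function.fixedPoints f = {1} := by
    ext m
    constructor
    · intro hm
      exact Subtype.ext (h.fpf m (congrArg Subtype.val hm))
    · rintro rfl
      exact Subtype.ext (map_one φ)
  rw [← Nat.card_eq_fintype_card, ← Nat.card_eq_fintype_card, hfix, Nat.card_coe_set_eq,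
    Set.ncard_singleton] at this
  exact this

theorem three_le_relIndex {L Y : Subgroup Q} {a b : Q} (haL : a ∈ L) (hbL : b ∈ L) (ha : a ∉ Y)
    (hb : b ∉ Y) (hab : a⁻¹ * b ∉ Y) : 3 ≤ Y.relIndex L := by
  let f : Fin 3 → (↥L ⧸ Y.subgroupOf L) :=
    ![QuotientGroup.mk ⟨1, one_mem L⟩, QuotientGroup.mk ⟨a, haL⟩, QuotientGroup.mk ⟨b, hbL⟩]
  have hba : b⁻¹ * a ∉ Y := fun hh => hab (by simpa using inv_mem hh)
  have hf : Function.Injective f := by
    intro i j hij
    fin_cases i <;> fin_cases j <;>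
      simp only [f, Fin.zero_eta, Fin.mk_one, Fin.reduceFinMk, Matrix.cons_val_zero, Matrix.cons_val_one,
        Matrix.cons_val, Fin.isValue] at hij ⊢ <;>
      first
        | rfl
        | (rw [QuotientGroup.eq, Subgroup.mem_subgroupOf] at hij
           simp only [Subgroup.coe_mul, Subgroup.coe_inv, inv_one, one_mul, mul_one, inv_mem_iff] at hij
           contradiction)
  have := Nat.card_le_card_of_injective f hf
  simpa [Subgroup.relIndex, Subgroup.index] using this

/-- In a two-group a central quotient of order at most four is trivial. -/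
theorem Three.comm_of_center_index (h : Three φ) (h2 : IsPGroup 2 Q)
    (hi : (Subgroup.center Q).index ≤ 4) : ∀ a b : Q, a * b = b * a := by
  intro a b
  suffices ha : a ∈ Subgroup.center Q from (Subgroup.mem_center_iff.mp ha b).symm
  by_contra ha
  set Z := Subgroup.center Q with hZ
  have hφZ : ∀ z ∈ Z, φ z ∈ Z := by
    intro z hz
    rw [hZ, Subgroup.mem_center_iff] at hz ⊢
    intro g
    have := congrArg φ (hz (φ.symm g))
    simpa using this
  have hφa : φ a ∉ Z := by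
    intro hc
    apply ha
    have := hφZ _ (hφZ _ hc)
    rwa [h.cube] at this
  set C := Subgroup.centralizer ({a} : Set Q) with hC
  have hZC : Z ≤ C := fun z hz => Subgroup.mem_centralizer_singleton_iff.mpr
    (Subgroup.mem_center_iff.mp hz a).symm
  have haC : a ∈ C := Subgroup.mem_centralizer_singleton_iff.mpr rfl
  have hfC : φ a ∈ C := Subgroup.mem_centralizer_singleton_iff.mpr
    (commutatorElement_eq_one_iff_mul_comm.mp (h.self_comm a)).symm
  -- three cosets of the center inside the centralizer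
  have hneq : a⁻¹ * φ a ∉ Z := by
    intro hz
    apply ha
    have hfz : φ a = a * (a⁻¹ * φ a) := by group
    set z := a⁻¹ * φ a with hzdef
    have e : a * φ a * φ (φ a) = a * a * a * (z * z * φ z) := by
      rw [hfz, map_mul, hfz]
      have hcz : ∀ g, g * z = z * g := fun g => Subgroup.mem_center_iff.mp hz g
      calc a * (a * z) * (a * z * φ z) = a * a * (z * a) * (z * φ z) := by group
        _ = a * a * (a * z) * (z * φ z) := by rw [hcz a]
        _ = _ := by group
    rw [h.ident] at e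
    have ha3 : a * a * a ∈ Z := by
      rw [eq_inv_of_mul_eq_one_left e.symm]
      exact inv_mem (mul_mem (mul_mem hz hz) (hφZ _ hz))
    obtain ⟨n, hn⟩ := h2 a
    have hco : Nat.Coprime 3 (orderOf a) :=
      (Nat.Coprime.pow_right n (by norm_num)).coprime_dvd_right (orderOf_dvd_of_pow_eq_one hn)
    obtain ⟨m, hm⟩ := exists_pow_eq_self_of_coprime hco
    rw [← hm, pow_succ, pow_two]
    exact pow_mem ha3 m
  have hidx : 3 ≤ Z.relIndex C := three_le_relIndex haC hfC ha hφa hneq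
  have hmul : Z.relIndex C * C.index = Z.index := Subgroup.relIndex_mul_index hZC
  have hC1 : C.index = 1 := by
    have hp : 0 < C.index := Nat.pos_of_ne_zero Subgroup.index_ne_zero_of_finite
    by_contra hne
    have : 3 * 2 ≤ Z.relIndex C * C.index := Nat.mul_le_mul hidx (by omega)
    omega
  apply ha
  rw [hZ, Subgroup.mem_center_iff]
  intro g
  exact Subgroup.mem_centralizer_singleton_iff.mp (show g ∈ C by rw [Subgroup.index_eq_one.mp hC1]; trivial)

theorem Three.comm_of_card (h : Three φ) (h2 : IsPGroup 2 Q) (hc : Nat.card Q ≤ 16) :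
    ∀ a b : Q, a * b = b * a := by
  haveI := Fact.mk Nat.prime_two
  refine h.comm_of_center_index h2 ?_
  rcases subsingleton_or_nontrivial Q with hs | hn
  · rw [Subgroup.index_eq_one.mpr (Subsingleton.elim _ _)]; norm_num
  haveI := h2.center_nontrivial
  have hinv : ∀ z ∈ Subgroup.center Q, φ z ∈ Subgroup.center Q := by
    intro z hz
    rw [Subgroup.mem_center_iff] at hz ⊢
    intro g
    simpa using congrArg φ (hz (φ.symm g))
  have h1 := h.card_mod hinv
  have h4 : 4 ≤ Nat.card (Subgroup.center Q) := by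
    have := Finite.one_lt_card (α := Subgroup.center Q)
    omega
  have := (Subgroup.center Q).card_mul_index
  nlinarith

/-- All commutators lie in `[a, Y]` if `Y` is abelian invariant of index four and `a ∉ Y`. -/
theorem Three.derived_le (h : Three φ) (h2 : IsPGroup 2 Q) {Y : Subgroup Q} (hY : ∀ y ∈ Y, φ y ∈ Y)
    (hYab : ∀ x ∈ Y, ∀ y ∈ Y, ⁅x, y⁆ = 1) (h4 : Y.index ≤ 4) {a : Q} (ha : a ∉ Y) (p q : Q) :
    ∃ y ∈ Y, ⁅p, q⁆ = ⁅a, y⁆ := by
  haveI hYn : Y.index ≠ 0 := Subgroup.index_ne_zero_of_finite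
  let K : Subgroup Q :=
    { carrier := {z | ∃ y ∈ Y, z = ⁅a, y⁆}
      one_mem' := ⟨1, one_mem _, (commutatorElement_one_right a).symm⟩
      mul_mem' := by
        rintro _ _ ⟨x, hx, rfl⟩ ⟨y, hy, rfl⟩
        exact ⟨x * y, mul_mem hx hy, (h.mul_right' a x y).symm⟩
      inv_mem' := by
        rintro _ ⟨x, hx, rfl⟩
        exact ⟨x⁻¹, inv_mem hx, (h.inv_right' a x).symm⟩ }
  let R : Q → Subgroup Q := fun p =>
    { carrier := {q | ⁅p, q⁆ ∈ K}
      one_mem' := by show ⁅p, 1⁆ ∈ K; rw [commutatorElement_one_right]; exact one_mem K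
      mul_mem' := by intro x y hx hy; show ⁅p, x * y⁆ ∈ K; rw [h.mul_right']; exact mul_mem hx hy
      inv_mem' := by intro x hx; show ⁅p, x⁻¹⁆ ∈ K; rw [h.inv_right']; exact inv_mem hx }
  have htop : ∀ L : Subgroup Q, Y ≤ L → a ∈ L → φ a ∈ L → L = ⊤ := by
    intro L hL haL hfL
    have hfa : φ a ∉ Y := fun hc => ha (by
      have := hY _ (hY _ hc); rwa [h.cube] at this)
    have hne : a⁻¹ * φ a ∉ Y := by
      intro hz
      apply ha
      -- `a` is fixed modulo `Y`
      have h1 : a⁻¹ * φ (φ a) ∈ Y := by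
        have := mul_mem hz (hY _ hz)
        rwa [map_mul, map_inv, mul_assoc, mul_inv_cancel_left] at this
      have e : φ (φ a) = (a * φ a)⁻¹ := eq_inv_of_mul_eq_one_right (h.ident a)
      rw [e, mul_inv_rev] at h1
      have h2' : a⁻¹ * (φ a)⁻¹ * a⁻¹ * (a⁻¹ * φ a) ∈ Y := mul_mem (by simpa [mul_assoc] using h1) hz
      have hcm : φ a * a = a * φ a := (commutatorElement_eq_one_iff_mul_comm.mp (h.self_comm a)).symm
      have e3 : a⁻¹ * (φ a)⁻¹ * a⁻¹ * (a⁻¹ * φ a) = (a * a * a)⁻¹ := by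
        have hc : Commute (φ a) a := hcm
        calc a⁻¹ * (φ a)⁻¹ * a⁻¹ * (a⁻¹ * φ a) = a⁻¹ * ((φ a)⁻¹ * (a⁻¹ * a⁻¹)) * φ a := by group
          _ = a⁻¹ * ((a⁻¹ * a⁻¹) * (φ a)⁻¹) * φ a := by
              rw [(hc.inv_inv.mul_right hc.inv_inv).eq]
          _ = _ := by group
      rw [e3, inv_mem_iff] at h2'
      obtain ⟨n, hn⟩ := h2 a
      obtain ⟨m, hm⟩ := exists_pow_eq_self_of_coprime
        ((Nat.Coprime.pow_right n (by norm_num)).coprime_dvd_right (orderOf_dvd_of_pow_eq_one hn) :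
          Nat.Coprime 3 (orderOf a))
      rw [← hm, pow_succ, pow_two]
      exact pow_mem h2' m
    have hidx : 3 ≤ Y.relIndex L := three_le_relIndex haL hfL ha hfa hne
    have hmul : Y.relIndex L * L.index = Y.index := Subgroup.relIndex_mul_index hL
    refine Subgroup.index_eq_one.mp ?_
    have hp : 0 < L.index := Nat.pos_of_ne_zero Subgroup.index_ne_zero_of_finite
    by_contra hne1
    have : 3 * 2 ≤ Y.relIndex L * L.index := Nat.mul_le_mul hidx (by omega)
    omega
  have hRY : ∀ y ∈ Y, R y = ⊤ := by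
    intro y hy
    refine htop _ (fun z hz => show ⁅y, z⁆ ∈ K by rw [hYab y hy z hz]; exact one_mem K) ?_ ?_
    · show ⁅y, a⁆ ∈ K
      rw [← commutatorElement_inv a y]; exact inv_mem ⟨y, hy, rfl⟩
    · show ⁅y, φ a⁆ ∈ K
      rw [← commutatorElement_inv (φ a) y, h.shift]; exact inv_mem ⟨φ y, hY y hy, rfl⟩
  have hRa : R a = ⊤ := htop _ (fun z hz => ⟨z, hz, rfl⟩)
    (show ⁅a, a⁆ ∈ K by rw [commutatorElement_self]; exact one_mem K)
    (show ⁅a, φ a⁆ ∈ K by rw [h.self_comm]; exact one_mem K)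
  have hRf : R (φ a) = ⊤ := htop _ (fun z hz => show ⁅φ a, z⁆ ∈ K by rw [h.shift]; exact ⟨φ z, hY z hz, rfl⟩)
    (show ⁅φ a, a⁆ ∈ K by rw [← commutatorElement_inv a (φ a), h.self_comm, inv_one]; exact one_mem K)
    (show ⁅φ a, φ a⁆ ∈ K by rw [commutatorElement_self]; exact one_mem K)
  let L : Subgroup Q :=
    { carrier := {p | R p = ⊤}
      one_mem' := eq_top_iff.mpr fun q _ => show ⁅(1 : Q), q⁆ ∈ K by
        rw [commutatorElement_one_left]; exact one_mem K
      mul_mem' := by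
        intro x y hx hy
        refine eq_top_iff.mpr fun q _ => show ⁅x * y, q⁆ ∈ K by
          rw [h.mul_left']
          exact mul_mem ((eq_top_iff.mp hx) (Subgroup.mem_top q)) ((eq_top_iff.mp hy) (Subgroup.mem_top q))
      inv_mem' := by
        intro x hx
        refine eq_top_iff.mpr fun q _ => show ⁅x⁻¹, q⁆ ∈ K by
          rw [h.inv_left']
          exact inv_mem ((eq_top_iff.mp hx) (Subgroup.mem_top q)) }
  have hp : p ∈ L := (htop L hRY hRa hRf).symm ▸ Subgroup.mem_top p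
  exact (eq_top_iff.mp hp) (Subgroup.mem_top q)

end CfsgLib.OrderSix.Fpf
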