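import Cfsg.Agent.Lib.OrderSix.Low
import Cfsg.Agent.Lib.OrderSix.FpfThree

/-!
`O_2` of the centralizer of an involution, modulo the involution; the involution lies in its derived group.
-/

set_option autoImplicit false
set_option linter.unusedVariables false
set_option linter.unusedSectionVars false
set_option linter.style.haveILetI false

namespace CfsgLib.OrderSix

open CfsgLib.SelfCent CfsgLib.SCThree
open scoped commutatorElement

universe v

variable {G : Type v} [Group G] [Finite G] {u c : G}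

theorem mem_U (h : Six u c) {x : G} : x ∈ Subgroup.zpowers u ↔ x = 1 ∨ x = u := by
  constructor
  · intro hx
    obtain ⟨k, rfl⟩ := Subgroup.mem_zpowers_iff.mp hx
    rw [← zpow_mod_orderOf, h.ou]
    rcases Int.emod_two_eq_zero_or_one k with e | e <;> simp [e]
  · rintro (rfl | rfl)
    · exact one_mem _
    · exact Subgroup.mem_zpowers _

theorem card_U (h : Six u c) : Nat.card (Subgroup.zpowers u) = 2 := by rw [Nat.card_zpowers, h.ou]

theorem U_le_cT (h : Six u c) : Subgroup.zpowers u ≤ cT u := Subgroup.zpowers_le.mpr (u_mem_cT h)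

theorem U_normalized (u : G) : cC u ≤ Subgroup.normalizer (Subgroup.zpowers u : Set G) := by
  intro g hg
  rw [Subgroup.mem_normalizer_iff]
  intro x
  have hgu : Commute g u := mem_cC.mp hg
  constructor
  · intro hx
    obtain ⟨k, rfl⟩ := Subgroup.mem_zpowers_iff.mp hx
    rw [(hgu.zpow_right k).eq, mul_inv_cancel_right]
    exact Subgroup.zpow_mem_zpowers _ _
  · intro hx
    obtain ⟨k, hk⟩ := Subgroup.mem_zpowers_iff.mp hx
    have : x = u ^ k := by
      have e : g * x * g⁻¹ = g * u ^ k * g⁻¹ := by rw [(hgu.zpow_right k).eq, mul_inv_cancel_right, hk]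
      exact mul_left_cancel (mul_right_cancel e)
    rw [this]
    exact Subgroup.zpow_mem_zpowers _ _

instance U_normal (u : G) : ((Subgroup.zpowers u).subgroupOf (cT u)).Normal :=
  ⟨fun x hx g => by
    rw [Subgroup.mem_subgroupOf] at hx ⊢
    exact (Subgroup.mem_normalizer_iff.mp (U_normalized u (cT_le_cC u g.2)) _).mp hx⟩

/-- `O_2` modulo the involution. -/
abbrev Tb (u : G) : Type v := ↥(cT u) ⧸ (Subgroup.zpowers u).subgroupOf (cT u)

/-- The class of an element. -/
def tb {u : G} (t : G) (ht : t ∈ cT u) : Tb u := QuotientGroup.mk ⟨t, ht⟩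

theorem tb_mul {a b : G} (ha : a ∈ cT u) (hb : b ∈ cT u) :
    tb (u := u) a ha * tb b hb = tb (a * b) (mul_mem ha hb) := rfl

theorem tb_inv {a : G} (ha : a ∈ cT u) : (tb (u := u) a ha)⁻¹ = tb a⁻¹ (inv_mem ha) := rfl

theorem tb_comm {a b : G} (ha : a ∈ cT u) (hb : b ∈ cT u) :
    ⁅tb (u := u) a ha, tb b hb⁆ =
      tb ⁅a, b⁆ (mul_mem (mul_mem (mul_mem ha hb) (inv_mem ha)) (inv_mem hb)) := rfl

theorem tb_surj (x : Tb u) : ∃ t ht, tb (u := u) t ht = x := by
  induction x using QuotientGroup.induction_on with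
  | H z => exact ⟨z, z.2, rfl⟩

theorem tb_eq_one {a : G} {ha : a ∈ cT u} : tb (u := u) a ha = 1 ↔ a ∈ Subgroup.zpowers u := by
  rw [tb, QuotientGroup.eq_one_iff, Subgroup.mem_subgroupOf]

theorem tb_eq {a b : G} {ha : a ∈ cT u} {hb : b ∈ cT u} :
    tb (u := u) a ha = tb b hb ↔ a⁻¹ * b ∈ Subgroup.zpowers u := by
  rw [tb, tb, QuotientGroup.eq, Subgroup.mem_subgroupOf]
  rfl

theorem tb_isPGroup (u : G) : IsPGroup 2 (Tb u) := (cT_isPGroup u).to_quotient _

theorem card_tb (h : Six u c) : Nat.card (cT u) = 2 * Nat.card (Tb u) := by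
  rw [Subgroup.card_eq_card_quotient_mul_card_subgroup ((Subgroup.zpowers u).subgroupOf (cT u)),
    Nat.card_congr (Subgroup.subgroupOfEquivOfLe (U_le_cT h)).toEquiv, card_U h, mul_comm]

/-- The action of an element of the centralizer on `O_2` modulo the involution. -/
noncomputable def actT (u : G) (g : G) (hg : g ∈ cC u) : MulAut (Tb u) :=
  QuotientGroup.congr _ _ ((cT u).normalizerMonoidHom ⟨g, cT_normalized u hg⟩) (by
    apply le_antisymm
    · rintro _ ⟨x, hx, rfl⟩
      exact Subgroup.mem_subgroupOf.mpr ((Subgroup.mem_normalizer_iff.mp (U_normalized u hg) _).mp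
        (Subgroup.mem_subgroupOf.mp hx))
    · intro y hy
      obtain ⟨x, rfl⟩ := MulEquiv.surjective ((cT u).normalizerMonoidHom ⟨g, cT_normalized u hg⟩) y
      exact ⟨x, Subgroup.mem_subgroupOf.mpr ((Subgroup.mem_normalizer_iff.mp (U_normalized u hg) _).mpr
        (Subgroup.mem_subgroupOf.mp hy)), rfl⟩)

theorem actT_tb {g : G} (hg : g ∈ cC u) {a : G} (ha : a ∈ cT u) :
    actT u g hg (tb a ha) =
      tb (g * a * g⁻¹) ((Subgroup.mem_normalizer_iff.mp (cT_normalized u hg) a).mp ha) := rfl

/-- Conjugation by `c`. -/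
noncomputable def Six.phi (h : Six u c) : MulAut (Tb u) := actT u c h.c_mem

theorem Six.three (h : Six u c) : Fpf.Three h.phi := by
  refine ⟨fun x => ?_, fun x hx => ?_⟩
  · obtain ⟨t, ht, rfl⟩ := tb_surj x
    rw [Six.phi, actT_tb, actT_tb, actT_tb, tb_eq]
    have e : c * (c * (c * t * c⁻¹) * c⁻¹) * c⁻¹ = t := by
      have hc : c * c * c = 1 := by rw [← h.ccc, pow_succ, pow_two]
      calc _ = c * c * c * t * (c * c * c)⁻¹ := by group
        _ = t := by rw [hc]; group
    rw [e, inv_mul_cancel]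
    exact one_mem _
  · obtain ⟨t, ht, rfl⟩ := tb_surj x
    rw [Six.phi, actT_tb, tb_eq] at hx
    rw [tb_eq_one]
    refine fix_mod h (U_le_cT h) (Subgroup.mem_zpowers u) (U_normalized u h.c_mem) ht ?_
    have := inv_mem hx
    rwa [mul_inv_rev, inv_inv] at this

/-- Every element of the centralizer normalises `⟨c⟩ O_{3'}`. -/
theorem conj_c (h : Six u c) (hl : Low u) {g : G} (hg : g ∈ cC u) :
    g * c * g⁻¹ * c⁻¹ ∈ cX u ∨ g * c * g⁻¹ * c ∈ cX u := by
  have hn := fun (a : G) (ha : a ∈ cC u) (x : G) (hx : x ∈ cX u) =>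
    (Subgroup.mem_normalizer_iff.mp (cX_normalized u ha) x).mp hx
  rcases kinds h hl hg with e | e | e | ⟨-, e⟩
  · left
    have := mul_mem e (hn c h.c_mem _ (inv_mem e))
    refine (congrArg (· ∈ cX u) ?_).mp this
    group
  · left
    have := mul_mem e (hn c h.c_mem _ (inv_mem e))
    refine (congrArg (· ∈ cX u) ?_).mp this
    group
  · left
    have := mul_mem e (hn c h.c_mem _ (inv_mem e))
    refine (congrArg (· ∈ cX u) ?_).mp this
    group
  · exact Or.inr e.2.2.2

/-! ### The derived group of `O_2` -/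

/-- The derived group of `O_2`. -/
abbrev cD (u : G) : Subgroup G := ⁅cT u, cT u⁆

theorem cD_le (u : G) : cD u ≤ cT u := by
  rw [Subgroup.commutator_le]
  intro a ha b hb
  exact mul_mem (mul_mem (mul_mem ha hb) (inv_mem ha)) (inv_mem hb)

theorem cD_normalized_of {g : G} (hg : g ∈ Subgroup.normalizer (cT u : Set G)) :
    g ∈ Subgroup.normalizer (cD u : Set G) := by
  have e1 : cj g (cT u) = cT u := by
    ext a
    rw [mem_cj]
    simpa [mul_assoc] using (Subgroup.mem_normalizer_iff.mp (inv_mem hg) a).symm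
  have e2 : cj g (cD u) = cD u := by
    show Subgroup.map _ ⁅cT u, cT u⁆ = _
    rw [Subgroup.map_commutator]
    show ⁅cj g (cT u), cj g (cT u)⁆ = _
    rw [e1]
  rw [Subgroup.mem_normalizer_iff]
  intro a
  conv_rhs => rw [← e2, mem_cj]
  simp [mul_assoc]

theorem cD_normalized (u : G) : cC u ≤ Subgroup.normalizer (cD u : Set G) :=
  fun g hg => cD_normalized_of (cT_normalized u hg)

/-- The action of the normalizer on the abelianization of `O_2`. -/
noncomputable def actAb (u : G) :
    ↥(Subgroup.normalizer (cT u : Set G)) →* MulAut (Abelianization ↥(cT u)) where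
  toFun g := ((cT u).normalizerMonoidHom g).abelianizationCongr
  map_one' := by
    ext x
    induction x using QuotientGroup.induction_on with
    | H z =>
      show Abelianization.of ((cT u).normalizerMonoidHom 1 z) = Abelianization.of z
      rw [map_one]
      rfl
  map_mul' g k := by
    ext x
    induction x using QuotientGroup.induction_on with
    | H z => rw [map_mul]; rfl

theorem actAb_of {g : G} (hg : g ∈ Subgroup.normalizer (cT u : Set G)) {a : G} (ha : a ∈ cT u) :
    actAb u ⟨g, hg⟩ (Abelianization.of ⟨a, ha⟩) =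
      Abelianization.of ⟨g * a * g⁻¹, (Subgroup.mem_normalizer_iff.mp hg a).mp ha⟩ := rfl

theorem of_eq_one {a : G} (ha : a ∈ cT u) :
    Abelianization.of (⟨a, ha⟩ : ↥(cT u)) = 1 ↔ a ∈ cD u := by
  rw [← MonoidHom.mem_ker, Abelianization.ker_of]
  show (⟨a, ha⟩ : ↥(cT u)) ∈ commutator ↥(cT u) ↔ _
  rw [← Subgroup.mem_map_iff_mem (cT u).subtype_injective, commutator_def, Subgroup.map_commutator,
    ← MonoidHom.range_eq_map, Subgroup.range_subtype]
  rfl

theorem actAb_cX (h : Six u c) {g : G} (hg : g ∈ cX u) :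
    actAb u ⟨g, cT_normalized u (cX_le u hg)⟩ = 1 := by
  obtain ⟨τ, hτ, o, ho, rfl, hc⟩ := cX_split h hg
  ext x
  induction x using QuotientGroup.induction_on with
  | H z =>
    show Abelianization.of (⟨τ * o * z * (τ * o)⁻¹, _⟩ : ↥(cT u)) = Abelianization.of z
    have e : τ * o * (z : G) * (τ * o)⁻¹ = τ * z * τ⁻¹ := by
      rw [mul_assoc τ o, hc z z.2]; group
    have e' : (⟨τ * o * z * (τ * o)⁻¹, (Subgroup.mem_normalizer_iff.mp
        (cT_normalized u (cX_le u hg)) z).mp z.2⟩ : ↥(cT u)) = ⟨τ, hτ⟩ * z * ⟨τ, hτ⟩⁻¹ := Subtype.ext e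
    rw [e', map_mul, map_mul, map_inv, mul_comm (Abelianization.of _) (Abelianization.of z),
      mul_inv_cancel_right]

/-- The involution lies in the derived group of `O_2`. -/
theorem u_mem_cD (h : Six u c) (hl : Low u)
    (hyp : (idx u = 3 ∧ ∃ a ∈ cT u, ∃ b ∈ cT u, a * b ≠ b * a) ∨
      (idx u = 6 ∧ cT u ≠ Subgroup.zpowers u)) :
    u ∈ cD u := by
  haveI := Fact.mk Nat.prime_two
  obtain ⟨S, -, hS⟩ := exists_sylow_cC h (IsPGroup.of_bot (p := 2)) bot_le
  have hTS := cT_le_sylow h S hS
  have huS : u ∈ (S : Subgroup G) := hTS (u_mem_cT h)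
  -- the Sylow subgroup is not abelian
  have hna : ¬ ∀ a ∈ (S : Subgroup G), ∀ b ∈ (S : Subgroup G), a * b = b * a := by
    intro hab
    rcases hyp with ⟨h3, a, ha, b, hb, hne⟩ | ⟨h6, hne⟩
    · exact hne (hab a (hTS ha) b (hTS hb))
    · rcases sylow_index h hl S hS with ⟨e, -⟩ | ⟨-, e⟩
      · omega
      obtain ⟨g, hg, hgT⟩ : ∃ g ∈ (S : Subgroup G), g ∉ cT u := by
        by_contra hc
        push Not at hc
        rw [Subgroup.relIndex_eq_one.mpr hc] at e
        omega
      obtain ⟨-, hR⟩ := two_group_refl h hl S.isPGroup' hS hg hgT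
      apply hne
      refine le_antisymm (fun b hb => free_fix h hl (U_le_cT h) (Subgroup.mem_zpowers u) (U_normalized u) hR hb
        ?_ ?_) (U_le_cT h)
      · rw [hab g hg b (hTS hb), mul_inv_cancel_right, mul_inv_cancel]; exact one_mem _
      · have hb' : c⁻¹ * b * c ∈ cT u := by
          simpa using (Subgroup.mem_normalizer_iff.mp (cT_normalized u (inv_mem h.c_mem)) b).mp hb
        have e := hab g hg _ (hTS hb')
        have e' : c * g * c⁻¹ * b * (c * g * c⁻¹)⁻¹ = b := by
          calc _ = c * (g * (c⁻¹ * b * c) * g⁻¹) * c⁻¹ := by group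
            _ = _ := by rw [e]; group
        rw [e', mul_inv_cancel]; exact one_mem _
  set D := ⁅(S : Subgroup G), (S : Subgroup G)⁆ with hD
  -- the derived group of the Sylow subgroup contains `u`
  have hDle : D ≤ (S : Subgroup G) := by
    rw [hD, Subgroup.commutator_le]
    intro a ha b hb
    exact mul_mem (mul_mem (mul_mem ha hb) (inv_mem ha)) (inv_mem hb)
  have huD : u ∈ D := by
    set D' := D.subgroupOf (S : Subgroup G)
    haveI : D'.Normal := Subgroup.normal_subgroupOf_iff_le_normalizer hDle |>.mpr (fun g hg => by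
      have e : cj g (S : Subgroup G) = S := by
        ext a; rw [mem_cj]
        constructor
        · intro ha; simpa [mul_assoc] using mul_mem (mul_mem hg ha) (inv_mem hg)
        · intro ha; exact mul_mem (mul_mem (inv_mem hg) ha) hg
      have e2 : cj g D = D := by
        rw [hD]; show Subgroup.map _ _ = _
        rw [Subgroup.map_commutator]
        show ⁅cj g (S : Subgroup G), cj g (S : Subgroup G)⁆ = _
        rw [e]
      rw [Subgroup.mem_normalizer_iff]
      intro a
      conv_rhs => rw [← e2, mem_cj]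
      simp [mul_assoc])
    haveI : Nontrivial D' := by
      rw [Subgroup.nontrivial_iff_ne_bot]
      intro hb
      apply hna
      intro a ha b hb'
      have hm : (⟨⁅a, b⁆, hDle (Subgroup.commutator_mem_commutator ha hb')⟩ : (S : Subgroup G)) ∈ D' :=
        Subgroup.mem_subgroupOf.mpr (Subgroup.commutator_mem_commutator ha hb')
      rw [hb, Subgroup.mem_bot] at hm
      exact commutatorElement_eq_one_iff_mul_comm.mp (congrArg Subtype.val hm)
    obtain ⟨z, hzD, hzc, hz2⟩ : ∃ z : (S : Subgroup G), z ∈ D' ∧ z ∈ Subgroup.center (S : Subgroup G) ∧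
        orderOf z = 2 := by
      haveI : Nontrivial ↥(D' ⊓ Subgroup.center (S : Subgroup G) : Subgroup (S : Subgroup G)) :=
        (Subgroup.nontrivial_iff_ne_bot _).mpr
          (SCThree.normal_inf_center S.isPGroup' D' ((Subgroup.nontrivial_iff_ne_bot _).mp inferInstance))
      obtain ⟨k, hk⟩ := IsPGroup.iff_card.mp
        (S.isPGroup'.to_subgroup (D' ⊓ Subgroup.center (S : Subgroup G)))
      obtain ⟨z, hz⟩ := exists_prime_orderOf_dvd_card'
        (G := ↥(D' ⊓ Subgroup.center (S : Subgroup G) : Subgroup (S : Subgroup G))) 2 (by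
          rw [hk]
          refine dvd_pow_self 2 ?_
          rintro rfl
          have h1 : 1 < 2 ^ 0 :=
            hk ▸ Finite.one_lt_card (α := ↥(D' ⊓ Subgroup.center (S : Subgroup G) : Subgroup (S : Subgroup G)))
          simp at h1)
      exact ⟨z, z.2.1, z.2.2, by rw [Subgroup.orderOf_coe]; exact hz⟩
    have hz2' : orderOf (z : G) = 2 := by rw [Subgroup.orderOf_coe, hz2]
    obtain ⟨g, hg⟩ := isConj_iff.mp (h.one u z h.ou hz2')
    have hucent : u ∈ Subgroup.centralizer ((S : Subgroup G) : Set G) := fun s hs => mem_cC.mp (hS hs)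
    have hzcent : (z : G) ∈ Subgroup.centralizer ((S : Subgroup G) : Set G) := fun s hs =>
      congrArg Subtype.val (Subgroup.mem_center_iff.mp hzc ⟨s, hs⟩)
    obtain ⟨n, hn, e⟩ := S.conj_eq_normalizer_conj_of_mem_centralizer u g⁻¹ hucent
      (by rw [inv_inv, hg]; exact hzcent)
    rw [inv_inv, hg] at e
    have hnD : cj n D = D := by
      have e1 : cj n (S : Subgroup G) = S := by
        ext a
        rw [mem_cj]
        simpa [mul_assoc] using (Subgroup.mem_normalizer_iff.mp (inv_mem hn) a).symm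
      rw [hD]; show Subgroup.map _ _ = _
      rw [Subgroup.map_commutator]
      show ⁅cj n (S : Subgroup G), cj n (S : Subgroup G)⁆ = _
      rw [e1]
    rw [← hnD, mem_cj, ← e]
    exact Subgroup.mem_subgroupOf.mp hzD
  rcases sylow_index h hl S hS with ⟨h3, e⟩ | ⟨h6, e⟩
  · rw [hD, e] at huD; exact huD
  by_contra huT
  -- the norm map
  have hcN : c ∈ Subgroup.normalizer (cT u : Set G) := cT_normalized u h.c_mem
  set φ := actAb u ⟨c, hcN⟩ with hφ
  have hφ3 : ∀ x, φ (φ (φ x)) = x := by
    intro x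
    rw [hφ, ← MulAut.mul_apply, ← MulAut.mul_apply, ← map_mul, ← map_mul]
    have e3 : (⟨c, hcN⟩ : ↥(Subgroup.normalizer (cT u : Set G))) * ⟨c, hcN⟩ * ⟨c, hcN⟩ = 1 :=
      Subtype.ext (show c * c * c = 1 by rw [← h.ccc, pow_succ, pow_two])
    rw [e3, map_one, MulAut.one_apply]
  let ν : ↥(cT u) →* Abelianization ↥(cT u) :=
    Abelianization.of * (φ.toMonoidHom.comp Abelianization.of) *
      ((φ * φ).toMonoidHom.comp Abelianization.of)
  have hν : ∀ a, ν a = Abelianization.of a * φ (Abelianization.of a) * φ (φ (Abelianization.of a)) :=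
    fun a => rfl
  have himg : ∀ a, ν a = 1 ∨ ν a = Abelianization.of ⟨u, u_mem_cT h⟩ := by
    intro a
    have hfix : φ (ν a) = ν a := by
      rw [hν, map_mul, map_mul, hφ3, mul_comm, mul_assoc]
    obtain ⟨z, hz⟩ := QuotientGroup.mk'_surjective (commutator ↥(cT u)) (ν a)
    change Abelianization.of z = ν a at hz
    rw [← hz, hφ, show z = ⟨(z : G), z.2⟩ from rfl, actAb_of] at hfix
    have h1 : (z : G)⁻¹ * (c * z * c⁻¹) ∈ cD u := by
      have h0 : Abelianization.of
          ((⟨z, z.2⟩ : ↥(cT u))⁻¹ * ⟨c * z * c⁻¹, (Subgroup.mem_normalizer_iff.mp hcN z).mp z.2⟩) = 1 := by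
        rw [map_mul, map_inv, hfix, inv_mul_cancel]
      exact (of_eq_one (u := u)
        (mul_mem (inv_mem z.2) ((Subgroup.mem_normalizer_iff.mp hcN z).mp z.2))).mp h0
    obtain ⟨m, hm, hmc, hmz⟩ := FixedGen.exists_fixed_coset (K := cT u) h.ccc hcN
      (by
        obtain ⟨n, hn⟩ := IsPGroup.iff_card.mp (cT_isPGroup u)
        rw [hn]; exact Nat.Coprime.pow_left n (by norm_num)) (cD_le u) (cD_normalized u h.c_mem) z.2 h1
    obtain ⟨n, hn⟩ := isPGroup_two_pow (cT_isPGroup u) hm
    have hzm : Abelianization.of (⟨z, z.2⟩ : ↥(cT u)) = Abelianization.of ⟨m, hm⟩ := by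
      rw [← inv_mul_eq_one, ← map_inv, ← map_mul]
      exact (of_eq_one (mul_mem (inv_mem z.2) hm)).mpr hmz
    rcases h.eq_of_comm_two (mem_cC.mp (cT_le_cC u hm)) hmc.symm hn with e1 | e1
    · left
      rw [← hz, show z = ⟨(z : G), z.2⟩ from rfl, hzm]
      exact (of_eq_one hm).mpr (e1 ▸ one_mem _)
    · right
      subst e1
      rw [← hz, show z = ⟨(z : G), z.2⟩ from rfl, hzm]
  set K := ν.ker.map (cT u).subtype with hK
  have hKle : K ≤ cT u := Subgroup.map_subtype_le _
  have huK : u ∉ K := by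
    rintro ⟨z, hz, e1⟩
    apply huT
    have ez : z = ⟨u, u_mem_cT h⟩ := Subtype.ext e1
    subst ez
    have hfu : φ (Abelianization.of (⟨u, u_mem_cT h⟩ : ↥(cT u))) = Abelianization.of ⟨u, u_mem_cT h⟩ := by
      rw [hφ, actAb_of]
      congr 1
      exact Subtype.ext (by simp [← h.comm])
    have hz' : ν ⟨u, u_mem_cT h⟩ = 1 := hz
    rw [hν, hfu, hfu, ← map_mul, ← map_mul] at hz'
    have : (⟨u, u_mem_cT h⟩ * ⟨u, u_mem_cT h⟩ * ⟨u, u_mem_cT h⟩ : ↥(cT u)) = ⟨u, u_mem_cT h⟩ :=
      Subtype.ext (by simp [h.uu])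
    rw [this] at hz'
    exact (of_eq_one _).mp hz'
  -- normalised by the centralizer
  have hKn : cC u ≤ Subgroup.normalizer (K : Set G) := by
    have key : ∀ g, ∀ hg : g ∈ cC u, ∀ a : ↥(cT u), ν a = 1 →
        ν ⟨g * a * g⁻¹, (Subgroup.mem_normalizer_iff.mp (cT_normalized u hg) a).mp a.2⟩ = 1 := by
      intro g hg a ha
      have hgN := cT_normalized u hg
      set ψ := actAb u ⟨g, hgN⟩ with hψ
      rw [hν, ← actAb_of hgN a.2, ← hψ]
      change ψ (Abelianization.of a) * φ (ψ (Abelianization.of a)) * φ (φ (ψ (Abelianization.of a))) = 1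
      rcases conj_c h hl hg with e1 | e1
      · have hcomm : ∀ x, φ (ψ x) = ψ (φ x) := by
          have h2 := actAb_cX h e1
          have h3 : (⟨g * c * g⁻¹ * c⁻¹, cT_normalized u (cX_le u e1)⟩ :
              ↥(Subgroup.normalizer (cT u : Set G))) = ⟨g, hgN⟩ * ⟨c, hcN⟩ * ⟨g, hgN⟩⁻¹ * ⟨c, hcN⟩⁻¹ := rfl
          rw [h3, map_mul, map_mul, map_mul, map_inv, map_inv, mul_inv_eq_one, mul_inv_eq_iff_eq_mul,
            ← hψ, ← hφ] at h2
          intro x
          exact (congrArg (fun f : MulAut (Abelianization ↥(cT u)) => f x) h2).symm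
        rw [hcomm, hcomm, ← map_mul, ← map_mul, ← hν, ha, map_one]
      · have hcomm : ∀ x, φ (ψ x) = ψ (φ (φ x)) := by
          have h2 := actAb_cX h e1
          have h3 : (⟨g * c * g⁻¹ * c, cT_normalized u (cX_le u e1)⟩ :
              ↥(Subgroup.normalizer (cT u : Set G))) = ⟨g, hgN⟩ * ⟨c, hcN⟩ * ⟨g, hgN⟩⁻¹ * ⟨c, hcN⟩ := rfl
          rw [h3, map_mul, map_mul, map_mul, map_inv, ← hψ, ← hφ] at h2
          intro x
          have h4 := congrArg (fun f : MulAut (Abelianization ↥(cT u)) => f (ψ (φ (φ x)))) h2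
          simp only [MulAut.one_apply] at h4
          have h5 := congrArg (fun f : MulAut (Abelianization ↥(cT u)) => f (ψ x)) h2
          simp only [MulAut.one_apply, MulAut.mul_apply] at h5
          -- `ψ φ ψ⁻¹ φ = 1`
          have h6 : ∀ y, φ (ψ (φ y)) = ψ y := by
            intro y
            have h7 := congrArg (fun f : MulAut (Abelianization ↥(cT u)) => f (ψ (φ y))) h2
            simp only [MulAut.one_apply, MulAut.mul_apply] at h7
            have : ψ⁻¹ (φ (ψ (φ y))) = y := φ.injective (ψ.injective h7)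
            have := congrArg ψ this
            rwa [← MulAut.mul_apply, mul_inv_cancel, MulAut.one_apply] at this
          have := h6 (φ (φ x))
          rwa [hφ3] at this
        rw [hcomm, hcomm, hφ3, ← map_mul, ← map_mul]
        rw [show Abelianization.of a * φ (φ (Abelianization.of a)) * φ (Abelianization.of a) =
          Abelianization.of a * φ (Abelianization.of a) * φ (φ (Abelianization.of a)) from mul_right_comm _ _ _,
          ← hν, ha, map_one]
    intro g hg
    rw [Subgroup.mem_normalizer_iff]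
    intro a
    constructor
    · rintro ⟨z, hz, rfl⟩
      exact ⟨_, key g hg z hz, rfl⟩
    · rintro ⟨z, hz, e1⟩
      refine ⟨_, key g⁻¹ (inv_mem hg) z hz, ?_⟩
      simp only [Subgroup.coe_subtype, inv_inv] at e1 ⊢
      rw [e1]; group
  have hKS : K ≤ (S : Subgroup G) := hKle.trans hTS
  have hKidx : K.relIndex (cT u) ≤ 2 := by
    rw [Subgroup.relIndex, hK, Subgroup.subgroupOf, Subgroup.comap_map_eq_self_of_injective (cT u).subtype_injective,
      Subgroup.index_ker]
    refine (Nat.card_mono (Set.toFinite {1, Abelianization.of (⟨u, u_mem_cT h⟩ : ↥(cT u))}) ?_).trans ?_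
    · rintro _ ⟨a, rfl⟩
      rcases himg a with e1 | e1 <;> simp [e1]
    · rw [Nat.card_coe_set_eq]
      refine (Set.ncard_insert_le _ _).trans ?_
      rw [Set.ncard_singleton]
  haveI : (K.subgroupOf (S : Subgroup G)).Normal :=
    Subgroup.normal_subgroupOf_iff_le_normalizer hKS |>.mpr (hS.trans hKn)
  have hQ4 : Nat.card ((S : Subgroup G) ⧸ K.subgroupOf (S : Subgroup G)) ≤ 4 := by
    show K.relIndex (S : Subgroup G) ≤ 4
    rw [← Subgroup.relIndex_mul_relIndex K (cT u) S hKle hTS, e]
    omega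
  have hQc : ∀ x y : (S : Subgroup G) ⧸ K.subgroupOf (S : Subgroup G), x * y = y * x := by
    have hp : IsPGroup 2 ((S : Subgroup G) ⧸ K.subgroupOf (S : Subgroup G)) := S.isPGroup'.to_quotient _
    obtain ⟨n, hn⟩ := IsPGroup.iff_card.mp hp
    have hn2 : n ≤ 2 := by
      by_contra hh
      have : 2 ^ 3 ≤ 2 ^ n := Nat.pow_le_pow_right (by norm_num) (by omega)
      omega
    interval_cases n
    · haveI := (Nat.card_eq_one_iff_unique.mp (by simpa using hn)).1
      intro x y
      exact Subsingleton.elim _ _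
    · haveI := isCyclic_of_prime_card (p := 2) (by simpa using hn)
      letI := IsCyclic.commGroup (α := (S : Subgroup G) ⧸ K.subgroupOf (S : Subgroup G))
      exact mul_comm
    · exact IsPGroup.commutative_of_card_eq_prime_sq (p := 2) hn
  apply huK
  have : D ≤ K := by
    rw [hD, Subgroup.commutator_le]
    intro a ha b hb
    have := hQc (QuotientGroup.mk ⟨a, ha⟩) (QuotientGroup.mk ⟨b, hb⟩)
    rw [← QuotientGroup.mk_mul, ← QuotientGroup.mk_mul, eq_comm, QuotientGroup.eq, Subgroup.mem_subgroupOf] at this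
    have := (Subgroup.mem_normalizer_iff.mp (hKn (hS (mul_mem hb ha))) _).mp this
    refine (congrArg (· ∈ K) ?_).mp this
    simp only [Subgroup.coe_mul, Subgroup.coe_inv, commutatorElement_def]
    group
  exact this huD

end CfsgLib.OrderSix
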