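import Cfsg.Agent.Lib.SelfCentThree.Simple
import Cfsg.Agent.Lib.Fitting.Basic
import Cfsg.Agent.Lib.Char.PiPart
import Cfsg.Agent.Lib.FixedGen.Basic

/-!
Simple groups with one class of involutions and an element of order six with centralizer of order six:
the centralizer of an involution.
-/

set_option autoImplicit false
set_option linter.unusedVariables false
set_option linter.unusedSectionVars false
set_option linter.style.haveILetI false

namespace CfsgLib.OrderSix

open CfsgLib.SelfCent CfsgLib.SCThree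

universe v

variable {G : Type v} [Group G] [Finite G]

/-- `t = u c` is the element of order six. -/
structure Six (u c : G) : Prop where
  simple : IsSimpleGroup G
  ncomm : ¬ IsMulCommutative G
  one : ∀ x y : G, orderOf x = 2 → orderOf y = 2 → IsConj x y
  ou : orderOf u = 2
  oc : orderOf c = 3
  comm : u * c = c * u
  cent : ∀ g : G, g * u = u * g → g * c = c * g → ∃ i : ℕ, g = c ^ i ∨ g = u * c ^ i

abbrev cC (u : G) : Subgroup G := Subgroup.centralizer ({u} : Set G)

theorem mem_cC {u g : G} : g ∈ cC u ↔ g * u = u * g := Subgroup.mem_centralizer_singleton_iff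

variable {u c : G}

namespace Six

theorem u_ne_one (h : Six u c) : u ≠ 1 := fun e => by
  have := h.ou; rw [e, orderOf_one] at this; omega

theorem c_ne_one (h : Six u c) : c ≠ 1 := fun e => by
  have := h.oc; rw [e, orderOf_one] at this; omega

theorem uu (h : Six u c) : u * u = 1 := by
  have := pow_orderOf_eq_one u; rwa [h.ou, pow_two] at this

theorem u_inv (h : Six u c) : u⁻¹ = u := inv_eq_of_mul_eq_one_left h.uu

theorem ccc (h : Six u c) : c ^ 3 = 1 := h.oc ▸ pow_orderOf_eq_one c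

theorem c_mem (h : Six u c) : c ∈ cC u := mem_cC.mpr h.comm.symm

theorem u_mem (h : Six u c) : u ∈ cC u := mem_cC.mpr rfl

theorem conj (h : Six u c) (g : G) : Six (g * u * g⁻¹) (g * c * g⁻¹) := by
  refine ⟨h.simple, h.ncomm, h.one, ?_, ?_, ?_, ?_⟩
  · rw [← MulAut.conj_apply, MulEquiv.orderOf_eq, h.ou]
  · rw [← MulAut.conj_apply, MulEquiv.orderOf_eq, h.oc]
  · calc g * u * g⁻¹ * (g * c * g⁻¹) = g * (u * c) * g⁻¹ := by group
      _ = g * (c * u) * g⁻¹ := by rw [h.comm]
      _ = _ := by group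
  · intro x hxu hxc
    have e1 : g⁻¹ * x * g * u = u * (g⁻¹ * x * g) := by
      calc g⁻¹ * x * g * u = g⁻¹ * (x * (g * u * g⁻¹)) * g := by group
        _ = g⁻¹ * (g * u * g⁻¹ * x) * g := by rw [hxu]
        _ = _ := by group
    have e2 : g⁻¹ * x * g * c = c * (g⁻¹ * x * g) := by
      calc g⁻¹ * x * g * c = g⁻¹ * (x * (g * c * g⁻¹)) * g := by group
        _ = g⁻¹ * (g * c * g⁻¹ * x) * g := by rw [hxc]
        _ = _ := by group
    obtain ⟨i, hi⟩ := h.cent _ e1 e2
    refine ⟨i, ?_⟩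
    rw [conj_pow]
    rcases hi with e | e
    · exact Or.inl (by rw [← e]; group)
    · refine Or.inr ?_
      calc x = g * (g⁻¹ * x * g) * g⁻¹ := by group
        _ = g * (u * c ^ i) * g⁻¹ := by rw [e]
        _ = _ := by group

theorem inv (h : Six u c) : Six u c⁻¹ := by
  refine ⟨h.simple, h.ncomm, h.one, h.ou, by rw [orderOf_inv, h.oc],
    ((show Commute u c from h.comm).inv_right).eq, fun g hu hc => ?_⟩
  obtain ⟨i, hi⟩ := h.cent g hu (by simpa using ((show Commute g c⁻¹ from hc).inv_right).eq)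
  refine ⟨2 * i, ?_⟩
  have : c⁻¹ ^ (2 * i) = c ^ i := by
    rw [inv_pow, inv_eq_iff_mul_eq_one, ← pow_add, show 2 * i + i = 3 * i by ring, pow_mul, h.ccc, one_pow]
  rwa [this]

theorem eq_of_comm (h : Six u c) {g : G} (hu : g * u = u * g) (hc : g * c = c * g)
    (h3 : ¬ 3 ∣ orderOf g) : g = 1 ∨ g = u := by
  obtain ⟨i, hi⟩ := h.cent g hu hc
  have hp : c ^ i = c ^ (i % 3) := by rw [← pow_mod_orderOf, h.oc]
  rcases Nat.eq_zero_or_pos (i % 3) with e | e
  · rw [hp, e, pow_zero, mul_one] at hi; exact hi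
  · exfalso
    apply h3
    have hm : i % 3 < 3 := Nat.mod_lt _ (by norm_num)
    have ho : orderOf (c ^ i) = 3 := by
      rw [hp, orderOf_pow' c (by omega), h.oc]
      interval_cases i % 3 <;> simp
    rcases hi with rfl | rfl
    · exact ho ▸ dvd_rfl
    · have hcu : Commute u (c ^ i) := (show Commute u c from h.comm).pow_right i
      rw [hcu.orderOf_mul_eq_mul_orderOf_of_coprime (by rw [ho, h.ou]; norm_num), ho]
      exact dvd_mul_left 3 _

theorem eq_of_comm_two (h : Six u c) {g : G} (hu : g * u = u * g) (hc : g * c = c * g)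
    {n : ℕ} (h2 : g ^ 2 ^ n = 1) : g = 1 ∨ g = u :=
  h.eq_of_comm hu hc fun h3 => by
    have h6 := h3.trans (orderOf_dvd_of_pow_eq_one h2)
    have := Nat.prime_three.dvd_of_dvd_pow h6
    norm_num at this

end Six

/-! ### The quotient of the centralizer by its involution -/

/-- `⟨u⟩` inside its centralizer. -/
abbrev zU (u : G) : Subgroup ↥(cC u) := Subgroup.zpowers ⟨u, mem_cC.mpr rfl⟩

theorem zU_le_center (u : G) : zU u ≤ Subgroup.center ↥(cC u) :=
  Subgroup.zpowers_le.mpr (Subgroup.mem_center_iff.mpr fun g => Subtype.ext (mem_cC.mp g.2))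

instance zU_normal (u : G) : (zU u).Normal :=
  ⟨fun x hx g => by rw [(Subgroup.mem_center_iff.mp (zU_le_center u hx) g), mul_inv_cancel_right]; exact hx⟩

theorem mem_zU (h : Six u c) {x : ↥(cC u)} : x ∈ zU u ↔ (x : G) = 1 ∨ (x : G) = u := by
  constructor
  · intro hx
    obtain ⟨k, rfl⟩ := Subgroup.mem_zpowers_iff.mp hx
    rw [SubgroupClass.coe_zpow, ← zpow_mod_orderOf, h.ou]
    rcases Int.emod_two_eq_zero_or_one k with e | e <;> simp [e]
  · rintro (e | e)
    · rw [show x = 1 from Subtype.ext e]; exact one_mem _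
    · rw [show x = ⟨u, mem_cC.mpr rfl⟩ from Subtype.ext e]; exact Subgroup.mem_zpowers _

theorem card_zU (h : Six u c) : Nat.card (zU u) = 2 := by
  rw [Nat.card_zpowers, ← Subgroup.orderOf_coe]
  exact h.ou

theorem Six.sc_quot (h : Six u c) : SC (QuotientGroup.mk (⟨c, h.c_mem⟩ : ↥(cC u)) : ↥(cC u) ⧸ zU u) := by
  set cs : ↥(cC u) := ⟨c, h.c_mem⟩
  have hoc : orderOf cs = 3 := by rw [← Subgroup.orderOf_coe]; exact h.oc
  have ho : orderOf (QuotientGroup.mk cs : ↥(cC u) ⧸ zU u) = 3 := by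
    have hd : orderOf (QuotientGroup.mk cs : ↥(cC u) ⧸ zU u) ∣ 3 := hoc ▸ orderOf_map_dvd (QuotientGroup.mk' _) cs
    rcases Nat.prime_three.eq_one_or_self_of_dvd _ hd with e | e
    · rw [orderOf_eq_one_iff, QuotientGroup.eq_one_iff, mem_zU h] at e
      rcases e with e | e
      · exact absurd e h.c_ne_one
      · have := h.oc
        rw [show c = u from e, h.ou] at this
        omega
    · exact e
  refine ⟨Nat.prime_three, ho, le_antisymm ?_ ?_⟩
  · intro z hz
    obtain ⟨g, rfl⟩ := QuotientGroup.mk'_surjective (zU u) z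
    have h1 : (g * cs * g⁻¹ * cs⁻¹) ∈ zU u := by
      rw [← QuotientGroup.eq_one_iff]
      have hz' := Subgroup.mem_centralizer_singleton_iff.mp hz
      simp only [QuotientGroup.mk'_apply] at hz'
      simp only [QuotientGroup.mk_mul, QuotientGroup.mk_inv]
      rw [hz']
      group
    have hgc : (g : G) * c * (g : G)⁻¹ = c := by
      rcases (mem_zU h).mp h1 with e | e
      · exact mul_inv_eq_one.mp e
      · exfalso
        have e' : (g : G) * c * (g : G)⁻¹ = u * c := mul_inv_eq_iff_eq_mul.mp e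
        have h3 : ((g : G) * c * (g : G)⁻¹) ^ 3 = 1 := by rw [conj_pow, h.ccc]; group
        rw [e', (show Commute u c from h.comm).mul_pow, h.ccc, mul_one, pow_succ, pow_two, h.uu, one_mul] at h3
        exact h.u_ne_one h3
    obtain ⟨i, hi⟩ := h.cent g (mem_cC.mp g.2) (mul_inv_eq_iff_eq_mul.mp hgc)
    refine Subgroup.mem_zpowers_iff.mpr ⟨i, ?_⟩
    rw [zpow_natCast, ← QuotientGroup.mk_pow]
    refine (QuotientGroup.eq.mpr ?_)
    rw [mem_zU h]
    rcases hi with e | e
    · left; simp [cs, e]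
    · right
      simp only [Subgroup.coe_mul, Subgroup.coe_inv, SubgroupClass.coe_pow, cs, e]
      rw [← mul_assoc, ← ((show Commute u c from h.comm).pow_right i).inv_right.eq, mul_assoc, inv_mul_cancel, mul_one]
  · exact Subgroup.zpowers_le.mpr (Subgroup.mem_centralizer_singleton_iff.mpr rfl)

/-- Elements of order three of the centralizer are conjugate to `c` or its inverse. -/
theorem Six.three_conj (h : Six u c) {r : G} (hru : r * u = u * r) (hr : orderOf r = 3) :
    ∃ g ∈ cC u, r = g * c * g⁻¹ ∨ r = g * c⁻¹ * g⁻¹ := by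
  set rs : ↥(cC u) := ⟨r, mem_cC.mpr hru⟩ with hrs
  set q : ↥(cC u) ⧸ zU u := QuotientGroup.mk rs with hqdef
  set cs : ↥(cC u) := ⟨c, h.c_mem⟩ with hcs
  have hsc := h.sc_quot
  have hrs3 : orderOf rs = 3 := by rw [← Subgroup.orderOf_coe]; exact hr
  have hq : orderOf q = 3 := by
    have hd : orderOf q ∣ 3 := hrs3 ▸ orderOf_map_dvd (QuotientGroup.mk' _) rs
    rcases Nat.prime_three.eq_one_or_self_of_dvd _ hd with e | e
    · exfalso
      rw [orderOf_eq_one_iff, hqdef, QuotientGroup.eq_one_iff, mem_zU h] at e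
      rcases e with e | e <;> simp only [hrs] at e <;> subst e
      · rw [orderOf_one] at hr; omega
      · rw [h.ou] at hr; omega
    · exact e
  obtain ⟨g, hg⟩ := card_P_mem_conj hsc (H := Subgroup.zpowers q) (by rw [Nat.card_zpowers, hq])
  obtain ⟨y, hy, hyq⟩ := (hg.symm ▸ Subgroup.mem_zpowers q : q ∈ _)
  obtain ⟨g, rfl⟩ := QuotientGroup.mk'_surjective (zU u) g
  refine ⟨g, g.2, ?_⟩
  have key : ∀ d : G, ∀ hd : d ∈ cC u, d ^ 3 = 1 → q = QuotientGroup.mk (g * ⟨d, hd⟩ * g⁻¹) →
      r = (g : G) * d * (g : G)⁻¹ := by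
    intro d hd h3 e
    have e' : (g * ⟨d, hd⟩ * g⁻¹)⁻¹ * rs ∈ zU u := QuotientGroup.eq.mp (e.symm.trans hqdef)
    rcases (mem_zU h).mp e' with e' | e' <;>
      simp only [hrs, Subgroup.coe_mul, Subgroup.coe_inv] at e'
    · exact (inv_mul_eq_one.mp e').symm
    · exfalso
      have e2 : r = (g : G) * d * (g : G)⁻¹ * u := inv_mul_eq_iff_eq_mul.mp e'
      have hcm : Commute ((g : G) * d * (g : G)⁻¹) u := by
        have := (g * ⟨d, hd⟩ * g⁻¹).2
        exact mem_cC.mp this
      have h4 := congrArg (· ^ 3) e2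
      simp only [hcm.mul_pow, conj_pow, h3, mul_one, mul_inv_cancel, one_mul] at h4
      rw [show r ^ 3 = 1 from hr ▸ pow_orderOf_eq_one r, pow_succ, pow_two, h.uu, one_mul] at h4
      exact h.u_ne_one h4.symm
  rcases mem_zpowers_cases hsc hy with e | e | e
  · exfalso
    rw [e, map_one] at hyq
    rw [← hyq, orderOf_one] at hq
    omega
  · left
    refine key c h.c_mem h.ccc ?_
    rw [← hyq, e]; simp
  · right
    refine key c⁻¹ (inv_mem h.c_mem) (by rw [inv_pow, h.ccc, inv_one]) ?_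
    rw [← hyq, e]
    rfl

theorem Six.of_commute (h : Six u c) {i r : G} (hi : orderOf i = 2) (hr : orderOf r = 3)
    (hir : i * r = r * i) : Six i r := by
  obtain ⟨a, ha⟩ := isConj_iff.mp (h.one u i h.ou hi)
  have h' := h.conj a
  rw [ha] at h'
  obtain ⟨g, hg, e⟩ := h'.three_conj hir.symm hr
  have hgi : g * i * g⁻¹ = i := by rw [mem_cC.mp hg, mul_inv_cancel_right]
  rcases e with e | e <;> rw [e]
  · simpa [hgi] using h'.conj g
  · simpa [hgi] using h'.inv.conj g

/-- `O_{3'}` of the centralizer. -/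
abbrev cX (u : G) : Subgroup G := (core3 ↥(cC u)).map (cC u).subtype

/-- `O_2` of the centralizer. -/
abbrev cT (u : G) : Subgroup G := (Cfsg.pCore 2 ↥(cC u)).map (cC u).subtype

theorem mem_cX {u g : G} : g ∈ cX u ↔ ∃ hg : g ∈ cC u, (⟨g, hg⟩ : ↥(cC u)) ∈ core3 ↥(cC u) := by
  constructor
  · rintro ⟨x, hx, rfl⟩; exact ⟨x.2, hx⟩
  · rintro ⟨hg, hx⟩; exact ⟨_, hx, rfl⟩

theorem card_map_subtype {K : Subgroup G} (L : Subgroup ↥K) :
    Nat.card ↥(L.map K.subtype) = Nat.card L :=
  (Nat.card_congr (Subgroup.equivMapOfInjective L _ K.subtype_injective).toEquiv).symm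

theorem cX_le (u : G) : cX u ≤ cC u := Subgroup.map_subtype_le _

theorem map_normalized {K : Subgroup G} (L : Subgroup ↥K) [L.Normal] :
    K ≤ Subgroup.normalizer ((L.map K.subtype : Subgroup G) : Set G) := by
  intro g hg
  rw [Subgroup.mem_normalizer_iff]
  intro x
  constructor
  · rintro ⟨y, hy, rfl⟩
    exact ⟨⟨g, hg⟩ * y * ⟨g, hg⟩⁻¹, Subgroup.Normal.conj_mem inferInstance y hy _, rfl⟩
  · rintro ⟨y, hy, e⟩
    refine ⟨⟨g, hg⟩⁻¹ * y * (⟨g, hg⟩⁻¹)⁻¹, Subgroup.Normal.conj_mem inferInstance y hy _, ?_⟩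
    simp only [Subgroup.coe_subtype, Subgroup.coe_mul, Subgroup.coe_inv, inv_inv] at e ⊢
    rw [e]; group

theorem cX_normalized (u : G) : cC u ≤ Subgroup.normalizer (cX u : Set G) := map_normalized _

theorem cT_le_cC (u : G) : cT u ≤ cC u := Subgroup.map_subtype_le _

theorem cT_normalized (u : G) : cC u ≤ Subgroup.normalizer (cT u : Set G) := by
  haveI := Fitting.pCore_normal (G := ↥(cC u)) 2
  exact map_normalized _

theorem cT_isPGroup (u : G) : IsPGroup 2 (cT u) := (Fitting.pCore_isPGroup 2).map _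

theorem three_not_dvd_cX (u : G) : ¬ 3 ∣ Nat.card (cX u) := by
  rw [card_map_subtype]; exact not_three_dvd_core3

theorem not_three_dvd_two_group {P : Subgroup G} (hP : IsPGroup 2 P) : ¬ 3 ∣ Nat.card P := by
  obtain ⟨n, hn⟩ := IsPGroup.iff_card.mp hP
  intro h3
  have := Nat.prime_three.dvd_of_dvd_pow (hn ▸ h3)
  norm_num at this

theorem cT_le_cX (u : G) : cT u ≤ cX u := by
  refine Subgroup.map_mono (le_pPrimeCore (Fitting.pCore_normal 2) ?_)
  exact (Nat.prime_three.coprime_iff_not_dvd.mpr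
    (not_three_dvd_two_group (Fitting.pCore_isPGroup (G := ↥(cC u)) 2))).symm

theorem comap_core3 (h : Six u c) :
    (core3 (↥(cC u) ⧸ zU u)).comap (QuotientGroup.mk' (zU u)) = core3 ↥(cC u) := by
  set K := core3 (↥(cC u) ⧸ zU u)
  set π := QuotientGroup.mk' (zU u) with hπ
  apply le_antisymm
  · refine le_pPrimeCore (Subgroup.Normal.comap inferInstance π) ?_
    have h1 := Subgroup.index_comap_of_surjective K (QuotientGroup.mk'_surjective (zU u))
    have h2 := (K.comap π).card_mul_index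
    rw [h1] at h2
    have h3 := K.card_mul_index
    have h4 : Nat.card ↥(cC u) = Nat.card (↥(cC u) ⧸ zU u) * 2 := by
      rw [Subgroup.card_eq_card_quotient_mul_card_subgroup (zU u), card_zU h]
    rw [h4, ← h3] at h2
    have h5 : Nat.card (K.comap π) = Nat.card K * 2 := by
      have hpos : 0 < K.index := Nat.pos_of_ne_zero Subgroup.index_ne_zero_of_finite
      exact Nat.eq_of_mul_eq_mul_right hpos (by rw [h2]; ring)
    rw [h5]
    exact (pPrimeCore_coprime 3).mul_left (by norm_num)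
  · rw [← Subgroup.map_le_iff_le_comap]
    refine le_pPrimeCore (Subgroup.Normal.map inferInstance π (QuotientGroup.mk'_surjective (zU u))) ?_
    exact Nat.Coprime.coprime_dvd_left (Subgroup.card_map_dvd _ π) (pPrimeCore_coprime 3)

theorem index_core3 (h : Six u c) : (core3 ↥(cC u)).index = (core3 (↥(cC u) ⧸ zU u)).index := by
  rw [← comap_core3 h, Subgroup.index_comap_of_surjective _ (QuotientGroup.mk'_surjective (zU u))]

theorem u_mem_cX (h : Six u c) : u ∈ cX u := by
  refine mem_cX.mpr ⟨h.u_mem, ?_⟩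
  rw [← comap_core3 h, Subgroup.mem_comap, QuotientGroup.mk'_apply,
    (QuotientGroup.eq_one_iff _).mpr (Subgroup.mem_zpowers _)]
  exact one_mem _

theorem c_not_mem_cX (h : Six u c) : c ∉ cX u := fun hc =>
  three_not_dvd_cX u (h.oc ▸ Subgroup.orderOf_dvd_natCard _ hc)

theorem core3_nilpotent (h : Six u c) : Group.IsNilpotent (core3 ↥(cC u)) := by
  set π := QuotientGroup.mk' (zU u)
  let f : core3 ↥(cC u) →* core3 (↥(cC u) ⧸ zU u) :=
    (π.comp (core3 ↥(cC u)).subtype).codRestrict _ fun x => by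
      show (x : ↥(cC u)) ∈ (core3 (↥(cC u) ⧸ zU u)).comap π
      exact (comap_core3 h).ge x.2
  haveI : Group.IsNilpotent (core3 (↥(cC u) ⧸ zU u)) :=
    Inv.isNilpotent h.sc_quot ⟨by
      rw [Subgroup.normalizer_eq_top]; exact Subgroup.mem_top _, not_three_dvd_core3⟩
  refine Subgroup.isNilpotent_of_ker_le_center f (fun x hx => ?_)
  rw [Subgroup.mem_center_iff]
  intro y
  have hx' : (x : ↥(cC u)) ∈ zU u :=
    (QuotientGroup.eq_one_iff (N := zU u) _).mp (congrArg Subtype.val hx)
  exact Subtype.ext (Subgroup.mem_center_iff.mp (zU_le_center u hx') y)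

/-- Elements of `O_{3'}` of coprime orders commute. -/
theorem cX_commute (h : Six u c) {x y : G} (hx : x ∈ cX u) (hy : y ∈ cX u)
    (hco : (orderOf x).Coprime (orderOf y)) : x * y = y * x := by
  obtain ⟨a, ha, rfl⟩ := hx
  obtain ⟨b, hb, rfl⟩ := hy
  haveI := core3_nilpotent h
  simp only [Subgroup.coe_subtype, Subgroup.orderOf_coe] at hco
  have := Char.PiPart.commute_of_coprime (x := (⟨a, ha⟩ : core3 ↥(cC u))) (y := ⟨b, hb⟩)
    (by simpa only [Subgroup.orderOf_mk] using hco)
  exact congrArg (fun z : core3 ↥(cC u) => ((z : ↥(cC u)) : G)) this.eq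

end CfsgLib.OrderSix
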