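import Cfsg.Agent.Lib.OrderSix.LeafThreeD
import Cfsg.Agent.Lib.ZStar.Recognize
import Cfsg.Agent.S0201
import Cfsg.Agent.S0219

/-!
The small possibilities for `O_2` of the centralizer when the index over `O_{3'}` is three or six.
-/

set_option autoImplicit false
set_option linter.unusedVariables false
set_option linter.unusedSectionVars false
set_option linter.style.haveILetI false

namespace CfsgLib.OrderSix

open CfsgLib.SelfCent CfsgLib.SCThree
open scoped commutatorElement

universe v

variable {G : Type v} [Group G] [Finite G] {u c : G}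

theorem Six.even (h : Six u c) : Even (Nat.card G) :=
  even_iff_two_dvd.mpr (h.ou ▸ orderOf_dvd_natCard u)

/-- The group has no normal subgroup of odd order. -/
theorem Six.odd_normal (h : Six u c) (N : Subgroup G) (hN : N.Normal) (hodd : Odd (Nat.card N)) :
    N = ⊥ := by
  haveI := h.simple
  rcases hN.eq_bot_or_eq_top with e | e
  · exact e
  · exfalso
    rw [e, Subgroup.card_top] at hodd
    exact Nat.not_even_iff_odd.mpr hodd h.even

/-- A Sylow two-subgroup has more than one involution. -/
theorem Six.not_unique (h : Six u c) (S : Sylow 2 G)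
    (huniq : ∀ x y : ↥(S : Subgroup G), orderOf x = 2 → orderOf y = 2 → x = y) : False := by
  haveI := h.simple
  haveI := Fact.mk Nat.prime_two
  rcases ZStar.cyclic_or_quaternion S.isPGroup' huniq with hc | ⟨n, ⟨e⟩⟩
  · obtain ⟨H, hH⟩ := Cfsg.Agent.S0219.result h.even S hc
    haveI := Subgroup.normal_of_index_eq_two hH
    rcases (inferInstance : H.Normal).eq_bot_or_eq_top with e | e
    · rw [e, Subgroup.index_bot] at hH
      refine h.ncomm ?_
      haveI : IsCyclic G := isCyclic_of_prime_card (p := 2) hH
      exact IsCyclic.isMulCommutative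
    · rw [e, Subgroup.index_top] at hH; omega
  · rcases n with _ | n
    · haveI : IsCyclic (QuaternionGroup (2 ^ 0)) := QuaternionGroup.quaternionGroup_one_isCyclic
      haveI : IsCyclic ↥(S : Subgroup G) := isCyclic_of_surjective e.symm e.symm.surjective
      obtain ⟨H, hH⟩ := Cfsg.Agent.S0219.result h.even S inferInstance
      haveI := Subgroup.normal_of_index_eq_two hH
      rcases (inferInstance : H.Normal).eq_bot_or_eq_top with e' | e'
      · rw [e', Subgroup.index_bot] at hH
        refine h.ncomm ?_
        haveI : IsCyclic G := isCyclic_of_prime_card (p := 2) hH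
        exact IsCyclic.isMulCommutative
      · rw [e', Subgroup.index_top] at hH; omega
    · have hZ := Cfsg.Agent.S0201.result S n e h.odd_normal
      rcases (inferInstance : (Subgroup.center G).Normal).eq_bot_or_eq_top with e1 | e1
      · rw [e1, Subgroup.card_bot] at hZ; omega
      · refine h.ncomm ⟨⟨fun a b => ?_⟩⟩
        exact (Subgroup.mem_center_iff.mp (e1 ▸ Subgroup.mem_top b) a)

/-- An involution of the Sylow subgroup other than `u`. -/
theorem Six.exists_invol (h : Six u c) (S : Sylow 2 G) (hS : (S : Subgroup G) ≤ cC u) :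
    ∃ s ∈ (S : Subgroup G), orderOf s = 2 ∧ s ≠ u := by
  by_contra hc
  push Not at hc
  refine h.not_unique S fun x y hx hy => Subtype.ext ?_
  rw [← Subgroup.orderOf_coe] at hx hy
  rw [hc x x.2 hx, hc y y.2 hy]

/-- An involution of `O_2` commutes with its conjugates under `c`. -/
theorem Six.comm_cx (h : Six u c) {x : G} (hx : x ∈ cT u) (hxx : x * x = 1) :
    x * (c * x * c⁻¹) = c * x * c⁻¹ * x := by
  set x' := c * x * c⁻¹ with hx'
  set x'' := c * x' * c⁻¹ with hx''
  have hx'T : x' ∈ cT u := (Subgroup.mem_normalizer_iff.mp (cT_normalized u h.c_mem) x).mp hx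
  have hz := h.ident_U hx
  rw [← hx', ← hx''] at hz
  set z := x * x' * x'' with hzdef
  have e3 : x * x' = z * x''⁻¹ := by rw [hzdef]; group
  have hx'2 : x' * x' = 1 := by
    rw [hx', show c * x * c⁻¹ * (c * x * c⁻¹) = c * (x * x) * c⁻¹ by group, hxx]; group
  have hx''2 : x'' * x'' = 1 := by
    rw [hx'', show c * x' * c⁻¹ * (c * x' * c⁻¹) = c * (x' * x') * c⁻¹ by group, hx'2]; group
  have hz2 : z * z = 1 := by
    rcases (mem_U h).mp hz with e | e <;> rw [e] <;> simp [h.uu]
  have hzc : Commute z x''⁻¹ := by
    rcases (mem_U h).mp hz with e | e <;> rw [e]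
    · exact Commute.one_left _
    · exact ((show Commute x'' u from mem_cC.mp
        (mul_mem (mul_mem h.c_mem (cT_le_cC u hx'T)) (inv_mem h.c_mem))).symm).inv_right
  have h4 : x * x' * (x * x') = 1 := by
    rw [e3, hzc.symm.mul_mul_mul_comm, hz2, one_mul, ← mul_inv_rev, hx''2, inv_one]
  have e5 : x * x' = (x * x')⁻¹ := eq_inv_of_mul_eq_one_left h4
  rw [mul_inv_rev, inv_eq_of_mul_eq_one_left hxx, inv_eq_of_mul_eq_one_left hx'2] at e5
  exact e5

/-- A non-abelian `O_2` of order eight is a quaternion group. -/
theorem Six.sq_u (h : Six u c) (h8 : Nat.card (cT u) = 8) (hu : u ∈ cD u) {t : G} (ht : t ∈ cT u)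
    (htU : t ∉ Subgroup.zpowers u) : t * t = u := by
  haveI := Fact.mk Nat.prime_two
  have htb := card_tb h
  rw [h8] at htb
  have hab := h.three.comm_of_card (tb_isPGroup u) (by omega)
  have hsqU : t * t ∈ Subgroup.zpowers u := by
    rw [← tb_eq_one (u := u) (ha := mul_mem ht ht), ← tb_mul ht ht]
    by_contra hne
    set z := tb (u := u) t ht with hz
    have h4 : orderOf z = 4 := by
      have hd : orderOf z ∣ 2 ^ 2 := by
        have := orderOf_dvd_natCard z
        rw [show Nat.card (Tb u) = 4 by omega] at this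
        norm_num; exact this
      obtain ⟨k, hk, e⟩ := (Nat.dvd_prime_pow Nat.prime_two).mp hd
      interval_cases k
      · rw [pow_zero, orderOf_eq_one_iff] at e; rw [e, one_mul] at hne; exact absurd rfl hne
      · rw [pow_one, orderOf_two_iff] at e; exact absurd e.1 hne
      · simpa using e
    have htop : Subgroup.zpowers z = ⊤ :=
      Subgroup.eq_top_of_card_eq _ (by rw [Nat.card_zpowers, h4]; omega)
    obtain ⟨k, hk⟩ := Subgroup.mem_zpowers_iff.mp (htop ▸ Subgroup.mem_top (h.phi z) :
      h.phi z ∈ Subgroup.zpowers z)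
    refine hne (h.three.fpf _ ?_)
    have ho : orderOf (h.phi z) = 4 := by rw [MulEquiv.orderOf_eq, h4]
    rw [map_mul, ← hk, ← zpow_add]
    have hodd : k % 2 = 1 := by
      rcases Int.emod_two_eq_zero_or_one k with e | e
      · exfalso
        obtain ⟨j, rfl⟩ := Int.dvd_of_emod_eq_zero e
        have hsq : (z ^ (2 * j)) ^ 2 = 1 := by
          rw [← zpow_natCast, ← zpow_mul, show (2 * j) * ((2 : ℕ) : ℤ) = ((4 : ℕ) : ℤ) * j by push_cast; ring,
            zpow_mul, zpow_natCast, ← h4, pow_orderOf_eq_one, one_zpow]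
        rw [hk] at hsq
        have := orderOf_le_of_pow_eq_one (n := 2) (by norm_num) hsq
        omega
      · exact e
    calc z ^ (k + k) = z ^ (((4 : ℕ) : ℤ) * (k / 2) + ((2 : ℕ) : ℤ)) := by congr 1; push_cast; omega
      _ = z * z := by
        rw [zpow_add, zpow_mul, zpow_natCast, zpow_natCast, ← h4, pow_orderOf_eq_one, one_zpow, one_mul, pow_two]
  rcases (mem_U h).mp hsqU with e | e
  swap
  · exact e
  exfalso
  set t' := c * t * c⁻¹ with ht'
  have ht'T : t' ∈ cT u := (Subgroup.mem_normalizer_iff.mp (cT_normalized u h.c_mem) t).mp ht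
  have hcomm := h.comm_cx ht e
  have huc : ∀ a ∈ cT u, Commute a u := fun a ha => mem_cC.mp (cT_le_cC u ha)
  -- the element is central
  have hcent : ∀ (b b' : G), b ∈ cT u → b' ∈ cT u → Commute b b' → b ∉ Subgroup.zpowers u →
      b⁻¹ * b' ∉ Subgroup.zpowers u → b' ∉ Subgroup.zpowers u → ∀ a ∈ cT u, a * b = b * a := by
    intro b b' hb hb' hbb hbU hb1 hb'U
    set Z := cT u ⊓ Subgroup.centralizer ({b} : Set G)
    have hu' : u ∈ Z := Subgroup.mem_inf.mpr ⟨u_mem_cT h,
      Subgroup.mem_centralizer_singleton_iff.mpr (huc b hb).eq.symm⟩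
    have h3 : 3 ≤ ((Subgroup.zpowers u).relIndex Z) := by
      let f : Fin 3 → (↥Z ⧸ (Subgroup.zpowers u).subgroupOf Z) :=
        ![QuotientGroup.mk ⟨1, one_mem Z⟩,
          QuotientGroup.mk ⟨b, Subgroup.mem_inf.mpr ⟨hb, Subgroup.mem_centralizer_singleton_iff.mpr rfl⟩⟩,
          QuotientGroup.mk ⟨b', Subgroup.mem_inf.mpr ⟨hb', Subgroup.mem_centralizer_singleton_iff.mpr hbb.eq.symm⟩⟩]
      have hba : b'⁻¹ * b ∉ Subgroup.zpowers u := fun hh => hb1 (by simpa using inv_mem hh)
      have hf : Function.Injective f := by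
        intro i j hij
        fin_cases i <;> fin_cases j <;>
          simp only [f, Fin.zero_eta, Fin.mk_one, Fin.reduceFinMk, Matrix.cons_val_zero, Matrix.cons_val_one,
            Matrix.cons_val, Fin.isValue] at hij ⊢ <;>
          first
            | rfl
            | (rw [QuotientGroup.eq, Subgroup.mem_subgroupOf] at hij
               simp only [Subgroup.coe_mul, Subgroup.coe_inv, inv_one, one_mul, mul_one, inv_mem_iff] at hij
               contradiction)
      have := Nat.card_le_card_of_injective f hf
      simpa [Subgroup.relIndex, Subgroup.index] using this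
    have hc := card_relIndex (Subgroup.zpowers_le.mpr hu')
    rw [card_U h] at hc
    have hle : Z ≤ cT u := inf_le_left
    have hd := Subgroup.card_dvd_of_le hle
    rw [h8] at hd
    have hZ : Z = cT u := by
      refine Subgroup.eq_of_le_of_card_ge hle ?_
      have := Nat.le_of_dvd (by norm_num) hd
      rw [h8]
      generalize Nat.card ↥Z = n at hc hd this
      interval_cases n <;> omega
    intro a ha
    exact Subgroup.mem_centralizer_singleton_iff.mp (Subgroup.mem_inf.mp (hZ.ge ha)).2
  have hne : t⁻¹ * t' ∉ Subgroup.zpowers u := fun hh =>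
    htU (fix_mod h (U_le_cT h) (Subgroup.mem_zpowers u) (U_normalized u h.c_mem) ht hh)
  have ht'U : t' ∉ Subgroup.zpowers u := fun hh =>
    htU ((Subgroup.mem_normalizer_iff.mp (U_normalized u h.c_mem) t).mpr hh)
  have h1 := hcent t t' ht ht'T hcomm htU hne ht'U
  have h2 := hcent t' t ht'T ht hcomm.symm ht'U (fun hh => hne (by simpa using inv_mem hh)) htU
  -- so the group is abelian
  have hab : ∀ a ∈ cT u, ∀ b ∈ cT u, a * b = b * a := by
    intro a ha b hb
    set Z := cT u ⊓ Subgroup.centralizer ({a} : Set G)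
    have hgen : Subgroup.closure ({u, t, t'} : Set G) ≤ Z := by
      rw [Subgroup.closure_le]
      rintro w (rfl | rfl | rfl)
      · exact Subgroup.mem_inf.mpr ⟨u_mem_cT h, Subgroup.mem_centralizer_singleton_iff.mpr (huc a ha).eq.symm⟩
      · exact Subgroup.mem_inf.mpr ⟨ht, Subgroup.mem_centralizer_singleton_iff.mpr (h1 a ha).symm⟩
      · exact Subgroup.mem_inf.mpr ⟨ht'T, Subgroup.mem_centralizer_singleton_iff.mpr (h2 a ha).symm⟩
    have h3 : (Subgroup.closure ({u, t, t'} : Set G)) = cT u := by
      set W := Subgroup.closure ({u, t, t'} : Set G)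
      have hu' : Subgroup.zpowers u ≤ W := Subgroup.zpowers_le.mpr (Subgroup.subset_closure (by simp))
      have hle : W ≤ cT u := hgen.trans inf_le_left
      refine Subgroup.eq_of_le_of_card_ge hle ?_
      have hc := card_relIndex hu'
      rw [card_U h] at hc
      have h3 : 3 ≤ (Subgroup.zpowers u).relIndex W := by
        let f : Fin 3 → (↥W ⧸ (Subgroup.zpowers u).subgroupOf W) :=
          ![QuotientGroup.mk ⟨1, one_mem W⟩, QuotientGroup.mk ⟨t, Subgroup.subset_closure (by simp)⟩,
            QuotientGroup.mk ⟨t', Subgroup.subset_closure (by simp)⟩]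
        have hba : t'⁻¹ * t ∉ Subgroup.zpowers u := fun hh => hne (by simpa using inv_mem hh)
        have hf : Function.Injective f := by
          intro i j hij
          fin_cases i <;> fin_cases j <;>
            simp only [f, Fin.zero_eta, Fin.mk_one, Fin.reduceFinMk, Matrix.cons_val_zero, Matrix.cons_val_one,
              Matrix.cons_val, Fin.isValue] at hij ⊢ <;>
            first
              | rfl
              | (rw [QuotientGroup.eq, Subgroup.mem_subgroupOf] at hij
                 simp only [Subgroup.coe_mul, Subgroup.coe_inv, inv_one, one_mul, mul_one, inv_mem_iff] at hij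
                 contradiction)
        have := Nat.card_le_card_of_injective f hf
        simpa [Subgroup.relIndex, Subgroup.index] using this
      have hd := Subgroup.card_dvd_of_le hle
      rw [h8] at hd ⊢
      have := Nat.le_of_dvd (by norm_num) hd
      generalize Nat.card ↥W = n at hc hd this
      interval_cases n <;> omega
    exact (Subgroup.mem_centralizer_singleton_iff.mp (Subgroup.mem_inf.mp (hgen (h3 ▸ hb))).2).symm
  have : cD u = ⊥ := by
    rw [eq_bot_iff, Subgroup.commutator_le]
    intro a ha b hb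
    rw [Subgroup.mem_bot, commutatorElement_eq_one_iff_mul_comm]
    exact hab a ha b hb
  rw [this, Subgroup.mem_bot] at hu
  exact h.u_ne_one hu

/-- `O_2` has order eight when it is non-trivially large. -/
theorem Six.card_eight (h : Six u c) (hl : Low u) (hu : u ∈ cD u) : Nat.card (cT u) = 8 := by
  haveI := Fact.mk Nat.prime_two
  have h32 := h.card_cT_lt hl hu
  have htb := card_tb h
  have hmod := card_tb_mod h
  obtain ⟨n, hn⟩ := IsPGroup.iff_card.mp (cT_isPGroup u)
  have hn5 : n < 5 := (Nat.pow_lt_pow_iff_right one_lt_two).mp (hn ▸ h32)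
  rw [hn] at htb
  have h2 : Nat.card (cT u) ≠ 2 := by
    intro h2
    have e : cT u = Subgroup.zpowers u :=
      (Subgroup.eq_of_le_of_card_ge (U_le_cT h) (by rw [h2, card_U h])).symm
    have hbot : cD u = ⊥ := by
      rw [eq_bot_iff, Subgroup.commutator_le]
      intro a ha b hb
      rw [Subgroup.mem_bot, commutatorElement_eq_one_iff_mul_comm]
      rw [e] at hb
      rcases (mem_U h).mp hb with rfl | rfl
      · simp
      · exact mem_cC.mp (cT_le_cC _ ha)
    rw [hbot, Subgroup.mem_bot] at hu
    exact h.u_ne_one hu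
  rw [hn] at h2
  rw [hn]
  interval_cases n <;> omega

/-- In index three `O_2` is abelian. -/
theorem Six.index_three_comm (h : Six u c) (h3 : idx u = 3) :
    ∀ a ∈ cT u, ∀ b ∈ cT u, a * b = b * a := by
  by_contra hne
  push Not at hne
  have hl : Low u := Or.inl h3
  have hu := u_mem_cD h hl (Or.inl ⟨h3, hne⟩)
  have h8 := h.card_eight hl hu
  obtain ⟨S, -, hS⟩ := exists_sylow_cC h (IsPGroup.of_bot (p := 2)) bot_le
  have e : (S : Subgroup G) = cT u := by
    rcases sylow_index h hl S hS with ⟨-, e⟩ | ⟨e6, -⟩
    · exact e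
    · omega
  obtain ⟨s, hs, hs2, hsu⟩ := h.exists_invol S hS
  have hsU : s ∉ Subgroup.zpowers u := fun hh => by
    rcases (mem_U h).mp hh with e1 | e1
    · exact (orderOf_two_iff.mp hs2).2 e1
    · exact hsu e1
  have := h.sq_u h8 hu (e ▸ hs) hsU
  rw [(orderOf_two_iff.mp hs2).1] at this
  exact h.u_ne_one this.symm

end CfsgLib.OrderSix
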