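import Cfsg.Agent.Lib.OrderSix.Normal

/-!
Large `O_2`: the only central involution of a Sylow subgroup of the centralizer is the involution itself.
-/

set_option autoImplicit false
set_option linter.unusedVariables false
set_option linter.unusedSectionVars false
set_option linter.style.haveILetI false

namespace CfsgLib.OrderSix

open CfsgLib.SelfCent CfsgLib.SCThree
open scoped commutatorElement

universe v

variable {G : Type v} [Group G] [Finite G] {u c : G}

/-- The standing hypothesis for a large `O_2`. -/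
structure Good (u c : G) : Prop where
  six : Six u c
  low : Low u
  der : u ∈ cD u
  big : 32 ≤ Nat.card (cT u)

theorem Good.conj (h : Good u c) (g : G) : Good (g * u * g⁻¹) (g * c * g⁻¹) := by
  refine ⟨h.six.conj g, h.low.conj g, ?_, by rw [cT_conj, card_cj]; exact h.big⟩
  show g * u * g⁻¹ ∈ ⁅cT (g * u * g⁻¹), cT (g * u * g⁻¹)⁆
  rw [cT_conj]
  show g * u * g⁻¹ ∈ ⁅Subgroup.map _ (cT u), Subgroup.map _ (cT u)⁆
  rw [← Subgroup.map_commutator]
  exact ⟨u, h.der, rfl⟩

theorem Good.inv (h : Good u c) : Good u c⁻¹ := ⟨h.six.inv, h.low, h.der, h.big⟩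

theorem Good.at_inv (h : Good u c) {i : G} (hi : orderOf i = 2) : ∃ d, Good i d := by
  obtain ⟨g, hg⟩ := isConj_iff.mp (h.six.one u i h.six.ou hi)
  exact ⟨g * c * g⁻¹, hg ▸ h.conj g⟩

theorem Good.card_eq (h : Good u c) {i : G} (hi : orderOf i = 2) :
    Nat.card (cT i) = Nat.card (cT u) := by
  obtain ⟨g, hg⟩ := isConj_iff.mp (h.six.one u i h.six.ou hi)
  rw [← hg, cT_conj, card_cj]

theorem Good.tb_big (h : Good u c) : 16 ≤ (Subgroup.zpowers u).relIndex (cT u) := by
  have h1 := ((Subgroup.zpowers u).subgroupOf (cT u)).card_mul_index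
  rw [Nat.card_congr (Subgroup.subgroupOfEquivOfLe (U_le_cT h.six)).toEquiv, card_U h.six] at h1
  have := h.big
  rw [Subgroup.relIndex]
  omega

/-- A reflection cannot fix more than a square root of `O_2` modulo the involution. -/
theorem Good.refl_bound (h : Good u c) {g : G} (hg : Refl u c g) {B : Subgroup G} (hB : B ≤ cT u)
    (hf : ∀ b ∈ B, g * b * g⁻¹ * b⁻¹ ∈ Subgroup.zpowers u) :
    16 ≤ B.relIndex (cT u) * B.relIndex (cT u) :=
  h.tb_big.trans (free_index h.six h.low (U_le_cT h.six) (Subgroup.mem_zpowers u) (U_normalized u) hB hg hf)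

theorem Good.refl_not_centralize (h : Good u c) {g : G} (hg : Refl u c g) {B : Subgroup G} (hB : B ≤ cT u)
    (hi : B.relIndex (cT u) ≤ 2) (hc : ∀ b ∈ B, g * b = b * g) : False := by
  have := h.refl_bound hg hB fun b hb => by
    rw [hc b hb, mul_inv_cancel_right, mul_inv_cancel]; exact one_mem _
  nlinarith

theorem Good.inj (h : Good u c) {j d : G} (h' : Good j d) (e : cT u = cT j) : u = j := by
  have h1 : cC j ≤ cC u :=
    (cT_normalized j).trans (by rw [← e]; exact normalizer_cT h.six h.low h.der)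
  have h2 : cC u ≤ cC j :=
    (cT_normalized u).trans (by rw [e]; exact normalizer_cT h'.six h'.low h'.der)
  have hud : u * d = d * u := (mem_cC.mp (h1 h'.six.c_mem)).symm
  have huj : u * j = j * u := mem_cC.mp (h2 h.six.u_mem)
  rcases h'.six.eq_of_comm_two huj hud (n := 1) (by rw [pow_one, pow_two, h.six.uu]) with e1 | e1
  · exact absurd e1 h.six.u_ne_one
  · exact e1

/-- The only involution centralizing a Sylow subgroup of the centralizer is `u`. -/
theorem Good.sylow_center (h : Good u c) (S : Sylow 2 G) (hS : (S : Subgroup G) ≤ cC u) {q : G}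
    (hq : orderOf q = 2) (hqS : ∀ s ∈ (S : Subgroup G), s * q = q * s) : q = u := by
  haveI := Fact.mk Nat.prime_two
  have hTS := cT_le_sylow h.six S hS
  have huS : u ∈ (S : Subgroup G) := hTS (u_mem_cT h.six)
  rcases sylow_index h.six h.low S hS with ⟨h3, e⟩ | ⟨h6, e⟩
  · obtain ⟨g, hg⟩ := isConj_iff.mp (h.six.one u q h.six.ou hq)
    obtain ⟨n, hn, e1⟩ := S.conj_eq_normalizer_conj_of_mem_centralizer u g⁻¹
      (fun s hs => mem_cC.mp (hS hs)) (by rw [inv_inv, hg]; exact fun s hs => hqS s hs)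
    rw [inv_inv, hg] at e1
    have : n ∈ cC u := normalizer_cT h.six h.low h.der (e ▸ hn)
    rw [e1, mul_assoc, ← mem_cC.mp this, inv_mul_cancel_left]
  by_contra hne
  obtain ⟨d, hd⟩ := h.at_inv hq
  have hSq : (S : Subgroup G) ≤ cC q := fun s hs => mem_cC.mpr (hqS s hs)
  have hTqS := cT_le_sylow hd.six S hSq
  have hidx : ∀ j d', Good j d' → (S : Subgroup G) ≤ cC j → (cT j).relIndex (S : Subgroup G) = 2 := by
    intro j d' hj hSj
    rcases sylow_index hj.six hj.low S hSj with ⟨h3, -⟩ | ⟨-, e'⟩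
    · rw [idx_eq h.six hj.six.ou] at h3; omega
    · exact e'
  -- index two subgroups
  have htwo : ∀ {A : Subgroup G}, A.relIndex (S : Subgroup G) = 2 → ∀ a ∈ (S : Subgroup G), a ∉ A →
      ∀ b ∈ (S : Subgroup G), b ∉ A → a⁻¹ * b ∈ A := by
    intro A hA a ha haA b hb hbA
    have hA' : (A.subgroupOf (S : Subgroup G)).index = 2 := hA
    have := (Subgroup.mul_mem_iff_of_index_two hA' (a := (⟨a, ha⟩ : ↥(S : Subgroup G))⁻¹) (b := ⟨b, hb⟩)).mpr
      (by simp [Subgroup.mem_subgroupOf, haA, hbA])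
    simpa [Subgroup.mem_subgroupOf] using this
  -- the conjugate of `u`
  have huq : u ∈ cT q := by
    by_contra hn
    refine hd.refl_not_centralize (two_group_refl hd.six hd.low S.isPGroup' hSq huS hn).2 le_rfl
      (by rw [Subgroup.relIndex_self]; norm_num) (fun b hb => (mem_cC.mp (hS (hTqS hb))).symm)
  set z := d * u * d⁻¹ with hz
  have hdN := Subgroup.mem_normalizer_iff.mp (cT_normalized q hd.six.c_mem)
  have hzT : z ∈ cT q := (hdN u).mp huq
  have hzc : ∀ b ∈ cT q, z * b = b * z := by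
    intro b hb
    have hb' : d⁻¹ * b * d ∈ cT q := (hdN _).mpr (by simpa [mul_assoc] using hb)
    have := (mem_cC.mp (hS (hTqS hb'))).symm
    rw [hz]
    calc d * u * d⁻¹ * b = d * (u * (d⁻¹ * b * d)) * d⁻¹ := by group
      _ = d * ((d⁻¹ * b * d) * u) * d⁻¹ := by rw [this]
      _ = _ := by group
  have hzmove : ∀ s ∈ (S : Subgroup G), s ∉ cT q → s * z ≠ z * s := by
    intro s hs hsT hcomm
    have hsC : s ∈ cC q := hSq hs
    set k := d⁻¹ * s * d with hk
    have hkC : k ∈ cC q := mul_mem (mul_mem (inv_mem hd.six.c_mem) hsC) hd.six.c_mem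
    have hkT : k ∉ cT q := fun hkT => hsT (by
      have := (hdN k).mp hkT
      rwa [hk, show d * (d⁻¹ * s * d) * d⁻¹ = s by group] at this)
    obtain ⟨n, hn⟩ := isPGroup_two_pow S.isPGroup' hs
    have hkn : k ^ 2 ^ n = 1 := by
      rw [hk, show d⁻¹ * s * d = d⁻¹ * s * (d⁻¹)⁻¹ by group, conj_pow, hn]; group
    obtain ⟨-, hR⟩ := (two_elt hd.six hd.low hkC hkn).resolve_left hkT
    have huU := free_fix hd.six hd.low (U_le_cT hd.six) (Subgroup.mem_zpowers q) (U_normalized q) hR huq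
      (by
        have : k * u = u * k := by
          rw [hk]
          calc d⁻¹ * s * d * u = d⁻¹ * (s * z) * d := by rw [hz]; group
            _ = d⁻¹ * (z * s) * d := by rw [hcomm]
            _ = _ := by rw [hz]; group
        rw [this, mul_inv_cancel_right, mul_inv_cancel]; exact one_mem _)
      (by
        rw [show d * k * d⁻¹ = s by rw [hk]; group, mem_cC.mp (hS hs), mul_inv_cancel_right, mul_inv_cancel]
        exact one_mem _)
    rcases (mem_U hd.six).mp huU with e1 | e1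
    · exact h.six.u_ne_one e1
    · exact hne e1.symm
  have hzz : z * z = 1 := by
    rw [hz, show d * u * d⁻¹ * (d * u * d⁻¹) = d * (u * u) * d⁻¹ by group, h.six.uu]; group
  -- the key step
  have step : ∀ j d', Good j d' → (S : Subgroup G) ≤ cC j → j ≠ q →
      ∀ s ∈ (S : Subgroup G), s ∉ cT q → ⁅z, s⁆ = j := by
    intro j d' hj hSj hjq s hs hsq
    have hTjS := cT_le_sylow hj.six S hSj
    have hzj : z ∈ cT j := by
      by_contra hn
      refine hj.refl_not_centralize (two_group_refl hj.six hj.low S.isPGroup' hSj (hTqS hzT) hn).2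
        (B := cT j ⊓ cT q) inf_le_left ?_ (fun b hb => hzc b hb.2)
      rw [Subgroup.inf_relIndex_left, ← hidx q d hd hSq]
      exact Subgroup.relIndex_le_of_le_right hTjS (Subgroup.index_ne_zero_of_finite)
    obtain ⟨m, hm, hmq⟩ : ∃ m ∈ cT j, m ∉ cT q := by
      by_contra hc
      push Not at hc
      refine hjq (hj.inj hd (Subgroup.eq_of_le_of_card_ge hc ?_))
      rw [h.card_eq hq, h.card_eq hj.six.ou]
    have hsame : ∀ a ∈ (S : Subgroup G), a ∉ cT q → ⁅z, a⁆ = ⁅z, m⁆ := by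
      intro a ha haq
      have h1 := htwo (hidx q d hd hSq) m (hTjS hm) hmq a ha haq
      set b := m⁻¹ * a with hb
      have e1 : a = m * b := by rw [hb]; group
      rw [e1, commutatorElement_def, commutatorElement_def]
      calc z * (m * b) * z⁻¹ * (m * b)⁻¹ = z * m * (b * z⁻¹ * b⁻¹) * m⁻¹ := by group
        _ = z * m * z⁻¹ * m⁻¹ := by
            rw [← ((show Commute z b from hzc b h1).inv_left).eq, mul_inv_cancel_right]
    rw [hsame s hs hsq]
    -- the commutator pairing of `z`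
    have hall : ∀ x : Tb j, ⁅tb z hzj, x⁆ = 1 ∨ ⁅tb z hzj, x⁆ = ⁅tb z hzj, tb m hm⁆ := by
      intro x
      obtain ⟨a, ha, rfl⟩ := tb_surj x
      rw [tb_comm, tb_comm]
      by_cases haq : a ∈ cT q
      · left
        rw [tb_eq_one, commutatorElement_eq_one_iff_mul_comm.mpr (hzc a haq)]
        exact one_mem _
      · right
        rw [tb_eq, hsame a (hTjS ha) haq, inv_mul_cancel]
        exact one_mem _
    have h0 := hj.six.three.small_image hall (tb m hm)
    rw [tb_comm, tb_eq_one, mem_U hj.six] at h0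
    rcases h0 with e1 | e1
    · exact absurd (commutatorElement_eq_one_iff_mul_comm.mp e1).symm (hzmove m (hTjS hm) hmq)
    · exact e1
  obtain ⟨s, hs, hsq⟩ : ∃ s ∈ (S : Subgroup G), s ∉ cT q := by
    by_contra hc
    push Not at hc
    have := hidx q d hd hSq
    rw [Subgroup.relIndex_eq_one.mpr hc] at this
    omega
  have e1 := step u c h hS (Ne.symm hne) s hs hsq
  have hqu : orderOf (q * u) = 2 := by
    rw [orderOf_two_iff]
    have hcomm : Commute q u := (hqS u huS).symm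
    refine ⟨?_, fun e2 => hne ?_⟩
    · rw [show q * u * (q * u) = q * q * (u * u) from hcomm.symm.mul_mul_mul_comm q u, h.six.uu,
        (orderOf_two_iff.mp hq).1, one_mul]
    · rw [eq_inv_of_mul_eq_one_left e2, h.six.u_inv]
  obtain ⟨d', hd'⟩ := h.at_inv hqu
  have e2 := step (q * u) d' hd' (fun a ha => mem_cC.mpr (by
    rw [← mul_assoc, hqS a ha, mul_assoc, mem_cC.mp (hS ha), mul_assoc])) (fun e3 => h.six.u_ne_one (mul_eq_left.mp e3))
    s hs hsq
  rw [e1] at e2
  exact (orderOf_two_iff.mp hq).2 (mul_eq_right.mp e2.symm)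

theorem cX_centralizes_center (h : Six u c) {z : G} (hz : z ∈ cT u) (hzc : ∀ t ∈ cT u, t * z = z * t)
    {x : G} (hx : x ∈ cX u) : x * z = z * x := by
  obtain ⟨τ, hτ, o, ho, rfl, hco⟩ := cX_split h hx
  rw [mul_assoc, hco z hz, ← mul_assoc, hzc τ hτ, mul_assoc]

/-- The only central involution of `O_2` is `u`. -/
theorem Good.omega_center (h : Good u c) {z : G} (hz : z ∈ cT u) (hzc : ∀ t ∈ cT u, t * z = z * t)
    (hz2 : orderOf z = 2) : z = u := by
  haveI := Fact.mk Nat.prime_two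
  have huT := u_mem_cT h.six
  have hcN := cT_normalized u h.six.c_mem
  let ν : G → G := fun a => a * (c * a * c⁻¹) * (c * (c * a * c⁻¹) * c⁻¹)
  have hmem : ∀ a ∈ cT u, c * a * c⁻¹ ∈ cT u := fun a ha => (Subgroup.mem_normalizer_iff.mp hcN a).mp ha
  have hcent : ∀ a ∈ cT u, (∀ t ∈ cT u, t * a = a * t) → ∀ t ∈ cT u, t * (c * a * c⁻¹) = c * a * c⁻¹ * t := by
    intro a ha hac t ht
    have ht' : c⁻¹ * t * c ∈ cT u := by
      simpa using (Subgroup.mem_normalizer_iff.mp (cT_normalized u (inv_mem h.six.c_mem)) t).mp ht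
    calc t * (c * a * c⁻¹) = c * (c⁻¹ * t * c * a) * c⁻¹ := by group
      _ = c * (a * (c⁻¹ * t * c)) * c⁻¹ := by rw [hac _ ht']
      _ = _ := by group
  let A : Subgroup G :=
    { carrier := {a | a ∈ cT u ∧ (∀ t ∈ cT u, t * a = a * t) ∧ a * a = 1}
      one_mem' := ⟨one_mem _, fun t _ => by simp, one_mul 1⟩
      mul_mem' := by
        rintro a b ⟨ha, hac, ha2⟩ ⟨hb, hbc, hb2⟩
        refine ⟨mul_mem ha hb, fun t ht => by rw [← mul_assoc, hac t ht, mul_assoc, hbc t ht, mul_assoc], ?_⟩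
        rw [show a * b * (a * b) = a * (b * a) * b by group, hac b hb, ← mul_assoc a, ha2, one_mul, hb2]
      inv_mem' := by
        rintro a ⟨ha, hac, ha2⟩
        rw [inv_eq_of_mul_eq_one_left ha2]
        exact ⟨ha, hac, ha2⟩ }
  have hAc : ∀ a ∈ A, c * a * c⁻¹ ∈ A := by
    rintro a ⟨ha, hac, ha2⟩
    refine ⟨hmem a ha, hcent a ha hac, ?_⟩
    rw [show c * a * c⁻¹ * (c * a * c⁻¹) = c * (a * a) * c⁻¹ by group, ha2]; group
  have hAcomm : ∀ a ∈ A, ∀ b ∈ A, a * b = b * a := fun a ha b hb => hb.2.1 a ha.1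
  have hccc : c * c * c = 1 := by rw [← h.six.ccc, pow_succ, pow_two]
  have hνA : ∀ a ∈ A, ν a = 1 ∨ ν a = u := by
    intro a ha
    have hm : ν a ∈ A := mul_mem (mul_mem ha (hAc a ha)) (hAc _ (hAc a ha))
    have hfix : ν a * c = c * ν a := by
      have e : c * ν a * c⁻¹ = ν a := by
        calc c * ν a * c⁻¹
            = (c * a * c⁻¹) * (c * (c * a * c⁻¹) * c⁻¹) * (c * c * c * a * (c * c * c)⁻¹) := by
              simp only [ν]; group
          _ = (c * a * c⁻¹) * (c * (c * a * c⁻¹) * c⁻¹) * a := by rw [hccc]; group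
          _ = ν a := (hAcomm a ha _ (mul_mem (hAc a ha) (hAc _ (hAc a ha)))).symm.trans (mul_assoc _ _ _).symm
      exact (mul_inv_eq_iff_eq_mul.mp e).symm
    obtain ⟨n, hn⟩ := isPGroup_two_pow (cT_isPGroup u) hm.1
    exact h.six.eq_of_comm_two (mem_cC.mp (cT_le_cC u hm.1)) hfix hn
  have hνmul : ∀ a ∈ A, ∀ b ∈ A, ν (a * b) = ν a * ν b := by
    intro a ha b hb
    simp only [ν]
    have ha1 := hAc a ha
    have hb1 := hAc b hb
    have ha2 := hAc _ ha1
    rw [show c * (a * b) * c⁻¹ = (c * a * c⁻¹) * (c * b * c⁻¹) by group,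
      show c * ((c * a * c⁻¹) * (c * b * c⁻¹)) * c⁻¹ =
        (c * (c * a * c⁻¹) * c⁻¹) * (c * (c * b * c⁻¹) * c⁻¹) by group]
    have hc1 : Commute b (c * a * c⁻¹) := hAcomm b hb _ ha1
    have hc2 : Commute (b * (c * b * c⁻¹)) (c * (c * a * c⁻¹) * c⁻¹) := hAcomm _ (mul_mem hb hb1) _ ha2
    calc a * b * ((c * a * c⁻¹) * (c * b * c⁻¹)) *
          ((c * (c * a * c⁻¹) * c⁻¹) * (c * (c * b * c⁻¹) * c⁻¹))
        = a * (c * a * c⁻¹) * (b * (c * b * c⁻¹)) *
          ((c * (c * a * c⁻¹) * c⁻¹) * (c * (c * b * c⁻¹) * c⁻¹)) := by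
          rw [hc1.mul_mul_mul_comm]
      _ = a * (c * a * c⁻¹) * (c * (c * a * c⁻¹) * c⁻¹) *
          (b * (c * b * c⁻¹) * (c * (c * b * c⁻¹) * c⁻¹)) := hc2.mul_mul_mul_comm _ _
  have huA : u ∈ A := ⟨huT, fun t ht => mem_cC.mp (cT_le_cC u ht), h.six.uu⟩
  have hcu : c * u * c⁻¹ = u := by rw [← h.six.comm, mul_inv_cancel_right]
  have hνu : ν u = u := by simp only [ν, hcu, h.six.uu, one_mul]
  have hzA : z ∈ A := ⟨hz, hzc, (orderOf_two_iff.mp hz2).1⟩
  by_contra hne
  -- an element of norm one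
  obtain ⟨w, hwA, hw1, hwν⟩ : ∃ w, w ∈ A ∧ w ≠ 1 ∧ ν w = 1 := by
    rcases hνA z hzA with e | e
    · exact ⟨z, hzA, (orderOf_two_iff.mp hz2).2, e⟩
    · refine ⟨z * u, mul_mem hzA huA, fun e1 => hne ?_, by rw [hνmul z hzA u huA, e, hνu, h.six.uu]⟩
      rw [eq_inv_of_mul_eq_one_left e1, h.six.u_inv]
  let E : Subgroup G :=
    { carrier := {a | a ∈ A ∧ ν a = 1}
      one_mem' := ⟨one_mem A, by simp [ν]⟩
      mul_mem' := by
        rintro a b ⟨ha, ha1⟩ ⟨hb, hb1⟩
        exact ⟨mul_mem ha hb, by rw [hνmul a ha b hb, ha1, hb1, one_mul]⟩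
      inv_mem' := by
        rintro a ⟨ha, ha1⟩
        rw [inv_eq_of_mul_eq_one_left ha.2.2]
        exact ⟨ha, ha1⟩ }
  obtain ⟨S, -, hS⟩ := exists_sylow_cC h.six (IsPGroup.of_bot (p := 2)) bot_le
  have hTS := cT_le_sylow h.six S hS
  have hES : E ≤ (S : Subgroup G) := fun a ha => hTS ha.1.1
  have hsA : ∀ s ∈ cC u, ∀ a ∈ A, s * a * s⁻¹ ∈ A := by
    rintro s hsC a ⟨hxT, hxc, hx2⟩
    have hsN := Subgroup.mem_normalizer_iff.mp (cT_normalized u hsC)
    refine ⟨(hsN _).mp hxT, fun t ht => ?_, ?_⟩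
    · have ht' : s⁻¹ * t * s ∈ cT u := (hsN _).mpr (by simpa [mul_assoc] using ht)
      calc t * (s * a * s⁻¹) = s * (s⁻¹ * t * s * a) * s⁻¹ := by group
        _ = s * (a * (s⁻¹ * t * s)) * s⁻¹ := by rw [hxc _ ht']
        _ = _ := by group
    · rw [show s * a * s⁻¹ * (s * a * s⁻¹) = s * (a * a) * s⁻¹ by group, hx2]; group
  have hXA : ∀ x ∈ cX u, ∀ a ∈ A, x * a * x⁻¹ = a := fun x hx a ha => by
    rw [cX_centralizes_center h.six ha.1 ha.2.1 hx, mul_inv_cancel_right]
  have hci : c⁻¹ = c * c := inv_eq_of_mul_eq_one_left hccc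
  have hconj : ∀ s ∈ cC u, ∀ a ∈ A, ν a = 1 → ν (s * a * s⁻¹) = 1 := by
    intro s hsC a ha haν
    rcases conj_c h.six h.low hsC with e | e
    · have key : ∀ a ∈ A, c * (s * a * s⁻¹) * c⁻¹ = s * (c * a * c⁻¹) * s⁻¹ := by
        intro a ha
        have := hXA _ (inv_mem e) _ (hsA s hsC _ (hAc a ha))
        calc c * (s * a * s⁻¹) * c⁻¹
            = (s * c * s⁻¹ * c⁻¹)⁻¹ * (s * (c * a * c⁻¹) * s⁻¹) * (s * c * s⁻¹ * c⁻¹)⁻¹⁻¹ := by group
          _ = _ := this
      simp only [ν] at haν ⊢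
      rw [key a ha, key _ (hAc a ha)]
      calc _ = s * (a * (c * a * c⁻¹) * (c * (c * a * c⁻¹) * c⁻¹)) * s⁻¹ := by group
        _ = 1 := by rw [haν]; group
    · have key : ∀ a ∈ A, c * (s * a * s⁻¹) * c⁻¹ = s * (c * (c * a * c⁻¹) * c⁻¹) * s⁻¹ := by
        intro a ha
        have := hXA _ e _ (hsA s hsC a ha)
        calc c * (s * a * s⁻¹) * c⁻¹
            = s * c⁻¹ * s⁻¹ * ((s * c * s⁻¹ * c) * (s * a * s⁻¹) * (s * c * s⁻¹ * c)⁻¹) *
              (s * c⁻¹ * s⁻¹)⁻¹ := by group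
          _ = s * c⁻¹ * s⁻¹ * (s * a * s⁻¹) * (s * c⁻¹ * s⁻¹)⁻¹ := by rw [this]
          _ = s * (c⁻¹ * a * c⁻¹⁻¹) * s⁻¹ := by group
          _ = s * ((c * c) * a * (c * c)⁻¹) * s⁻¹ := by rw [← hci]
          _ = _ := by group
      simp only [ν] at haν ⊢
      have h2 := hAc a ha
      rw [key a ha, key _ (hAc _ h2)]
      have e3 : c * (c * (c * (c * a * c⁻¹) * c⁻¹) * c⁻¹) * c⁻¹ = c * a * c⁻¹ := by
        calc _ = (c * c * c) * (c * a * c⁻¹) * (c * c * c)⁻¹ := by group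
          _ = _ := by rw [hccc]; group
      rw [e3]
      have h3 := hAcomm _ (hAc _ h2) _ h2
      calc _ = s * (a * ((c * (c * a * c⁻¹) * c⁻¹) * (c * a * c⁻¹))) * s⁻¹ := by group
        _ = s * (a * ((c * a * c⁻¹) * (c * (c * a * c⁻¹) * c⁻¹))) * s⁻¹ := by rw [h3]
        _ = 1 := by rw [← mul_assoc a, haν]; group
  haveI : (E.subgroupOf (S : Subgroup G)).Normal := by
    refine ⟨fun x hx g => ?_⟩
    rw [Subgroup.mem_subgroupOf] at hx ⊢
    simp only [Subgroup.coe_mul, Subgroup.coe_inv]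
    exact ⟨hsA g (hS g.2) _ hx.1, hconj g (hS g.2) _ hx.1 hx.2⟩
  have hne' : E.subgroupOf (S : Subgroup G) ≠ ⊥ := by
    intro hb
    have : (⟨w, hES ⟨hwA, hwν⟩⟩ : ↥(S : Subgroup G)) ∈ E.subgroupOf (S : Subgroup G) :=
      Subgroup.mem_subgroupOf.mpr ⟨hwA, hwν⟩
    rw [hb, Subgroup.mem_bot] at this
    exact hw1 (congrArg Subtype.val this)
  obtain ⟨⟨e, heE, hec⟩, he1⟩ :=
    (Subgroup.ne_bot_iff_exists_ne_one.mp (SCThree.normal_inf_center S.isPGroup' _ hne'))
  have heE' : (e : G) ∈ E := Subgroup.mem_subgroupOf.mp heE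
  have he2 : orderOf (e : G) = 2 :=
    orderOf_two_iff.mpr ⟨heE'.1.2.2, fun e1 => he1 (Subtype.ext (Subtype.ext e1))⟩
  have heu := h.sylow_center S hS he2 (fun s hs =>
    congrArg Subtype.val (Subgroup.mem_center_iff.mp hec ⟨s, hs⟩))
  have := heE'.2
  rw [heu, hνu] at this
  exact h.six.u_ne_one this

end CfsgLib.OrderSix
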