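import Cfsg.Agent.Lib.OrderSix.Cases

/-!
The odd part of `O_{3'}` of an involution centralizer.
-/

set_option autoImplicit false
set_option linter.unusedVariables false
set_option linter.unusedSectionVars false
set_option linter.style.haveILetI false

namespace CfsgLib.OrderSix

open CfsgLib.SelfCent CfsgLib.SCThree

universe v

variable {G : Type v} [Group G] [Finite G] {u c : G}

/-- The odd part of `O_{3'}` of the centralizer. -/
def cO (u : G) : Subgroup G := Subgroup.closure {g : G | g ∈ cX u ∧ Odd (orderOf g)}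

theorem cO_le_cX (u : G) : cO u ≤ cX u := (Subgroup.closure_le _).mpr fun _ hg => hg.1

theorem cO_le_cC (u : G) : cO u ≤ cC u := (cO_le_cX u).trans (cX_le u)

theorem mem_cO (h : Six u c) {g : G} : g ∈ cO u ↔ g ∈ cX u ∧ Odd (orderOf g) := by
  refine ⟨fun hg => ?_, fun hg => Subgroup.subset_closure hg⟩
  induction hg using Subgroup.closure_induction with
  | mem x hx => exact hx
  | one => exact ⟨one_mem _, by rw [orderOf_one]; exact odd_one⟩
  | mul x y _ _ hx hy =>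
    refine ⟨mul_mem hx.1 hy.1, ?_⟩
    haveI := core3_nilpotent h
    obtain ⟨hxC, hxK⟩ := mem_cX.mp hx.1
    obtain ⟨hyC, hyK⟩ := mem_cX.mp hy.1
    set x' : core3 ↥(cC u) := ⟨⟨x, hxC⟩, hxK⟩
    set y' : core3 ↥(cC u) := ⟨⟨y, hyC⟩, hyK⟩
    obtain ⟨k, m, hm, e⟩ := Nat.exists_eq_two_pow_mul_odd
      (Nat.card_pos (α := core3 ↥(cC u))).ne'
    have hco : m.Coprime (2 ^ k) := Nat.Coprime.pow_right k hm.coprime_two_right
    obtain ⟨a, -, ha, hna, -⟩ := Char.PiPart.exists_exponent hco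
    have hN : Nat.card (core3 ↥(cC u)) ∣ m * 2 ^ k := by rw [e, mul_comm]
    have hself : ∀ z : core3 ↥(cC u), Odd (orderOf z) → z ^ a = z := by
      intro z hz
      refine Char.PiPart.part_eq_self ha ?_
      rw [← orderOf_dvd_iff_pow_eq_one]
      exact (Nat.Coprime.pow_right k hz.coprime_two_right).dvd_of_dvd_mul_right
        ((orderOf_dvd_natCard z).trans hN)
    have ho : ∀ z : core3 ↥(cC u), orderOf ((z : ↥(cC u)) : G) = orderOf z := fun z => by
      rw [Subgroup.orderOf_coe, Subgroup.orderOf_coe]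
    have h1 := Char.PiPart.part_pow hN hna (x' * y')
    rw [Char.PiPart.part_hom hN ha hna hco, hself x' (ho x' ▸ hx.2), hself y' (ho y' ▸ hy.2)] at h1
    rw [show x * y = (((x' * y' : core3 ↥(cC u)) : ↥(cC u)) : G) from rfl, ho]
    exact hm.of_dvd_nat (orderOf_dvd_of_pow_eq_one h1)
  | inv x _ hx => exact ⟨inv_mem hx.1, by rw [orderOf_inv]; exact hx.2⟩

theorem cO_odd (h : Six u c) : Odd (Nat.card (cO u)) := by
  haveI := Fact.mk Nat.prime_two
  rw [← Nat.not_even_iff_odd, even_iff_two_dvd]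
  intro h2
  obtain ⟨z, hz⟩ := exists_prime_orderOf_dvd_card' 2 h2
  have := ((mem_cO h).mp z.2).2
  rw [Subgroup.orderOf_coe, hz] at this
  exact absurd this (by decide)

theorem cO_normalized (h : Six u c) : cC u ≤ Subgroup.normalizer (cO u : Set G) := by
  intro g hg
  have key : ∀ g ∈ cC u, ∀ x ∈ cO u, g * x * g⁻¹ ∈ cO u := fun g hg x hx => by
    rw [mem_cO h] at hx ⊢
    exact ⟨(Subgroup.mem_normalizer_iff.mp (cX_normalized u hg) x).mp hx.1,
      by rw [Transfer.orderOf_conj]; exact hx.2⟩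
  rw [Subgroup.mem_normalizer_iff]
  intro x
  refine ⟨key g hg x, fun hx => ?_⟩
  have := key g⁻¹ (inv_mem hg) _ hx
  simpa [mul_assoc] using this

theorem cO_commute_cT (h : Six u c) {o t : G} (ho : o ∈ cO u) (ht : t ∈ cT u) : o * t = t * o :=
  odd_commute_cT h ((mem_cO h).mp ho).1 ((mem_cO h).mp ho).2 ht

theorem cT_inf_cO (h : Six u c) {g : G} (hT : g ∈ cT u) (hO : g ∈ cO u) : g = 1 := by
  obtain ⟨n, hn⟩ := isPGroup_two_pow (cT_isPGroup u) hT
  exact orderOf_eq_one_iff.mp (Nat.eq_one_of_dvd_coprimes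
    (Nat.Coprime.pow_left n ((mem_cO h).mp hO).2.coprime_two_left) (orderOf_dvd_of_pow_eq_one hn) dvd_rfl)

theorem cX_eq_mul (h : Six u c) {g : G} (hg : g ∈ cX u) : ∃ τ ∈ cT u, ∃ o ∈ cO u, g = τ * o := by
  obtain ⟨a, m, hm, e⟩ := Nat.exists_eq_two_pow_mul_odd (orderOf_pos g).ne'
  obtain ⟨i, j, hij⟩ : IsCoprime (m : ℤ) ((2 : ℤ) ^ a) := by
    rw [Int.isCoprime_iff_nat_coprime, Int.natAbs_natCast, Int.natAbs_pow]
    exact Nat.Coprime.pow_right a hm.coprime_two_right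
  have hpow : g ^ ((m : ℤ) * (2 : ℤ) ^ a) = 1 := by
    rw [show ((m : ℤ) * (2 : ℤ) ^ a) = ((orderOf g : ℕ) : ℤ) by rw [e]; push_cast; ring, zpow_natCast,
      pow_orderOf_eq_one]
  have hτ : (g ^ (i * m)) ^ 2 ^ a = 1 := by
    rw [← zpow_natCast, ← zpow_mul]
    push_cast
    rw [mul_assoc, mul_comm i, zpow_mul, hpow, one_zpow]
  have ho : Odd (orderOf (g ^ (j * (2 : ℤ) ^ a))) := by
    refine hm.of_dvd_nat (orderOf_dvd_of_pow_eq_one ?_)
    rw [← zpow_natCast, ← zpow_mul, mul_assoc, mul_comm ((2 : ℤ) ^ a) (m : ℤ), mul_comm j, zpow_mul, hpow,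
      one_zpow]
  exact ⟨_, mem_cT h (zpow_mem hg _) hτ, _, (mem_cO h).mpr ⟨zpow_mem hg _, ho⟩, by
    rw [← zpow_add, hij, zpow_one]⟩

theorem card_cX (h : Six u c) : Nat.card (cX u) = Nat.card (cT u) * Nat.card (cO u) := by
  rw [← Nat.card_prod]
  refine (Nat.card_congr (Equiv.ofBijective
    (fun p : ↥(cT u) × ↥(cO u) =>
      (⟨(p.1 : G) * p.2, mul_mem (cT_le_cX u p.1.2) (cO_le_cX u p.2.2)⟩ : ↥(cX u))) ⟨?_, ?_⟩)).symm
  · rintro ⟨t, o⟩ ⟨t', o'⟩ e
    have e' : (t : G) * o = t' * o' := congrArg Subtype.val e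
    have e2 : (t' : G)⁻¹ * t = o' * (o : G)⁻¹ := by
      rw [eq_mul_inv_iff_mul_eq, mul_assoc, e', inv_mul_cancel_left]
    have h1 := cT_inf_cO h (mul_mem (inv_mem t'.2) t.2) (e2 ▸ mul_mem o'.2 (inv_mem o.2))
    have ht : t = t' := Subtype.ext (inv_mul_eq_one.mp h1).symm
    subst ht
    exact Prod.ext rfl (Subtype.ext (mul_left_cancel e'))
  · rintro ⟨g, hg⟩
    obtain ⟨τ, hτ, o, ho, e⟩ := cX_eq_mul h hg
    exact ⟨(⟨τ, hτ⟩, ⟨o, ho⟩), Subtype.ext e.symm⟩

theorem not_three_dvd_cO (h : Six u c) : ¬ 3 ∣ Nat.card (cO u) := fun h3 =>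
  three_not_dvd_cX u (h3.trans (Subgroup.card_dvd_of_le (cO_le_cX u)))

/-- `c` has no fixed points on the odd part. -/
theorem cO_fpf (h : Six u c) {o : G} (ho : o ∈ cO u) (hc : c * o = o * c) : o = 1 := by
  rcases h.eq_of_comm (mem_cC.mp (cO_le_cC u ho)) hc.symm (fun h3 =>
    not_three_dvd_cO h (h3.trans (Subgroup.orderOf_dvd_natCard _ ho))) with e | e
  · exact e
  · exact absurd ((mem_cO h).mp ho).2 (by rw [e, h.ou]; decide)

theorem cO_isNilpotent (h : Six u c) : Group.IsNilpotent (cO u) := by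
  haveI := core3_nilpotent h
  haveI : Group.IsNilpotent ↥(cX u) :=
    Group.nilpotent_of_mulEquiv (Subgroup.equivMapOfInjective (core3 ↥(cC u)) _ (cC u).subtype_injective)
  exact Group.nilpotent_of_mulEquiv (Subgroup.subgroupOfEquivOfLe (cO_le_cX u))

end CfsgLib.OrderSix
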