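import Cfsg.Agent.Lib.OrderSix.Basic

/-!
The cores of the centralizer of an involution, and its Sylow two-subgroups.
-/

set_option autoImplicit false
set_option linter.unusedVariables false
set_option linter.unusedSectionVars false
set_option linter.style.haveILetI false

namespace CfsgLib.OrderSix

open CfsgLib.SelfCent CfsgLib.SCThree

universe v

variable {G : Type v} [Group G] [Finite G] {u c : G}

theorem orderOf_two_iff {g : G} : orderOf g = 2 ↔ g * g = 1 ∧ g ≠ 1 := by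
  rw [orderOf_eq_prime_iff, pow_two]

theorem isPGroup_two_pow {P : Subgroup G} (hP : IsPGroup 2 P) {g : G} (hg : g ∈ P) :
    ∃ n : ℕ, g ^ 2 ^ n = 1 := by
  obtain ⟨n, hn⟩ := hP ⟨g, hg⟩
  exact ⟨n, by simpa using congrArg Subtype.val hn⟩

/-- A `2`-subgroup of `O_{3'}` lies in `O_2`. -/
theorem le_cT (h : Six u c) {P : Subgroup G} (hP : IsPGroup 2 P) (hle : P ≤ cX u) : P ≤ cT u := by
  haveI := core3_nilpotent h
  haveI := Fact.mk Nat.prime_two
  intro x hx
  obtain ⟨a, ha, rfl⟩ := hle hx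
  obtain ⟨n, hn⟩ := isPGroup_two_pow hP hx
  simp only [Subgroup.coe_subtype, ← SubgroupClass.coe_pow] at hn
  have han : (⟨a, ha⟩ : core3 ↥(cC u)) ^ 2 ^ n = 1 :=
    Subtype.ext (Subtype.ext (by simpa using hn))
  obtain ⟨S⟩ : Nonempty (Sylow 2 (core3 ↥(cC u))) := inferInstance
  haveI : (S : Subgroup (core3 ↥(cC u))).Characteristic :=
    S.characteristic_of_normal inferInstance
  have hS : (⟨a, ha⟩ : core3 ↥(cC u)) ∈ (S : Subgroup (core3 ↥(cC u))) := by
    have hp : IsPGroup 2 (Subgroup.zpowers (⟨a, ha⟩ : core3 ↥(cC u))) := by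
      obtain ⟨k, -, hk⟩ := (Nat.dvd_prime_pow Nat.prime_two).mp (orderOf_dvd_of_pow_eq_one han)
      exact IsPGroup.of_card (n := k) (by rw [Nat.card_zpowers, hk])
    obtain ⟨S', hS'⟩ := hp.exists_le_sylow
    haveI := (Sylow.unique_of_normal S inferInstance).instSubsingleton
    rw [Subsingleton.elim S S']
    exact hS' (Subgroup.mem_zpowers _)
  have hN : ((S : Subgroup (core3 ↥(cC u))).map (core3 ↥(cC u)).subtype) ≤ Cfsg.pCore 2 ↥(cC u) :=
    Fitting.le_pCore inferInstance (S.isPGroup'.map _)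
  exact ⟨a, hN ⟨_, hS, rfl⟩, rfl⟩

theorem mem_cT (h : Six u c) {g : G} (hg : g ∈ cX u) {n : ℕ} (hn : g ^ 2 ^ n = 1) : g ∈ cT u := by
  obtain ⟨k, -, hk⟩ := (Nat.dvd_prime_pow Nat.prime_two).mp (orderOf_dvd_of_pow_eq_one hn)
  exact le_cT h (IsPGroup.of_card (n := k) (by rw [Nat.card_zpowers, hk]))
    (Subgroup.zpowers_le.mpr hg) (Subgroup.mem_zpowers g)

theorem u_mem_cT (h : Six u c) : u ∈ cT u :=
  mem_cT h (u_mem_cX h) (n := 1) (by rw [pow_one, pow_two, h.uu])

theorem odd_commute_cT (h : Six u c) {g t : G} (hg : g ∈ cX u) (ho : Odd (orderOf g)) (ht : t ∈ cT u) :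
    g * t = t * g := by
  obtain ⟨n, hn⟩ := isPGroup_two_pow (cT_isPGroup u) ht
  exact cX_commute h hg (cT_le_cX u ht)
    ((Nat.Coprime.pow_right n ho.coprime_two_right).coprime_dvd_right (orderOf_dvd_of_pow_eq_one hn))

/-- Elements of `O_{3'}` act on `O_2` as elements of `O_2`. -/
theorem cX_split (h : Six u c) {g : G} (hg : g ∈ cX u) :
    ∃ τ ∈ cT u, ∃ o ∈ cX u, g = τ * o ∧ ∀ t ∈ cT u, o * t = t * o := by
  obtain ⟨a, m, hm, e⟩ := Nat.exists_eq_two_pow_mul_odd (orderOf_pos g).ne'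
  obtain ⟨i, j, hij⟩ : IsCoprime (m : ℤ) ((2 : ℤ) ^ a) := by
    rw [Int.isCoprime_iff_nat_coprime, Int.natAbs_natCast, Int.natAbs_pow]
    exact Nat.Coprime.pow_right a hm.coprime_two_right
  have hpow : g ^ ((m : ℤ) * (2 : ℤ) ^ a) = 1 := by
    rw [show ((m : ℤ) * (2 : ℤ) ^ a) = ((orderOf g : ℕ) : ℤ) by rw [e]; push_cast; ring, zpow_natCast,
      pow_orderOf_eq_one]
  have hτ : (g ^ (i * m)) ^ 2 ^ a = 1 := by
    rw [← zpow_natCast, ← zpow_mul]
    push_cast
    rw [mul_assoc, mul_comm i, zpow_mul, hpow, one_zpow]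
  have ho : Odd (orderOf (g ^ (j * (2 : ℤ) ^ a))) := by
    refine hm.of_dvd_nat (orderOf_dvd_of_pow_eq_one ?_)
    rw [← zpow_natCast, ← zpow_mul, mul_assoc, mul_comm ((2 : ℤ) ^ a) (m : ℤ), mul_comm j, zpow_mul, hpow,
      one_zpow]
  refine ⟨_, mem_cT h (zpow_mem hg _) hτ, _, zpow_mem hg _, ?_, fun t ht => odd_commute_cT h (zpow_mem hg _) ho ht⟩
  rw [← zpow_add, hij, zpow_one]

/-- The only fixed points of `c` on `O_2` modulo an invariant subgroup containing `u`. -/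
theorem fix_mod (h : Six u c) {N : Subgroup G} (hN : N ≤ cT u) (hu : u ∈ N)
    (hcN : c ∈ Subgroup.normalizer (N : Set G)) {m : G} (hm : m ∈ cT u)
    (hf : m⁻¹ * (c * m * c⁻¹) ∈ N) : m ∈ N := by
  obtain ⟨m', hm', hc, hN'⟩ := FixedGen.exists_fixed_coset (K := cT u) h.ccc
    (cT_normalized u h.c_mem) (by
      obtain ⟨n, hn⟩ := IsPGroup.iff_card.mp (cT_isPGroup u)
      rw [hn]; exact Nat.Coprime.pow_left n (by norm_num)) hN hcN hm hf
  obtain ⟨n, hn⟩ := isPGroup_two_pow (cT_isPGroup u) hm'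
  have h1 : m' ∈ N := by
    rcases h.eq_of_comm_two (mem_cC.mp (cT_le_cC u hm')) hc.symm hn with e | e <;> rw [e]
    · exact one_mem N
    · exact hu
  have := mul_mem h1 (inv_mem hN')
  simpa using this

/-! ### Equivariance -/

theorem le_cX {u : G} {K : Subgroup G} (hle : K ≤ cC u) (hn : cC u ≤ Subgroup.normalizer (K : Set G))
    (h3 : ¬ 3 ∣ Nat.card K) : K ≤ cX u := by
  have hK : K = (K.subgroupOf (cC u)).map (cC u).subtype := (Subgroup.map_subgroupOf_eq_of_le hle).symm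
  rw [hK]
  refine Subgroup.map_mono (le_pPrimeCore (Subgroup.normal_subgroupOf_iff_le_normalizer hle |>.mpr hn) ?_)
  rw [Nat.card_congr (Subgroup.subgroupOfEquivOfLe hle).toEquiv]
  exact (Nat.prime_three.coprime_iff_not_dvd.mpr h3).symm

theorem mem_cC_conj {u g a : G} : a ∈ cC (g * u * g⁻¹) ↔ g⁻¹ * a * g ∈ cC u := by
  rw [mem_cC, mem_cC]
  constructor
  · intro e
    calc g⁻¹ * a * g * u = g⁻¹ * (a * (g * u * g⁻¹)) * g := by group
      _ = g⁻¹ * (g * u * g⁻¹ * a) * g := by rw [e]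
      _ = _ := by group
  · intro e
    calc a * (g * u * g⁻¹) = g * (g⁻¹ * a * g * u) * g⁻¹ := by group
      _ = g * (u * (g⁻¹ * a * g)) * g⁻¹ := by rw [e]
      _ = _ := by group

theorem cC_conj (u g : G) : cC (g * u * g⁻¹) = cj g (cC u) := by
  ext a; rw [mem_cC_conj, mem_cj]

theorem normalized_cj {K H : Subgroup G} (g : G) (hn : H ≤ Subgroup.normalizer (K : Set G)) :
    cj g H ≤ Subgroup.normalizer (cj g K : Set G) := by
  intro a ha
  rw [mem_normalizer_cj]
  exact hn (mem_cj.mp ha)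

theorem cX_conj (u g : G) : cX (g * u * g⁻¹) = cj g (cX u) := by
  have key : ∀ u g : G, cj g (cX u) ≤ cX (g * u * g⁻¹) := fun u g => by
    refine le_cX ?_ ?_ (by rw [card_cj]; exact three_not_dvd_cX u)
    · rw [cC_conj]; exact Subgroup.map_mono (cX_le u)
    · rw [cC_conj]; exact normalized_cj g (cX_normalized u)
  refine le_antisymm ?_ (key u g)
  intro a ha
  have := key (g * u * g⁻¹) g⁻¹ (show g⁻¹ * a * g⁻¹⁻¹ ∈ cj g⁻¹ _ from mem_cj.mpr (by simpa [mul_assoc] using ha))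
  rw [mem_cj]
  simpa [mul_assoc] using this

theorem le_cT' {u : G} {K : Subgroup G} (hle : K ≤ cC u) (hn : cC u ≤ Subgroup.normalizer (K : Set G))
    (h2 : IsPGroup 2 K) : K ≤ cT u := by
  have hK : K = (K.subgroupOf (cC u)).map (cC u).subtype := (Subgroup.map_subgroupOf_eq_of_le hle).symm
  rw [hK]
  refine Subgroup.map_mono (Fitting.le_pCore (Subgroup.normal_subgroupOf_iff_le_normalizer hle |>.mpr hn) ?_)
  exact h2.comap_subtype

theorem cT_conj (u g : G) : cT (g * u * g⁻¹) = cj g (cT u) := by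
  have key : ∀ u g : G, cj g (cT u) ≤ cT (g * u * g⁻¹) := fun u g => by
    refine le_cT' ?_ ?_ ((cT_isPGroup u).map _)
    · rw [cC_conj]; exact Subgroup.map_mono (cT_le_cC u)
    · rw [cC_conj]; exact normalized_cj g (cT_normalized u)
  refine le_antisymm ?_ (key u g)
  intro a ha
  have := key (g * u * g⁻¹) g⁻¹ (show g⁻¹ * a * g⁻¹⁻¹ ∈ cj g⁻¹ _ from mem_cj.mpr (by simpa [mul_assoc] using ha))
  rw [mem_cj]
  simpa [mul_assoc] using this

/-! ### Sylow two-subgroups -/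

theorem exists_sylow_cC (h : Six u c) {P : Subgroup G} (hP : IsPGroup 2 P) (hle : P ≤ cC u) :
    ∃ S : Sylow 2 G, P ≤ (S : Subgroup G) ∧ (S : Subgroup G) ≤ cC u := by
  haveI := Fact.mk Nat.prime_two
  have h2 : 2 ∣ Nat.card G := h.ou ▸ orderOf_dvd_natCard u
  obtain ⟨S0⟩ : Nonempty (Sylow 2 G) := inferInstance
  have hpos : 2 ∣ Nat.card (S0 : Subgroup G) := S0.dvd_card_of_dvd_card h2
  haveI : Nontrivial (S0 : Subgroup G) := Finite.one_lt_card_iff_nontrivial.mp (by
    have := Nat.le_of_dvd Nat.card_pos hpos; omega)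
  haveI := S0.isPGroup'.center_nontrivial
  obtain ⟨k, hk⟩ := IsPGroup.iff_card.mp (S0.isPGroup'.to_subgroup (Subgroup.center (S0 : Subgroup G)))
  obtain ⟨z, hz⟩ := exists_prime_orderOf_dvd_card' (G := Subgroup.center (S0 : Subgroup G)) 2 (by
    rw [hk]
    refine dvd_pow_self 2 ?_
    rintro rfl
    have := Finite.one_lt_card (α := Subgroup.center (S0 : Subgroup G))
    simp [hk] at this)
  set z' : G := ((z : (S0 : Subgroup G)) : G) with hz'
  have hoz : orderOf z' = 2 := by rw [hz', Subgroup.orderOf_coe, Subgroup.orderOf_coe, hz]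
  obtain ⟨g, hg⟩ := isConj_iff.mp (h.one z' u hoz h.ou)
  have hle1 : cj g (S0 : Subgroup G) ≤ cC u := by
    rw [← hg, cC_conj]
    refine Subgroup.map_mono fun a ha => mem_cC.mpr ?_
    exact congrArg Subtype.val (Subgroup.mem_center_iff.mp z.2 ⟨a, ha⟩)
  obtain ⟨Q, hQ⟩ := (hP.comap_subtype (K := cC u)).exists_le_sylow
  have hQp : IsPGroup 2 ↥((Q : Subgroup ↥(cC u)).map (cC u).subtype) := Q.isPGroup'.map _
  have hcard : Nat.card (S0 : Subgroup G) ≤ Nat.card ↥((Q : Subgroup ↥(cC u)).map (cC u).subtype) := by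
    rw [card_map_subtype, ← card_cj g (S0 : Subgroup G)]
    rw [← Nat.card_congr (Subgroup.subgroupOfEquivOfLe hle1).toEquiv]
    obtain ⟨Q', hQ'⟩ := ((S0.isPGroup'.map (MulAut.conj g).toMonoidHom).comap_subtype (K := cC u)).exists_le_sylow
    refine (Subgroup.card_le_of_le (H := (cj g (S0 : Subgroup G)).subgroupOf (cC u)) hQ').trans ?_
    exact le_of_eq (by rw [Sylow.card_eq_multiplicity, Sylow.card_eq_multiplicity])
  obtain ⟨S, hS⟩ := hQp.exists_le_sylow
  have hSeq : (Q : Subgroup ↥(cC u)).map (cC u).subtype = (S : Subgroup G) := by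
    refine Subgroup.eq_of_le_of_card_ge hS ?_
    rw [S.card_eq_multiplicity, ← S0.card_eq_multiplicity]
    exact hcard
  refine ⟨S, ?_, hSeq ▸ Subgroup.map_subtype_le _⟩
  rw [← hSeq, ← Subgroup.map_subgroupOf_eq_of_le hle]
  exact Subgroup.map_mono hQ

theorem cT_le_sylow (h : Six u c) (S : Sylow 2 G) (hS : (S : Subgroup G) ≤ cC u) :
    cT u ≤ (S : Subgroup G) := by
  have hn : (S : Subgroup G) ≤ Subgroup.normalizer (cT u : Set G) := hS.trans (cT_normalized u)
  have := (S.isPGroup'.to_sup_of_normal_right' (cT_isPGroup u) hn)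
  exact sup_eq_left.mp (S.3 this le_sup_left)

/-! ### The index of `O_{3'}` -/

/-- The index of `O_{3'}` in the centralizer. -/
noncomputable def idx (u : G) : ℕ := (core3 ↥(cC u)).index

theorem card_cC (u : G) : Nat.card ↥(cC u) = Nat.card (cX u) * idx u := by
  rw [card_map_subtype, idx, Subgroup.card_mul_index]

theorem idx_conj (u g : G) : idx (g * u * g⁻¹) = idx u := by
  have h1 := card_cC (g * u * g⁻¹)
  rw [cC_conj, card_cj, cX_conj, card_cj, card_cC u] at h1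
  exact (Nat.eq_of_mul_eq_mul_left Nat.card_pos h1).symm

theorem idx_eq (h : Six u c) {i : G} (hi : orderOf i = 2) : idx i = idx u := by
  obtain ⟨g, hg⟩ := isConj_iff.mp (h.one u i h.ou hi)
  rw [← hg, idx_conj]

/-- The possible indices. -/
theorem idx_cases (h : Six u c) : idx u = 3 ∨ idx u = 6 ∨ idx u = 60 ∨ idx u = 168 := by
  rw [idx, index_core3 h]
  rcases shape_of_selfCent h.sc_quot with (e | e) | ⟨e, -⟩ | ⟨e, hc, -⟩
  · exact Or.inl e
  · exact Or.inr (Or.inl e)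
  · exact Or.inr (Or.inr (Or.inl e))
  · refine Or.inr (Or.inr (Or.inr ?_))
    rw [e, Subgroup.index_bot, hc]

end CfsgLib.OrderSix
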