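import Cfsg.Agent.Lib.OrderSix.Cases
import Cfsg.Agent.Lib.SmallOrder.OneSixEight

/-!
The index `168` does not occur.
-/

set_option autoImplicit false
set_option linter.unusedVariables false
set_option linter.unusedSectionVars false
set_option linter.style.haveILetI false

namespace CfsgLib.OrderSix

open CfsgLib.SelfCent CfsgLib.SCThree

universe v

variable {G : Type v} [Group G] [Finite G] {u c : G}

theorem conj_involutions_168 {L : Type v} [Group L] [Finite L] [IsSimpleGroup L] (h : Nat.card L = 168)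
    {a b : L} (ha : orderOf a = 2) (hb : orderOf b = 2) : ∃ g : L, g * a * g⁻¹ = b := by
  haveI := Fact.mk Nat.prime_two
  obtain ⟨S, rfl⟩ := (OneSixEight.two_element_split h).2.2.2 a ha
  obtain ⟨T, rfl⟩ := (OneSixEight.two_element_split h).2.2.2 b hb
  obtain ⟨g, hg⟩ := MulAction.exists_smul_eq L S T
  refine ⟨g, ?_⟩
  have hT : (T : Subgroup L) = (S : Subgroup L).map (MulAut.conj g).toMonoidHom := by
    rw [← hg]; rfl
  obtain ⟨hzS, hz2, hcent, -⟩ := OneSixEight.zOf_spec h S
  refine (OneSixEight.zOf_spec h T).2.2.2 _ (hT ▸ ⟨_, hzS, rfl⟩) (fun e => ?_) (fun t ht => ?_)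
  · rw [conj_eq_one_iff] at e
    rw [e, orderOf_one] at hz2
    omega
  · rw [hT] at ht
    obtain ⟨s, hs, rfl⟩ := ht
    have hc : s * OneSixEight.zOf h S = OneSixEight.zOf h S * s :=
      Subgroup.mem_centralizer_singleton_iff.mp (hcent.symm ▸ hs)
    show g * s * g⁻¹ * (g * OneSixEight.zOf h S * g⁻¹) = g * OneSixEight.zOf h S * g⁻¹ * (g * s * g⁻¹)
    calc _ = g * (s * OneSixEight.zOf h S) * g⁻¹ := by group
      _ = g * (OneSixEight.zOf h S * s) * g⁻¹ := by rw [hc]
      _ = _ := by group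

/-- **The index `168` does not occur.** -/
theorem Six.index_big_false (h : Six u c) (h168 : idx u = 168) : False := by
  haveI := Fact.mk Nat.prime_two
  have hi := index_core3 h
  rw [show (core3 ↥(cC u)).index = idx u from rfl, h168] at hi
  rcases shape_of_selfCent h.sc_quot with (e | e) | ⟨e, -⟩ | ⟨-, hcard, hs⟩
  · omega
  · omega
  · omega
  haveI := hs
  obtain ⟨S, -, hS⟩ := exists_sylow_cC h (IsPGroup.of_bot (p := 2)) bot_le
  obtain ⟨s, hsS, hs2, hsu⟩ := h.exists_invol S hS
  set us : ↥(cC u) := ⟨u, h.u_mem⟩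
  set ss : ↥(cC u) := ⟨s, hS hsS⟩
  have hss : ss * ss = 1 := Subtype.ext (orderOf_two_iff.mp hs2).1
  have hcen : ∀ x : ↥(cC u), x * us = us * x := fun x => Subtype.ext (mem_cC.mp x.2)
  have hus : us * us = 1 := Subtype.ext h.uu
  have hzU : ∀ x ∈ zU u, x = 1 ∨ x = us := fun x hx => by
    rcases (mem_zU h).mp hx with e | e
    · exact Or.inl (Subtype.ext e)
    · exact Or.inr (Subtype.ext e)
  have hsbar : orderOf (QuotientGroup.mk ss : ↥(cC u) ⧸ zU u) = 2 := by
    rw [orderOf_two_iff, ← QuotientGroup.mk_mul, hss]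
    refine ⟨rfl, fun e => ?_⟩
    rcases hzU _ ((QuotientGroup.eq_one_iff _).mp e) with e | e
    · exact (orderOf_two_iff.mp hs2).2 (congrArg Subtype.val e)
    · exact hsu (congrArg Subtype.val e)
  -- preimages of involutions are involutions
  have hpre : ∀ g : ↥(cC u), orderOf (QuotientGroup.mk g : ↥(cC u) ⧸ zU u) = 2 → g * g = 1 := by
    intro g hg
    obtain ⟨q, hq⟩ := conj_involutions_168 hcard hsbar hg
    obtain ⟨k, rfl⟩ := QuotientGroup.mk_surjective q
    rw [← QuotientGroup.mk_inv, ← QuotientGroup.mk_mul, ← QuotientGroup.mk_mul, QuotientGroup.eq] at hq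
    have hsq : k * ss * k⁻¹ * (k * ss * k⁻¹) = 1 := by
      rw [show k * ss * k⁻¹ * (k * ss * k⁻¹) = k * (ss * ss) * k⁻¹ by group, hss]; group
    rcases hzU _ hq with e | e
    · rw [← inv_mul_eq_one.mp e]; exact hsq
    · rw [inv_mul_eq_iff_eq_mul.mp e, (show Commute us (k * ss * k⁻¹) from (hcen _).symm).mul_mul_mul_comm,
        hsq, hus, one_mul]
  -- an element of order four of the quotient
  obtain ⟨T⟩ : Nonempty (Sylow 2 (↥(cC u) ⧸ zU u)) := inferInstance
  obtain ⟨r, -, hr, -⟩ := OneSixEight.exists_four hcard T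
  obtain ⟨v, rfl⟩ := QuotientGroup.mk_surjective r
  have hv2 : orderOf (QuotientGroup.mk (v * v) : ↥(cC u) ⧸ zU u) = 2 := by
    rw [QuotientGroup.mk_mul, ← pow_two, orderOf_pow' _ two_ne_zero, hr]
    rfl
  have ho : orderOf ((v : G) * v) = 2 := by
    refine orderOf_two_iff.mpr ⟨congrArg Subtype.val (hpre _ hv2), fun e => ?_⟩
    rw [show v * v = 1 from Subtype.ext e, QuotientGroup.mk_one, orderOf_one] at hv2
    omega
  obtain ⟨a, ha⟩ := isConj_iff.mp (h.one _ u ho h.ou)
  set w := a * v * a⁻¹ with hw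
  have hww : w * w = u := by rw [hw]; refine Eq.trans ?_ ha; group
  clear_value w
  have hwC : w ∈ cC u := mem_cC.mpr (by calc w * u = w * (w * w) := by rw [hww]
                                             _ = w * w * w := by rw [mul_assoc]
                                             _ = u * w := by rw [hww])
  set ws : ↥(cC u) := ⟨w, hwC⟩
  have hws : ws * ws = us := Subtype.ext hww
  have hne : ws * ws ≠ 1 := fun e => h.u_ne_one (hww ▸ congrArg Subtype.val e)
  refine hne (hpre ws (orderOf_two_iff.mpr ⟨?_, fun e => ?_⟩))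
  · rw [← QuotientGroup.mk_mul, hws, QuotientGroup.eq_one_iff]
    exact Subgroup.mem_zpowers us
  · rcases hzU _ ((QuotientGroup.eq_one_iff _).mp e) with e | e
    · exact hne (by rw [e, one_mul])
    · exact hne (by rw [e, hus])

end CfsgLib.OrderSix
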