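import Cfsg.Agent.Lib.OrderSix.SixtyLarge

/-!
Index sixty: `O_2` of the centralizer does not have order thirty-two.
-/

set_option autoImplicit false
set_option linter.unusedVariables false
set_option linter.unusedSectionVars false
set_option linter.style.haveILetI false

namespace CfsgLib.OrderSix

open CfsgLib.SelfCent CfsgLib.SCThree

universe v

variable {G : Type v} [Group G] [Finite G] {u c : G}

theorem comm_of_exp_two {E : Subgroup G} (hE : ∀ a ∈ E, a * a = 1) {a b : G} (ha : a ∈ E) (hb : b ∈ E) :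
    a * b = b * a := by
  calc a * b = (a * b)⁻¹ := eq_inv_of_mul_eq_one_left (hE _ (mul_mem ha hb))
    _ = b⁻¹ * a⁻¹ := mul_inv_rev _ _
    _ = b * a := by rw [inv_eq_of_mul_eq_one_right (hE a ha), inv_eq_of_mul_eq_one_right (hE b hb)]

/-- `O_2` of order thirty-two is elementary abelian. -/
theorem Six.elem32 (h : Six u c) (h60 : idx u = 60) (h32 : Nat.card (cT u) = 32) :
    ∀ t ∈ cT u, t * t = 1 := by
  intro t ht
  by_cases htU : t ∈ Subgroup.zpowers u
  · rcases (mem_U h).mp htU with e | e <;> rw [e]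
    · rw [one_mul]
    · exact h.uu
  obtain ⟨x, hxT, hx, hxu⟩ := h.exists_invol_cT h60 (by omega)
  have hxU : x ∉ Subgroup.zpowers u := fun hm => by
    rcases (mem_U h).mp hm with e | e
    · exact (orderOf_two_iff.mp hx).2 e
    · exact hxu e
  obtain ⟨g, hg, hU⟩ := h.transitive_sixty h60 h32 hxT ht hxU htU
  have hgxT := (Subgroup.mem_normalizer_iff.mp (cT_normalized u hg) x).mp hxT
  have hsq : g * x * g⁻¹ * (g * x * g⁻¹) = 1 := by
    rw [show g * x * g⁻¹ * (g * x * g⁻¹) = g * (x * x) * g⁻¹ by group, (orderOf_two_iff.mp hx).1]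
    group
  rcases (mem_U h).mp hU with e | e
  · rw [← inv_mul_eq_one.mp e]; exact hsq
  · rw [inv_mul_eq_iff_eq_mul.mp e]
    have hcm : Commute u (g * x * g⁻¹) := (mem_cC.mp (cT_le_cC u hgxT)).symm
    rw [hcm.mul_mul_mul_comm, hsq, h.uu, one_mul]

/-- An elementary subgroup of order thirty-two other than `O_2`: its meet with `O_2`, and the centralizers
of its outer elements. -/
theorem Six.second_spec (h : Six u c) (h60 : idx u = 60) (h32 : Nat.card (cT u) = 32) {E : Subgroup G}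
    (hE : E ≤ cC u) (hE2 : ∀ a ∈ E, a * a = 1) (hEc : Nat.card E = 32) (hne : E ≠ cT u) :
    Nat.card ↥(E ⊓ cT u) = 8 ∧
      ∀ e ∈ E, e ∉ cT u → ∀ t ∈ cT u, t * e = e * t → t ∈ E := by
  have hEp : IsPGroup 2 E := fun a => ⟨1, Subtype.ext (by rw [pow_one, pow_two]; exact hE2 a a.2)⟩
  have h8 := h.inter_card h60 hEp hE
  have hbound : ∀ e ∈ E, e ∉ cT u →
      Nat.card ↥(cT u ⊓ Subgroup.centralizer ({e} : Set G)) ≤ 8 := by
    intro e he heT
    have := h.fixed_bound h60 (hE he) heT (by rw [hE2 e he]; exact one_mem _)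
      (B := cT u ⊓ Subgroup.centralizer ({e} : Set G)) inf_le_left (fun b hb => by
        rw [← Subgroup.mem_centralizer_singleton_iff.mp (Subgroup.mem_inf.mp hb).2, mul_inv_cancel_right,
          mul_inv_cancel]
        exact one_mem _)
    rw [h32] at this
    nlinarith
  have hWle : ∀ e ∈ E, E ⊓ cT u ≤ cT u ⊓ Subgroup.centralizer ({e} : Set G) := fun e he a ha =>
    Subgroup.mem_inf.mpr ⟨(Subgroup.mem_inf.mp ha).2,
      Subgroup.mem_centralizer_singleton_iff.mpr (comm_of_exp_two hE2 (Subgroup.mem_inf.mp ha).1 he)⟩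
  obtain ⟨e0, he0, he0T⟩ : ∃ e ∈ E, e ∉ cT u := SetLike.not_le_iff_exists.mp fun hle =>
    hne (Subgroup.eq_of_le_of_card_ge hle (by rw [h32, hEc]))
  have hW8 : Nat.card ↥(E ⊓ cT u) = 8 := by
    have := (Subgroup.card_le_of_le (hWle e0 he0)).trans (hbound e0 he0 he0T)
    omega
  refine ⟨hW8, fun e he heT t ht hte => ?_⟩
  have heq : E ⊓ cT u = cT u ⊓ Subgroup.centralizer ({e} : Set G) :=
    Subgroup.eq_of_le_of_card_ge (hWle e he) (by rw [hW8]; exact hbound e he heT)
  have hm : t ∈ E ⊓ cT u :=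
    heq ▸ Subgroup.mem_inf.mpr ⟨ht, Subgroup.mem_centralizer_singleton_iff.mpr hte⟩
  exact (Subgroup.mem_inf.mp hm).1

/-- A two-subgroup containing `O_2` has at most one other elementary subgroup of order thirty-two. -/
theorem Six.second_unique (h : Six u c) (h60 : idx u = 60) (h32 : Nat.card (cT u) = 32) {E F : Subgroup G}
    (hE : E ≤ cC u) (hE2 : ∀ a ∈ E, a * a = 1) (hEc : Nat.card E = 32) (hEne : E ≠ cT u)
    (hF : F ≤ E ⊔ cT u) (hF2 : ∀ a ∈ F, a * a = 1) (hFc : Nat.card F = 32) (hFne : F ≠ cT u) : F = E := by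
  obtain ⟨-, hsE⟩ := h.second_spec h60 h32 hE hE2 hEc hEne
  have hsplit : ∀ a ∈ F, ∃ e ∈ E, ∃ t ∈ cT u, a = e * t := by
    intro a ha
    have := hF ha
    rw [← SetLike.mem_coe, Subgroup.coe_mul_of_left_le_normalizer_right E (cT u)
      (hE.trans (cT_normalized u))] at this
    obtain ⟨e, he, t, ht, rfl⟩ := Set.mem_mul.mp this
    exact ⟨e, he, t, ht, rfl⟩
  have hout : ∀ a ∈ F, a ∉ cT u → a ∈ E := by
    intro a ha haT
    obtain ⟨e, he, t, ht, rfl⟩ := hsplit a ha
    have heT : e ∉ cT u := fun hh => haT (mul_mem hh ht)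
    have h1 := hF2 _ ha
    have hte : t * e = e * t := by
      calc t * e = e⁻¹ * (e * t * (e * t)) * t⁻¹ := by group
        _ = e⁻¹ * t⁻¹ := by rw [h1, mul_one]
        _ = e * t := by
          rw [inv_eq_of_mul_eq_one_right (hE2 e he), inv_eq_of_mul_eq_one_right (h.elem32 h60 h32 t ht)]
    exact mul_mem he (hsE e he heT t ht hte)
  obtain ⟨a0, ha0, ha0T⟩ : ∃ a ∈ F, a ∉ cT u := SetLike.not_le_iff_exists.mp fun hle =>
    hFne (Subgroup.eq_of_le_of_card_ge hle (by rw [h32, hFc]))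
  refine Subgroup.eq_of_le_of_card_ge (fun a ha => ?_) (by rw [hEc, hFc])
  by_cases haT : a ∈ cT u
  · exact hsE a0 (hout a0 ha0 ha0T) ha0T a haT (comm_of_exp_two hF2 ha ha0)
  · exact hout a ha haT

/-- There is no other elementary subgroup of order thirty-two in the centralizer. -/
theorem Six.no_second (h : Six u c) (h60 : idx u = 60) (h32 : Nat.card (cT u) = 32) {E : Subgroup G}
    (hE : E ≤ cC u) (hE2 : ∀ a ∈ E, a * a = 1) (hEc : Nat.card E = 32) : E = cT u := by
  by_contra hne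
  haveI := Fact.mk Nat.prime_two
  obtain ⟨hW8, -⟩ := h.second_spec h60 h32 hE hE2 hEc hne
  set T := cT u
  set P := E ⊔ T with hP
  have hT2 := h.elem32 h60 h32
  have hEp : IsPGroup 2 E := fun a => ⟨1, Subtype.ext (by rw [pow_one, pow_two]; exact hE2 a a.2)⟩
  have hPp : IsPGroup 2 P := hEp.to_sup_of_normal_right' (cT_isPGroup u) (hE.trans (cT_normalized u))
  have hPcard : 128 ≤ Nat.card P := by
    have h1 : Nat.card E * Nat.card T ≤ Nat.card P * Nat.card ↥(E ⊓ T) := by
      rw [← Nat.card_prod, ← Nat.card_prod]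
      classical
      let r : ↥P → ↥E × ↥T := fun p =>
        if hp : ∃ e : ↥E, ∃ t : ↥T, (p : G) = e * t then (hp.choose, hp.choose_spec.choose) else (1, 1)
      refine Nat.card_le_card_of_injective (fun et : ↥E × ↥T =>
        ((⟨(et.1 : G) * et.2, mul_mem ((le_sup_left : E ≤ P) et.1.2) ((le_sup_right : T ≤ P) et.2.2)⟩ : ↥P),
         (⟨((r ⟨(et.1 : G) * et.2, mul_mem ((le_sup_left : E ≤ P) et.1.2) ((le_sup_right : T ≤ P) et.2.2)⟩).1 : G)⁻¹
            * et.1, ?_⟩ : ↥(E ⊓ T)))) ?_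
      · set p : ↥P := ⟨(et.1 : G) * et.2, mul_mem ((le_sup_left : E ≤ P) et.1.2) ((le_sup_right : T ≤ P) et.2.2)⟩
        refine Subgroup.mem_inf.mpr ⟨mul_mem (inv_mem (r p).1.2) et.1.2, ?_⟩
        have hp : ∃ e : ↥E, ∃ t : ↥T, (p : G) = e * t := ⟨et.1, et.2, rfl⟩
        have e1 : (et.1 : G) * et.2 = (hp.choose : G) * hp.choose_spec.choose := hp.choose_spec.choose_spec
        have e2 : ((r p).1 : G)⁻¹ * et.1 = (hp.choose_spec.choose : G) * (et.2 : G)⁻¹ := by
          simp only [r, dif_pos hp]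
          rw [eq_mul_inv_iff_mul_eq, mul_assoc, e1, inv_mul_cancel_left]
        rw [e2]
        exact mul_mem hp.choose_spec.choose.2 (inv_mem et.2.2)
      · intro a b e
        have e1 := congrArg (fun z : ↥P × ↥(E ⊓ T) => (z.1 : G)) e
        have e2 := congrArg (fun z : ↥P × ↥(E ⊓ T) => (z.2 : G)) e
        simp only at e1 e2
        simp only [e1] at e2
        have e3 := mul_left_cancel e2
        rw [e3] at e1
        exact Prod.ext (Subtype.ext e3) (Subtype.ext (mul_left_cancel e1))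
    rw [hEc, show Nat.card T = 32 from h32, hW8] at h1
    omega
  have hcent : ∀ w ∈ E ⊓ T, P ≤ cC w := fun w hw => sup_le
    (fun a ha => mem_cC.mpr (comm_of_exp_two hE2 ha (Subgroup.mem_inf.mp hw).1))
    (fun a ha => mem_cC.mpr (comm_of_exp_two hT2 ha (Subgroup.mem_inf.mp hw).2))
  have key : ∀ w : ↥(E ⊓ T), w ≠ 1 → cT (w : G) = T ∨ cT (w : G) = E := by
    intro w hw1
    have hw : orderOf (w : G) = 2 :=
      orderOf_two_iff.mpr ⟨hE2 _ (Subgroup.mem_inf.mp w.2).1, fun e => hw1 (Subtype.ext e)⟩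
    obtain ⟨d, hd, hidx, hcard⟩ := h.other hw
    obtain ⟨S, hPS, hS⟩ := exists_sylow_cC hd hPp (hcent w w.2)
    have hSP : P = (S : Subgroup G) := Subgroup.eq_of_le_of_card_ge hPS (by
      have := Nat.le_of_dvd (Nat.mul_pos four_pos Nat.card_pos) (h.sylow_dvd h60 S)
      rw [h32] at this
      omega)
    have hle : cT (w : G) ≤ P := hSP ▸ cT_le_sylow hd S hS
    by_cases e : cT (w : G) = T
    · exact Or.inl e
    · exact Or.inr (h.second_unique h60 h32 hE hE2 hEc hne hle
        (hd.elem32 (hidx.trans h60) (hcard.trans h32)) (hcard.trans h32) e)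
  classical
  let f : {w : ↥(E ⊓ T) // w ≠ 1} → Bool := fun w => decide (cT (w.1 : G) = T)
  have hf : Function.Injective f := by
    intro a b e
    simp only [f, decide_eq_decide] at e
    have he : cT (a.1 : G) = cT (b.1 : G) := by
      rcases key a.1 a.2 with ea | ea <;> rcases key b.1 b.2 with eb | eb
      · rw [ea, eb]
      · exact absurd ((e.mp ea).symm.trans eb) (Ne.symm hne)
      · exact absurd ((e.mpr eb).symm.trans ea) (Ne.symm hne)
      · rw [ea, eb]
    have hb : orderOf (b.1 : G) = 2 :=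
      orderOf_two_iff.mpr ⟨hE2 _ (Subgroup.mem_inf.mp b.1.2).1, fun e => b.2 (Subtype.ext e)⟩
    have ha : orderOf (a.1 : G) = 2 :=
      orderOf_two_iff.mpr ⟨hE2 _ (Subgroup.mem_inf.mp a.1.2).1, fun e => a.2 (Subtype.ext e)⟩
    obtain ⟨d, hd, hidx, -⟩ := h.other hb
    exact Subtype.ext (Subtype.ext (hd.eq_of_cT (hidx.trans h60) ha he))
  have h7 := Nat.card_le_card_of_injective f hf
  have hc : Nat.card {w : ↥(E ⊓ T) // w ≠ 1} = 7 := by
    letI := Fintype.ofFinite ↥(E ⊓ T)
    rw [Nat.card_eq_fintype_card, Fintype.card_subtype_compl, Fintype.card_subtype_eq,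
      ← Nat.card_eq_fintype_card, hW8]
  rw [hc, Nat.card_eq_fintype_card, Fintype.card_bool] at h7
  omega

/-- In index sixty `O_2` is the involution. -/
theorem Six.cT_sixty (h : Six u c) (h60 : idx u = 60) : cT u = Subgroup.zpowers u := by
  rcases h.card_cT_sixty h60 with e | e | e
  · exact (Subgroup.eq_of_le_of_card_ge (U_le_cT h) (by rw [card_U h, e])).symm
  · exfalso
    obtain ⟨x, hxT, hx, hxu⟩ := h.exists_invol_cT h60 (by omega)
    obtain ⟨d, hd, hidx, hcard⟩ := h.other hx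
    have := hd.no_second (hidx.trans h60) (hcard.trans e) (E := cT u)
      (fun a ha => mem_cC.mpr (comm_of_exp_two (h.elem32 h60 e) ha hxT)) (h.elem32 h60 e) e
    exact hxu (h.eq_of_cT h60 hx this.symm)
  · have := h.cT_not_large h60
    omega

end CfsgLib.OrderSix
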