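import Cfsg.Agent.Lib.OrderSix.Cases
import Cfsg.Agent.Lib.OrderSix.SixtySmall
import Cfsg.Agent.Lib.PerfectCompl.Cover
import Cfsg.Agent.S3239

/-!
Index sixty: the centralizer is `2 × A_5` and the group is the first Janko group.
-/

set_option autoImplicit false
set_option linter.unusedVariables false
set_option linter.unusedSectionVars false
set_option linter.style.haveILetI false

namespace CfsgLib.OrderSix

open CfsgLib.SelfCent CfsgLib.SCThree
open scoped MatrixGroups

universe v

variable {G : Type v} [Group G] [Finite G] {u c : G}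

theorem sl25_unique (x y : Matrix.SpecialLinearGroup (Fin 2) (ZMod 5)) (hx : x * x = 1) (hx1 : x ≠ 1)
    (hy : y * y = 1) (hy1 : y ≠ 1) : x = y := by
  have two : ∀ a : ZMod 5, a = -a → a = 0 := by decide
  have sq : ∀ a : ZMod 5, a * a = 1 → a = 1 ∨ a = -1 := by decide
  haveI : Fact (Nat.Prime 5) := ⟨by norm_num⟩
  have key : ∀ z : Matrix.SpecialLinearGroup (Fin 2) (ZMod 5), z * z = 1 → z ≠ 1 → z = -1 := by
    intro z hz hz1
    have hi : z = z⁻¹ := eq_inv_of_mul_eq_one_left hz
    have hm := congrArg (fun w : Matrix.SpecialLinearGroup (Fin 2) (ZMod 5) =>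
      (w : Matrix (Fin 2) (Fin 2) (ZMod 5))) hi
    simp only [Matrix.SpecialLinearGroup.coe_inv, Matrix.adjugate_fin_two] at hm
    have h00 := congrFun (congrFun hm 0) 0
    have h01 := congrFun (congrFun hm 0) 1
    have h10 := congrFun (congrFun hm 1) 0
    have hdet := z.2
    rw [Matrix.det_fin_two] at hdet
    simp at h00 h01 h10
    have e01 := two _ h01
    have e10 := two _ h10
    rw [e01, ← h00] at hdet
    simp at hdet
    rcases sq _ hdet with e | e
    · exfalso
      apply hz1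
      apply Matrix.SpecialLinearGroup.ext
      intro i j
      fin_cases i <;> fin_cases j <;> simp [e, ← h00, e01, e10]
    · apply Matrix.SpecialLinearGroup.ext
      intro i j
      fin_cases i <;> fin_cases j <;> simp [e, ← h00, e01, e10]
  rw [key x hx hx1, key y hy hy1]

theorem alt_five_commutator : commutator Sixty.A5 = ⊤ := by
  haveI := alternatingGroup.isSimpleGroup (α := Fin 5) (by simp)
  have hn : (commutator Sixty.A5).Normal := inferInstance
  refine hn.eq_bot_or_eq_top.resolve_left fun e => ?_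
  obtain ⟨a, b, hab⟩ : ∃ a b : Sixty.A5, a * b ≠ b * a := by decide +kernel
  apply hab
  rw [← commutatorElement_eq_one_iff_mul_comm, ← Subgroup.mem_bot, ← e, commutator_def]
  exact Subgroup.commutator_mem_commutator (Subgroup.mem_top _) (Subgroup.mem_top _)

/-- The centralizer of index sixty. -/
theorem Six.cC_sixty_iso (h : Six u c) (h60 : idx u = 60) :
    Nonempty (↥(cC u) ≃* Multiplicative (ZMod 2) × Sixty.A5) := by
  haveI := Fact.mk Nat.prime_two
  obtain ⟨π, hπ, hk⟩ := h.exists_proj h60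
  have hTU := h.cT_sixty h60
  have hk' : ∀ g : ↥(cC u), π g = 1 → (g : G) = 1 ∨ (g : G) = u := fun g hg => by
    have := (hk g).mp hg
    rw [hTU] at this
    exact (mem_U h).mp this
  have hcard : Nat.card ↥(cC u) = 120 := by
    rw [card_cC, h.cX_eq_cT h60, hTU, card_U h, h60]
  set D := commutator ↥(cC u)
  have hDπ : D.map π = ⊤ := by
    rw [show D = ⁅(⊤ : Subgroup ↥(cC u)), ⊤⁆ from commutator_def _, Subgroup.map_commutator,
      Subgroup.map_top_of_surjective π hπ, ← commutator_def, alt_five_commutator]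
  set us : ↥(cC u) := ⟨u, h.u_mem⟩
  have hus2 : orderOf us = 2 := by rw [← Subgroup.orderOf_coe]; exact h.ou
  have hDu : us ∉ D := by
    intro hu
    have hperf : D = ⊤ := by
      rw [eq_top_iff]
      intro g _
      obtain ⟨d, hd, hdg⟩ := (hDπ ▸ Subgroup.mem_top (π g) : π g ∈ D.map π)
      have h1 : π (d⁻¹ * g) = 1 := by rw [map_mul, map_inv, hdg, inv_mul_cancel]
      rcases hk' _ h1 with e | e
      · have : d⁻¹ * g = 1 := Subtype.ext e
        rw [← inv_mul_eq_one.mp this]; exact hd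
      · have : d⁻¹ * g = us := Subtype.ext e
        rw [show g = d * us by rw [← this]; group]
        exact mul_mem hd hu
    obtain ⟨φ⟩ := CfsgLib.PerfectCompl.iso_SL25 hperf hcard hus2
      (fun x => Subtype.ext (mem_cC.mp x.2).symm)
    obtain ⟨S, -, hS⟩ := exists_sylow_cC h (IsPGroup.of_bot (p := 2)) bot_le
    obtain ⟨s, hs, hs2, hsu⟩ := h.exists_invol S hS
    have e := sl25_unique (φ ⟨s, hS hs⟩) (φ us)
      (by rw [← map_mul, MulEquiv.map_eq_one_iff]; exact Subtype.ext (orderOf_two_iff.mp hs2).1)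
      (by rw [ne_eq, MulEquiv.map_eq_one_iff]; exact fun e => (orderOf_two_iff.mp hs2).2 (congrArg Subtype.val e))
      (by rw [← map_mul, MulEquiv.map_eq_one_iff]; exact Subtype.ext h.uu)
      (by rw [ne_eq, MulEquiv.map_eq_one_iff]; exact fun e => h.u_ne_one (congrArg Subtype.val e))
    exact hsu (congrArg Subtype.val (φ.injective e))
  have hinj : ∀ g ∈ D, π g = 1 → g = 1 := by
    intro g hg h1
    rcases hk' g h1 with e | e
    · exact Subtype.ext e
    · exact absurd ((show g = us from Subtype.ext e) ▸ hg) hDu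
  have hD60 : Nat.card D = 60 := by
    have e := Nat.card_congr (Equiv.ofBijective (π.comp D.subtype) ⟨by
        rw [injective_iff_map_eq_one]
        exact fun x hx => Subtype.ext (hinj x x.2 hx), fun a => by
        obtain ⟨d, hd, hda⟩ := (hDπ ▸ Subgroup.mem_top a : a ∈ D.map π)
        exact ⟨⟨d, hd⟩, hda⟩⟩)
    rw [e, Sixty.card_A5]
  haveI : D.Normal := inferInstance
  have hq : Nat.card (↥(cC u) ⧸ D) = 2 := by
    have := Subgroup.card_eq_card_quotient_mul_card_subgroup D
    rw [hcard, hD60] at this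
    omega
  haveI : IsCyclic (↥(cC u) ⧸ D) := isCyclic_of_prime_card (p := 2) hq
  let χ : ↥(cC u) →* Multiplicative (ZMod 2) :=
    ((zmodCyclicMulEquiv (G := ↥(cC u) ⧸ D) inferInstance).symm.toMonoidHom.comp (QuotientGroup.mk' D)) |> fun f =>
      (AddEquiv.toMultiplicative (ZMod.ringEquivCongr hq).toAddEquiv).toMonoidHom.comp f
  have hχ : ∀ g, χ g = 1 → g ∈ D := by
    intro g hg
    simp only [χ, MonoidHom.coe_comp, Function.comp_apply, MulEquiv.coe_toMonoidHom,
      MulEquiv.map_eq_one_iff, QuotientGroup.mk'_apply, QuotientGroup.eq_one_iff] at hg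
    exact hg
  refine ⟨MulEquiv.ofBijective (χ.prod π) ((Nat.bijective_iff_injective_and_card _).mpr ⟨?_, ?_⟩)⟩
  · rw [injective_iff_map_eq_one]
    intro g hg
    exact hinj g (hχ g (congrArg Prod.fst hg)) (congrArg Prod.snd hg)
  · rw [hcard, Nat.card_prod, Sixty.card_A5, Nat.card_eq_fintype_card, Fintype.card_multiplicative, ZMod.card]

/-- The involutions of the centralizer generate it. -/
theorem Six.closure_sixty (h : Six u c) (h60 : idx u = 60) :
    Subgroup.closure {x : G | ∃ g : G, x = g * u * g⁻¹ ∧ x * u = u * x} = cC u := by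
  obtain ⟨π, hπ, hk⟩ := h.exists_proj h60
  have hTU := h.cT_sixty h60
  set X := {x : G | ∃ g : G, x = g * u * g⁻¹ ∧ x * u = u * x}
  set W := Subgroup.closure X
  have hXC : W ≤ cC u := by
    rw [Subgroup.closure_le]
    rintro x ⟨g, -, hx⟩
    exact mem_cC.mpr hx
  refine le_antisymm hXC ?_
  have hconj : ∀ k ∈ cC u, ∀ w ∈ W, k * w * k⁻¹ ∈ W := by
    intro k hk' w hw
    have : W.map (MulAut.conj k).toMonoidHom ≤ W := by
      rw [MonoidHom.map_closure, Subgroup.closure_le]
      rintro _ ⟨x, ⟨g, rfl, hx⟩, rfl⟩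
      refine Subgroup.subset_closure ⟨k * g, ?_, ?_⟩
      · show k * (g * u * g⁻¹) * k⁻¹ = _
        group
      · show k * (g * u * g⁻¹) * k⁻¹ * u = u * (k * (g * u * g⁻¹) * k⁻¹)
        exact mem_cC.mp (mul_mem (mul_mem hk' (mem_cC.mpr hx)) (inv_mem hk'))
    exact this ⟨w, hw, rfl⟩
  have huW : u ∈ W := Subgroup.subset_closure ⟨1, by group, rfl⟩
  haveI : (W.subgroupOf (cC u)).Normal := ⟨fun x hx k => Subgroup.mem_subgroupOf.mpr
    (hconj k k.2 x (Subgroup.mem_subgroupOf.mp hx))⟩
  haveI := alternatingGroup.isSimpleGroup (α := Fin 5) (by simp)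
  obtain ⟨S, -, hS⟩ := exists_sylow_cC h (IsPGroup.of_bot (p := 2)) bot_le
  obtain ⟨s, hs, hs2, hsu⟩ := h.exists_invol S hS
  obtain ⟨g, hg⟩ := isConj_iff.mp (h.one u s h.ou hs2)
  have hsW : s ∈ W := Subgroup.subset_closure ⟨g, hg.symm, mem_cC.mp (hS hs)⟩
  have htop : (W.subgroupOf (cC u)).map π = ⊤ := by
    refine ((Subgroup.Normal.map inferInstance π hπ).eq_bot_or_eq_top).resolve_left fun e => ?_
    have h1 : π ⟨s, hS hs⟩ = 1 := Subgroup.mem_bot.mp (e ▸ ⟨⟨s, hS hs⟩, Subgroup.mem_subgroupOf.mpr hsW, rfl⟩)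
    have h2 := (hk _).mp h1
    rw [hTU] at h2
    rcases (mem_U h).mp h2 with e' | e'
    · exact (orderOf_two_iff.mp hs2).2 e'
    · exact hsu e'
  intro x hx
  obtain ⟨w, hw, hwx⟩ := (htop ▸ Subgroup.mem_top (π ⟨x, hx⟩) : π ⟨x, hx⟩ ∈ (W.subgroupOf (cC u)).map π)
  have h1 := (hk (w⁻¹ * ⟨x, hx⟩)).mp (by rw [map_mul, map_inv, hwx, inv_mul_cancel])
  rw [hTU] at h1
  have h2 : (w : G)⁻¹ * x ∈ W := Subgroup.zpowers_le.mpr huW h1
  simpa using mul_mem (Subgroup.mem_subgroupOf.mp hw) h2

/-- **Index sixty.** -/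
theorem Six.index_sixty (h : Six u c) (h60 : idx u = 60) : Cfsg.Spor.IsoJ1 G := by
  haveI := h.simple
  obtain ⟨S, hS', hS⟩ := exists_sylow_cC h (P := Subgroup.zpowers u)
    ((cT_isPGroup u).to_le (U_le_cT h)) (Subgroup.zpowers_le.mpr h.u_mem)
  obtain ⟨e⟩ := h.cC_sixty_iso h60
  have hJ := Cfsg.Agent.S3239.result u h.ou S (hS' (Subgroup.mem_zpowers u))
    (fun s hs => mem_cC.mp (hS hs)) ⟨(MulEquiv.subgroupCongr (h.closure_sixty h60)).trans e⟩
  have htop : Subgroup.normalClosure ({u} : Set G) = ⊤ := by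
    refine (Subgroup.normalClosure_normal.eq_bot_or_eq_top).resolve_left fun e => h.u_ne_one ?_
    exact Subgroup.mem_bot.mp (e ▸ Subgroup.subset_normalClosure rfl)
  obtain ⟨f⟩ := hJ
  exact ⟨(((MulEquiv.subgroupCongr htop).trans Subgroup.topEquiv).symm).trans f⟩

end CfsgLib.OrderSix
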