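import Cfsg.Agent.Lib.OrderSix.Cases
import Cfsg.Agent.Lib.SelfCentThree.SixIso
import Cfsg.Agent.S3189

/-!
Index three: the Sylow two-subgroup is elementary abelian of order eight, which is impossible.
-/

set_option autoImplicit false
set_option linter.unusedVariables false
set_option linter.unusedSectionVars false
set_option linter.style.haveILetI false

namespace CfsgLib.OrderSix

open CfsgLib.SelfCent CfsgLib.SCThree
open scoped commutatorElement

universe v

/-- An elementary group with a group of odd order transitive on the involutions, the stabilizer being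
of order three with two fixed points, has order at most eight. -/
theorem odd_transitive_small {V : Type v} [CommGroup V] [Finite V] (h2 : ∀ x : V, x * x = 1)
    {A : Subgroup (MulAut V)} (hodd : Odd (Nat.card A)) {u : V} (hu : u ≠ 1) {γ : MulAut V} (hγA : γ ∈ A)
    (hγu : γ u = u) (hγ3 : γ * γ * γ = 1) (hγ1 : γ ≠ 1) (hfix : ∀ x, γ x = x → x = 1 ∨ x = u)
    (hstab : ∀ l ∈ A, l u = u → l ∈ Subgroup.zpowers γ)
    (htrans : ∀ x, x ≠ 1 → ∃ l ∈ A, l u = x) : Nat.card V ≤ 8 := by
  classical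
  haveI := Fact.mk Nat.prime_three
  by_cases hbig : Nat.card V ≤ 2
  · omega
  have hγo : orderOf γ = 3 := orderOf_eq_prime (by rw [pow_succ, pow_two, hγ3]) hγ1
  set g : ↥A := ⟨γ, hγA⟩ with hg
  have hgo : orderOf g = 3 := by rw [← Subgroup.orderOf_coe]; exact hγo
  have hpow : ∀ l : ↥A, (l : MulAut V) ∈ Subgroup.zpowers γ → l ∈ Subgroup.zpowers g := by
    intro l hl
    obtain ⟨k, hk⟩ := Subgroup.mem_zpowers_iff.mp hl
    exact Subgroup.mem_zpowers_iff.mpr ⟨k, Subtype.ext (by simpa [hg] using hk)⟩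
  have hsc : SC g := by
    refine ⟨Nat.prime_three, hgo, le_antisymm (fun l hl => ?_)
      (Subgroup.zpowers_le.mpr (Subgroup.mem_centralizer_singleton_iff.mpr rfl))⟩
    have e : (l : MulAut V) * γ = γ * l := congrArg Subtype.val (Subgroup.mem_centralizer_singleton_iff.mp hl)
    have h1 : γ ((l : MulAut V) u) = (l : MulAut V) u := by
      rw [← MulAut.mul_apply, ← e, MulAut.mul_apply, hγu]
    rcases hfix _ h1 with e1 | e1
    · exact absurd (by simpa using e1) hu
    · exact hpow l (hstab _ l.2 e1)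
  have hidx : (core3 ↥A).index = 3 := by
    have hod : ∀ n, n ∣ Nat.card A → ¬ 2 ∣ n := fun n hn h2n =>
      (Nat.not_even_iff_odd.mpr hodd) (even_iff_two_dvd.mpr (h2n.trans hn))
    rcases shape_of_selfCent hsc with (e | e) | ⟨e, -⟩ | ⟨-, e, -⟩
    · exact e
    · exact absurd (by rw [e]; norm_num) (hod _ (core3 ↥A).index_dvd_card)
    · exact absurd (by rw [e]; norm_num) (hod _ (core3 ↥A).index_dvd_card)
    · exact absurd (by rw [e]; norm_num) (hod _ dvd_rfl)
  set R := core3 ↥A with hR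
  have hgR : g ∉ R := fun hh => not_three_dvd_core3 (hgo ▸ Subgroup.orderOf_dvd_natCard R hh)
  have hcap : ∀ l : ↥A, l ∈ R → (l : MulAut V) u = u → l = 1 := by
    intro l hl e
    obtain ⟨k, hk⟩ := Subgroup.mem_zpowers_iff.mp (hpow l (hstab _ l.2 e))
    have h3 : orderOf l ∣ 3 := hgo ▸ hk ▸ orderOf_dvd_of_mem_zpowers (Subgroup.mem_zpowers_iff.mpr ⟨k, rfl⟩)
    rcases Nat.prime_three.eq_one_or_self_of_dvd _ h3 with e1 | e1
    · exact orderOf_eq_one_iff.mp e1
    · exact absurd (e1 ▸ Subgroup.orderOf_dvd_natCard R hl) not_three_dvd_core3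
  have hsplit : ∀ l : ↥A, ∃ k : ℤ, l * (g ^ k)⁻¹ ∈ R := by
    intro l
    have htop : (Subgroup.zpowers g).map (QuotientGroup.mk' R) = ⊤ := by
      refine Subgroup.eq_top_of_card_eq _ ?_
      rw [MonoidHom.map_zpowers, Nat.card_zpowers, show Nat.card (↥A ⧸ R) = 3 from hidx]
      refine orderOf_eq_prime ?_ fun e => hgR ((QuotientGroup.eq_one_iff g).mp e)
      rw [← map_pow, ← hgo, pow_orderOf_eq_one, map_one]
    obtain ⟨_, ⟨k, rfl⟩, hz⟩ := htop.ge (Subgroup.mem_top (QuotientGroup.mk' R l))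
    refine ⟨k, ?_⟩
    rw [← QuotientGroup.eq_one_iff (N := R), QuotientGroup.mk_mul, QuotientGroup.mk_inv]
    rw [QuotientGroup.mk'_apply, QuotientGroup.mk'_apply] at hz
    rw [mul_inv_eq_one]
    exact hz.symm
  have htransR : ∀ x, x ≠ 1 → ∃ r ∈ R, (r : MulAut V) u = x := by
    intro x hx
    obtain ⟨l, hl, e⟩ := htrans x hx
    obtain ⟨k, hk⟩ := hsplit ⟨l, hl⟩
    refine ⟨_, hk, ?_⟩
    have hfixk : ∀ k : ℤ, ((g ^ k : ↥A) : MulAut V) u = u := fun k => by
      have : γ ∈ MulAction.stabilizer (MulAut V) u := hγu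
      have h1 := zpow_mem this k
      rw [SubgroupClass.coe_zpow]
      exact h1
    simp only [Subgroup.coe_mul, Subgroup.coe_inv, MulAut.mul_apply]
    have h1 := hfixk (-k)
    rw [zpow_neg, Subgroup.coe_inv] at h1
    rw [h1, e]
  -- a central element
  have hRi : Inv g R := ⟨by rw [Subgroup.normalizer_eq_top]; exact Subgroup.mem_top _, not_three_dvd_core3⟩
  haveI := hRi.isNilpotent hsc
  haveI : Nontrivial ↥R := by
    rw [Subgroup.nontrivial_iff_ne_bot]
    intro hb
    refine hbig ?_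
    have hsub : ∀ x : V, x ∈ ({1, u} : Finset V) := by
      intro x
      by_cases hx : x = 1
      · simp [hx]
      obtain ⟨r, hr, e⟩ := htransR x hx
      rw [hb, Subgroup.mem_bot] at hr
      rw [hr] at e
      simp [← e]
    haveI := Fintype.ofFinite V
    rw [Nat.card_eq_fintype_card, ← Finset.card_univ]
    exact (Finset.card_le_card (fun x _ => hsub x)).trans Finset.card_le_two
  obtain ⟨⟨ζ0, hζc⟩, hζ0⟩ := Subgroup.ne_bot_iff_exists_ne_one.mp (Group.IsNilpotent.center_ne_bot (G := ↥R))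
  set ζA : ↥A := (ζ0 : ↥A) with hζAdef
  have hζ1 : ζA ≠ 1 := fun e => hζ0 (Subtype.ext (Subtype.ext e))
  set bA : ↥A := g * ζA * g⁻¹ with hbAdef
  set dA : ↥A := g * bA * g⁻¹ with hdAdef
  have hnR := fun a (ha : a ∈ R) => (core3_normal ↥A).conj_mem a ha g
  have hζR : ζA ∈ R := ζ0.2
  have hbR : bA ∈ R := hnR _ hζR
  have hdR : dA ∈ R := hnR _ hbR
  have hcconj : ∀ z ∈ R, (∀ r ∈ R, Commute z r) → ∀ r ∈ R, Commute (g * z * g⁻¹) r := by
    intro z hz hzc r hr
    have hr' : g⁻¹ * r * g⁻¹⁻¹ ∈ R := (core3_normal ↥A).conj_mem r hr g⁻¹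
    have := (hzc _ hr').eq
    calc g * z * g⁻¹ * r = g * (z * (g⁻¹ * r * g⁻¹⁻¹)) * g⁻¹ := by group
      _ = g * ((g⁻¹ * r * g⁻¹⁻¹) * z) * g⁻¹ := by rw [this]
      _ = r * (g * z * g⁻¹) := by group
  have hcζ : ∀ r ∈ R, Commute ζA r := fun r hr =>
    congrArg Subtype.val (Subgroup.mem_center_iff.mp hζc ⟨r, hr⟩).symm
  have hcb := hcconj _ hζR hcζ
  have hcd := hcconj _ hbR hcb
  have hd3 : g * dA * g⁻¹ = ζA := Inv.three_steps hsc ζA
  set ζ : MulAut V := (ζA : MulAut V) with hζdef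
  set b : MulAut V := (bA : MulAut V) with hbdef
  set d : MulAut V := (dA : MulAut V) with hddef
  have app : ∀ {p q : ↥A}, Commute p q → ∀ x : V, (p : MulAut V) ((q : MulAut V) x) = (q : MulAut V) ((p : MulAut V) x) :=
    fun {p q} h x => by
      rw [← MulAut.mul_apply, ← MulAut.mul_apply]
      exact congrArg (fun z : ↥A => (z : MulAut V) x) h.eq
  have hzb : ∀ x, b (ζ x) = ζ (b x) := fun x => app (hcb _ hζR) x
  have hzd : ∀ x, d (ζ x) = ζ (d x) := fun x => app (hcd _ hζR) x
  have hbd : ∀ x, d (b x) = b (d x) := fun x => app (hcd _ hbR) x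
  have hγζ : ∀ x, γ (ζ x) = b (γ x) := fun x => by
    rw [hbdef, hbAdef]; simp [hg, hζdef]
  have hγb : ∀ x, γ (b x) = d (γ x) := fun x => by
    rw [hddef, hdAdef]; simp [hg, hbdef]
  have hγd : ∀ x, γ (d x) = ζ (γ x) := fun x => by
    rw [hζdef, ← hd3]; simp [hg, hddef]
  -- invariant endomorphisms are trivial
  have key : ∀ φ : V → V, (∀ r ∈ R, ∀ x, φ ((r : MulAut V) x) = (r : MulAut V) (φ x)) →
      (∀ x, γ (φ x) = φ (γ x)) → φ 1 = 1 → (∀ x, φ x = 1) ∨ ∀ x, φ x = x := by
    intro φ hR' hγ' h1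
    have h0 : γ (φ u) = φ u := by rw [hγ', hγu]
    rcases hfix _ h0 with e | e
    · refine Or.inl fun x => ?_
      by_cases hx : x = 1
      · rw [hx, h1]
      obtain ⟨r, hr, rfl⟩ := htransR x hx
      rw [hR' r hr, e, map_one]
    · refine Or.inr fun x => ?_
      by_cases hx : x = 1
      · rw [hx, h1]
      obtain ⟨r, hr, rfl⟩ := htransR x hx
      rw [hR' r hr, e]
  -- the product
  have hprod : ∀ x, ζ (b (d x)) = x := by
    have hc : ∀ r ∈ R, Commute (ζA * bA * dA) r := fun r hr =>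
      ((hcζ r hr).mul_left (hcb r hr)).mul_left (hcd r hr)
    rcases key (fun x => ζ (b (d x))) (fun r hr x => by
      have := app (hc r hr) x
      simpa [hζdef, hbdef, hddef] using this) (fun x => by
      show γ (ζ (b (d x))) = ζ (b (d (γ x)))
      rw [hγζ, hγb, hγd, hzd, hzb]) (by simp) with e | e
    · exact absurd (e u) (fun h => hu (by simpa using h))
    · exact e
  -- fixed-point freeness
  have hfpf : ∀ z : ↥A, z ∈ R → z ≠ 1 → (∀ r ∈ R, Commute z r) → ∀ x, (z : MulAut V) x = x → x = 1 := by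
    intro z hz hz1 hzc x hx
    by_contra hx1
    obtain ⟨r, hr, rfl⟩ := htransR x hx1
    rw [app (hzc r hr)] at hx
    exact hz1 (hcap z hz ((r : MulAut V).injective hx))
  set σ1 : V → V := fun x => ζ x * b x * d x with hσ1
  set σ2 : V → V := fun x => ζ (b x) * b (d x) * d (ζ x) with hσ2
  have hs1 : (∀ x, σ1 x = 1) ∨ ∀ x, σ1 x = x := by
    refine key σ1 (fun r hr x => ?_) (fun x => ?_) (by simp [hσ1])
    · simp only [hσ1, map_mul, hζdef, hbdef, hddef]
      rw [app (hcζ r hr), app (hcb r hr), app (hcd r hr)]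
    · simp only [hσ1, map_mul]
      rw [hγζ, hγb, hγd, mul_comm (b (γ x) * d (γ x)), mul_assoc]
  have hs2 : (∀ x, σ2 x = 1) ∨ ∀ x, σ2 x = x := by
    refine key σ2 (fun r hr x => ?_) (fun x => ?_) (by simp [hσ2])
    · simp only [hσ2, map_mul, hζdef, hbdef, hddef]
      rw [app (hcb r hr), app (hcζ r hr), app (hcd r hr), app (hcb r hr), app (hcζ r hr), app (hcd r hr)]
    · simp only [hσ2, map_mul]
      rw [hγζ, hγb, hγb, hγd, hγd, hγζ, mul_comm (b (d (γ x)) * d (ζ (γ x))), ← mul_assoc]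
  -- the cubic equation
  have hcubic : ∀ x, ζ (ζ (ζ x)) * σ1 (ζ (ζ x)) * σ2 (ζ x) * x = 1 := by
    intro x
    have e3 : b (d (ζ x)) = x := by
      calc b (d (ζ x)) = b (ζ (d x)) := by rw [hzd]
        _ = ζ (b (d x)) := hzb _
        _ = x := hprod x
    simp only [hσ1, hσ2]
    rw [e3, hzb (ζ x), hzd (ζ x)]
    generalize ζ (ζ (ζ x)) = p
    generalize ζ (b (ζ x)) = q
    generalize ζ (d (ζ x)) = r
    calc p * (p * q * r) * (q * x * r) * x = (p * p) * (q * q) * (r * r) * (x * x) := by ac_rfl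
      _ = 1 := by simp [h2]
  have hinv : ∀ p q : V, p * q = 1 → p = q := fun p q h => by
    rw [eq_inv_of_mul_eq_one_left h, inv_eq_of_mul_eq_one_left (h2 q)]
  obtain ⟨h7, hsum⟩ : (∀ x, ζ (ζ (ζ (ζ (ζ (ζ (ζ x)))))) = x) ∧
      ∀ x, ζ x * ζ (ζ x) * ζ (ζ (ζ (ζ x))) = σ1 x := by
    rcases hs1 with e1 | e1 <;> rcases hs2 with e2 | e2
    · exfalso
      have h3 : ∀ x, ζ (ζ (ζ x)) = x := fun x => hinv _ _ (by
        have := hcubic x
        rwa [e1, e2, mul_one, mul_one] at this)
      have h3' : ζA * ζA * ζA = 1 := Subtype.ext (MulEquiv.ext fun x => h3 x)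
      have := orderOf_eq_prime (p := 3) (by rw [pow_succ, pow_two, h3']) hζ1
      exact not_three_dvd_core3 (this ▸ Subgroup.orderOf_dvd_natCard R hζR)
    · have E : ∀ x, ζ (ζ (ζ x)) = ζ x * x := fun x => hinv _ _ (by
        have := hcubic x
        rwa [e1, e2, mul_one, mul_assoc] at this)
      refine ⟨fun x => ?_, fun x => ?_⟩
      · simp only [E, map_mul]
        generalize ζ (ζ x) = q
        generalize ζ x = r
        calc _ = x * (q * q) * (r * r) := by ac_rfl
          _ = x := by simp [h2]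
      · rw [e1]
        simp only [E, map_mul]
        generalize ζ (ζ x) = q
        generalize ζ x = r
        calc _ = (q * q) * (r * r) := by ac_rfl
          _ = 1 := by simp [h2]
    · have E : ∀ x, ζ (ζ (ζ x)) = ζ (ζ x) * x := fun x => hinv _ _ (by
        have := hcubic x
        rwa [e1, e2, mul_one, mul_assoc] at this)
      refine ⟨fun x => ?_, fun x => ?_⟩
      · simp only [E, map_mul]
        generalize ζ (ζ x) = q
        generalize ζ x = r
        calc _ = x * (x * x) * (q * q) * (q * q) * (r * r) := by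
              simp [h2, mul_assoc, mul_comm, mul_left_comm]
          _ = x := by simp [h2]
      · rw [e1]
        simp only [E, map_mul]
        generalize ζ (ζ x) = q
        generalize ζ x = r
        calc _ = x * (q * q) * (r * r) := by ac_rfl
          _ = x := by simp [h2]
    · exfalso
      refine hu ?_
      have hfix0 : ∀ x, ζ x * x = 1 → x = 1 := fun x h => hfpf ζA hζR hζ1 hcζ x (hinv _ _ h)
      refine hfix0 u (hfix0 _ (hfix0 _ ?_))
      have := hcubic u
      rw [e1, e2] at this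
      simp only [map_mul]
      generalize ζ (ζ (ζ u)) = p at this ⊢
      generalize ζ (ζ u) = q at this ⊢
      generalize ζ u = r at this ⊢
      calc _ = (p * q * r * u) * (q * q) * (r * r) := by ac_rfl
        _ = 1 := by simp [this, h2]
  -- the conjugate is a power
  have hbpow : b = ζ * ζ ∨ b = ζ * ζ * ζ * ζ := by
    have hprod2 : ∀ x, b (b x * ζ (ζ (ζ (ζ x)))) * ζ (ζ (b x * ζ (ζ (ζ (ζ x))))) = 1 := by
      intro x
      have e6 : ζ (ζ (ζ (ζ (ζ (ζ x))))) = b (d x) := by
        apply ζ.injective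
        rw [h7, hprod]
      have e24 : ζ (ζ (b x)) * b (ζ (ζ (ζ (ζ x)))) = b (b x) * b (d x) := by
        have h1 : ζ (ζ x) * ζ (ζ (ζ (ζ x))) = b x * d x := by
          have h3 := hsum x
          simp only [hσ1] at h3
          rw [mul_assoc, mul_assoc] at h3
          exact mul_left_cancel h3
        have h4 : ζ (ζ (b x)) = b (ζ (ζ x)) := by rw [hzb, hzb]
        rw [h4, ← map_mul, h1, map_mul]
      simp only [map_mul]
      rw [e6]
      generalize b (b x) = p at e24 ⊢
      generalize b (d x) = q at e24 ⊢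
      generalize ζ (ζ (b x)) = r at e24 ⊢
      generalize b (ζ (ζ (ζ (ζ x)))) = w at e24 ⊢
      calc p * w * (r * q) = p * (r * w) * q := by ac_rfl
        _ = (p * p) * (q * q) := by rw [e24]; ac_rfl
        _ = 1 := by simp [h2]
    by_cases h4 : ∀ x, b x = ζ (ζ (ζ (ζ x)))
    · exact Or.inr (MulEquiv.ext h4)
    push Not at h4
    obtain ⟨y, hy⟩ := h4
    by_cases hinj : ∀ x, b x * ζ (ζ (ζ (ζ x))) = 1 → x = 1
    · refine Or.inl (MulEquiv.ext fun x => ?_)
      let f : V → V := fun x => b x * ζ (ζ (ζ (ζ x)))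
      have hf : Function.Injective f := by
        intro p q e
        refine hinv p q (hinj _ ?_)
        simp only [map_mul]
        calc _ = f p * f q := by simp only [f]; ac_rfl
          _ = 1 := by rw [e, h2]
      obtain ⟨z, rfl⟩ := (Finite.injective_iff_surjective.mp hf) x
      exact hinv _ _ (hprod2 z)
    · exfalso
      push Not at hinj
      obtain ⟨z, hz, hz1⟩ := hinj
      set w : ↥A := (ζA * ζA * ζA * ζA)⁻¹ * bA with hw
      have hw1 : w ≠ 1 := fun e => hy (by
        rw [hw, inv_mul_eq_one] at e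
        rw [hbdef, ← e]
        rfl)
      have hwR : w ∈ R := mul_mem (inv_mem (mul_mem (mul_mem (mul_mem hζR hζR) hζR) hζR)) hbR
      have hwc : ∀ r ∈ R, Commute w r := fun r hr =>
        ((((hcζ r hr).mul_left (hcζ r hr)).mul_left (hcζ r hr)).mul_left (hcζ r hr)).inv_left.mul_left (hcb r hr)
      refine hz1 (hfpf w hwR hw1 hwc z ?_)
      have e : b z = (ζ * ζ * ζ * ζ) z := hinv _ _ hz
      show ((ζ * ζ * ζ * ζ)⁻¹ * b) z = z
      rw [MulAut.mul_apply, e, ← MulAut.mul_apply, inv_mul_cancel, MulAut.one_apply]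
  -- the span
  set Z := Subgroup.zpowers ζA with hZ
  have hgZ : g ∈ Subgroup.normalizer (Z : Set ↥A) := by
    refine normalizer_of_cj (Subgroup.eq_of_le_of_card_ge ?_ (card_cj g Z).ge)
    show Subgroup.map _ (Subgroup.zpowers ζA) ≤ _
    rw [MonoidHom.map_zpowers, Subgroup.zpowers_le]
    show bA ∈ Z
    rcases hbpow with e | e
    · rw [show bA = ζA * ζA from Subtype.ext e]
      exact mul_mem (Subgroup.mem_zpowers _) (Subgroup.mem_zpowers _)
    · rw [show bA = ζA * ζA * ζA * ζA from Subtype.ext e]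
      exact mul_mem (mul_mem (mul_mem (Subgroup.mem_zpowers _) (Subgroup.mem_zpowers _)) (Subgroup.mem_zpowers _))
        (Subgroup.mem_zpowers _)
  set S0 : Subgroup V := Subgroup.closure {u, ζ u, ζ (ζ u)} with hS0
  have hu0 : u ∈ S0 := Subgroup.subset_closure (by simp)
  have hu1 : ζ u ∈ S0 := Subgroup.subset_closure (by simp)
  have hu2 : ζ (ζ u) ∈ S0 := Subgroup.subset_closure (by simp)
  have hu3 : ζ (ζ (ζ u)) ∈ S0 := by
    rw [hinv (ζ (ζ (ζ u))) (σ1 (ζ (ζ u)) * σ2 (ζ u) * u) (by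
      have := hcubic u; rwa [mul_assoc, mul_assoc, ← mul_assoc (σ1 _)] at this)]
    rcases hs1 with e1 | e1 <;> rcases hs2 with e2 | e2 <;> simp only [e1, e2, one_mul, mul_one]
    exacts [hu0, mul_mem hu1 hu0, mul_mem hu2 hu0, mul_mem (mul_mem hu2 hu1) hu0]
  have hζS : ∀ x ∈ S0, ζ x ∈ S0 := by
    intro x hx
    have hle : S0 ≤ S0.comap ζ.toMonoidHom := by
      rw [hS0, Subgroup.closure_le]
      rintro w (rfl | rfl | rfl)
      exacts [hu1, hu2, hu3]
    exact hle hx
  have hγS : ∀ x ∈ S0, γ x ∈ S0 := by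
    intro x hx
    have hbS : ∀ x ∈ S0, b x ∈ S0 := fun x hx => by
      rcases hbpow with e | e <;> rw [e] <;> simp only [MulAut.mul_apply]
      · exact hζS _ (hζS _ hx)
      · exact hζS _ (hζS _ (hζS _ (hζS _ hx)))
    have hle : S0 ≤ S0.comap γ.toMonoidHom := by
      rw [hS0, Subgroup.closure_le]
      intro w hw
      show γ w ∈ S0
      rcases hw with e | e | e <;> rw [e]
      · rw [hγu]; exact hu0
      · rw [hγζ, hγu]; exact hbS _ hu0
      · rw [hγζ, hγζ, hγu]; exact hbS _ (hbS _ hu0)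
    exact hle hx
  have hS08 : Nat.card S0 ≤ 8 := by
    let f : Fin 2 × Fin 2 × Fin 2 → V := fun p => u ^ (p.1 : ℕ) * (ζ u) ^ (p.2.1 : ℕ) * (ζ (ζ u)) ^ (p.2.2 : ℕ)
    let F : Subgroup V :=
      { carrier := Set.range f
        one_mem' := ⟨(0, 0, 0), by simp [f]⟩
        mul_mem' := by
          rintro _ _ ⟨p, rfl⟩ ⟨q, rfl⟩
          refine ⟨(p.1 + q.1, p.2.1 + q.2.1, p.2.2 + q.2.2), ?_⟩
          have e : ∀ (w : V) (i j : Fin 2), w ^ ((i + j : Fin 2) : ℕ) = w ^ (i : ℕ) * w ^ (j : ℕ) := by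
            intro w i j
            fin_cases i <;> fin_cases j <;> simp [h2]
          simp only [f, e]
          ac_rfl
        inv_mem' := by
          rintro x hx
          rwa [inv_eq_of_mul_eq_one_left (h2 x)] }
    have hle : S0 ≤ F := by
      rw [hS0, Subgroup.closure_le]
      rintro w (rfl | rfl | rfl)
      exacts [⟨(1, 0, 0), by simp [f]⟩, ⟨(0, 1, 0), by simp [f]⟩, ⟨(0, 0, 1), by simp [f]⟩]
    refine (Subgroup.card_le_of_le hle).trans ?_
    refine (Nat.card_le_card_of_surjective (fun p => (⟨f p, p, rfl⟩ : ↥F)) ?_).trans_eq (by simp)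
    rintro ⟨_, p, rfl⟩
    exact ⟨p, rfl⟩
  -- averaging on the quotient
  have hinv0 : ∀ φ : MulAut V, (∀ x ∈ S0, φ x ∈ S0) → S0.map φ.toMonoidHom = S0 := by
    intro φ hφ
    refine Subgroup.eq_of_le_of_card_ge (Subgroup.map_le_iff_le_comap.mpr hφ) (le_of_eq ?_)
    exact Nat.card_congr (Subgroup.equivMapOfInjective _ _ φ.injective).toEquiv
  have hZS : ∀ z : ↥Z, ∀ x ∈ S0, ((z : ↥A) : MulAut V) x ∈ S0 := by
    rintro ⟨z, hz⟩ x hx
    obtain ⟨n, hn⟩ := (mem_powers_iff_mem_zpowers (x := ζA)).mpr hz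
    subst hn
    show ((ζA ^ n : ↥A) : MulAut V) x ∈ S0
    rw [SubmonoidClass.coe_pow]
    clear hz
    induction n with
    | zero => simpa using hx
    | succ n ih => rw [pow_succ', MulAut.mul_apply]; exact hζS _ ih
  let ρ : ↥Z →* MulAut (V ⧸ S0) :=
    MonoidHom.mk' (fun z => QuotientGroup.congr S0 S0 ((z : ↥A) : MulAut V) (hinv0 _ (hZS z))) (fun z z' => by
      ext q
      induction q using QuotientGroup.induction_on with
      | H x => rfl)
  let φ : MulAut (V ⧸ S0) := QuotientGroup.congr S0 S0 γ (hinv0 _ hγS)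
  have hZi : Inv g Z := ⟨hgZ, fun h3 => not_three_dvd_core3 (h3.trans
    (Subgroup.card_dvd_of_le (Subgroup.zpowers_le.mpr hζR : Z ≤ R)))⟩
  have hσ : ∀ z : ↥Z, invAut hZi z = z → z = 1 := fun z hz => Subtype.ext (hZi.eq_one hsc z.2 (by
    have : g * (z : ↥A) * g⁻¹ = z := congrArg Subtype.val hz
    exact (mul_inv_eq_iff_eq_mul.mp this).symm))
  have htriv := Average.trivial_action ρ φ (invAut hZi)
    (fun z => Subtype.ext (Inv.three_steps hsc (z : ↥A))) hσ
    (fun q => by
      induction q using QuotientGroup.induction_on with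
      | H x =>
        show (QuotientGroup.mk (γ (γ (γ x))) : V ⧸ S0) = _
        rw [← MulAut.mul_apply, ← MulAut.mul_apply, hγ3, MulAut.one_apply])
    (fun q hq => by
      induction q using QuotientGroup.induction_on with
      | H x =>
        have h1 : (QuotientGroup.mk (γ x) : V ⧸ S0) = QuotientGroup.mk x := hq
        rw [QuotientGroup.eq] at h1
        rw [QuotientGroup.eq_one_iff]
        -- the norm of `x` lies in the subgroup
        have h3 : γ (x * γ x * γ (γ x)) = x * γ x * γ (γ x) := by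
          simp only [map_mul]
          rw [show γ (γ (γ x)) = x by rw [← MulAut.mul_apply, ← MulAut.mul_apply, hγ3, MulAut.one_apply]]
          ac_rfl
        have hn : x * γ x * γ (γ x) ∈ S0 := by
          rcases hfix _ h3 with e | e <;> rw [e]
          exacts [one_mem _, hu0]
        have hd : x * γ x ∈ S0 := by
          rwa [inv_eq_of_mul_eq_one_left (h2 (γ x)), mul_comm] at h1
        exact ((Subgroup.mul_mem_cancel_left _ hd).mp hn) |> fun h' => by
          have h4 : γ x * γ (γ x) ∈ S0 := by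
            have := hγS _ hd
            rwa [map_mul] at this
          have h5 : γ x ∈ S0 := (Subgroup.mul_mem_cancel_right _ h').mp h4
          exact (Subgroup.mul_mem_cancel_right _ h5).mp hd)
    (fun z q => by
      induction q using QuotientGroup.induction_on with
      | H x =>
        show (QuotientGroup.mk (γ (((z : ↥A) : MulAut V) x)) : V ⧸ S0) =
          QuotientGroup.mk ((((g * (z : ↥A) * g⁻¹) : ↥A) : MulAut V) (γ x))
        simp [hg])
    (fun q hq => by
      induction q using QuotientGroup.induction_on with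
      | H x =>
        have hoddZ : Odd (Nat.card ↥Z) := hodd.of_dvd_nat (Subgroup.card_subgroup_dvd_card Z)
        obtain ⟨m, hm⟩ := hoddZ
        rw [← QuotientGroup.mk_pow, hm, pow_succ, pow_mul, pow_two, h2, one_pow, one_mul] at hq
        exact hq)
  have hall : ∀ x, ζ x * x ∈ S0 := fun x => by
    have := htriv ⟨ζA, Subgroup.mem_zpowers _⟩ (QuotientGroup.mk x)
    have h1 : (QuotientGroup.mk (ζ x) : V ⧸ S0) = QuotientGroup.mk x := this
    rwa [QuotientGroup.eq, inv_eq_of_mul_eq_one_left (h2 (ζ x))] at h1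
  have htop : S0 = ⊤ := by
    rw [eq_top_iff]
    intro x _
    have hf : Function.Injective (fun x => ζ x * x) := by
      intro p q e
      refine hinv p q (hfpf ζA hζR hζ1 hcζ _ (hinv _ _ ?_))
      show ζ (p * q) * (p * q) = 1
      rw [map_mul]
      calc _ = (ζ p * p) * (ζ q * q) := by ac_rfl
        _ = 1 := by rw [show ζ p * p = ζ q * q from e, h2]
    obtain ⟨z, rfl⟩ := (Finite.injective_iff_surjective.mp hf) x
    exact hall z
  rw [← Subgroup.card_top (G := V), ← htop]
  exact hS08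

variable {G : Type v} [Group G] [Finite G] {u c : G}

/-- Index three is impossible. -/
theorem Six.index_three_false (h : Six u c) (h3 : idx u = 3) : False := by
  classical
  haveI := h.simple
  haveI := Fact.mk Nat.prime_two
  have hl : Low u := Or.inl h3
  obtain ⟨S, -, hS⟩ := exists_sylow_cC h (IsPGroup.of_bot (p := 2)) bot_le
  have eS : (S : Subgroup G) = cT u := by
    rcases sylow_index h hl S hS with ⟨-, e⟩ | ⟨e6, -⟩
    · exact e
    · omega
  have hcomm := h.index_three_comm h3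
  have huT := u_mem_cT h
  have hconjT : ∀ {n : G}, n ∈ Subgroup.normalizer ((S : Subgroup G) : Set G) → ∀ {t : G}, t ∈ cT u →
      n * t * n⁻¹ ∈ cT u := fun {n} hn {t} ht => eS ▸ (Subgroup.mem_normalizer_iff.mp hn t).mp (eS ▸ ht)
  have hfusion : ∀ i ∈ cT u, orderOf i = 2 →
      ∃ n ∈ Subgroup.normalizer ((S : Subgroup G) : Set G), n * u * n⁻¹ = i := by
    intro i hi hi2
    obtain ⟨g, hg⟩ := isConj_iff.mp (h.one u i h.ou hi2)
    obtain ⟨n, hn, e1⟩ := S.conj_eq_normalizer_conj_of_mem_centralizer u g⁻¹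
      (fun s hs => mem_cC.mp (hS hs)) (by
        rw [inv_inv, hg]
        intro s hs
        exact hcomm s (eS ▸ hs) i hi)
    rw [inv_inv, hg] at e1
    exact ⟨n⁻¹, inv_mem hn, by rw [inv_inv]; exact e1.symm⟩
  -- the involutions are no squares
  have hnosq : ∀ m ∈ cT u, m * m ≠ u := by
    intro m hm e
    have hm1 : c * m * c⁻¹ ∈ cT u := (Subgroup.mem_normalizer_iff.mp (cT_normalized u h.c_mem) m).mp hm
    have hm2 : c * (c * m * c⁻¹) * c⁻¹ ∈ cT u :=
      (Subgroup.mem_normalizer_iff.mp (cT_normalized u h.c_mem) _).mp hm1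
    have hcu : c * u * c⁻¹ = u := by rw [← h.comm, mul_inv_cancel_right]
    have hz := h.ident_U hm
    set m1 := c * m * c⁻¹ with hm1d
    set m2 := c * m1 * c⁻¹ with hm2d
    have e1 : m1 * m1 = u := by
      rw [hm1d, show c * m * c⁻¹ * (c * m * c⁻¹) = c * (m * m) * c⁻¹ by group, e, hcu]
    have e2 : m2 * m2 = u := by
      rw [hm2d, show c * m1 * c⁻¹ * (c * m1 * c⁻¹) = c * (m1 * m1) * c⁻¹ by group, e1, hcu]
    have h1 : m * m1 * m2 * (m * m1 * m2) = u := by
      rw [(show Commute m2 (m * m1) from hcomm _ hm2 _ (mul_mem hm hm1)).mul_mul_mul_comm,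
        (show Commute m1 m from hcomm _ hm1 _ hm).mul_mul_mul_comm, e, e1, e2, h.uu, one_mul]
    rcases (mem_U h).mp hz with e0 | e0 <;> rw [e0] at h1
    · exact h.u_ne_one (by rw [← h1, one_mul])
    · exact h.u_ne_one (by rw [← h1, h.uu])
  have helem : ∀ t ∈ cT u, t * t = 1 := by
    intro t ht
    by_contra hne
    obtain ⟨k, hk⟩ := isPGroup_two_pow (cT_isPGroup u) ht
    obtain ⟨j, -, hj⟩ := (Nat.dvd_prime_pow Nat.prime_two).mp (orderOf_dvd_of_pow_eq_one hk)
    have hj2 : 2 ≤ j := by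
      by_contra hh
      refine hne ?_
      rw [← pow_two, ← orderOf_dvd_iff_pow_eq_one, hj]
      exact (pow_dvd_pow 2 (show j ≤ 1 by omega)).trans (by norm_num)
    set m := t ^ 2 ^ (j - 2) with hm
    have hm4 : orderOf m = 4 := by
      rw [hm, orderOf_pow' _ (by positivity), hj, Nat.gcd_eq_right (pow_dvd_pow 2 (show j - 2 ≤ j by omega)),
        Nat.pow_div (by omega) two_pos, show j - (j - 2) = 2 by omega]
      norm_num
    have hmm : orderOf (m * m) = 2 := by
      rw [← pow_two, orderOf_pow' _ (by norm_num), hm4]; norm_num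
    obtain ⟨n, hn, e⟩ := hfusion _ (mul_mem (pow_mem ht _) (pow_mem ht _)) hmm
    refine hnosq _ (hconjT (inv_mem hn) (pow_mem ht (2 ^ (j - 2)))) ?_
    rw [show n⁻¹ * t ^ 2 ^ (j - 2) * n⁻¹⁻¹ * (n⁻¹ * t ^ 2 ^ (j - 2) * n⁻¹⁻¹) = n⁻¹ * (m * m) * n by
      rw [hm]; group, ← e]
    group
  -- the automizer
  set N := Subgroup.normalizer ((S : Subgroup G) : Set G)
  set ψ := EightSylow.act S with hψ
  set A := ψ.range with hA
  have hab : IsMulCommutative ↥(S : Subgroup G) :=
    ⟨⟨fun a b => Subtype.ext (hcomm a (eS ▸ a.2) b (eS ▸ b.2))⟩⟩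
  letI : CommGroup ↥(S : Subgroup G) :=
    { (inferInstance : Group ↥(S : Subgroup G)) with mul_comm := fun a b => hab.is_comm.comm a b }
  have hSC : (S : Subgroup G) ≤ Subgroup.centralizer ((S : Subgroup G) : Set G) := fun a ha =>
    Subgroup.mem_centralizer_iff.mpr fun b hb => hcomm b (eS ▸ hb) a (eS ▸ ha)
  have hoddA : Odd (Nat.card A) := by
    rw [← Nat.not_even_iff_odd, even_iff_two_dvd, hA, EightSylow.card_act_range]
    intro hd
    refine S.not_dvd_index (hd.trans ((Subgroup.relIndex_dvd_index_of_le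
      (Subgroup.centralizer_le_normalizer _)).trans (Subgroup.index_dvd_of_le hSC)))
  have hcN : c ∈ N := by
    show c ∈ Subgroup.normalizer ((S : Subgroup G) : Set G)
    rw [eS]; exact cT_normalized u h.c_mem
  set uS : ↥(S : Subgroup G) := ⟨u, eS.symm ▸ huT⟩ with huS
  set γ := ψ ⟨c, hcN⟩ with hγ
  have hγapp : ∀ x : ↥(S : Subgroup G), (γ x : G) = c * x * c⁻¹ := fun x => rfl
  have hγu : γ uS = uS := Subtype.ext (by rw [hγapp]; show c * u * c⁻¹ = u; rw [← h.comm, mul_inv_cancel_right])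
  have hγ3 : γ * γ * γ = 1 := by
    rw [hγ, ← map_mul, ← map_mul]
    have : (⟨c, hcN⟩ : ↥N) * ⟨c, hcN⟩ * ⟨c, hcN⟩ = 1 := Subtype.ext (show c * c * c = 1 by
      rw [← h.ccc, pow_succ, pow_two])
    rw [this, map_one]
  have hfix : ∀ x : ↥(S : Subgroup G), γ x = x → x = 1 ∨ x = uS := by
    intro x hx
    have h1 : c * (x : G) * c⁻¹ = x := congrArg Subtype.val hx
    have := fix_mod h (U_le_cT h) (Subgroup.mem_zpowers u) (U_normalized u h.c_mem) (eS ▸ x.2 : (x : G) ∈ cT u)
      (by rw [h1, inv_mul_cancel]; exact one_mem _)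
    rcases (mem_U h).mp this with e | e
    · exact Or.inl (Subtype.ext e)
    · exact Or.inr (Subtype.ext e)
  have hne2 : ∃ x : ↥(S : Subgroup G), x ≠ 1 ∧ x ≠ uS := by
    obtain ⟨s, hs, hs2, hsu⟩ := h.exists_invol S hS
    exact ⟨⟨s, hs⟩, fun e => (orderOf_two_iff.mp hs2).2 (congrArg Subtype.val e),
      fun e => hsu (congrArg Subtype.val e)⟩
  have hγ1 : γ ≠ 1 := fun e => by
    obtain ⟨x, hx1, hxu⟩ := hne2
    rcases hfix x (by rw [e]; rfl) with e' | e'
    exacts [hx1 e', hxu e']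
  have hstab : ∀ l ∈ A, l uS = uS → l ∈ Subgroup.zpowers γ := by
    rintro _ ⟨⟨n, hn⟩, rfl⟩ hlu
    have hnu : n ∈ cC u := mem_cC.mpr (mul_inv_eq_iff_eq_mul.mp (congrArg Subtype.val hlu))
    have hX : ∀ w : ↥N, (w : G) ∈ cX u → ψ w = 1 := by
      intro w hw
      obtain ⟨τ, hτ, o, ho, e, hco⟩ := cX_split h hw
      ext x
      have hx : (x : G) ∈ cT u := eS ▸ x.2
      show (w : G) * x * (w : G)⁻¹ = x
      rw [e, show τ * o * x * (τ * o)⁻¹ = τ * (o * x) * o⁻¹ * τ⁻¹ by group, hco _ hx,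
        show τ * ((x : G) * o) * o⁻¹ * τ⁻¹ = (τ * x) * τ⁻¹ by group, hcomm τ hτ _ hx, mul_inv_cancel_right]
    rcases kinds h hl hnu with e | e | e | ⟨e6, -⟩
    · rw [hX ⟨n, hn⟩ e]; exact one_mem _
    · have h1 := hX (⟨n, hn⟩ * ⟨c, hcN⟩) e
      rw [map_mul, ← hγ] at h1
      rw [eq_inv_of_mul_eq_one_left h1]
      exact inv_mem (Subgroup.mem_zpowers γ)
    · have h1 := hX (⟨n, hn⟩ * ⟨c, hcN⟩⁻¹) e
      rw [map_mul, map_inv, ← hγ, mul_inv_eq_one] at h1
      rw [h1]
      exact Subgroup.mem_zpowers γ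
    · omega
  have h2S : ∀ x : ↥(S : Subgroup G), x * x = 1 := fun x => Subtype.ext (helem x (eS ▸ x.2))
  have htrans : ∀ x : ↥(S : Subgroup G), x ≠ 1 → ∃ l ∈ A, l uS = x := by
    intro x hx
    obtain ⟨n, hn, e⟩ := hfusion x (eS ▸ x.2)
      (orderOf_two_iff.mpr ⟨helem x (eS ▸ x.2), fun e => hx (Subtype.ext e)⟩)
    exact ⟨ψ ⟨n, hn⟩, ⟨_, rfl⟩, Subtype.ext e⟩
  have h8 : Nat.card ↥(S : Subgroup G) ≤ 8 := odd_transitive_small h2S hoddA
    (fun e => h.u_ne_one (congrArg Subtype.val e)) ⟨⟨c, hcN⟩, rfl⟩ hγu hγ3 hγ1 hfix hstab htrans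
  have hcard : Nat.card ↥(S : Subgroup G) = 8 := by
    have htb := card_tb h
    have hmod := card_tb_mod h
    obtain ⟨m, hm⟩ := IsPGroup.iff_card.mp (cT_isPGroup u)
    have hgt : 2 < Nat.card ↥(S : Subgroup G) := by
      obtain ⟨x, hx1, hxu⟩ := hne2
      haveI := Fintype.ofFinite ↥(S : Subgroup G)
      rw [Nat.card_eq_fintype_card, ← Finset.card_univ]
      refine lt_of_lt_of_le ?_ (Finset.card_le_card (Finset.subset_univ {1, uS, x}))
      rw [Finset.card_insert_of_notMem (by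
        simp only [Finset.mem_insert, Finset.mem_singleton, not_or]
        exact ⟨fun e => h.u_ne_one (congrArg Subtype.val e).symm, hx1.symm⟩), Finset.card_pair hxu.symm]
      omega
    rw [eS] at h8 hgt ⊢
    rw [hm] at htb h8 hgt ⊢
    have hm4 : m < 4 := by
      by_contra hh
      have : 2 ^ 4 ≤ 2 ^ m := Nat.pow_le_pow_right (by norm_num) (by omega)
      omega
    interval_cases m <;> omega
  have hsol : ∀ t : G, orderOf t = 2 → Group.IsSolvable ↥(Subgroup.centralizer ({t} : Set G)) := by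
    intro t ht
    obtain ⟨g, hg⟩ := isConj_iff.mp (h.one u t h.ou ht)
    haveI hCu : Group.IsSolvable ↥(cC u) := by
      rw [Group.isSolvable_iff_subgroup_quotient (core3 ↥(cC u))]
      haveI := core3_nilpotent h
      refine ⟨inferInstance, ?_⟩
      haveI : IsCyclic (↥(cC u) ⧸ core3 ↥(cC u)) := by
        haveI := Fact.mk Nat.prime_three
        exact isCyclic_of_prime_card (p := 3) h3
      exact Group.isSolvable_of_comm fun a b => IsMulCommutative.is_comm.comm a b
    have e : cC t = cj g (cC u) := by rw [← cC_conj, hg]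
    show Group.IsSolvable ↥(cC t)
    rw [e]
    exact Group.isSolvable_of_surjective (f := ((cC u).equivMapOfInjective _ (MulAut.conj g).injective).toMonoidHom)
      ((cC u).equivMapOfInjective _ (MulAut.conj g).injective).surjective
  have h7 := Cfsg.Agent.S3189.result h.ncomm S ⟨hab, fun a ha => by rw [pow_two]; exact helem a (eS ▸ ha)⟩
    hcard hsol
  rw [← EightSylow.card_act_range, ← hψ, ← hA] at h7
  have hd : orderOf γ ∣ Nat.card A := Subgroup.orderOf_dvd_natCard A ⟨⟨c, hcN⟩, rfl⟩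
  rw [h7, orderOf_eq_prime (p := 3) (by rw [pow_succ, pow_two, hγ3]) hγ1] at hd
  omega

end CfsgLib.OrderSix
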