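import Cfsg.Agent.Lib.OrderSix.KleinShape
import Cfsg.Agent.Lib.SmallCent.Klein

/-!
Index six with `O_2` of order two: a lower bound for the centralizer of an odd element of the four group's
centralizer that centralizes the three cores.
-/

set_option autoImplicit false
set_option linter.unusedVariables false
set_option linter.unusedSectionVars false
set_option linter.style.haveILetI false

namespace CfsgLib.OrderSix

open CfsgLib.SelfCent CfsgLib.SCThree

universe v

variable {G : Type v} [Group G] [Finite G] {u c s : G}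

/-- The cores of the three involutions have the same order. -/
theorem KFour.cores (h : KFour u c s) :
    (∀ o ∈ cO s, o * s = s * o ∧ Odd (orderOf o)) ∧
    (∀ o ∈ cO (u * s), o * (u * s) = u * s * o ∧ Odd (orderOf o)) ∧
    Nat.card (cO s) = Nat.card (kZ u s) ^ 2 ∧ Nat.card (cO (u * s)) = Nat.card (kZ u s) ^ 2 := by
  obtain ⟨e₁, p₁⟩ := h.toKPair.swap
  obtain ⟨e₂, p₂⟩ := h.right.swap
  obtain ⟨d₁, k₁⟩ := p₁.exists_klein
  obtain ⟨d₂, k₂⟩ := p₂.exists_klein
  refine ⟨fun o ho => ⟨mem_cC.mp (cO_le_cC s ho), ((mem_cO p₁.six).mp ho).2⟩,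
    fun o ho => ⟨mem_cC.mp (cO_le_cC _ ho), ((mem_cO p₂.six).mp ho).2⟩, ?_, ?_⟩
  · rw [k₁.card_cO_sq, ← h.toKPair.kZ_swap p₁]
  · rw [k₂.card_cO_sq, ← h.right.kZ_swap p₂, ← h.toKPair.kZ_right]

/-- An odd element of the centralizer of the four group that centralizes the cores has a large centralizer. -/
theorem KFour.bound (h : KFour u c s) {z : G} (hz : z ∈ kZ u s) (hzu : ∀ o ∈ cO u, z * o = o * z)
    (hzs : ∀ o ∈ cO s, z * o = o * z) (hzv : ∀ o ∈ cO (u * s), z * o = o * z) :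
    4 * Nat.card (kZ u s) ^ 4 ≤ Nat.card ↥(Subgroup.centralizer ({z} : Set G)) := by
  classical
  haveI := Fact.mk Nat.prime_two
  obtain ⟨S, hS, hs, hu, hK, hmem⟩ := h.sylow
  obtain ⟨hCs, hCv, hws, hwv⟩ := h.cores
  have hwu := h.card_cO_sq
  obtain ⟨hzU, hzS, -⟩ := h.mem_kZ.mp hz
  set r := Nat.card (kZ u s) with hr
  set H := Subgroup.centralizer ({z} : Set G) with hH
  letI := Fintype.ofFinite ↥H
  have huH : u ∈ H := Subgroup.mem_centralizer_singleton_iff.mpr hzU.symm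
  have hsH : s ∈ H := Subgroup.mem_centralizer_singleton_iff.mpr hzS.symm
  have hSH : (S : Subgroup G) ≤ H := by
    intro p hp
    rcases hmem p hp with e | e | e | e <;> rw [e]
    exacts [one_mem _, huH, hsH, mul_mem huH hsH]
  have hOH : ∀ (v o : G), (∀ o ∈ cO v, z * o = o * z) → o ∈ cO v → o ∈ H := fun v o hv ho =>
    Subgroup.mem_centralizer_singleton_iff.mpr (hv o ho).symm
  set P : Sylow 2 ↥H := S.subtype hSH with hP
  have hPmem : ∀ x : ↥H, x ∈ (P : Subgroup ↥H) ↔ (x : G) ∈ (S : Subgroup G) := fun x => Iff.rfl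
  have hPK : IsKleinFour (P : Subgroup ↥H) := by
    have e := Subgroup.subgroupOfEquivOfLe hSH
    exact { card_four := (Nat.card_congr e.toEquiv).trans hK.card_four
            exponent_two := (Monoid.exponent_eq_of_mulEquiv e).trans hK.exponent_two }
  set J : ↥H := ⟨u, huH⟩ with hJ
  have hJP : J ∈ (P : Subgroup ↥H) := (hPmem J).mpr hu
  have hJo : orderOf J = 2 := by rw [← Subgroup.orderOf_coe]; exact h.six.ou
  -- the product of the four group and a subgroup of odd order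
  have hinj : ∀ {p p' o o' : G}, p ∈ (S : Subgroup G) → p' ∈ (S : Subgroup G) → Odd (orderOf (o' * o⁻¹)) →
      p * o = p' * o' → p = p' ∧ o = o' := by
    intro p p' o o' hp hp' hodd e
    have e2 : p'⁻¹ * p = o' * o⁻¹ := by rw [eq_mul_inv_iff_mul_eq, mul_assoc, e, inv_mul_cancel_left]
    rw [← e2] at hodd
    have h1 : p'⁻¹ * p = 1 := by
      rcases hmem _ (mul_mem (inv_mem hp') hp) with e | e | e | e
      · exact e
      all_goals rw [e] at hodd
      · rw [h.six.ou] at hodd; exact absurd hodd (by decide)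
      · rw [h.os] at hodd; exact absurd hodd (by decide)
      · rw [h.right.os] at hodd; exact absurd hodd (by decide)
    have ht : p' = p := inv_mul_eq_one.mp h1
    subst ht
    exact ⟨rfl, mul_left_cancel e⟩
  have hC : 4 * r ^ 2 ≤ Nat.card (Subgroup.centralizer ({J} : Set ↥H)) := by
    rw [← hK.card_four, ← hwu, ← Nat.card_prod]
    refine Nat.card_le_card_of_injective (fun v => ⟨⟨(v.1 : G) * v.2,
      mul_mem (hSH v.1.2) (hOH u _ hzu v.2.2)⟩, Subgroup.mem_centralizer_singleton_iff.mpr (Subtype.ext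
        (mem_cC.mp (mul_mem (hS v.1.2) (cO_le_cC u v.2.2))))⟩) ?_
    rintro ⟨p, o⟩ ⟨p', o'⟩ e
    obtain ⟨e1, e2⟩ := hinj p.2 p'.2 ((mem_cO h.six).mp (mul_mem o'.2 (inv_mem o.2))).2
      (congrArg (fun x : Subgroup.centralizer ({J} : Set ↥H) => ((x : ↥H) : G)) e)
    exact Prod.ext (Subtype.ext e1) (Subtype.ext e2)
  have hc : Nat.card (Subgroup.centralizer ((P : Subgroup ↥H) : Set ↥H)) ≤ 4 * r := by
    rw [hr, ← h.card_cV]
    refine Nat.card_le_card_of_injective (fun x => ⟨((x : ↥H) : G), Subgroup.mem_inf.mpr ⟨mem_cC.mpr ?_,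
      Subgroup.mem_centralizer_singleton_iff.mpr ?_⟩⟩) ?_
    · exact (congrArg Subtype.val (Subgroup.mem_centralizer_iff.mp x.2 J hJP)).symm
    · exact (congrArg Subtype.val (Subgroup.mem_centralizer_iff.mp x.2 ⟨s, hsH⟩ ((hPmem _).mpr hs))).symm
    · intro x y e
      exact Subtype.ext (Subtype.ext (congrArg Subtype.val e :))
  -- a normal subgroup of odd order containing the cores
  suffices key : (∃ N : Subgroup ↥H, N.Normal ∧ Odd (Nat.card N) ∧ ∀ v ∈ (P : Subgroup ↥H), v ≠ 1 →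
      ∀ x : ↥H, Commute v x → Odd (orderOf x) → x ∈ N) → 4 * r ^ 4 ≤ Nat.card H by
    rcases Invol.klein_complement_or_one_class P hPK with ⟨N, hN, hcom⟩ | hone
    · haveI := hN
      have hodd : Odd (Nat.card N) := by
        rw [← Nat.coprime_two_right, ← hcom.index_eq_card]
        exact ((Nat.prime_two.coprime_iff_not_dvd).mpr P.not_dvd_index).symm
      refine key ⟨N, hN, hodd, fun v _ _ x _ hx => ?_⟩
      rw [← QuotientGroup.eq_one_iff (N := N), ← orderOf_eq_one_iff]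
      have h1 : orderOf (x : ↥H ⧸ N) ∣ orderOf x := orderOf_map_dvd (QuotientGroup.mk' N) x
      have h4 : orderOf (x : ↥H ⧸ N) ∣ 2 ^ 2 := by
        have := orderOf_dvd_natCard (x : ↥H ⧸ N)
        rw [show Nat.card (↥H ⧸ N) = N.index from rfl, hcom.symm.index_eq_card, hPK.card_four] at this
        norm_num; exact this
      exact Nat.eq_one_of_dvd_coprimes ((Nat.coprime_two_right.mpr hx).pow_right 2) h1 h4
    · rcases SmallCent.klein_bound P hPK hone hJP hJo with hb | hb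
      swap
      · exact key hb
      set C := Nat.card (Subgroup.centralizer ({J} : Set ↥H))
      set d := Nat.card (Subgroup.centralizer ((P : Subgroup ↥H) : Set ↥H))
      have h1 : (4 * r ^ 2) ^ 3 ≤ C ^ 3 := Nat.pow_le_pow_left hC 3
      have h2 : d ^ 2 ≤ (4 * r) ^ 2 := Nat.pow_le_pow_left hc 2
      have h3 : 50 * (4 * r ^ 2) ^ 3 < 9 * Nat.card H * (4 * r) ^ 2 :=
        lt_of_le_of_lt (Nat.mul_le_mul_left 50 h1) (lt_of_lt_of_le hb (Nat.mul_le_mul_left _ h2))
      have hr0 : 0 < r := Nat.card_pos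
      have h4 : (9 * Nat.card H) * (16 * r ^ 2) > (200 * r ^ 4) * (16 * r ^ 2) := by
        ring_nf at h3 ⊢; exact h3
      have := Nat.lt_of_mul_lt_mul_right h4
      omega
  rintro ⟨N, hN, hNodd, hin⟩
  set R := N.map H.subtype with hR
  have hRodd : Odd (Nat.card R) := by
    rw [hR, Subgroup.card_map_of_injective H.subtype_injective]; exact hNodd
  have hnorm : ∀ g ∈ H, ∀ x ∈ R, g * x * g⁻¹ ∈ R := by
    rintro g hg _ ⟨y, hy, rfl⟩
    exact ⟨⟨g, hg⟩ * y * ⟨g, hg⟩⁻¹, hN.conj_mem y hy _, rfl⟩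
  have hcore : ∀ v ∈ (S : Subgroup G), v ≠ 1 → (∀ o ∈ cO v, z * o = o * z) →
      (∀ o ∈ cO v, o * v = v * o ∧ Odd (orderOf o)) → Nat.card (cO v) = r ^ 2 →
      r ^ 2 ≤ Nat.card ↥(R ⊓ Subgroup.centralizer ({v} : Set G)) := by
    intro v hv hv1 hzv hvo hcard
    rw [← hcard]
    refine Subgroup.card_le_of_le (fun o ho => Subgroup.mem_inf.mpr ⟨?_, ?_⟩)
    · refine ⟨⟨o, hOH v o hzv ho⟩, hin ⟨v, hSH hv⟩ ((hPmem _).mpr hv) (fun e => hv1 (congrArg Subtype.val e)) _
        (Subtype.ext (hvo o ho).1.symm) ?_, rfl⟩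
      rw [← Subgroup.orderOf_coe]; exact (hvo o ho).2
    · exact Subgroup.mem_centralizer_singleton_iff.mpr (hvo o ho).1
  have e1 := hcore u hu h.six.u_ne_one hzu
    (fun o ho => ⟨mem_cC.mp (cO_le_cC u ho), ((mem_cO h.six).mp ho).2⟩) hwu
  have e2 := hcore s hs (orderOf_two_iff.mp h.os).2 hzs hCs hws
  have e3 := hcore (u * s) (mul_mem hu hs) (orderOf_two_iff.mp h.right.os).2 hzv hCv hwv
  have e4 : Nat.card ↥(R ⊓ Subgroup.centralizer ({u, s} : Set G)) ≤ r := by
    rw [hr]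
    refine Subgroup.card_le_of_le (fun x hx => h.mem_kZ.mpr ⟨?_, ?_, ?_⟩)
    · exact (Subgroup.mem_centralizer_iff.mp hx.2 u (by simp)).symm
    · exact (Subgroup.mem_centralizer_iff.mp hx.2 s (by simp)).symm
    · exact hRodd.of_dvd_nat (Subgroup.orderOf_dvd_natCard _ hx.1)
  have hprod := SmallCent.four_product hRodd h.six.uu h.ss (show Commute u s from h.su.symm)
    (fun x hx => hnorm u huH x hx) (fun x hx => hnorm s hsH x hx)
  have hRN : r ^ 4 ≤ Nat.card R := by
    have h1 : r ^ 2 * r ^ 2 * r ^ 2 ≤ Nat.card R * r ^ 2 := by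
      calc r ^ 2 * r ^ 2 * r ^ 2 ≤ _ := Nat.mul_le_mul (Nat.mul_le_mul e1 e2) e3
        _ = _ := hprod.symm
        _ ≤ _ := Nat.mul_le_mul_left _ (Nat.pow_le_pow_left e4 2)
    have := Nat.le_of_mul_le_mul_right h1 (pow_pos Nat.card_pos 2)
    rw [← pow_add] at this
    exact this
  refine le_trans (Nat.mul_le_mul_left 4 hRN) ?_
  rw [← hK.card_four, ← Nat.card_prod]
  refine Nat.card_le_card_of_injective (fun v => (⟨(v.1 : G) * v.2,
    mul_mem (hSH v.1.2) (Subgroup.map_subtype_le _ v.2.2)⟩ : ↥H)) ?_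
  rintro ⟨p, o⟩ ⟨p', o'⟩ e
  obtain ⟨e1, e2⟩ := hinj p.2 p'.2 (hRodd.of_dvd_nat (Subgroup.orderOf_dvd_natCard _ (mul_mem o'.2 (inv_mem o.2))))
    (congrArg Subtype.val e)
  exact Prod.ext (Subtype.ext e1) (Subtype.ext e2)

end CfsgLib.OrderSix
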