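import Cfsg.Agent.Lib.OrderSix.KleinBlockData
import Cfsg.Agent.Lib.OrderSix.KleinLocal
import Cfsg.Agent.Lib.SmallCent.Degree
import Cfsg.Agent.S4480

/-!
Index six with `O_2` of order two: the core of the centralizer is trivial.
-/

set_option autoImplicit false
set_option linter.unusedVariables false
set_option linter.unusedSectionVars false
set_option linter.style.haveILetI false

namespace CfsgLib.OrderSix

open Cfsg CfsgLib CfsgLib.SelfCent CfsgLib.SCThree
open scoped ComplexConjugate CfsgLib.Char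

universe v

variable {G : Type v} [Group G] [Fintype G] {u c s : G}
variable {M : Ideal AlgInt} {r : ℕ} {A B C : IrrCharacter G} {ε : ℤ}

theorem KBlock.plus_formula (K : KBlock M u r A B C 1) {y : G} (hy : Odd (orderOf y)) :
    kS A B C 1 y y =
      ((Complex.normSq ((charDegree (B : G → ℂ) : ℂ) * (A : G → ℂ) y -
            (charDegree (A : G → ℂ) : ℂ) * (B : G → ℂ) y) /
          ((charDegree (A : G → ℂ) : ℝ) * charDegree (B : G → ℂ) *
            ((charDegree (A : G → ℂ) : ℝ) + charDegree (B : G → ℂ))) +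
        Complex.normSq ((C : G → ℂ) y - (charDegree (C : G → ℂ) : ℂ)) /
          (((charDegree (A : G → ℂ) : ℝ) + charDegree (B : G → ℂ)) * charDegree (C : G → ℂ)) : ℝ) : ℂ) := by
  unfold kS
  have hd := K.deg
  have hA := K.tA
  have hB := K.tB
  set f := charDegree (A : G → ℂ)
  set g := charDegree (B : G → ℂ)
  set q := charDegree (C : G → ℂ) with hq
  have hrel := K.rel y hy
  simp only [Int.cast_one, one_mul] at hrel
  have hc : (C : G → ℂ) y = 1 + (A : G → ℂ) y + (B : G → ℂ) y := by linear_combination -hrel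
  have hq' : (q : ℂ) = 1 + f + g := by
    have : q = 1 + f + g := by omega
    exact_mod_cast this
  have hf0 : (f : ℂ) ≠ 0 := Nat.cast_ne_zero.mpr (by omega)
  have hg0 : (g : ℂ) ≠ 0 := Nat.cast_ne_zero.mpr (by omega)
  have hfg : (f : ℂ) + g ≠ 0 := by
    rw [← Nat.cast_add]; exact Nat.cast_ne_zero.mpr (by omega)
  have hq0 : (1 : ℂ) + f + g ≠ 0 := by
    rw [← Nat.cast_one, ← Nat.cast_add, ← Nat.cast_add]; exact Nat.cast_ne_zero.mpr (by omega)
  push_cast
  rw [← Complex.mul_conj, ← Complex.mul_conj, hc, hq']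
  simp only [map_add, map_sub, map_mul, map_one, map_natCast]
  field_simp
  ring

theorem KBlock.minus_formula (K : KBlock M u r A B C (-1)) {x y : G} (hx : Odd (orderOf x))
    (hy : Odd (orderOf y)) :
    kS A B C (-1) x y =
      ((A : G → ℂ) x - (charDegree (A : G → ℂ) : ℂ)) * conj ((A : G → ℂ) y - (charDegree (A : G → ℂ) : ℂ)) /
          ((charDegree (A : G → ℂ) : ℂ) * ((charDegree (A : G → ℂ) : ℂ) + 1)) -
        ((charDegree (C : G → ℂ) : ℂ) * (B : G → ℂ) x - (charDegree (B : G → ℂ) : ℂ) * (C : G → ℂ) x) *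
            conj ((charDegree (C : G → ℂ) : ℂ) * (B : G → ℂ) y - (charDegree (B : G → ℂ) : ℂ) * (C : G → ℂ) y) /
          ((charDegree (B : G → ℂ) : ℂ) * (charDegree (C : G → ℂ) : ℂ) * ((charDegree (A : G → ℂ) : ℂ) + 1)) := by
  unfold kS
  have hd := K.deg
  have hA := K.tA
  have hB := K.tB
  have hC := K.tC
  set q := charDegree (A : G → ℂ) with hq
  set h := charDegree (B : G → ℂ)
  set k := charDegree (C : G → ℂ)
  have hax : (A : G → ℂ) x = (B : G → ℂ) x + (C : G → ℂ) x - 1 := by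
    have := K.rel x hx; push_cast at this; linear_combination this
  have hay : (A : G → ℂ) y = (B : G → ℂ) y + (C : G → ℂ) y - 1 := by
    have := K.rel y hy; push_cast at this; linear_combination this
  have hq' : (q : ℂ) = h + k - 1 := by
    have : (q : ℤ) = h + k - 1 := by omega
    exact_mod_cast this
  have hh0 : (h : ℂ) ≠ 0 := Nat.cast_ne_zero.mpr (by omega)
  have hk0 : (k : ℂ) ≠ 0 := Nat.cast_ne_zero.mpr (by omega)
  have hhk : (h : ℂ) + k ≠ 0 := by
    rw [← Nat.cast_add]; exact Nat.cast_ne_zero.mpr (by omega)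
  have hq0 : (h : ℂ) + k - 1 ≠ 0 := by rw [← hq']; exact Nat.cast_ne_zero.mpr (by omega)
  rw [hax, hay, hq']
  simp only [map_add, map_sub, map_mul, map_one, map_natCast, Int.cast_neg, Int.cast_one, neg_mul, one_mul]
  rw [show (h : ℂ) + k - 1 + 1 = h + k by ring]
  field_simp
  ring

theorem normSq_sub_le {a : ℂ} {n : ℕ} (ha : ‖a‖ ≤ n) : Complex.normSq (a - (n : ℂ)) ≤ 4 * (n : ℝ) ^ 2 := by
  rw [Complex.normSq_eq_norm_sq]
  have h1 : ‖a - (n : ℂ)‖ ≤ 2 * n := by
    refine (norm_sub_le _ _).trans ?_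
    rw [Complex.norm_natCast]; linarith
  nlinarith [norm_nonneg (a - (n : ℂ))]

theorem normSq_cross_le {a b : ℂ} {m n : ℕ} (ha : ‖a‖ ≤ m) (hb : ‖b‖ ≤ n) :
    Complex.normSq ((n : ℂ) * a - (m : ℂ) * b) ≤ 4 * ((m : ℝ) * n) ^ 2 := by
  rw [Complex.normSq_eq_norm_sq]
  have h1 : ‖(n : ℂ) * a - (m : ℂ) * b‖ ≤ 2 * (m * n) := by
    refine (norm_sub_le _ _).trans ?_
    rw [norm_mul, norm_mul, Complex.norm_natCast, Complex.norm_natCast]
    have h2 : (n : ℝ) * ‖a‖ ≤ n * m := mul_le_mul_of_nonneg_left ha (Nat.cast_nonneg _)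
    have h3 : (m : ℝ) * ‖b‖ ≤ m * n := mul_le_mul_of_nonneg_left hb (Nat.cast_nonneg _)
    linarith [mul_comm (n : ℝ) m]
  nlinarith [norm_nonneg ((n : ℂ) * a - (m : ℂ) * b)]

theorem prod_le_half {a b d : ℝ} (hd : 0 < d) : a * b / d ≤ (a ^ 2 / d + b ^ 2 / d) / 2 := by
  rw [← add_div, div_div, div_le_div_iff₀ hd (by positivity)]
  nlinarith [mul_nonneg hd.le (sq_nonneg (a - b))]

/-- The positive pattern with nontrivial core is impossible. -/
theorem KBlock.plus_false (K : KBlock M u r A B C 1) (h : KFour u c s) (hM : IsPModular 2 M) (hr : 5 ≤ r)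
    (hq : charDegree (C : G → ℂ) + 1 ≤ 12 * r) {y : G} (hy : Odd (orderOf y)) (hy1 : y ≠ 1)
    (hC : 4 * r ^ 4 ≤ Nat.card ↥(Subgroup.centralizer ({y} : Set G))) : False := by
  haveI := h.six.simple
  have hd := K.deg
  have ho := K.order
  have hA := K.tA
  have hB := K.tB
  have hA4 := K.cA
  have hB4 := K.cB
  have hf5 : 5 ≤ charDegree (A : G → ℂ) := by omega
  have hg5 : 5 ≤ charDegree (B : G → ℂ) := by omega
  have hmv := (K.moves hy1).2
  have h1 := K.pairs h hM hy hy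
  rw [K.plus_formula hy] at h1
  have hW := normSq_cross_le (norm_irr_le A y) (norm_irr_le B y)
  have hE := normSq_sub_le (norm_irr_le C y)
  set f := charDegree (A : G → ℂ)
  set g := charDegree (B : G → ℂ)
  set q := charDegree (C : G → ℂ)
  set nW := Complex.normSq ((g : ℂ) * (A : G → ℂ) y - (f : ℂ) * (B : G → ℂ) y)
  set nE := Complex.normSq ((C : G → ℂ) y - (q : ℂ))
  have hnE : 0 < nE := Complex.normSq_pos.mpr (sub_ne_zero.mpr hmv)
  have hnW : 0 ≤ nW := Complex.normSq_nonneg _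
  have hqR : (q : ℝ) = 1 + f + g := by
    have : q = 1 + f + g := by omega
    exact_mod_cast this
  have hfR : (5 : ℝ) ≤ f := by exact_mod_cast hf5
  have hgR : (5 : ℝ) ≤ g := by exact_mod_cast hg5
  have hq12 : (q : ℝ) + 1 ≤ 12 * r := by exact_mod_cast hq
  have hrR : (5 : ℝ) ≤ r := by exact_mod_cast hr
  set val := nW / ((f : ℝ) * g * ((f : ℝ) + g)) + nE / (((f : ℝ) + g) * q) with hval
  have hp1 : 0 < (f : ℝ) * g * ((f : ℝ) + g) := mul_pos (mul_pos (by linarith) (by linarith)) (by linarith)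
  have hp2 : 0 < ((f : ℝ) + g) * q := mul_pos (by linarith) (by linarith)
  have hv1 : nW / ((f : ℝ) * g * ((f : ℝ) + g)) ≤ f + g := by
    rw [div_le_iff₀ hp1]
    nlinarith [mul_nonneg (mul_nonneg (Nat.cast_nonneg (α := ℝ) f) (Nat.cast_nonneg (α := ℝ) g))
      (sq_nonneg ((f : ℝ) - g))]
  have hv2 : nE / (((f : ℝ) + g) * q) ≤ 5 := by
    rw [div_le_iff₀ hp2]
    nlinarith [mul_nonneg (Nat.cast_nonneg (α := ℝ) q) (show (0 : ℝ) ≤ q - 5 by linarith)]
  have hv : val ≤ 12 * r + 3 := by rw [hval]; linarith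
  have hv0 : 0 < val := add_pos_of_nonneg_of_pos (div_nonneg hnW hp1.le) (div_pos hnE hp2)
  set N := Nat.card (KPairs u c y y⁻¹)
  set cy := Nat.card ↥(Subgroup.centralizer ({y} : Set G))
  have h1' : (N : ℝ) * cy * cy = (Nat.card G : ℝ) * val := by exact_mod_cast h1
  have hG : (0 : ℝ) < Nat.card G := Nat.cast_pos.mpr Nat.card_pos
  have hN : N ≠ 0 := fun e => by
    rw [e, Nat.cast_zero, zero_mul, zero_mul] at h1'
    exact (mul_pos hG hv0).ne' h1'.symm
  have hN6 : (6 : ℝ) ≤ N := by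
    have := Nat.le_of_dvd (Nat.pos_of_ne_zero hN)
      (h.six_dvd_pairs hy (by rw [orderOf_inv]; exact hy))
    exact_mod_cast this
  have hs : (10 / 11 : ℝ) ≤ 1 + 1 / (f : ℝ) + ((1 : ℤ) : ℝ) / (g : ℝ) - 1 / (q : ℝ) := by
    have e1 : (0 : ℝ) ≤ 1 / (f : ℝ) := by positivity
    have e2 : (0 : ℝ) ≤ ((1 : ℤ) : ℝ) / (g : ℝ) := by positivity
    have e3 : 1 / (q : ℝ) ≤ 1 / 11 := one_div_le_one_div_of_le (by norm_num) (by linarith)
    linarith
  have hg : (Nat.card G : ℝ) * (10 / 11) ≤ 864 * (r : ℝ) ^ 4 := ho ▸ mul_le_mul_of_nonneg_left hs hG.le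
  have hcy : 4 * (r : ℝ) ^ 4 ≤ cy := by exact_mod_cast hC
  have hr4 : (0 : ℝ) < (r : ℝ) ^ 4 := by positivity
  have hc2 : (4 * (r : ℝ) ^ 4) * (4 * (r : ℝ) ^ 4) ≤ (cy : ℝ) * cy :=
    mul_le_mul hcy hcy (by positivity) (by positivity)
  have hlow : 6 * ((4 * (r : ℝ) ^ 4) * (4 * (r : ℝ) ^ 4)) ≤ (Nat.card G : ℝ) * val := by
    rw [← h1', mul_assoc (N : ℝ)]
    exact mul_le_mul hN6 hc2 (by positivity) (by positivity)
  have hup : (Nat.card G : ℝ) * val ≤ (864 * 11 / 10 * (r : ℝ) ^ 4) * (12 * r + 3) :=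
    mul_le_mul (by linarith) hv hv0.le (by positivity)
  have h96 : 96 * (r : ℝ) ^ 4 ≤ 864 * 11 / 10 * (12 * r + 3) := by
    refine le_of_mul_le_mul_right ?_ hr4
    nlinarith
  have h3 : (125 : ℝ) ≤ (r : ℝ) ^ 3 := by
    have := pow_le_pow_left₀ (by norm_num) hrR 3
    norm_num at this
    exact this
  have h4 := mul_le_mul_of_nonneg_left h3 (show (0 : ℝ) ≤ r by linarith)
  nlinarith

/-- The negative pattern: the bilinear sum vanishes. -/
theorem KBlock.minus_zero (K : KBlock M u r A B C (-1)) (h : KFour u c s) (hM : IsPModular 2 M) (hr : 5 ≤ r)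
    {x y : G} (hx : Odd (orderOf x)) (hy : Odd (orderOf y))
    (hCx : 4 * r ^ 4 ≤ Nat.card ↥(Subgroup.centralizer ({x} : Set G)))
    (hCy : 4 * r ^ 4 ≤ Nat.card ↥(Subgroup.centralizer ({y} : Set G))) :
    kS A B C (-1) x y = 0 := by
  haveI := h.six.simple
  have hd := K.deg
  have ho := K.order
  have hA4 := K.cA
  have hB4 := K.cB
  have hC4 := K.cC'
  have hA := K.tA
  have hB := K.tB
  have hC := K.tC
  set q := charDegree (A : G → ℂ)
  set hh := charDegree (B : G → ℂ)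
  set k := charDegree (C : G → ℂ)
  have hq5 : (5 : ℝ) ≤ q := by exact_mod_cast (show 5 ≤ q by omega)
  have hh3 : (3 : ℝ) ≤ hh := by exact_mod_cast (show 3 ≤ hh by omega)
  have hk3 : (3 : ℝ) ≤ k := by exact_mod_cast (show 3 ≤ k by omega)
  set E := fun z : G => (A : G → ℂ) z - (q : ℂ) with hE
  set W := fun z : G => (k : ℂ) * (B : G → ℂ) z - (hh : ℂ) * (C : G → ℂ) z with hW
  have hp1 : 0 < (q : ℝ) * ((q : ℝ) + 1) := mul_pos (by linarith) (by linarith)
  have hp2 : 0 < (hh : ℝ) * k * ((q : ℝ) + 1) := mul_pos (mul_pos (by linarith) (by linarith)) (by linarith)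
  -- the diagonal
  have hdiag : ∀ z : G, Odd (orderOf z) → ‖E z‖ ^ 2 / ((q : ℝ) * ((q : ℝ) + 1)) < 4 ∧
      ‖W z‖ ^ 2 / ((hh : ℝ) * k * ((q : ℝ) + 1)) < 4 := by
    intro z hz
    have h1 := K.pairs h hM hz hz
    have hval : kS A B C (-1) z z = ((Complex.normSq (E z) / ((q : ℝ) * ((q : ℝ) + 1)) -
        Complex.normSq (W z) / ((hh : ℝ) * k * ((q : ℝ) + 1)) : ℝ) : ℂ) := by
      push_cast
      rw [← Complex.mul_conj, ← Complex.mul_conj, K.minus_formula hz hz]
    rw [hval] at h1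
    have h1' : (Nat.card (KPairs u c z z⁻¹) : ℝ) * Nat.card ↥(Subgroup.centralizer ({z} : Set G)) *
        Nat.card ↥(Subgroup.centralizer ({z} : Set G)) = (Nat.card G : ℝ) *
        (Complex.normSq (E z) / ((q : ℝ) * ((q : ℝ) + 1)) -
          Complex.normSq (W z) / ((hh : ℝ) * k * ((q : ℝ) + 1))) := by exact_mod_cast h1
    have hG : (0 : ℝ) < Nat.card G := Nat.cast_pos.mpr Nat.card_pos
    have hnn : 0 ≤ Complex.normSq (E z) / ((q : ℝ) * ((q : ℝ) + 1)) -
        Complex.normSq (W z) / ((hh : ℝ) * k * ((q : ℝ) + 1)) := by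
      by_contra hneg
      push Not at hneg
      have h2 := mul_neg_of_pos_of_neg hG hneg
      rw [← h1'] at h2
      exact absurd h2 (not_lt.mpr (by positivity))
    have hb : Complex.normSq (E z) / ((q : ℝ) * ((q : ℝ) + 1)) < 4 := by
      rw [div_lt_iff₀ hp1]
      have := normSq_sub_le (norm_irr_le A z)
      simp only [hE]
      nlinarith
    rw [← Complex.normSq_eq_norm_sq, ← Complex.normSq_eq_norm_sq]
    exact ⟨hb, by linarith⟩
  obtain ⟨hEx, hWx⟩ := hdiag x hx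
  obtain ⟨hEy, hWy⟩ := hdiag y hy
  have hS8 : ‖kS A B C (-1) x y‖ < 8 := by
    rw [K.minus_formula hx hy]
    refine (norm_sub_le _ _).trans_lt ?_
    have e1 : ‖(q : ℂ) * ((q : ℂ) + 1)‖ = (q : ℝ) * ((q : ℝ) + 1) := by
      rw [← Nat.cast_one (R := ℂ), ← Nat.cast_add, ← Nat.cast_mul, Complex.norm_natCast]; push_cast; ring
    have e2 : ‖(hh : ℂ) * (k : ℂ) * ((q : ℂ) + 1)‖ = (hh : ℝ) * k * ((q : ℝ) + 1) := by
      rw [← Nat.cast_one (R := ℂ), ← Nat.cast_add, ← Nat.cast_mul, ← Nat.cast_mul, Complex.norm_natCast]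
      push_cast; ring
    rw [norm_div, norm_div, norm_mul (_ - _), norm_mul (_ - _), Complex.norm_conj, Complex.norm_conj, e1, e2]
    have a1 := prod_le_half (a := ‖E x‖) (b := ‖E y‖) hp1
    have a2 := prod_le_half (a := ‖W x‖) (b := ‖W y‖) hp2
    simp only [hE, hW] at a1 a2 hEx hWx hEy hWy
    linarith
  have h1 := congrArg norm (K.pairs h hM hx hy)
  rw [norm_mul, norm_mul, norm_mul, Complex.norm_natCast, Complex.norm_natCast, Complex.norm_natCast,
    Complex.norm_natCast] at h1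
  have hG : (0 : ℝ) < Nat.card G := Nat.cast_pos.mpr Nat.card_pos
  by_cases hN : Nat.card (KPairs u c x y⁻¹) = 0
  · rw [hN, Nat.cast_zero, zero_mul, zero_mul] at h1
    exact norm_eq_zero.mp ((mul_eq_zero.mp h1.symm).resolve_left hG.ne')
  exfalso
  have hN6 : (6 : ℝ) ≤ Nat.card (KPairs u c x y⁻¹) := by
    have := Nat.le_of_dvd (Nat.pos_of_ne_zero hN) (h.six_dvd_pairs hx (by rw [orderOf_inv]; exact hy))
    exact_mod_cast this
  have hs : (1 / 3 : ℝ) ≤ 1 + 1 / (q : ℝ) + ((-1 : ℤ) : ℝ) / (hh : ℝ) - 1 / (k : ℝ) := by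
    have e1 : (0 : ℝ) ≤ 1 / (q : ℝ) := by positivity
    have e2 : 1 / (hh : ℝ) ≤ 1 / 3 := one_div_le_one_div_of_le (by norm_num) hh3
    have e3 : 1 / (k : ℝ) ≤ 1 / 3 := one_div_le_one_div_of_le (by norm_num) hk3
    push_cast
    rw [neg_div]
    linarith
  have hg : (Nat.card G : ℝ) * (1 / 3) ≤ 864 * (r : ℝ) ^ 4 := ho ▸ mul_le_mul_of_nonneg_left hs hG.le
  have hr4 : (625 : ℝ) ≤ (r : ℝ) ^ 4 := by
    have := pow_le_pow_left₀ (by norm_num) (show (5 : ℝ) ≤ r by exact_mod_cast hr) 4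
    norm_num at this
    exact this
  set cx := Nat.card ↥(Subgroup.centralizer ({x} : Set G))
  set cy := Nat.card ↥(Subgroup.centralizer ({y} : Set G))
  have hcx : 4 * (r : ℝ) ^ 4 ≤ cx := by exact_mod_cast hCx
  have hcy : 4 * (r : ℝ) ^ 4 ≤ cy := by exact_mod_cast hCy
  have hlow : 6 * ((4 * (r : ℝ) ^ 4) * (4 * (r : ℝ) ^ 4)) ≤ (Nat.card G : ℝ) * ‖kS A B C (-1) x y‖ := by
    rw [← h1, mul_assoc ((Nat.card (KPairs u c x y⁻¹)) : ℝ)]
    exact mul_le_mul hN6 (mul_le_mul hcx hcy (by positivity) (by positivity)) (by positivity) (by positivity)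
  have hup : (Nat.card G : ℝ) * ‖kS A B C (-1) x y‖ ≤ (3 * 864 * (r : ℝ) ^ 4) * 8 :=
    mul_le_mul (by linarith) hS8.le (norm_nonneg _) (by positivity)
  nlinarith

/-- The negative pattern with nontrivial core is impossible. -/
theorem KBlock.minus_false (K : KBlock M u r A B C (-1)) (h : KFour u c s) (hM : IsPModular 2 M) (hr : 5 ≤ r)
    {z : G} (hz : z ≠ 1) (hodd : ∀ i : ℤ, Odd (orderOf (z ^ i)))
    (hC : ∀ i : ℤ, z ^ i ≠ 1 → 4 * r ^ 4 ≤ Nat.card ↥(Subgroup.centralizer ({z ^ i} : Set G))) : False := by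
  classical
  haveI := h.six.simple
  set X := Subgroup.zpowers z with hX
  letI : Fintype ↥X := Fintype.ofFinite _
  have hmul := fun χ : IrrCharacter G => SmallCent.exists_twisted_sum (X.subtype) (1 : ↥X →* ℂ)
    (Char.isCharacter_of_isIrr χ.2)
  choose n hn using hmul
  simp only [MonoidHom.one_apply, one_mul, Subgroup.coe_subtype] at hn
  set m := Fintype.card ↥X with hm
  have hm0 : (m : ℂ) ≠ 0 := Nat.cast_ne_zero.mpr Fintype.card_ne_zero
  have hoddX : ∀ x : ↥X, Odd (orderOf (x : G)) := fun x => by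
    obtain ⟨i, hi⟩ := Subgroup.mem_zpowers_iff.mp x.2
    rw [← hi]; exact hodd i
  have hone : ∀ y : G, Odd (orderOf y) → kS A B C (-1) 1 y = 0 ∧ kS A B C (-1) y 1 = 0 := by
    intro y hy
    have hA := K.tA
    have hB := K.tB
    have hC' := K.tC
    have a0 : (charDegree (A : G → ℂ) : ℂ) ≠ 0 := Nat.cast_ne_zero.mpr (by omega)
    have b0 : (charDegree (B : G → ℂ) : ℂ) ≠ 0 := Nat.cast_ne_zero.mpr (by omega)
    have c0 : (charDegree (C : G → ℂ) : ℂ) ≠ 0 := Nat.cast_ne_zero.mpr (by omega)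
    have h1 := K.rel y hy
    have h2 := congrArg conj h1
    simp only [map_add, map_sub, map_mul, map_one, map_intCast, map_zero] at h2
    constructor <;>
    · simp only [kS, (Blocks.irr_degree_eq A).1, (Blocks.irr_degree_eq B).1, (Blocks.irr_degree_eq C).1,
        map_natCast]
      field_simp
      first | linear_combination h1 | linear_combination h2
  have hzero : ∀ x y : ↥X, kS A B C (-1) (x : G) (y : G) = 0 := by
    intro x y
    by_cases hx1 : (x : G) = 1
    · rw [hx1]; exact (hone _ (hoddX y)).1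
    by_cases hy1 : (y : G) = 1
    · rw [hy1]; exact (hone _ (hoddX x)).2
    obtain ⟨i, hi⟩ := Subgroup.mem_zpowers_iff.mp x.2
    obtain ⟨j, hj⟩ := Subgroup.mem_zpowers_iff.mp y.2
    refine K.minus_zero h hM hr (hoddX x) (hoddX y) ?_ ?_
    · rw [← hi]; exact hC i (hi ▸ hx1)
    · rw [← hj]; exact hC j (hj ▸ hy1)
  -- the linear and the quadratic relation between the multiplicities
  have hlin : (1 : ℤ) + n A - n B - n C = 0 := by
    have h1 : ∑ x : ↥X, (1 + (A : G → ℂ) x + ((-1 : ℤ) : ℂ) * (B : G → ℂ) x - (C : G → ℂ) x) = 0 :=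
      Finset.sum_eq_zero fun x _ => K.rel x (hoddX x)
    rw [Finset.sum_sub_distrib, Finset.sum_add_distrib, Finset.sum_add_distrib, ← Finset.mul_sum, hn, hn, hn,
      Finset.sum_const, Finset.card_univ, nsmul_eq_mul, mul_one, ← hm] at h1
    have h2 : ((1 + n A - n B - n C : ℤ) : ℂ) = ((0 : ℤ) : ℂ) := by
      refine mul_left_cancel₀ hm0 ?_
      push_cast at h1 ⊢
      linear_combination h1
    exact_mod_cast h2
  have hd := K.deg
  have hA4 := K.cA
  have hB4 := K.cB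
  have hC4 := K.cC'
  have hA := K.tA
  have hB := K.tB
  have hC' := K.tC
  set q := charDegree (A : G → ℂ) with hq
  set hh := charDegree (B : G → ℂ) with hhh
  set k := charDegree (C : G → ℂ) with hk
  have hquad : (q : ℤ) * hh * k + (n A : ℤ) ^ 2 * hh * k - (n B : ℤ) ^ 2 * q * k - (n C : ℤ) ^ 2 * q * hh = 0 := by
    have h1 : ∑ x : ↥X, ∑ y : ↥X, kS A B C (-1) (x : G) (y : G) = 0 :=
      Finset.sum_eq_zero fun x _ => Finset.sum_eq_zero fun y _ => hzero x y
    simp only [kS, ← hq, ← hhh, ← hk, Finset.sum_add_distrib, Finset.sum_sub_distrib, ← Finset.sum_div,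
      Finset.sum_const, Finset.card_univ, ← hm, nsmul_eq_mul, mul_one, ← Finset.mul_sum, ← Finset.sum_mul,
      ← map_sum, hn, map_mul, map_natCast] at h1
    have q0 : (q : ℂ) ≠ 0 := Nat.cast_ne_zero.mpr (by omega)
    have h0 : (hh : ℂ) ≠ 0 := Nat.cast_ne_zero.mpr (by omega)
    have k0 : (k : ℂ) ≠ 0 := Nat.cast_ne_zero.mpr (by omega)
    push_cast at h1
    field_simp at h1
    have h2 : (((q : ℤ) * hh * k + (n A : ℤ) ^ 2 * hh * k - (n B : ℤ) ^ 2 * q * k -
        (n C : ℤ) ^ 2 * q * hh : ℤ) : ℂ) = ((0 : ℤ) : ℂ) := by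
      refine mul_left_cancel₀ (mul_ne_zero hm0 hm0) ?_
      push_cast
      linear_combination h1
    exact_mod_cast h2
  set E : ℤ := (n A : ℤ) - q with hE
  set W : ℤ := (k : ℤ) * n B - (hh : ℤ) * n C with hW
  have heq : ((q : ℤ) * W) ^ 2 = (q : ℤ) * hh * k * E ^ 2 := by
    have e1 : (n A : ℤ) = n B + n C - 1 := by linarith
    have e2 : (q : ℤ) = hh + k - 1 := by omega
    rw [hE, hW]
    rw [e1, e2] at hquad ⊢
    linear_combination (-((hh : ℤ) + k - 1) * ((hh : ℤ) + k)) * hquad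
  have hE0 : E = 0 := by
    by_contra hne
    obtain ⟨t, ht⟩ : E ∣ (q : ℤ) * W :=
      (Int.pow_dvd_pow_iff two_ne_zero).mp ⟨(q : ℤ) * hh * k, by rw [heq]; ring⟩
    have ht2 : t ^ 2 = (q : ℤ) * hh * k := by
      rw [ht, mul_pow] at heq
      exact mul_left_cancel₀ (pow_ne_zero 2 hne) (heq.trans (mul_comm _ _))
    have h5 : ((q : ℤ) * hh * k) % 8 = 5 := by
      have hh8 : (hh : ℤ) % 8 = 3 ∨ (hh : ℤ) % 8 = 7 := by omega
      have hk8 : (k : ℤ) % 8 = 3 ∨ (k : ℤ) % 8 = 7 := by omega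
      rw [Int.mul_emod, Int.mul_emod (q : ℤ)]
      rcases hh8 with e | e <;> rcases hk8 with e' | e'
      · rw [show (q : ℤ) % 8 = 5 by omega, e, e']; norm_num
      · rw [show (q : ℤ) % 8 = 1 by omega, e, e']; norm_num
      · rw [show (q : ℤ) % 8 = 1 by omega, e, e']; norm_num
      · rw [show (q : ℤ) % 8 = 5 by omega, e, e']; norm_num
    rw [← ht2, pow_two, Int.mul_emod] at h5
    have h0 := Int.emod_nonneg t (show (8 : ℤ) ≠ 0 by norm_num)
    have h8 := Int.emod_lt_of_pos t (show (0 : ℤ) < 8 by norm_num)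
    revert h5
    generalize t % 8 = w at h0 h8
    interval_cases w <;> norm_num
  -- the character is trivial on `z`
  have hnq : n A = q := by omega
  have hre : ∀ x : ↥X, ((A : G → ℂ) x).re = (q : ℝ) := by
    have hle : ∀ x ∈ (Finset.univ : Finset ↥X), ((A : G → ℂ) (x : G)).re ≤ (fun _ => (q : ℝ)) x := fun x _ =>
      (Complex.re_le_norm _).trans (norm_irr_le A _)
    have hsum : ∑ x : ↥X, ((A : G → ℂ) (x : G)).re = ∑ _x : ↥X, (q : ℝ) := by
      rw [← Complex.re_sum, hn, hnq, Finset.sum_const, Finset.card_univ, ← hm, nsmul_eq_mul]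
      simp
    exact fun x => (Finset.sum_eq_sum_iff_of_le hle).mp hsum x (Finset.mem_univ _)
  have hzq : (A : G → ℂ) z = (q : ℂ) := by
    have h1 := hre ⟨z, Subgroup.mem_zpowers z⟩
    have h2 := norm_irr_le A z
    have h3 := Complex.sq_norm_sub_sq_re ((A : G → ℂ) z)
    have h4 : ((A : G → ℂ) z).im = 0 := by
      have := norm_nonneg ((A : G → ℂ) z)
      nlinarith
    exact Complex.ext (by simpa using h1) (by simpa using h4)
  exact (K.moves hz).1 hzq

/-- The bound for the largest degree in the positive pattern. -/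
theorem KBlock.degree_bound {A B C : IrrCharacter G} (K : KBlock M u (Nat.card (kZ u s)) A B C 1)
    (h : KFour u c s) (hM : IsPModular 2 M) :
    charDegree (C : G → ℂ) + 1 ≤ 12 * Nat.card (kZ u s) := by
  classical
  haveI := Fact.mk Nat.prime_two
  haveI := h.six.simple
  set r := Nat.card (kZ u s) with hr'
  have hr : 1 ≤ r := Nat.card_pos
  obtain ⟨S, hS, hsS, huS, hK, hmem⟩ := h.sylow
  set g₀ := (S : Subgroup G).index with hg₀
  have hg : Nat.card G = 4 * g₀ := by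
    rw [hg₀, ← hK.card_four, Subgroup.card_mul_index]
  have hg0 : Odd g₀ := Nat.not_even_iff_odd.mp fun he => S.not_dvd_index (even_iff_two_dvd.mp he)
  have hnc : ¬ ∃ N : Subgroup G, N.Normal ∧ Nat.card N = g₀ := by
    rintro ⟨N, hN, hc⟩
    have := h.six.odd_normal N hN (hc ▸ hg0)
    rw [this, Subgroup.card_bot] at hc
    rw [← hc, mul_one] at hg
    refine h.six.ncomm ⟨⟨fun a b => ?_⟩⟩
    have hcC := h.card_C
    have hle := Subgroup.card_le_card_group (cC u)
    rw [hg] at hle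
    have : 0 < Nat.card (cO u) := Nat.card_pos
    omega
  have ht : ∀ χ : IrrCharacter G, χ ≠ Blocks.trivIrr G → (χ : G → ℂ) ≠ (fun _ => 1) :=
    fun χ hχ e => hχ (Subtype.ext e)
  obtain ⟨m, hm, -⟩ := Cfsg.Agent.S4480.result M hM g₀ hg0 hg hnc S u huS h.six.ou A B C 1 1 (-1)
    (Set.ext fun χ => by
      rw [K.block χ, Set.mem_ofPred_eq]
      exact or_congr_left ⟨fun e => e ▸ rfl, fun e => Subtype.ext e⟩)
    ⟨ht A K.hA, ht B K.hB, ht C K.hC, K.hAB, K.hAC, K.hBC⟩
    ⟨Or.inl rfl, Or.inl rfl, Or.inr rfl⟩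
    ⟨by rw [K.vA, Int.cast_one], K.vB, by rw [K.vC, Int.cast_neg, Int.cast_one]⟩ (by norm_num) rfl
  have hcS : 4 * r ≤ Nat.card (Subgroup.centralizer ((S : Subgroup G) : Set G)) := by
    rw [hr', ← h.card_cV]
    refine Subgroup.card_le_of_le (fun x hx => ?_)
    obtain ⟨h1, h2⟩ := Subgroup.mem_inf.mp hx
    rw [Subgroup.mem_centralizer_singleton_iff] at h2
    refine Subgroup.mem_centralizer_iff.mpr fun v hv => ?_
    rcases hmem v hv with e | e | e | e <;> rw [e]
    · simp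
    · exact (mem_cC.mp h1).symm
    · exact h2.symm
    · exact ((show Commute x u from mem_cC.mp h1).mul_right h2).eq.symm
  rw [show Subgroup.centralizer ({u} : Set G) = cC u from rfl, h.card_C, h.card_cO_sq, ← hr'] at hm
  set q := charDegree (C : G → ℂ)
  have hm0 : 1 ≤ m := Nat.one_le_iff_ne_zero.mpr fun e => by
    rw [e, zero_mul, zero_mul] at hm
    have : 0 < r ^ 2 := pow_pos (by omega) 2
    omega
  have h1 : 4 * r * (q + 1) ≤ 4 * (12 * r ^ 2) := by
    rw [hm]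
    exact Nat.mul_le_mul_right _ (le_trans (by rw [one_mul]) (Nat.mul_le_mul hm0 hcS))
  refine Nat.le_of_mul_le_mul_left ?_ (show 0 < 4 * r by omega)
  calc 4 * r * (q + 1) ≤ 4 * (12 * r ^ 2) := h1
    _ = _ := by ring

/-- The core is trivial. -/
theorem KFour.cO_bot (h : KFour u c s) : cO u = ⊥ := by
  classical
  haveI := Fact.mk Nat.prime_two
  haveI := h.six.simple
  by_contra hne
  obtain ⟨z, hz, hz1, hzu, hzs, hzv⟩ := h.exists_z hne
  have hr := h.five_le hne
  have hpow : ∀ i : ℤ, z ^ i ∈ kZ u s := fun i => zpow_mem hz i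
  have hodd : ∀ i : ℤ, Odd (orderOf (z ^ i)) := fun i => (h.mem_kZ.mp (hpow i)).2.2
  have hC : ∀ i : ℤ, 4 * Nat.card (kZ u s) ^ 4 ≤ Nat.card ↥(Subgroup.centralizer ({z ^ i} : Set G)) :=
    fun i => h.bound (hpow i) (fun o ho => ((show Commute z o from hzu o ho).zpow_left i).eq)
      (fun o ho => ((show Commute z o from hzs o ho).zpow_left i).eq)
      (fun o ho => ((show Commute z o from hzv o ho).zpow_left i).eq)
  obtain ⟨M, hM⟩ := Blocks.exists_isPModular Nat.prime_two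
  obtain ⟨A, B, C, ε, K⟩ := h.exists_block hM
  set r := Nat.card (kZ u s) with hr'
  rcases K.pm with e | e <;> subst e
  swap
  · exact K.minus_false h hM hr hz1 hodd (fun i _ => hC i)
  exact K.plus_false h hM hr (K.degree_bound h hM) (h.mem_kZ.mp hz).2.2 hz1 (by simpa using hC 1)

end CfsgLib.OrderSix
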