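import Cfsg.Agent.Lib.OrderSix.KleinPairs
import Cfsg.Agent.Lib.BrauerReynolds.Centralizer
import Cfsg.Agent.Lib.Char.Eigen

/-!
Index six with `O_2` of order two: the four characters of the principal block.
-/

set_option autoImplicit false
set_option linter.unusedVariables false
set_option linter.unusedSectionVars false
set_option linter.style.haveILetI false

namespace CfsgLib.OrderSix

open Cfsg CfsgLib CfsgLib.SelfCent CfsgLib.SCThree
open scoped ComplexConjugate CfsgLib.Char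

universe v

variable {G : Type v} [Group G] [Fintype G] {u c s : G}

/-- The nontrivial members of the principal block with their signs. -/
structure KBlock (M : Ideal AlgInt) (u : G) (r : ℕ) (A B C : IrrCharacter G) (ε : ℤ) : Prop where
  pm : ε = 1 ∨ ε = -1
  hAB : A ≠ B
  hAC : A ≠ C
  hBC : B ≠ C
  hA : A ≠ Blocks.trivIrr G
  hB : B ≠ Blocks.trivIrr G
  hC : C ≠ Blocks.trivIrr G
  block : ∀ χ, χ ∈ principalBlock M G ↔ χ = Blocks.trivIrr G ∨ χ = A ∨ χ = B ∨ χ = C
  vA : (A : G → ℂ) u = 1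
  vB : (B : G → ℂ) u = ε
  vC : (C : G → ℂ) u = -1
  cA : (4 : ℤ) ∣ (charDegree (A : G → ℂ) : ℤ) - 1
  cB : (4 : ℤ) ∣ (charDegree (B : G → ℂ) : ℤ) - ε
  cC' : (4 : ℤ) ∣ (charDegree (C : G → ℂ) : ℤ) + 1
  deg : 1 + (charDegree (A : G → ℂ) : ℤ) + ε * (charDegree (B : G → ℂ) : ℤ) -
    (charDegree (C : G → ℂ) : ℤ) = 0
  rel : ∀ y : G, Odd (orderOf y) → 1 + (A : G → ℂ) y + (ε : ℂ) * (B : G → ℂ) y - (C : G → ℂ) y = 0
  tA : 2 ≤ charDegree (A : G → ℂ)
  tB : 2 ≤ charDegree (B : G → ℂ)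
  tC : 2 ≤ charDegree (C : G → ℂ)
  order : (Nat.card G : ℝ) * (1 + 1 / (charDegree (A : G → ℂ) : ℝ) + (ε : ℝ) / (charDegree (B : G → ℂ) : ℝ) -
    1 / (charDegree (C : G → ℂ) : ℝ)) = 864 * (r : ℝ) ^ 4

/-- The bilinear sum over the principal block. -/
noncomputable def kS (A B C : IrrCharacter G) (ε : ℤ) (y₁ y₂ : G) : ℂ :=
  1 + (A : G → ℂ) y₁ * conj ((A : G → ℂ) y₂) / (charDegree (A : G → ℂ) : ℂ) +
    (ε : ℂ) * ((B : G → ℂ) y₁ * conj ((B : G → ℂ) y₂)) / (charDegree (B : G → ℂ) : ℂ) -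
    (C : G → ℂ) y₁ * conj ((C : G → ℂ) y₂) / (charDegree (C : G → ℂ) : ℂ)

theorem norm_irr_le (χ : IrrCharacter G) (g : G) :
    ‖(χ : G → ℂ) g‖ ≤ (charDegree (χ : G → ℂ) : ℝ) := by
  obtain ⟨d, ρ, hρ, e⟩ := χ.2
  have h := Char.norm_character_le ρ g
  have hd : charDegree (χ : G → ℂ) = Module.finrank ℂ (Fin d → ℂ) := by
    rw [← e]; simp [charDegree, Representation.char_one]
  rw [hd, ← e]
  exact h

theorem two_le_degree [IsSimpleGroup G] (hna : ¬ IsMulCommutative G) {χ : IrrCharacter G}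
    (hne : χ ≠ Blocks.trivIrr G) : 2 ≤ charDegree (χ : G → ℂ) := by
  by_contra hlt
  have h0 := (Blocks.irr_degree_eq χ).2
  have h1 : (χ : G → ℂ) 1 = 1 := by
    rw [(Blocks.irr_degree_eq χ).1, show charDegree (χ : G → ℂ) = 1 by omega, Nat.cast_one]
  refine hna ⟨⟨fun a b => ?_⟩⟩
  have hl := Char.linear_mul (Char.isCharacter_of_isIrr χ.2) h1
  have hi : ∀ x : G, (χ : G → ℂ) x * (χ : G → ℂ) x⁻¹ = 1 := fun x => by rw [← hl, mul_inv_cancel, h1]
  have : (χ : G → ℂ) (a * b * (b * a)⁻¹) = (χ : G → ℂ) 1 := by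
    rw [mul_inv_rev, hl, hl, hl, h1]
    linear_combination ((χ : G → ℂ) b * (χ : G → ℂ) b⁻¹) * hi a + hi b
  exact mul_inv_eq_one.mp (BrauerReynolds.faithful_of_simple hne this)

/-- The principal block. -/
theorem KFour.exists_block (h : KFour u c s) {M : Ideal AlgInt} (hM : IsPModular 2 M) :
    ∃ A B C ε, KBlock M u (Nat.card (kZ u s)) A B C ε := by
  classical
  haveI := h.six.simple
  obtain ⟨S, hS, hsS, huS, hK, hmem⟩ := h.sylow
  obtain ⟨Z, a, hcard, hmemZ, hT, hT1, hpm, hcong, hval, hrel⟩ := Invol.klein_block hM S hK h.six.one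
  have hform := Invol.klein_order_formula hM S hK h.six.one huS h.six.ou
  set t := Blocks.trivIrr G with ht
  obtain ⟨p, q, r, hpq, hpr, hqr, hset⟩ := Finset.card_eq_three.mp
    (show (Z.erase t).card = 3 by rw [Finset.card_erase_of_mem hT, hcard])
  have hZ : Z = insert t ({p, q, r} : Finset (IrrCharacter G)) := by rw [← hset, Finset.insert_erase hT]
  have hmemC : ∀ χ ∈ ({p, q, r} : Finset (IrrCharacter G)), χ ∈ Z ∧ χ ≠ t := fun χ hχ => by
    rw [← hset, Finset.mem_erase] at hχ; exact ⟨hχ.2, hχ.1⟩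
  set r₀ := Nat.card (kZ u s) with hr₀
  have hcS : Nat.card (Subgroup.centralizer ((S : Subgroup G) : Set G)) = 4 * r₀ := by
    rw [hr₀, ← h.card_cV]
    refine congrArg (fun H : Subgroup G => Nat.card H) (le_antisymm (fun x hx => ?_) (fun x hx => ?_))
    · exact Subgroup.mem_inf.mpr ⟨mem_cC.mpr (hx u huS).symm,
        Subgroup.mem_centralizer_singleton_iff.mpr (hx s hsS).symm⟩
    · obtain ⟨h1, h2⟩ := Subgroup.mem_inf.mp hx
      rw [Subgroup.mem_centralizer_singleton_iff] at h2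
      refine Subgroup.mem_centralizer_iff.mpr fun v hv => ?_
      rcases hmem v hv with e | e | e | e <;> rw [e]
      · simp
      · exact (mem_cC.mp h1).symm
      · exact h2.symm
      · exact ((show Commute x u from mem_cC.mp h1).mul_right h2).eq.symm
  have hcu : Nat.card (Subgroup.centralizer ({u} : Set G)) = 12 * r₀ ^ 2 := by
    rw [show Subgroup.centralizer ({u} : Set G) = cC u from rfl, h.card_C, h.card_cO_sq]
  -- a labelling with the given signs
  suffices key : ∀ A B C : IrrCharacter G, Z = insert t ({A, B, C} : Finset (IrrCharacter G)) →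
      A ≠ B → A ≠ C → B ≠ C → A ≠ t → B ≠ t → C ≠ t → a A = 1 → a C = -1 →
      ∃ A B C ε, KBlock M u r₀ A B C ε by
    obtain ⟨hp, hpt⟩ := hmemC p (by simp)
    obtain ⟨hq, hqt⟩ := hmemC q (by simp)
    obtain ⟨hr, hrt⟩ := hmemC r (by simp)
    have hsum : 1 + a p * (charDegree (p : G → ℂ) : ℤ) + a q * (charDegree (q : G → ℂ) : ℤ) +
        a r * (charDegree (r : G → ℂ) : ℤ) = 0 := by
      have h1 := hrel 1 (by simp)
      rw [hZ, Finset.sum_insert (by simp [hpt.symm, hqt.symm, hrt.symm]), Finset.sum_insert (by simp [hpq, hpr]),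
        Finset.sum_pair hqr, hT1, (Blocks.irr_degree_eq p).1, (Blocks.irr_degree_eq q).1,
        (Blocks.irr_degree_eq r).1, show (t : G → ℂ) 1 = 1 from rfl] at h1
      push_cast at h1
      have h2 : ((1 + a p * (charDegree (p : G → ℂ) : ℤ) + a q * (charDegree (q : G → ℂ) : ℤ) +
        a r * (charDegree (r : G → ℂ) : ℤ) : ℤ) : ℂ) = ((0 : ℤ) : ℂ) := by push_cast; linear_combination h1
      exact_mod_cast h2
    have perm : ∀ x y z : IrrCharacter G, ({x, y, z} : Finset (IrrCharacter G)) = {p, q, r} →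
        Z = insert t ({x, y, z} : Finset (IrrCharacter G)) := fun x y z e => by rw [e, hZ]
    have e1 : ({p, r, q} : Finset (IrrCharacter G)) = {p, q, r} := by ext; simp; tauto
    have e2 : ({q, p, r} : Finset (IrrCharacter G)) = {p, q, r} := by ext; simp; tauto
    have e3 : ({q, r, p} : Finset (IrrCharacter G)) = {p, q, r} := by ext; simp; tauto
    have e4 : ({r, p, q} : Finset (IrrCharacter G)) = {p, q, r} := by ext; simp; tauto
    have e5 : ({r, q, p} : Finset (IrrCharacter G)) = {p, q, r} := by ext; simp; tauto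
    have hp0 := (Blocks.irr_degree_eq p).2
    have hq0 := (Blocks.irr_degree_eq q).2
    have hr0 := (Blocks.irr_degree_eq r).2
    have := two_le_degree h.six.ncomm hpt
    have := two_le_degree h.six.ncomm hqt
    have := two_le_degree h.six.ncomm hrt
    rcases hpm p hp with ap | ap <;> rcases hpm q hq with aq | aq <;> rcases hpm r hr with ar | ar
    · exfalso; rw [ap, aq, ar] at hsum; omega
    · exact key p q r (perm _ _ _ rfl) hpq hpr hqr hpt hqt hrt ap ar
    · exact key p r q (perm _ _ _ e1) hpr hpq hqr.symm hpt hrt hqt ap aq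
    · exact key p q r (perm _ _ _ rfl) hpq hpr hqr hpt hqt hrt ap ar
    · exact key q r p (perm _ _ _ e3) hqr hpq.symm hpr.symm hqt hrt hpt aq ap
    · exact key q p r (perm _ _ _ e2) hpq.symm hqr hpr hqt hpt hrt aq ar
    · exact key r p q (perm _ _ _ e4) hpr.symm hqr.symm hpq hrt hpt hqt ar aq
    · exfalso; rw [ap, aq, ar] at hsum; omega
  intro A B C hZ' hAB hAC hBC hA hB hC aA aC
  have hAZ : A ∈ Z := by simp [hZ']
  have hBZ : B ∈ Z := by simp [hZ']
  have hCZ : C ∈ Z := by simp [hZ']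
  have hu2 : 2 ∣ orderOf u := by rw [h.six.ou]
  have hsumZ : ∀ F : IrrCharacter G → ℂ, ∑ χ ∈ Z, F χ = F t + F A + F B + F C := by
    intro F
    rw [hZ', Finset.sum_insert (by simp [hA.symm, hB.symm, hC.symm]), Finset.sum_insert (by simp [hAB, hAC]),
      Finset.sum_pair hBC]
    ring
  have hR : ∀ y : G, Odd (orderOf y) →
      1 + (A : G → ℂ) y + (a B : ℂ) * (B : G → ℂ) y - (C : G → ℂ) y = 0 := by
    intro y hy
    have h1 := hrel y (fun h2 => Nat.not_even_iff_odd.mpr hy (even_iff_two_dvd.mpr h2))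
    rw [hsumZ, hT1, aA, aC, show (t : G → ℂ) y = 1 from rfl] at h1
    push_cast at h1
    linear_combination h1
  refine ⟨A, B, C, a B,
    { pm := hpm B hBZ, hAB := hAB, hAC := hAC, hBC := hBC, hA := hA, hB := hB, hC := hC,
      block := fun χ => by rw [← hmemZ χ, hZ']; simp [ht],
      vA := by rw [hval A hAZ u hu2, aA, Int.cast_one],
      vB := hval B hBZ u hu2,
      vC := by rw [hval C hCZ u hu2, aC, Int.cast_neg, Int.cast_one],
      cA := by have := hcong A hAZ; rwa [aA] at this,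
      cB := hcong B hBZ,
      cC' := by have := hcong C hCZ; rwa [aC, sub_neg_eq_add] at this,
      deg := ?_, rel := hR,
      tA := two_le_degree h.six.ncomm hA, tB := two_le_degree h.six.ncomm hB,
      tC := two_le_degree h.six.ncomm hC, order := ?_ }⟩
  · have h1 := hR 1 (by rw [orderOf_one]; exact odd_one)
    rw [(Blocks.irr_degree_eq A).1, (Blocks.irr_degree_eq B).1, (Blocks.irr_degree_eq C).1] at h1
    exact_mod_cast h1
  · have hfil : (Finset.univ.filter fun χ : IrrCharacter G => χ ∈ principalBlock M G) = Z :=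
      Finset.ext fun χ => by simp [hmemZ]
    rw [hfil, hsumZ, hval A hAZ u hu2, hval B hBZ u hu2, hval C hCZ u hu2, hval t hT u hu2, hT1, aA, aC,
      show (t : G → ℂ) 1 = 1 from rfl, (Blocks.irr_degree_eq A).1, (Blocks.irr_degree_eq B).1,
      (Blocks.irr_degree_eq C).1, hcu, hcS] at hform
    have hr0 : (r₀ : ℂ) ≠ 0 := Nat.cast_ne_zero.mpr Nat.card_pos.ne'
    apply Complex.ofReal_injective
    push_cast at hform ⊢
    rw [show (8 : ℂ) * (12 * (r₀ : ℂ) ^ 2) ^ 3 / (4 * (r₀ : ℂ)) ^ 2 = 864 * (r₀ : ℂ) ^ 4 by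
      field_simp; ring] at hform
    linear_combination hform

variable {M : Ideal AlgInt} {r : ℕ} {A B C : IrrCharacter G} {ε : ℤ}

/-- The count of pairs through the bilinear sum. -/
theorem KBlock.pairs (K : KBlock M u r A B C ε) (h : KFour u c s) (hM : IsPModular 2 M) {y₁ y₂ : G}
    (h₁ : Odd (orderOf y₁)) (h₂ : Odd (orderOf y₂)) :
    (Nat.card (KPairs u c y₁ y₂⁻¹) : ℂ) * Nat.card ↥(Subgroup.centralizer ({y₁} : Set G)) *
        Nat.card ↥(Subgroup.centralizer ({y₂} : Set G)) = (Nat.card G : ℂ) * kS A B C ε y₁ y₂ := by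
  classical
  rw [h.pairs_formula hM h₁ h₂]
  congr 1
  have hfil : (Finset.univ.filter fun χ : IrrCharacter G => χ ∈ principalBlock M G) =
      insert (Blocks.trivIrr G) ({A, B, C} : Finset (IrrCharacter G)) := Finset.ext fun χ => by simp [K.block]
  rw [hfil, Finset.sum_insert (by simp [K.hA.symm, K.hB.symm, K.hC.symm]),
    Finset.sum_insert (by simp [K.hAB, K.hAC]), Finset.sum_pair K.hBC, K.vA, K.vB, K.vC, kS]
  have hd : charDegree (Blocks.trivIrr G : G → ℂ) = 1 := by
    have h1 := (Blocks.irr_degree_eq (Blocks.trivIrr G)).1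
    rw [show (Blocks.trivIrr G : G → ℂ) 1 = 1 from rfl] at h1
    exact_mod_cast h1.symm
  simp only [hd, show ∀ g, (Blocks.trivIrr G : G → ℂ) g = 1 from fun _ => rfl, map_one, Nat.cast_one]
  ring

/-- A nontrivial element is moved. -/
theorem KBlock.moves (K : KBlock M u r A B C ε) [IsSimpleGroup G] {y : G} (hy : y ≠ 1) :
    (A : G → ℂ) y ≠ (charDegree (A : G → ℂ) : ℂ) ∧ (C : G → ℂ) y ≠ (charDegree (C : G → ℂ) : ℂ) :=
  ⟨fun e => hy (BrauerReynolds.faithful_of_simple K.hA (by rw [e, (Blocks.irr_degree_eq A).1])),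
    fun e => hy (BrauerReynolds.faithful_of_simple K.hC (by rw [e, (Blocks.irr_degree_eq C).1]))⟩

end CfsgLib.OrderSix
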