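import Cfsg.Agent.Lib.OrderSix.KleinArith
import Cfsg.Agent.Lib.SmallOrder.Basic
import Cfsg.Agent.Lib.Char.Table
import Cfsg.Agent.S0498

/-!
Index six with `O_2` of order two: the group is `PSL(2,11)` or `PSL(2,13)`.
-/

set_option autoImplicit false
set_option linter.unusedVariables false
set_option linter.unusedSectionVars false
set_option linter.style.haveILetI false

namespace CfsgLib.OrderSix

open Cfsg CfsgLib CfsgLib.SelfCent CfsgLib.SCThree
open scoped ComplexConjugate CfsgLib.Char

universe v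

/-- The solutions of the order formula with trivial core. -/
theorem degree_table : ∀ i j : Fin 12,
    (864 * ((4 * i.val + 3) + (4 * j.val + 3) - 1) * (4 * i.val + 3) * (4 * j.val + 3)) %
        (((4 * i.val + 3) + (4 * j.val + 3) - 1) * (4 * i.val + 3) * (4 * j.val + 3) +
            (4 * i.val + 3) * (4 * j.val + 3) -
          (((4 * i.val + 3) + (4 * j.val + 3) - 1) * (4 * j.val + 3) +
            ((4 * i.val + 3) + (4 * j.val + 3) - 1) * (4 * i.val + 3))) ≠ 0 ∨
    (864 * ((4 * i.val + 3) + (4 * j.val + 3) - 1) * (4 * i.val + 3) * (4 * j.val + 3)) /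
        (((4 * i.val + 3) + (4 * j.val + 3) - 1) * (4 * i.val + 3) * (4 * j.val + 3) +
            (4 * i.val + 3) * (4 * j.val + 3) -
          (((4 * i.val + 3) + (4 * j.val + 3) - 1) * (4 * j.val + 3) +
            ((4 * i.val + 3) + (4 * j.val + 3) - 1) * (4 * i.val + 3))) <
      1 + ((4 * i.val + 3) + (4 * j.val + 3) - 1) ^ 2 + (4 * i.val + 3) ^ 2 + (4 * j.val + 3) ^ 2 ∨
    (864 * ((4 * i.val + 3) + (4 * j.val + 3) - 1) * (4 * i.val + 3) * (4 * j.val + 3)) /
        (((4 * i.val + 3) + (4 * j.val + 3) - 1) * (4 * i.val + 3) * (4 * j.val + 3) +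
            (4 * i.val + 3) * (4 * j.val + 3) -
          (((4 * i.val + 3) + (4 * j.val + 3) - 1) * (4 * j.val + 3) +
            ((4 * i.val + 3) + (4 * j.val + 3) - 1) * (4 * i.val + 3))) ∈ [1092, 1620] := by
  decide +kernel

variable {G : Type v} [Group G] [Fintype G] {u c s : G}
variable {M : Ideal AlgInt} {r : ℕ} {A B C : IrrCharacter G} {ε : ℤ}

theorem KBlock.sum_sq_le (K : KBlock M u r A B C ε) :
    1 + charDegree (A : G → ℂ) ^ 2 + charDegree (B : G → ℂ) ^ 2 + charDegree (C : G → ℂ) ^ 2 ≤ Nat.card G := by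
  classical
  have hall : ∑ χ : IrrCharacter G, charDegree (χ : G → ℂ) ^ 2 = Nat.card G := by
    have h := Char.sum_sq_degree (G := G)
    simp only [fun χ : IrrCharacter G => (Blocks.irr_degree_eq χ).1] at h
    exact_mod_cast h
  rw [← hall]
  refine le_trans (le_of_eq ?_)
    (Finset.sum_le_sum_of_subset (s := ({Blocks.trivIrr G, A, B, C} : Finset (IrrCharacter G))) (Finset.subset_univ _))
  rw [Finset.sum_insert (by simp [K.hA.symm, K.hB.symm, K.hC.symm]),
    Finset.sum_insert (by simp [K.hAB, K.hAC]), Finset.sum_pair K.hBC]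
  have hd : charDegree (Blocks.trivIrr G : G → ℂ) = 1 := by
    have h1 := (Blocks.irr_degree_eq (Blocks.trivIrr G)).1
    rw [show (Blocks.trivIrr G : G → ℂ) 1 = 1 from rfl] at h1
    exact_mod_cast h1.symm
  rw [hd]; ring

/-- No group of order `1620` occurs. -/
theorem KFour.not_1620 (h : KFour u c s) (hC12 : Nat.card ↥(cC u) = 12) : Nat.card G ≠ 1620 := by
  classical
  intro hG
  haveI := h.six.simple
  haveI := Fact.mk Nat.prime_two
  haveI := Fact.mk Nat.prime_five
  obtain ⟨P⟩ := (inferInstance : Nonempty (Sylow 5 G))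
  have hP : Nat.card (P : Subgroup G) = 5 := by
    rw [P.card_eq_multiplicity, hG, show (1620 : ℕ) = 5 ^ 1 * 324 by norm_num,
      Nat.factorization_mul (by norm_num) (by norm_num), Finsupp.add_apply, Nat.prime_five.factorization_pow,
      Finsupp.single_eq_same, Nat.factorization_eq_zero_of_not_dvd (by norm_num)]
    norm_num
  have h5 : 5 ∣ Nat.card G := by rw [hG]; norm_num
  set n := Nat.card (Sylow 5 G) with hn
  set N := Subgroup.normalizer ((P : Subgroup G) : Set G) with hN
  have hNn : Nat.card N * n = 1620 := by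
    rw [← hG, hn, Sylow.card_eq_index_normalizer P]
    exact N.card_mul_index
  have hn324 : n ∣ 324 := by
    have h1 := Sylow.card_dvd_index P
    have h2 : (P : Subgroup G).index = 324 := by
      have := (P : Subgroup G).card_mul_index
      rw [hP, hG] at this
      omega
    rwa [h2] at h1
  have hn1 : n % 5 = 1 := card_sylow_modEq_one 5 G
  have hncases : n = 1 ∨ n = 6 ∨ n = 36 ∨ n = 81 := by
    have key : ∀ m ∈ Nat.divisors 324, m % 5 = 1 → m = 1 ∨ m = 6 ∨ m = 36 ∨ m = 81 := by decide +kernel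
    exact key n (Nat.mem_divisors.mpr ⟨hn324, by norm_num⟩) hn1
  rcases hncases with e | e | e | e
  · exact SmallOrder.card_sylow_ne_one h.six.ncomm h5 e
  · have h1 := SmallOrder.two_mul_card_dvd_factorial_sylow (G := G) (p := 5) h.six.ncomm h5
    rw [← hn, e, hG] at h1
    norm_num [Nat.factorial] at h1
  · exact SmallOrder.not_normalizer_le_centralizer h.six.ncomm h5 P
      (SmallOrder.normalizer_le_centralizer_of_coprime (P : Subgroup G) hP (m := 9)
        (by rw [← hN]; rw [e] at hNn; omega) (by norm_num))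
  -- the normalizer contains a four group
  rw [e] at hNn
  have hN20 : Nat.card N = 20 := by omega
  obtain ⟨S, hS, hsS, huS, hK, hmem⟩ := h.sylow
  obtain ⟨T⟩ := (inferInstance : Nonempty (Sylow 2 ↥N))
  have hT4 : Nat.card (T : Subgroup ↥N) = 4 := by
    rw [T.card_eq_multiplicity, hN20, show (20 : ℕ) = 2 ^ 2 * 5 by norm_num,
      Nat.factorization_mul (by norm_num) (by norm_num), Finsupp.add_apply, Nat.prime_two.factorization_pow,
      Finsupp.single_eq_same, Nat.factorization_eq_zero_of_not_dvd (by norm_num)]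
    norm_num
  obtain ⟨T', hT'⟩ := (T.isPGroup'.map N.subtype).exists_le_sylow
  obtain ⟨g, hg⟩ := MulAction.exists_smul_eq G T' S
  have hsq : ∀ a : ↥(T : Subgroup ↥N), ((a : ↥N) : G) * ((a : ↥N) : G) = 1 := by
    intro a
    have ha : g * ((a : ↥N) : G) * g⁻¹ ∈ (S : Subgroup G) := by
      rw [← hg]
      exact Subgroup.smul_mem_pointwise_smul _ (MulAut.conj g) _ (hT' ⟨_, a.2, rfl⟩)
    have h2 : g * ((a : ↥N) : G) * g⁻¹ * (g * ((a : ↥N) : G) * g⁻¹) = 1 := by
      rcases hmem _ ha with e | e | e | e <;> rw [e]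
      exacts [one_mul 1, h.six.uu, h.ss, h.right.ss]
    rw [show g * ((a : ↥N) : G) * g⁻¹ * (g * ((a : ↥N) : G) * g⁻¹) = g * (((a : ↥N) : G) * (a : ↥N)) * g⁻¹ by group,
      conj_eq_one_iff] at h2
    exact h2
  obtain ⟨⟨x, hx⟩, hx5⟩ := exists_prime_orderOf_dvd_card' (G := ↥(P : Subgroup G)) 5 (by rw [hP])
  rw [Subgroup.orderOf_mk] at hx5
  have hinv : ∀ a : ↥(T : Subgroup ↥N), a ≠ 1 → ((a : ↥N) : G) * x * ((a : ↥N) : G)⁻¹ = x⁻¹ := by
    intro a ha
    set v := ((a : ↥N) : G) with hv
    have hvv : v * v = 1 := hsq a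
    have hv1 : v ≠ 1 := fun e => ha (Subtype.ext (Subtype.ext e))
    have hvN : v * x * v⁻¹ ∈ (P : Subgroup G) := (Subgroup.mem_normalizer_iff.mp (a : ↥N).2 x).mp hx
    have hPz : Subgroup.zpowers x = (P : Subgroup G) :=
      Subgroup.eq_of_le_of_card_ge (Subgroup.zpowers_le.mpr hx) (by rw [Nat.card_zpowers, hx5, hP])
    rw [← hPz, ← mem_powers_iff_mem_zpowers, Submonoid.mem_powers_iff] at hvN
    obtain ⟨k, hk⟩ := hvN
    rw [← pow_mod_orderOf, hx5] at hk
    have hk5 : k % 5 < 5 := Nat.mod_lt _ (by norm_num)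
    set j := k % 5
    have h2 : x ^ (j * j) = x ^ 1 := by
      rw [pow_mul, hk, conj_pow, hk, pow_one]
      calc v * (v * x * v⁻¹) * v⁻¹ = (v * v) * x * (v * v)⁻¹ := by group
        _ = x := by rw [hvv]; group
    rw [pow_eq_pow_iff_modEq, hx5, Nat.ModEq] at h2
    have hj : j = 1 ∨ j = 4 := by interval_cases j <;> simp_all
    rcases hj with e | e
    · exfalso
      rw [e, pow_one] at hk
      have hxv : x * v = v * x := (mul_inv_eq_iff_eq_mul.mp hk.symm).symm
      obtain ⟨b, hb⟩ := isConj_iff.mp (h.six.one v u (orderOf_two_iff.mpr ⟨hvv, hv1⟩) h.six.ou)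
      have hxu : b * x * b⁻¹ ∈ cC u := by
        rw [mem_cC, ← hb]
        calc b * x * b⁻¹ * (b * v * b⁻¹) = b * (x * v) * b⁻¹ := by group
          _ = b * (v * x) * b⁻¹ := by rw [hxv]
          _ = _ := by group
      have h12 := Subgroup.orderOf_dvd_natCard _ hxu
      rw [Transfer.orderOf_conj, hx5, hC12] at h12
      norm_num at h12
    · rw [← hk, e, eq_inv_iff_mul_eq_one, ← pow_succ]
      show x ^ 5 = 1
      rw [← hx5]
      exact pow_orderOf_eq_one x
  -- two of them multiply to a third
  haveI : Nontrivial ↥(T : Subgroup ↥N) := Finite.one_lt_card_iff_nontrivial.mp (by rw [hT4]; norm_num)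
  obtain ⟨a, ha⟩ := exists_ne (1 : ↥(T : Subgroup ↥N))
  obtain ⟨b, hb1, hba⟩ : ∃ b : ↥(T : Subgroup ↥N), b ≠ 1 ∧ b ≠ a := by
    by_contra hc
    push Not at hc
    have hle : (Finset.univ : Finset ↥(T : Subgroup ↥N)) ⊆ {1, a} := fun b _ => by
      by_cases e : b = 1
      · simp [e]
      · simp [hc b e]
    have := (Finset.card_le_card hle).trans Finset.card_le_two
    rw [Finset.card_univ, ← Nat.card_eq_fintype_card, hT4] at this
    omega
  have hab : a * b ≠ 1 := fun e => hba (by
    have h1 : ((a : ↥N) : G) * ((b : ↥N) : G) = 1 := congrArg (fun w : ↥(T : Subgroup ↥N) => ((w : ↥N) : G)) e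
    have h2 := hsq a
    exact Subtype.ext (Subtype.ext (mul_left_cancel (h1.trans h2.symm))))
  have h1 := hinv a ha
  have h2 := hinv b hb1
  have h3 := hinv (a * b) hab
  simp only [Subgroup.coe_mul] at h3
  rw [show ((a : ↥N) : G) * ((b : ↥N) : G) * x * (((a : ↥N) : G) * ((b : ↥N) : G))⁻¹ =
    ((a : ↥N) : G) * (((b : ↥N) : G) * x * ((b : ↥N) : G)⁻¹) * ((a : ↥N) : G)⁻¹ by group, h2, ← conj_inv, h1,
    inv_inv, eq_inv_iff_mul_eq_one] at h3
  have := orderOf_le_of_pow_eq_one (by norm_num) (show x ^ 2 = 1 by rw [pow_two]; exact h3)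
  omega

/-- The order of the group. -/
theorem KFour.card_cases (h : KFour u c s) : Nat.card G = 660 ∨ Nat.card G = 1092 := by
  classical
  haveI := Fact.mk Nat.prime_two
  haveI := h.six.simple
  have hO := h.cO_bot
  have hr : Nat.card (kZ u s) = 1 := by
    have : kZ u s = ⊥ := le_bot_iff.mp (hO ▸ inf_le_left)
    rw [this, Subgroup.card_bot]
  obtain ⟨M, hM⟩ := Blocks.exists_isPModular Nat.prime_two
  obtain ⟨A, B, C, ε, K⟩ := h.exists_block hM
  rcases K.pm with e | e <;> subst e
  · have hb := K.degree_bound h hM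
    have ho := K.order
    have hd := K.deg
    have hA4 := K.cA
    have hB4 := K.cB
    have hA := K.tA
    have hB := K.tB
    rw [hr] at hb ho
    set f := charDegree (A : G → ℂ)
    set g := charDegree (B : G → ℂ)
    set q := charDegree (C : G → ℂ)
    have e1 : f = 5 := by omega
    have e2 : g = 5 := by omega
    have e3 : q = 11 := by omega
    rw [e1, e2, e3] at ho
    left
    have : (Nat.card G : ℝ) = ((660 : ℕ) : ℝ) := by push_cast at ho ⊢; linarith
    exact_mod_cast this
  · have hsq := K.sum_sq_le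
    have ho := K.order
    have hd := K.deg
    have hA4 := K.cA
    have hB4 := K.cB
    have hC4 := K.cC'
    have hA := K.tA
    have hB := K.tB
    have hC := K.tC
    rw [hr] at ho
    set q := charDegree (A : G → ℂ)
    set hh := charDegree (B : G → ℂ)
    set k := charDegree (C : G → ℂ)
    have hh3 : 3 ≤ hh := by omega
    have hk3 : 3 ≤ k := by omega
    have hq0 : (0 : ℝ) < q := Nat.cast_pos.mpr (by omega)
    have hh0 : (0 : ℝ) < hh := Nat.cast_pos.mpr (by omega)
    have hk0 : (0 : ℝ) < k := Nat.cast_pos.mpr (by omega)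
    -- a bound for the order
    have hg : Nat.card G ≤ 2592 := by
      have e1 : (0 : ℝ) ≤ 1 / (q : ℝ) := by positivity
      have e2 : 1 / (hh : ℝ) ≤ 1 / 3 := one_div_le_one_div_of_le (by norm_num) (by exact_mod_cast hh3)
      have e3 : 1 / (k : ℝ) ≤ 1 / 3 := one_div_le_one_div_of_le (by norm_num) (by exact_mod_cast hk3)
      have e4 : (Nat.card G : ℝ) ≤ ((2592 : ℕ) : ℝ) := by
        push_cast at ho ⊢
        rw [neg_div] at ho
        nlinarith [(Nat.cast_nonneg (Nat.card G) : (0 : ℝ) ≤ _)]
      exact_mod_cast e4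
    have hq50 : q ≤ 50 := by
      by_contra hlt
      push Not at hlt
      have := Nat.pow_le_pow_left (show 51 ≤ q by omega) 2
      norm_num at this
      omega
    have heq : Nat.card G * (q * hh * k + hh * k - (q * k + q * hh)) = 864 * q * hh * k := by
      have e : (Nat.card G : ℝ) * ((q : ℝ) * hh * k + hh * k - (q * k + q * hh)) = 864 * q * hh * k := by
        push_cast at ho
        field_simp at ho
        linear_combination ho
      have e' : ((Nat.card G : ℤ)) * ((q : ℤ) * hh * k + hh * k - (q * k + q * hh)) = 864 * q * hh * k := by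
        exact_mod_cast e
      have hpos : q * k + q * hh ≤ q * hh * k + hh * k := by
        by_contra hlt
        push Not at hlt
        have hneg : (Nat.card G : ℤ) * ((q : ℤ) * hh * k + hh * k - (q * k + q * hh)) ≤ 0 :=
          mul_nonpos_of_nonneg_of_nonpos (Nat.cast_nonneg _) (by
            have : ((q * hh * k + hh * k : ℕ) : ℤ) < ((q * k + q * hh : ℕ) : ℤ) := by exact_mod_cast hlt
            push_cast at this; linarith)
        rw [e'] at hneg
        have : (0 : ℤ) < 864 * q * hh * k := by positivity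
        linarith
      zify [hpos]
      linear_combination e'
    obtain ⟨i, hi⟩ : ∃ i, hh = 4 * i + 3 := ⟨hh / 4, by omega⟩
    obtain ⟨j, hj⟩ : ∃ j, k = 4 * j + 3 := ⟨k / 4, by omega⟩
    have hq : q = (4 * i + 3) + (4 * j + 3) - 1 := by omega
    have htab := degree_table ⟨i, by omega⟩ ⟨j, by omega⟩
    simp only [← hi, ← hj] at htab hq
    rw [← hq, ← heq] at htab
    have hD0 : 0 < q * hh * k + hh * k - (q * k + q * hh) := by
      rcases Nat.eq_zero_or_pos (q * hh * k + hh * k - (q * k + q * hh)) with e | e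
      · rw [e, mul_zero] at heq
        have : 0 < 864 * q * hh * k :=
          Nat.mul_pos (Nat.mul_pos (Nat.mul_pos (by norm_num) (by omega)) (by omega)) (by omega)
        omega
      · exact e
    rw [Nat.mul_div_cancel _ hD0] at htab
    rcases htab with e | e | e
    · exact absurd (Nat.mul_mod_left _ _) e
    · omega
    · rcases List.mem_cons.mp e with e | e
      · exact Or.inr e
      · exfalso
        have h12 : Nat.card ↥(cC u) = 12 := by rw [h.card_C, hO, Subgroup.card_bot]
        exact h.not_1620 h12 (by simpa using e)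

/-- **Index six with a four group.** -/
theorem Six.index_six_klein {G : Type v} [Group G] [Finite G] {u c : G} (h : Six u c) (h6 : idx u = 6)
    (hT : cT u = Subgroup.zpowers u) :
    ∃ (F : Type) (_ : Field F) (_ : Fintype F), (Fintype.card F = 11 ∨ Fintype.card F = 13) ∧
      Nonempty (G ≃* Matrix.ProjectiveSpecialLinearGroup (Fin 2) F) := by
  classical
  letI := Fintype.ofFinite G
  haveI := h.simple
  obtain ⟨α, s, hk⟩ := h.exists_klein_four h6 hT
  rcases hk.card_cases with e | e
  · haveI : Fact (Nat.Prime 11) := ⟨by norm_num⟩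
    exact ⟨ZMod 11, inferInstance, inferInstance, Or.inl (ZMod.card 11),
      Cfsg.Agent.S0498.result 11 (Or.inl rfl) (by rw [e]; norm_num) (ZMod.card 11)⟩
  · haveI : Fact (Nat.Prime 13) := ⟨by norm_num⟩
    exact ⟨ZMod 13, inferInstance, inferInstance, Or.inr (ZMod.card 13),
      Cfsg.Agent.S0498.result 13 (Or.inr rfl) (by rw [e]; norm_num) (ZMod.card 13)⟩

end CfsgLib.OrderSix
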