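import Cfsg.Agent.Lib.GLTwoThreeCent.Main
import Cfsg.Agent.Lib.Blocks.SingleBlock
import Cfsg.Agent.Lib.Blocks.SectionOrth
import Cfsg.Agent.Lib.Blocks.PrincipalColumn
import Cfsg.Agent.Lib.Blocks.Inflate

/-!
Involution centralizers covering `GL(2,3)` with kernel of odd order: coordinates.
-/

set_option autoImplicit false
set_option linter.unusedVariables false
set_option linter.unusedSectionVars false
set_option linter.style.haveILetI false

namespace CfsgLib.OrderSix.Quat

open Cfsg CfsgLib GLTwoThreeCent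
open scoped ComplexConjugate CfsgLib.Char

theorem exponent_small : ∀ i : Fin 48, ∃ k : Fin 8, (mulI i)^[k.val] i = 0 := by decide +kernel

theorem mulI_mulI : ∀ p, invol p → ∀ i, mulI p (mulI p i) = i := by decide +kernel

theorem special_noncentral : ∀ i, special i → ∀ p, invol p → invol (mulI p i) →
    p ≠ negI ∧ mulI p i ≠ negI := by decide +kernel

theorem negI_invol : invol negI := by decide +kernel

/-- The quaternion part of the model. -/
def qPart (i : Fin 48) : Prop := eps i = 1 ∧ (mulI i)^[3] i = 0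

instance : DecidablePred qPart := fun _ => inferInstanceAs (Decidable (_ ∧ _))

theorem qPart_zero : qPart 0 := by decide +kernel
theorem qPart_mul : ∀ i, qPart i → ∀ j, qPart j → qPart (mulI i j) := by decide +kernel
theorem qPart_conj : ∀ i, qPart i → ∀ k j, mulI k j = 0 → qPart (mulI (mulI k i) j) := by decide +kernel
theorem qPart_cent : ∀ i, (∀ j, qPart j → mulI i j = mulI j i) → qPart i := by decide +kernel

/-- The position of an element of `GL(2,3)`. -/
noncomputable def ix : GL (Fin 2) (ZMod 3) ≃ Fin 48 := (Equiv.ofBijective toGL toGL_bijective).symm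

theorem toGL_ix (x : GL (Fin 2) (ZMod 3)) : toGL (ix x) = x :=
  (Equiv.ofBijective toGL toGL_bijective).apply_symm_apply x

theorem ix_toGL (i : Fin 48) : ix (toGL i) = i := (Equiv.ofBijective toGL toGL_bijective).symm_apply_apply i

theorem ix_mul (x y : GL (Fin 2) (ZMod 3)) : ix (x * y) = mulI (ix x) (ix y) :=
  toGL_bijective.1 (by rw [toGL_mul, toGL_ix, toGL_ix, toGL_ix])

theorem toGL_iterate (i : Fin 48) (k : ℕ) : toGL ((mulI i)^[k] i) = toGL i ^ (k + 1) := by
  induction k with
  | zero => simp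
  | succ k ih => rw [Function.iterate_succ_apply', toGL_mul, ih, ← pow_succ']

theorem special_of_pow {i : Fin 48} {k : ℕ} (hk : toGL i ^ k = toGL negI) : special i := by
  obtain ⟨k', hk'⟩ := exponent_small i
  have ho : orderOf (toGL i) ∣ k'.val + 1 :=
    orderOf_dvd_of_pow_eq_one (by rw [← toGL_iterate, hk', toGL_zero])
  have hle : orderOf (toGL i) ≤ 8 := by
    have := Nat.le_of_dvd (by omega) ho
    have := k'.isLt
    omega
  have hne : k % orderOf (toGL i) ≠ 0 := by
    intro h0
    rw [← pow_mod_orderOf, h0, pow_zero, ← toGL_zero] at hk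
    exact negI_invol.2 (toGL_bijective.1 hk).symm
  have hlt := Nat.mod_lt k (orderOf_pos (toGL i))
  refine ⟨⟨k % orderOf (toGL i) - 1, by omega⟩, toGL_bijective.1 ?_⟩
  rw [toGL_iterate]
  show toGL i ^ (k % orderOf (toGL i) - 1 + 1) = _
  rw [show k % orderOf (toGL i) - 1 + 1 = k % orderOf (toGL i) by omega, pow_mod_orderOf, hk]

theorem toGL_negI_comm (x : GL (Fin 2) (ZMod 3)) : x * toGL negI = toGL negI * x := by
  conv_lhs => rw [← toGL_ix x]
  conv_rhs => rw [← toGL_ix x]
  rw [← toGL_mul, ← toGL_mul, negI_central]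

/-- The coordinates of `GL(2,3)` itself. -/
noncomputable def self : Coord (toGL negI) where
  E := (Equiv.ofBijective toGL toGL_bijective).trans
    { toFun := fun x => ⟨x, Subgroup.mem_centralizer_singleton_iff.mpr (toGL_negI_comm x)⟩
      invFun := fun x => x
      left_inv := fun x => rfl
      right_inv := fun x => rfl }
  mul i j := Subtype.ext (toGL_mul i j)
  neg := rfl

theorem self_symm (y : Subgroup.centralizer ({toGL negI} : Set (GL (Fin 2) (ZMod 3)))) :
    self.E.symm y = ix (y : GL (Fin 2) (ZMod 3)) := rfl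

/-- All characters of `GL(2,3)` are in the principal block. -/
theorem mem_principal {M : Ideal AlgInt} (hM : IsPModular 2 M) [Fintype (GL (Fin 2) (ZMod 3))]
    (η : IrrCharacter (GL (Fin 2) (ZMod 3))) : η ∈ principalBlock M (GL (Fin 2) (ZMod 3)) := by
  let E : Subgroup (GL (Fin 2) (ZMod 3)) :=
    { carrier := {x | qPart (ix x)}
      one_mem' := by
        show qPart (ix 1)
        rw [← toGL_zero, ix_toGL]; exact qPart_zero
      mul_mem' := fun {a b} ha hb => by
        show qPart (ix (a * b))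
        rw [ix_mul]; exact qPart_mul _ ha _ hb
      inv_mem' := fun {a} (ha : qPart (ix a)) => by
        show qPart (ix a⁻¹)
        have h4 : a ^ 4 = 1 := by
          have h := toGL_iterate (ix a) 3
          rw [ha.2, toGL_zero, toGL_ix] at h
          exact h.symm
        have e : a⁻¹ = a * (a * a) := inv_eq_of_mul_eq_one_left (by
          rw [← h4]; simp [pow_succ, mul_assoc])
        rw [e, ix_mul, ix_mul]
        exact qPart_mul _ ha _ (qPart_mul _ ha _ ha) }
  haveI : E.Normal := ⟨fun x hx g => by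
    show qPart (ix (g * x * g⁻¹))
    rw [ix_mul, ix_mul]
    exact qPart_conj _ hx _ _ (by rw [← ix_mul, mul_inv_cancel, ← toGL_zero, ix_toGL])⟩
  refine Blocks.SingleBlock.mem_principalBlock_of_normal hM E ?_ ?_ η
  · intro x
    refine ⟨2, Subtype.ext ?_⟩
    have h := toGL_iterate (ix (x : GL (Fin 2) (ZMod 3))) 3
    rw [x.2.2, toGL_zero, toGL_ix] at h
    simpa using h.symm
  · intro x hx
    refine qPart_cent _ fun j hj => ?_
    have := Subgroup.mem_centralizer_iff.mp hx (toGL j) (by show qPart (ix (toGL j)); rwa [ix_toGL])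
    have h2 := congrArg ix this
    rw [ix_mul, ix_mul, ix_toGL] at h2
    exact h2.symm

variable {G : Type*} [Group G] [Finite G]

/-- An involution centralizer covering `GL(2,3)` with kernel of odd order. -/
structure Cov (u : G) where
  ou : orderOf u = 2
  π : ↥(Subgroup.centralizer ({u} : Set G)) →* GL (Fin 2) (ZMod 3)
  surj : Function.Surjective π
  odd : Odd (Nat.card π.ker)

namespace Cov

variable {u : G} (K : Cov u)

/-- The position of an element of the centralizer. -/
noncomputable def q (x : ↥(Subgroup.centralizer ({u} : Set G))) : Fin 48 := ix (K.π x)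

/-- `u` as an element of its centralizer. -/
abbrev us (u : G) : ↥(Subgroup.centralizer ({u} : Set G)) :=
  ⟨u, Subgroup.mem_centralizer_singleton_iff.mpr rfl⟩

theorem us_comm (x : ↥(Subgroup.centralizer ({u} : Set G))) : x * us u = us u * x :=
  Subtype.ext (Subgroup.mem_centralizer_singleton_iff.mp x.2)

theorem q_mul (x y : ↥(Subgroup.centralizer ({u} : Set G))) : K.q (x * y) = mulI (K.q x) (K.q y) := by
  rw [q, map_mul, ix_mul]; rfl

theorem toGL_q (x : ↥(Subgroup.centralizer ({u} : Set G))) : toGL (K.q x) = K.π x := toGL_ix _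

theorem q_one : K.q 1 = 0 := by rw [q, map_one, ← toGL_zero, ix_toGL]

theorem q_surj (i : Fin 48) : ∃ x, K.q x = i := by
  obtain ⟨x, hx⟩ := K.surj (toGL i)
  exact ⟨x, by rw [q, hx, ix_toGL]⟩

theorem q_eq_zero {x : ↥(Subgroup.centralizer ({u} : Set G))} : K.q x = 0 ↔ x ∈ K.π.ker := by
  rw [MonoidHom.mem_ker, ← toGL_q K x, ← toGL_zero]
  exact ⟨fun e => by rw [e], fun e => toGL_bijective.1 e⟩

theorem ker_pow {x : ↥(Subgroup.centralizer ({u} : Set G))} (hx : x ∈ K.π.ker) :
    x ^ Nat.card K.π.ker = 1 :=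
  orderOf_dvd_iff_pow_eq_one.mp (Subgroup.orderOf_dvd_natCard _ hx)

include K in
theorem u_pow_odd {n : ℕ} (hn : Odd n) : u ^ n = u := by
  obtain ⟨j, rfl⟩ := hn
  rw [pow_succ, pow_mul, ← K.ou, pow_orderOf_eq_one, one_pow, one_mul]

theorem q_u : K.q (us u) = negI := by
  refine central_involution _ ⟨?_, ?_⟩ fun k => ?_
  · rw [← q_mul, show us u * us u = 1 from Subtype.ext (by
      show u * u = 1; rw [← pow_two, ← K.ou, pow_orderOf_eq_one]), q_one]
  · intro e
    have h1 := congrArg Subtype.val (K.ker_pow (K.q_eq_zero.mp e))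
    rw [Subgroup.coe_pow, K.u_pow_odd K.odd, Subgroup.coe_one] at h1
    have := K.ou
    rw [h1, orderOf_one] at this
    omega
  · obtain ⟨y, rfl⟩ := K.q_surj k
    rw [← q_mul, ← q_mul, us_comm]

theorem special_iff (x : ↥(Subgroup.centralizer ({u} : Set G))) :
    special (K.q x) ↔ ∃ k : ℕ, (x : G) ^ k = u := by
  constructor
  · rintro ⟨k, hk⟩
    have h1 := toGL_iterate (K.q x) k.val
    rw [hk, ← K.q_u, toGL_q, toGL_q, ← map_pow] at h1
    have hmem : (us u)⁻¹ * x ^ (k.val + 1) ∈ K.π.ker := by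
      rw [MonoidHom.mem_ker, map_mul, map_inv, h1, inv_mul_cancel]
    refine ⟨(k.val + 1) * Nat.card K.π.ker, ?_⟩
    have h2 := congrArg Subtype.val (K.ker_pow hmem)
    have hc : Commute (us u)⁻¹ (x ^ (k.val + 1)) :=
      ((show Commute x (us u) from us_comm x).symm.inv_left).pow_right _
    rw [hc.mul_pow, ← pow_mul] at h2
    simp only [Subgroup.coe_mul, Subgroup.coe_pow, Subgroup.coe_inv, Subgroup.coe_one, inv_pow,
      K.u_pow_odd K.odd, inv_mul_eq_one] at h2
    exact h2.symm
  · rintro ⟨k, hk⟩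
    refine special_of_pow (k := k) ?_
    rw [← K.q_u, toGL_q, toGL_q, ← map_pow]
    exact congrArg K.π (Subtype.ext (by rw [Subgroup.coe_pow, hk]))

omit [Finite G] in
theorem invol_unique {y a b : G} (ha : orderOf a = 2) (hb : orderOf b = 2) {i j : ℕ} (hi : y ^ i = a)
    (hj : y ^ j = b) : a = b := by
  classical
  have key : ∀ {n : ℕ} {z : G}, orderOf z = 2 → y ^ n = z → 0 < orderOf y → 2 * (n % orderOf y) = orderOf y := by
    intro n z hz hn hy
    rw [← pow_mod_orderOf] at hn
    have h2 : orderOf y ∣ n % orderOf y * 2 := orderOf_dvd_of_pow_eq_one (by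
      rw [pow_mul, hn, ← hz, pow_orderOf_eq_one])
    have hlt := Nat.mod_lt n hy
    have hne : n % orderOf y ≠ 0 := fun e => by
      rw [e, pow_zero] at hn; rw [← hn, orderOf_one] at hz; omega
    obtain ⟨t, ht⟩ := h2
    have : t < 2 := Nat.lt_of_mul_lt_mul_left (a := orderOf y) (by omega)
    interval_cases t <;> omega
  rcases Nat.eq_zero_or_pos (orderOf y) with h0 | hy
  · exfalso
    have h2 : y ^ (i * 2) = 1 := by rw [pow_mul, hi, ← ha, pow_orderOf_eq_one]
    rw [orderOf_eq_zero_iff'] at h0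
    rcases Nat.eq_zero_or_pos i with rfl | hip
    · rw [pow_zero] at hi; rw [← hi, orderOf_one] at ha; omega
    · exact h0 _ (by omega) h2
  · have h1 := key ha hi hy
    have h2 := key hb hj hy
    rw [← hi, ← hj, ← pow_mod_orderOf y i, ← pow_mod_orderOf y j, show i % orderOf y = j % orderOf y by omega]

include K in
theorem ti : ∀ g : G, g ∉ Subgroup.centralizer ({u} : Set G) →
    ∀ y ∈ {y : G | ∃ k : ℕ, y ^ k = u}, g * y * g⁻¹ ∈ {y : G | ∃ k : ℕ, y ^ k = u} → y = 1 := by
  rintro g hg y ⟨k, hk⟩ ⟨l, hl⟩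
  refine absurd (Subgroup.mem_centralizer_singleton_iff.mpr ?_) hg
  have h2 : orderOf (g * u * g⁻¹) = 2 := by rw [Transfer.orderOf_conj, K.ou]
  exact mul_inv_eq_iff_eq_mul.mp (invol_unique h2 K.ou (by rw [conj_pow, hk]) hl)

/-- The inflation of a function on the model. -/
noncomputable def fn (F : Fin 48 → ℤ√(-2)) (x : ↥(Subgroup.centralizer ({u} : Set G))) : ℂ :=
  phi (F (K.q x))

theorem isGeneralized {F : Fin 48 → ℤ√(-2)} (hF : IsGeneralizedCharacter _ (self.fn F)) :
    IsGeneralizedCharacter _ (K.fn F) :=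
  Char.isGeneralized_comp
    (K.π.codRestrict (Subgroup.centralizer ({toGL negI} : Set (GL (Fin 2) (ZMod 3))))
      fun x => Subgroup.mem_centralizer_singleton_iff.mpr (toGL_negI_comm (K.π x))) hF

theorem vanish_off (F : Fin 48 → ℤ√(-2)) (hF : ∀ i, ¬ special i → F i = 0)
    (x : ↥(Subgroup.centralizer ({u} : Set G))) (hx : (x : G) ∉ {y : G | ∃ k : ℕ, y ^ k = u}) :
    K.fn F x = 0 := by
  rw [fn, hF _ fun h => hx ((K.special_iff x).mp h), map_zero]

theorem card_fibre [Fintype ↥(Subgroup.centralizer ({u} : Set G))] (i : Fin 48) :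
    (Finset.univ.filter fun x => K.q x = i).card = Nat.card K.π.ker := by
  obtain ⟨a, ha⟩ := K.q_surj i
  rw [← Fintype.card_subtype, ← Nat.card_eq_fintype_card]
  refine Nat.card_congr
    { toFun := fun x => ⟨a⁻¹ * x.1, ?_⟩
      invFun := fun x => ⟨a * x.1, ?_⟩
      left_inv := fun x => by simp
      right_inv := fun x => by simp }
  · rw [MonoidHom.mem_ker, map_mul, map_inv, ← K.toGL_q, ← K.toGL_q, x.2, ha, inv_mul_cancel]
  · rw [q, map_mul, MonoidHom.mem_ker.mp x.2, mul_one, ← K.toGL_q, ha, ix_toGL]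

theorem sum_q [Fintype ↥(Subgroup.centralizer ({u} : Set G))] {R : Type*} [AddCommMonoid R]
    (f : Fin 48 → R) : ∑ x, f (K.q x) = Nat.card K.π.ker • ∑ i, f i := by
  rw [← Finset.sum_fiberwise (Finset.univ : Finset ↥(Subgroup.centralizer ({u} : Set G))) K.q,
    Finset.smul_sum]
  refine Finset.sum_congr rfl fun i _ => ?_
  rw [Finset.sum_congr rfl (g := fun _ => f i) fun x hx => by rw [(Finset.mem_filter.mp hx).2],
    Finset.sum_const, K.card_fibre]

theorem card_eq : Nat.card ↥(Subgroup.centralizer ({u} : Set G)) = 48 * Nat.card K.π.ker := by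
  have h := Subgroup.card_mul_index K.π.ker
  rw [Subgroup.index_ker, MonoidHom.range_eq_top.mpr K.surj, Subgroup.card_top,
    ← Nat.card_eq_of_bijective toGL toGL_bijective, Nat.card_fin, mul_comm] at h
  exact h.symm

end Cov

end CfsgLib.OrderSix.Quat
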