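import Cfsg.Agent.Lib.OrderSix.KleinOdd
import Cfsg.Agent.Lib.OrderSix.QuatCoord
import Cfsg.Agent.Lib.Invol.KleinCount
import Cfsg.Agent.Lib.Char.TI
import Cfsg.Agent.Lib.Char.Counting

/-!
Index six with `O_2` of order two: the values of the characters at the element of order six.
-/

set_option autoImplicit false
set_option linter.unusedVariables false
set_option linter.unusedSectionVars false
set_option linter.style.haveILetI false

namespace CfsgLib.OrderSix

open Cfsg CfsgLib CfsgLib.SelfCent CfsgLib.SCThree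
open scoped ComplexConjugate CfsgLib.Char

universe v

section Shape

variable {G : Type v} [Group G] [Finite G] {u c s : G}

/-- An element acting as a power of `c` is odd or `u` times odd. -/
theorem KPair.rot (h : KPair u c s) {x : G} (hx : x ∈ cC u)
    (hp : piX u ⟨x, hx⟩ ∈ Subgroup.zpowers (piX u ⟨c, h.six.c_mem⟩)) : x ∈ kO u ∨ x * u ∈ kO u := by
  have hu : Commute x u := mem_cC.mp hx
  have key : ∀ d ∈ kO u, x * d ∈ cX u → x ∈ kO u ∨ x * u ∈ kO u := by
    intro d hd e
    obtain ⟨τ, hτ, o, ho, e'⟩ := cX_eq_mul h.six e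
    rw [h.hT] at hτ
    have h1 : x = τ * (o * d⁻¹) := by rw [← mul_assoc, ← e', mul_inv_cancel_right]
    have h2 : o * d⁻¹ ∈ kO u := mul_mem (h.cO_le_kO ho) (inv_mem hd)
    rcases (mem_U h.six).mp hτ with e | e <;> rw [e] at h1
    · exact Or.inl (by rw [h1, one_mul]; exact h2)
    · exact Or.inr (by rw [hu.eq, h1, ← mul_assoc, h.six.uu, one_mul]; exact h2)
  rcases kinds h.six h.low hx with e | e | e | ⟨-, e⟩
  · exact key 1 (one_mem _) (by simpa using e)
  · exact key c h.c_mem_kO e
  · exact key c⁻¹ (inv_mem h.c_mem_kO) e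
  · exact absurd hp (e.quot h.six).2.2

theorem KPair.piX_kO (h : KPair u c s) {x : G} (hx : x ∈ kO u) :
    piX u ⟨x, kO_le u hx⟩ ∈ Subgroup.zpowers (piX u ⟨c, h.six.c_mem⟩) ∧
      (piX u ⟨x, kO_le u hx⟩ = 1 ↔ x ∈ cO u) := by
  refine ⟨?_, ⟨fun e => h.cX_kO ((piX_eq_one _).mp e) hx, fun e => (piX_eq_one _).mpr (cO_le_cX u e)⟩⟩
  rcases h.kO_cases hx with e | e | e
  · rw [(piX_eq_one (kO_le u hx)).mpr (cO_le_cX u e)]; exact one_mem _
  · have e' : piX u ⟨x, kO_le u hx⟩ = (piX u ⟨c, h.six.c_mem⟩)⁻¹ := by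
      rw [eq_inv_iff_mul_eq_one, ← map_mul]; exact (piX_eq_one _).mpr (cO_le_cX u e)
    rw [e']; exact inv_mem (Subgroup.mem_zpowers _)
  · have e' : piX u ⟨x, kO_le u hx⟩ = piX u ⟨c, h.six.c_mem⟩ := by
      rw [← mul_inv_eq_one, ← map_inv, ← map_mul]; exact (piX_eq_one _).mpr (cO_le_cX u e)
    rw [e']; exact Subgroup.mem_zpowers _

theorem piX_u (h : Six u c) : piX u ⟨u, h.u_mem⟩ = 1 := (piX_eq_one _).mpr (u_mem_cX h)

/-- The elements outside the rotations. -/
theorem KPair.s_not_zpowers (h : KPair u c s) :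
    piX u ⟨s, h.s_mem⟩ ∉ Subgroup.zpowers (piX u ⟨c, h.six.c_mem⟩) := (h.refl.quot h.six).2.2

open _root_.Classical in
/-- The function on the centralizer inducing a difference of two irreducible characters. -/
noncomputable def kH (u : G) (x : ↥(cC u)) : ℂ :=
  if (x : G) * u ∈ cO u then 4 else if (x : G) * u ∈ kO u then -2 else 0

theorem KFour.isGeneralized_kH (h : KFour u c s) : IsGeneralizedCharacter ↥(cC u) (kH u) := by
  classical
  letI := Fintype.ofFinite ↥(cC u)
  set y := piX u ⟨c, h.six.c_mem⟩ with hy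
  set q := piX u ⟨s, h.s_mem⟩ with hq
  have hoy : orderOf y = 3 := orderOf_piX_c h.six
  obtain ⟨hq2, hqy, hqn⟩ := h.refl.quot h.six
  change q * q = 1 at hq2
  change q * y * q⁻¹ * y = 1 at hqy
  change q ∉ Subgroup.zpowers y at hqn
  have hQ : Nat.card (↥(cC u) ⧸ core3 ↥(cC u)) = 6 := by rw [card_piX, h.idx6]
  have hidx : (Subgroup.zpowers y).index = 2 := by
    have := (Subgroup.zpowers y).card_mul_index
    rw [Nat.card_zpowers, hoy, hQ] at this
    omega
  have hq1 : q ≠ 1 := fun e => hqn (e ▸ one_mem _)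
  have hoq : orderOf q = 2 := orderOf_eq_prime (by rw [pow_two]; exact hq2) hq1
  have hmemq : ∀ z, z ∈ Subgroup.zpowers q ↔ z = 1 ∨ z = q := by
    intro z
    constructor
    · intro hz
      obtain ⟨k, rfl⟩ := Subgroup.mem_zpowers_iff.mp hz
      rw [← zpow_mod_orderOf, hoq]
      rcases Int.emod_two_eq_zero_or_one k with e | e <;> simp [e]
    · rintro (rfl | rfl)
      exacts [one_mem _, Subgroup.mem_zpowers _]
  -- the permutation character on three points
  set M := (Subgroup.zpowers q).comap (piX u) with hM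
  have hsurj : Function.Surjective (piX u) := QuotientGroup.mk'_surjective _
  have hMi : M.index = 3 := by
    rw [hM, Subgroup.index_comap_of_surjective _ hsurj]
    have := (Subgroup.zpowers q).card_mul_index
    rw [Nat.card_zpowers, hoq, hQ] at this
    omega
  have hypow : ∀ n : ℕ, y ^ n = 1 ↔ 3 ∣ n := fun n => by rw [← orderOf_dvd_iff_pow_eq_one, hoy]
  have hqpow : ∀ n : ℕ, q * y ^ n = q ↔ 3 ∣ n := fun n => by rw [mul_eq_left, hypow]
  have hflip : ∀ n : ℕ, q * y ^ n = (y ^ n)⁻¹ * q := by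
    intro n
    rw [← inv_pow, ← mul_eq_one_iff_eq_inv.mp hqy, conj_pow, inv_mul_cancel_right]
  have hynq : ∀ n : ℕ, y ^ n ≠ q := fun n e => hqn (e ▸ pow_mem (Subgroup.mem_zpowers _) n)
  set cs : ↥(cC u) := ⟨c, h.six.c_mem⟩ with hcs
  let e : Fin 3 → ↥(cC u) ⧸ M := fun i => QuotientGroup.mk (cs ^ (i : ℕ))
  have he : Function.Bijective e := by
    refine (Nat.bijective_iff_injective_and_card e).mpr ⟨fun i j hij => ?_, by
      rw [Nat.card_fin, ← hMi]; rfl⟩
    have h1 := QuotientGroup.eq.mp hij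
    rw [hM, Subgroup.mem_comap, map_mul, map_inv, map_pow, map_pow, hmemq] at h1
    have h2 : (y ^ (i : ℕ))⁻¹ * y ^ (j : ℕ) = y ^ (2 * (i : ℕ) + j) := by
      rw [inv_mul_eq_iff_eq_mul, ← pow_add]
      exact pow_eq_pow_iff_modEq.mpr (by rw [hoy]; unfold Nat.ModEq; omega)
    rw [h2] at h1
    rcases h1 with e1 | e1
    · have := (hypow _).mp e1
      exact Fin.ext (by omega)
    · exact absurd e1 (hynq _)
  set π : ↥(cC u) → ℂ := fun g => (Nat.card (MulAction.fixedBy (↥(cC u) ⧸ M) g) : ℂ) with hπ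
  have hfix : ∀ (g : ↥(cC u)) (i : Fin 3), g • e i = e i ↔
      (y ^ (i : ℕ))⁻¹ * piX u g * y ^ (i : ℕ) = 1 ∨ (y ^ (i : ℕ))⁻¹ * piX u g * y ^ (i : ℕ) = q := by
    intro g i
    show (QuotientGroup.mk (g * cs ^ (i : ℕ)) : ↥(cC u) ⧸ M) = QuotientGroup.mk (cs ^ (i : ℕ)) ↔ _
    rw [eq_comm, QuotientGroup.eq, hM, Subgroup.mem_comap, hmemq, map_mul, map_mul, map_inv, map_pow, ← mul_assoc]
  have hcnt : ∀ g : ↥(cC u), π g = (Nat.card {i : Fin 3 // g • e i = e i} : ℂ) := by
    intro g
    show (Nat.card {x : ↥(cC u) ⧸ M // g • x = x} : ℂ) = _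
    rw [Nat.card_congr ((Equiv.ofBijective e he).subtypeEquiv (p := fun i => g • e i = e i)
      (q := fun x => g • x = x) fun i => Iff.rfl)]
  have hrot : ∀ g, piX u g ∈ Subgroup.zpowers y → π g = if piX u g = 1 then 3 else 0 := by
    intro g hg
    rw [hcnt]
    split_ifs with h1
    · rw [Nat.card_congr (Equiv.subtypeUnivEquiv fun i => (hfix g i).mpr (Or.inl (by rw [h1]; group)))]
      simp
    · haveI : IsEmpty {i : Fin 3 // g • e i = e i} := ⟨fun i => by
        obtain ⟨k, hk⟩ := Subgroup.mem_zpowers_iff.mp hg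
        have e1 : (y ^ ((i : Fin 3) : ℕ))⁻¹ * piX u g * y ^ ((i : Fin 3) : ℕ) = piX u g := by
          rw [← hk, ← zpow_natCast, ← zpow_neg, ← zpow_add, ← zpow_add]; congr 1; ring
        rcases (hfix g i).mp i.2 with e2 | e2 <;> rw [e1] at e2
        · exact h1 e2
        · exact hqn (e2 ▸ hg)⟩
      simp
  have hrefl : ∀ g, piX u g ∉ Subgroup.zpowers y → π g = 1 := by
    intro g hg
    rw [hcnt]
    have h1 : q * piX u g ∈ Subgroup.zpowers y :=
      (Subgroup.mul_mem_iff_of_index_two hidx).mpr (iff_of_false hqn hg)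
    obtain ⟨j, hj3, hj⟩ : ∃ j : ℕ, j < 3 ∧ y ^ j = q * piX u g := by
      rcases mem_zpowers_three hoy h1 with e | e | e
      · exact ⟨0, by norm_num, by rw [e, pow_zero]⟩
      · exact ⟨1, by norm_num, by rw [e, pow_one]⟩
      · refine ⟨2, by norm_num, ?_⟩
        rw [e, eq_inv_iff_mul_eq_one, ← pow_succ]; exact (hypow 3).mpr dvd_rfl
    have hp : piX u g = q * y ^ j := by rw [hj, ← mul_assoc, hq2, one_mul]
    have hval : ∀ i : Fin 3, (y ^ (i : ℕ))⁻¹ * piX u g * y ^ (i : ℕ) = q * y ^ (2 * (i : ℕ) + j) := by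
      intro i
      rw [hp, ← mul_assoc _ q, ← hflip, mul_assoc q, mul_assoc q, ← pow_add, ← pow_add]
      congr 2
      ring
    have hiff : ∀ i : Fin 3, g • e i = e i ↔ i = ⟨j, hj3⟩ := by
      intro i
      rw [hfix, hval]
      constructor
      · rintro (e1 | e1)
        · exfalso
          refine hqn ?_
          rw [eq_inv_of_mul_eq_one_left e1]
          exact inv_mem (pow_mem (Subgroup.mem_zpowers _) _)
        · exact Fin.ext (by have := (hqpow _).mp e1; have := i.2; simp only; omega)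
      · rintro rfl
        exact Or.inr ((hqpow _).mpr ⟨j, by simp only; ring⟩)
    rw [Nat.card_congr (Equiv.subtypeEquivRight hiff)]
    simp
  -- the linear character
  let K : Subgroup ↥(cC u) :=
    { carrier := {x | (x : G) ∈ kO u ∨ (x : G) * s ∈ kO u}
      one_mem' := Or.inl (one_mem _)
      mul_mem' := by
        rintro x z hx hz
        have conj' : ∀ a ∈ kO u, s * a * s ∈ kO u := fun a ha => by
          have := kO_normalized u h.s_mem ha; rwa [h.s_inv] at this
        show (x : G) * z ∈ kO u ∨ (x : G) * z * s ∈ kO u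
        rcases hx with hx | hx <;> rcases hz with hz | hz
        · exact Or.inl (mul_mem hx hz)
        · exact Or.inr (by rw [mul_assoc]; exact mul_mem hx hz)
        · refine Or.inr ?_
          have e : (x : G) * z * s = (x : G) * s * (s * z * s) := by
            rw [← mul_assoc, ← mul_assoc, mul_assoc (x : G) s s, h.ss, mul_one]
          rw [e]; exact mul_mem hx (conj' _ hz)
        · refine Or.inl ?_
          have e : (x : G) * z = (x : G) * s * (s * ((z : G) * s) * s) := by
            rw [← mul_assoc, ← mul_assoc, ← mul_assoc, mul_assoc (x : G) s s, h.ss, mul_one, mul_assoc, h.ss,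
              mul_one]
          rw [e]; exact mul_mem hx (conj' _ hz)
      inv_mem' := by
        rintro x (hx | hx)
        · exact Or.inl (inv_mem hx)
        · refine Or.inr ?_
          have := kO_normalized u h.s_mem (inv_mem hx)
          rw [mul_inv_rev, h.s_inv, ← mul_assoc, h.ss, one_mul] at this
          exact this }
  have hKu : ∀ x : ↥(cC u), (x : G) * u ∈ kO u → x ∉ K := by
    rintro x hx (hk | hk)
    · have := mul_mem (inv_mem hk) hx
      rw [inv_mul_cancel_left] at this
      exact h.toKPair.u_not_kO this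
    · have := mul_mem (inv_mem hx) hk
      rw [mul_inv_rev, h.six.u_inv, mul_assoc, inv_mul_cancel_left] at this
      have := (h.toKPair.mem_kO.mp this).2
      rw [h.right.os] at this
      exact absurd this (by decide)
  have hdich : ∀ x : ↥(cC u), (x : G) ∈ kO u ∨ (x : G) * u ∈ kO u ∨ (x : G) * s ∈ kO u ∨
      (x : G) * s * u ∈ kO u := by
    intro x
    by_cases hx : piX u x ∈ Subgroup.zpowers y
    · rcases h.toKPair.rot x.2 hx with e | e
      · exact Or.inl e
      · exact Or.inr (Or.inl e)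
    · have : piX u ⟨(x : G) * s, mul_mem x.2 h.s_mem⟩ ∈ Subgroup.zpowers y := by
        show piX u (x * ⟨s, h.s_mem⟩) ∈ _
        rw [map_mul]
        exact (Subgroup.mul_mem_iff_of_index_two hidx).mpr (iff_of_false hx hqn)
      rcases h.toKPair.rot _ this with e | e
      · exact Or.inr (Or.inr (Or.inl e))
      · exact Or.inr (Or.inr (Or.inr e))
  have hK : K.index = 2 := by
    rw [Subgroup.index_eq_two_iff]
    refine ⟨⟨u, h.six.u_mem⟩, fun b => ?_⟩
    have hb : (b : G) * u * u = b := by rw [mul_assoc, h.six.uu, mul_one]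
    have hsu : (b : G) * u * s = (b : G) * s * u := by rw [mul_assoc, ← h.su, mul_assoc]
    by_cases hbK : b ∈ K
    · refine Or.inr ⟨hbK, fun hbu => ?_⟩
      have : (⟨u, h.six.u_mem⟩ : ↥(cC u)) ∈ K := by
        have := mul_mem (inv_mem hbK) hbu
        rwa [inv_mul_cancel_left] at this
      exact hKu ⟨u, h.six.u_mem⟩ (by show u * u ∈ kO u; rw [h.six.uu]; exact one_mem _) this
    · refine Or.inl ⟨?_, hbK⟩
      rcases hdich b with e | e | e | e
      · exact absurd (Or.inl e) hbK
      · exact Or.inl e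
      · exact absurd (Or.inr e) hbK
      · exact Or.inr (show (b : G) * u * s ∈ kO u by rw [hsu]; exact e)
  let lam : ↥(cC u) →* ℂˣ :=
    { toFun := fun x => if x ∈ K then 1 else -1
      map_one' := if_pos (one_mem K)
      map_mul' := fun a b => by
        have := Subgroup.mul_mem_iff_of_index_two hK (a := a) (b := b)
        by_cases ha : a ∈ K <;> by_cases hb : b ∈ K <;> simp [ha, hb, this] }
  have hgen : IsGeneralizedCharacter ↥(cC u)
      (((fun _ => (1 : ℂ)) - fun x => (lam x : ℂ)) * (π - fun _ => 1)) := by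
    haveI : Nonempty (↥(cC u) ⧸ M) := ⟨QuotientGroup.mk 1⟩
    exact Char.isGeneralized_mul (Char.isGeneralized_sub Char.isGeneralized_one
      (Char.isGeneralized_of_isCharacter (Char.isCharacter_monoidHom lam)))
      (Char.isGeneralized_sub (Char.isGeneralized_of_isCharacter (Char.isCharacter_perm _)) Char.isGeneralized_one)
  refine (congrArg (IsGeneralizedCharacter ↥(cC u)) (funext fun x => ?_)).mp hgen
  show (1 - ((if x ∈ K then 1 else -1 : ℂˣ) : ℂ)) * (π x - 1) = kH u x
  -- the image of a product with `u`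
  have hxu : ∀ hm : (x : G) * u ∈ cC u, piX u ⟨(x : G) * u, hm⟩ = piX u x := fun hm => by
    show piX u (x * ⟨u, h.six.u_mem⟩) = _
    rw [map_mul, piX_u h.six, mul_one]
  by_cases hx : piX u x ∈ Subgroup.zpowers y
  swap
  · rw [hrefl x hx, sub_self, mul_zero, kH, if_neg, if_neg]
    · intro e
      exact hx (hxu (kO_le u e) ▸ (h.toKPair.piX_kO e).1)
    · intro e
      exact hx (hxu (cO_le_cC u e) ▸ (h.toKPair.piX_kO (h.toKPair.cO_le_kO e)).1)
  rw [hrot x hx, kH]
  rcases h.toKPair.rot x.2 hx with e | e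
  · have hn : (x : G) * u ∉ kO u := fun e' => hKu x e' (Or.inl e)
    have hxK : x ∈ K := Or.inl e
    rw [if_pos hxK, if_neg (fun e' => hn (h.toKPair.cO_le_kO e')), if_neg hn]
    simp
  · rw [if_neg (hKu x e)]
    have h2 := (h.toKPair.piX_kO e).2
    rw [hxu] at h2
    by_cases h1 : piX u x = 1
    · rw [if_pos h1, if_pos (h2.mp h1)]; norm_num
    · rw [if_neg h1, if_neg (fun e' => h1 (h2.mpr e')), if_pos e]; norm_num

end Shape

section Values

variable {G : Type v} [Group G] [Fintype G] {u c s : G}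

/-- The character values at the element of order six. -/
theorem KFour.exists_pair (h : KFour u c s) {M : Ideal AlgInt} (hM : IsPModular 2 M)
    [DecidablePred (· ∈ principalBlock M G)] [DecidableEq (IrrCharacter G)] :
    ∃ X X' : IrrCharacter G, X ≠ X' ∧
      (∀ y : G, Odd (orderOf y) → (X : G → ℂ) y = (X' : G → ℂ) y) ∧
      ∀ χ : IrrCharacter G, conj ((χ : G → ℂ) (u * c)) =
        (if χ ∈ principalBlock M G then (χ : G → ℂ) u else 0) -
          ((if χ = X then 1 else 0) - (if χ = X' then 1 else 0)) := by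
  classical
  obtain ⟨S, hS, hsS, huS, hK, -⟩ := h.sylow
  have hone := h.six.one
  letI := Fintype.ofFinite ↥(cC u)
  letI := Fintype.ofFinite ↥(cO u)
  set H := cC u with hH
  set w := Nat.card (cO u) with hw
  have hw0 : (w : ℂ) ≠ 0 := Nat.cast_ne_zero.mpr Nat.card_pos.ne'
  have hHc : Nat.card ↥H = 12 * w := h.card_C
  have hgen := Char.isGeneralized_indFun H h.isGeneralized_kH
  choose m hm using fun χ : IrrCharacter G => Char.exists_int_classInner hgen (Char.isGeneralized_of_isIrr χ.2)
  -- the support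
  have hsupp : ∀ x : ↥H, kH u x ≠ 0 → (x : G) * u ∈ kO u := by
    intro x hx
    by_contra hn
    rw [kH, if_neg (fun e => hn (h.toKPair.cO_le_kO e)), if_neg hn] at hx
    exact hx rfl
  have hsum : ∀ F : G → ℂ, ∑ x : ↥H, kH u x * F x =
      4 * ∑ o : ↥(cO u), F (u * o) - 2 * ∑ o : ↥(cO u), F (u * (o * c)) -
        2 * ∑ o : ↥(cO u), F (u * (o * c⁻¹)) := by
    intro F
    let i : ↥(kO u) → ↥H := fun r => ⟨u * r, mul_mem h.six.u_mem (kO_le u r.2)⟩
    have hi : Function.Injective i := fun a b e => Subtype.ext (mul_left_cancel (congrArg Subtype.val e))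
    rw [← Fintype.sum_of_injective i hi (fun r : ↥(kO u) => kH u (i r) * F (u * r)) (fun x => kH u x * F x)
      (fun x hx => ?_) (fun r => rfl)]
    · have hcast : ∀ r : ↥(kO u), kH u (i r) = if (r : G) ∈ cO u then 4 else -2 := by
        intro r
        have e : u * (r : G) * u = r := by
          rw [mul_assoc, mem_cC.mp (kO_le u r.2), ← mul_assoc, h.six.uu, one_mul]
        simp only [kH, i, e, r.2, if_true]
      rw [Finset.sum_congr rfl fun r _ => by rw [hcast r],
        h.toKPair.sum_kO (fun x => (if x ∈ cO u then (4 : ℂ) else -2) * F (u * x))]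
      obtain ⟨h1, h2⟩ := h.toKPair.c_pow_not_cO
      have hn1 : ∀ o : ↥(cO u), (o : G) * c ∉ cO u := fun o e => h1 (by
        have := mul_mem (inv_mem o.2) e; rwa [inv_mul_cancel_left] at this)
      have hn2 : ∀ o : ↥(cO u), (o : G) * c⁻¹ ∉ cO u := fun o e => h2 (by
        have := mul_mem (inv_mem o.2) e; rwa [inv_mul_cancel_left] at this)
      simp only [SetLike.coe_mem, hn1, hn2, if_true, if_false, Finset.mul_sum]
      simp only [← Finset.sum_add_distrib, ← Finset.sum_sub_distrib]
      exact Finset.sum_congr rfl fun o _ => by ring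
    · by_contra hne
      refine hx ⟨⟨_, hsupp x (fun e => hne (by rw [e, zero_mul]))⟩, Subtype.ext ?_⟩
      show u * ((x : G) * u) = x
      rw [← mul_assoc, ← mem_cC.mp x.2, mul_assoc, h.six.uu, mul_one]
  -- the values
  have hval : ∀ χ : IrrCharacter G, conj ((χ : G → ℂ) (u * c)) =
      (if χ ∈ principalBlock M G then (χ : G → ℂ) u else 0) - m χ := by
    intro χ
    have hcl := Blocks.irr_classFunction χ
    have hB : ∀ o : ↥(cO u), (χ : G → ℂ) (u * ((o : G) * c)) = (χ : G → ℂ) (u * c) ∧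
        (χ : G → ℂ) (u * ((o : G) * c⁻¹)) = (χ : G → ℂ) (u * c) := fun o =>
      ⟨(Blocks.IsClassFunction.eq_of_isConj hcl (h.isConj_uc o.2).1).symm,
        (Blocks.IsClassFunction.eq_of_isConj hcl (h.isConj_uc o.2).2).symm⟩
    have h1 := hm χ
    rw [Char.frobenius_reciprocity H _ hcl, classInner, hHc,
      inv_mul_eq_iff_eq_mul₀ (by push_cast; exact mul_ne_zero (by norm_num) hw0),
      hsum (fun x => conj ((χ : G → ℂ) x))] at h1
    simp only [(hB _).1, (hB _).2, Finset.sum_const, Finset.card_univ, ← Nat.card_eq_fintype_card,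
      nsmul_eq_mul, ← hw] at h1
    have h2 := Invol.klein_coset_sum hM S hK hone huS h.six.ou χ
    rw [h.toKPair.sum_kO (fun x => (χ : G → ℂ) (u * x))] at h2
    simp only [(hB _).1, (hB _).2, Finset.sum_const, Finset.card_univ, ← Nat.card_eq_fintype_card,
      nsmul_eq_mul, ← hw] at h2
    rw [h.toKPair.card_kO, ← hw] at h2
    have h3 := congrArg conj h2
    simp only [map_add, map_mul, map_natCast, map_sum, apply_ite conj, map_zero] at h3
    obtain ⟨a, ha⟩ := ZStar.exists_int_value_involution (χ := χ) h.six.uu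
    rw [ha, map_intCast] at h3
    rw [ha]
    push_cast at h1 h3
    split_ifs with hχ
    · rw [if_pos hχ] at h3
      refine mul_left_cancel₀ (mul_ne_zero (by norm_num : (12 : ℂ) ≠ 0) hw0) ?_
      linear_combination (-1 : ℂ) * h1 + 4 * h3
    · rw [if_neg hχ] at h3
      refine mul_left_cancel₀ (mul_ne_zero (by norm_num : (12 : ℂ) ≠ 0) hw0) ?_
      linear_combination (-1 : ℂ) * h1 + 4 * h3
  -- the norm
  set T : Set G := {y | ∃ k : ℕ, y ^ k = u} with hT
  have hTsupp : ∀ x : ↥H, (x : G) ∉ T → kH u x = 0 := by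
    intro x hx
    by_contra hne
    refine hx ⟨orderOf ((x : G) * u), ?_⟩
    obtain ⟨j, hj⟩ := (h.toKPair.mem_kO.mp (hsupp x hne)).2
    have e : (x : G) = (x : G) * u * u := by rw [mul_assoc, h.six.uu, mul_one]
    have hc : Commute ((x : G) * u) u := (show Commute (x : G) u from mem_cC.mp x.2).mul_left (Commute.refl u)
    have hn : ((x : G) * u) ^ orderOf ((x : G) * u) = 1 := pow_orderOf_eq_one _
    generalize orderOf ((x : G) * u) = n at hn hj ⊢
    rw [e, hc.mul_pow, hn, one_mul, hj, pow_succ, pow_mul, pow_two, h.six.uu, one_pow, one_mul]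
  have hk1 : kH u 1 = 0 := by
    by_contra hne
    exact h.toKPair.u_not_kO (by simpa using hsupp 1 hne)
  have hTI : ∀ g : G, g ∉ H → ∀ t ∈ T, g * t * g⁻¹ ∈ T → t = 1 := by
    rintro g hg t ⟨k, hk⟩ ⟨l, hl⟩
    refine absurd (mem_cC.mpr ?_) hg
    have h2 : orderOf (g * u * g⁻¹) = 2 := by rw [Transfer.orderOf_conj, h.six.ou]
    exact mul_inv_eq_iff_eq_mul.mp (Quat.Cov.invol_unique h2 h.six.ou (by rw [conj_pow, hk]) hl)
  have hnorm : ∑ χ : IrrCharacter G, m χ * m χ = 2 := by
    have h1 := Char.classInner_indFun_of_ti H T hTI (kH u) (kH u)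
      (Char.isClassFunction_of_isGeneralized h.isGeneralized_kH) hTsupp hTsupp hk1
    conv at h1 => lhs; rw [Char.classFunction_expansion (Char.isClassFunction_indFun H (kH u)),
      Char.classInner_sum_smul_sum_smul]
    have h2 : classInner (kH u) (kH u) = 2 := by
      rw [classInner, hHc, inv_mul_eq_iff_eq_mul₀ (by push_cast; exact mul_ne_zero (by norm_num) hw0)]
      let F : G → ℂ := fun g => if g * u ∈ cO u then 4 else if g * u ∈ kO u then -2 else 0
      have hF' : ∀ x : ↥H, conj (kH u x) = F x := fun x => by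
        simp only [kH, F]; split_ifs <;> simp only [map_neg, map_zero, map_ofNat]
      rw [Finset.sum_congr rfl fun x _ => by rw [hF' x], hsum F]
      have e1 : ∀ o : G, o ∈ cC u → u * o * u = o := fun o ho => by
        rw [mul_assoc, mem_cC.mp ho, ← mul_assoc, h.six.uu, one_mul]
      obtain ⟨h1, h2⟩ := h.toKPair.c_pow_not_cO
      have hv : ∀ o : ↥(cO u), F (u * o) = 4 ∧ F (u * ((o : G) * c)) = -2 ∧ F (u * ((o : G) * c⁻¹)) = -2 := by
        intro o
        have ho := o.2
        have hc1 : (o : G) * c ∉ cO u := fun e => h1 (by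
          have := mul_mem (inv_mem ho) e; rwa [inv_mul_cancel_left] at this)
        have hc2 : (o : G) * c⁻¹ ∉ cO u := fun e => h2 (by
          have := mul_mem (inv_mem ho) e; rwa [inv_mul_cancel_left] at this)
        have k1 := mul_mem (h.toKPair.cO_le_kO ho) h.toKPair.c_mem_kO
        have k2 := mul_mem (h.toKPair.cO_le_kO ho) (inv_mem h.toKPair.c_mem_kO)
        simp only [F, e1 _ (cO_le_cC u ho), e1 _ (kO_le u k1), e1 _ (kO_le u k2), ho, hc1, hc2, k1, k2,
          if_true, if_false, and_self]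
      simp only [(hv _).1, (hv _).2.1, (hv _).2.2, Finset.sum_const, Finset.card_univ,
        ← Nat.card_eq_fintype_card, nsmul_eq_mul, ← hw]
      push_cast; ring
    rw [h2] at h1
    simp only [hm, map_intCast] at h1
    exact_mod_cast h1
  have hexp : ∀ y : G, indFun H (kH u) y = ∑ χ : IrrCharacter G, (m χ : ℂ) * (χ : G → ℂ) y := by
    intro y
    conv_lhs => rw [Char.classFunction_expansion (Char.isClassFunction_indFun H (kH u))]
    rw [Finset.sum_apply]
    exact Finset.sum_congr rfl fun χ _ => by rw [Pi.smul_apply, smul_eq_mul, hm]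
  have hodd : ∀ y : G, Odd (orderOf y) → ∑ χ : IrrCharacter G, (m χ : ℂ) * (χ : G → ℂ) y = 0 := by
    intro y hy
    rw [← hexp]
    show (Nat.card H : ℂ)⁻¹ * _ = 0
    rw [Finset.sum_eq_zero fun x _ => ?_, mul_zero]
    by_cases hx : x⁻¹ * y * x ∈ H
    · rw [Char.extendByZero_mem H _ hx]
      by_contra hne
      have h1 := hsupp _ hne
      have h2 : x⁻¹ * y * x ∈ kO u := h.toKPair.mem_kO.mpr ⟨hx, by
        rwa [show x⁻¹ * y * x = x⁻¹ * y * x⁻¹⁻¹ by group, Transfer.orderOf_conj]⟩
      have := mul_mem (inv_mem h2) h1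
      rw [inv_mul_cancel_left] at this
      exact h.toKPair.u_not_kO this
    · exact Char.extendByZero_notMem H _ hx
  -- two characters
  have hle : ∀ χ, m χ = 0 ∨ m χ * m χ = 1 := by
    intro χ
    have h1 := Finset.single_le_sum (f := fun χ => m χ * m χ) (fun _ _ => mul_self_nonneg _) (Finset.mem_univ χ)
    rw [hnorm] at h1
    have h2 : m χ ≤ 1 := by nlinarith
    have h3 : -1 ≤ m χ := by nlinarith
    interval_cases m χ <;> simp
  have hcard : (Finset.univ.filter fun χ => m χ ≠ 0).card = 2 := by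
    have h1 : ∑ χ : IrrCharacter G, m χ * m χ = ((Finset.univ.filter fun χ => m χ ≠ 0).card : ℤ) := by
      rw [Finset.card_filter, Nat.cast_sum]
      refine Finset.sum_congr rfl fun χ _ => ?_
      rcases hle χ with e | e
      · simp [e]
      · rw [e, if_pos (fun e' => by rw [e'] at e; simp at e)]; rfl
    rw [hnorm] at h1
    exact_mod_cast h1.symm
  obtain ⟨A, B, hAB, hset⟩ := Finset.card_eq_two.mp hcard
  have hmem : ∀ χ, m χ ≠ 0 ↔ χ = A ∨ χ = B := fun χ => by
    have := Finset.ext_iff.mp hset χ; simpa using this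
  have hpair : ∀ y : G, Odd (orderOf y) → (m A : ℂ) * (A : G → ℂ) y + (m B : ℂ) * (B : G → ℂ) y = 0 := by
    intro y hy
    rw [← hodd y hy, ← Finset.sum_pair hAB (f := fun χ => (m χ : ℂ) * (χ : G → ℂ) y)]
    refine Finset.sum_subset (Finset.subset_univ _) fun χ _ hχ => ?_
    have : m χ = 0 := by
      by_contra hne
      exact hχ (by simpa using (hmem χ).mp hne)
    rw [this, Int.cast_zero, zero_mul]
  have hAB' : m A + m B = 0 := by
    have h1 := hpair 1 (by rw [orderOf_one]; exact odd_one)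
    rw [(Blocks.irr_degree_eq A).1, (Blocks.irr_degree_eq B).1] at h1
    have h2 : m A * (charDegree (A : G → ℂ) : ℤ) + m B * (charDegree (B : G → ℂ) : ℤ) = 0 := by exact_mod_cast h1
    have hA0 := (Blocks.irr_degree_eq A).2
    have hB0 := (Blocks.irr_degree_eq B).2
    have ha := (hle A).resolve_left ((hmem A).mpr (Or.inl rfl))
    have hb := (hle B).resolve_left ((hmem B).mpr (Or.inr rfl))
    rcases mul_self_eq_one_iff.mp ha with e | e <;> rcases mul_self_eq_one_iff.mp hb with e' | e' <;>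
      rw [e, e'] at h2 ⊢ <;> omega
  suffices key : ∀ A B : IrrCharacter G, A ≠ B → m A = 1 → m B = -1 → (∀ χ, m χ ≠ 0 → χ = A ∨ χ = B) →
      (∀ y : G, Odd (orderOf y) → (m A : ℂ) * (A : G → ℂ) y + (m B : ℂ) * (B : G → ℂ) y = 0) →
      ∃ X X' : IrrCharacter G, X ≠ X' ∧
      (∀ y : G, Odd (orderOf y) → (X : G → ℂ) y = (X' : G → ℂ) y) ∧
      ∀ χ : IrrCharacter G, conj ((χ : G → ℂ) (u * c)) =
        (if χ ∈ principalBlock M G then (χ : G → ℂ) u else 0) -
          ((if χ = X then 1 else 0) - (if χ = X' then 1 else 0)) by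
    have ha := (hle A).resolve_left ((hmem A).mpr (Or.inl rfl))
    rcases mul_self_eq_one_iff.mp ha with e | e
    · exact key A B hAB e (by omega) (fun χ hχ => (hmem χ).mp hχ) hpair
    · refine key B A hAB.symm (by omega) e (fun χ hχ => ((hmem χ).mp hχ).symm) fun y hy => ?_
      rw [add_comm]; exact hpair y hy
  intro A B hne hA hB hz hp
  refine ⟨A, B, hne, fun y hy => ?_, fun χ => ?_⟩
  · have := hp y hy
    rw [hA, hB] at this
    push_cast at this
    linear_combination this
  · rw [hval]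
    congr 1
    by_cases e1 : χ = A
    · subst e1; rw [hA, if_pos rfl, if_neg hne]; simp
    by_cases e2 : χ = B
    · subst e2; rw [hB, if_neg e1, if_pos rfl]; simp
    have : m χ = 0 := by
      by_contra h0
      rcases hz χ h0 with e | e
      exacts [e1 e, e2 e]
    rw [this, if_neg e1, if_neg e2]; simp

end Values

end CfsgLib.OrderSix
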