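import Cfsg.Agent.Lib.OrderSix.KleinShape
import Cfsg.Agent.Lib.Invol.KleinBlock

/-!
Index six with `O_2` of order two: the odd part of the centralizer.
-/

set_option autoImplicit false
set_option linter.unusedVariables false
set_option linter.unusedSectionVars false
set_option linter.style.haveILetI false

namespace CfsgLib.OrderSix

open CfsgLib.SelfCent CfsgLib.SCThree

universe v

variable {G : Type v} [Group G] [Finite G] {u c s : G}

/-- The odd part of the centralizer, as used in the coset sums. -/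
abbrev kO (u : G) : Subgroup G :=
  (Cfsg.pPrimeCore 2 ↥(Subgroup.centralizer ({u} : Set G))).map (Subgroup.centralizer ({u} : Set G)).subtype

theorem kO_le (u : G) : kO u ≤ cC u := Subgroup.map_subtype_le _

theorem kO_odd (u : G) : Odd (Nat.card (kO u)) := by
  rw [Subgroup.card_map_of_injective (Subgroup.centralizer ({u} : Set G)).subtype_injective]
  exact Nat.coprime_two_right.mp (Transfer.pPrimeCore_coprime 2)

theorem kO_normalized (u : G) {g x : G} (hg : g ∈ cC u) (hx : x ∈ kO u) : g * x * g⁻¹ ∈ kO u := by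
  obtain ⟨y, hy, rfl⟩ := hx
  exact ⟨⟨g, hg⟩ * y * ⟨g, hg⟩⁻¹, (Transfer.pPrimeCore_normal 2 _).conj_mem y hy _, rfl⟩

theorem KPair.mem_kO (h : KPair u c s) {x : G} : x ∈ kO u ↔ x ∈ cC u ∧ Odd (orderOf x) := by
  letI := Fintype.ofFinite G
  obtain ⟨S, hS, hs, hu, hK, -⟩ := h.sylow
  obtain ⟨Q, -, hnpc⟩ := Invol.klein_centralizer S hK h.six.ou hu
  refine ⟨fun hx => ⟨kO_le u hx, (kO_odd u).of_dvd_nat (Subgroup.orderOf_dvd_natCard _ hx)⟩,
    fun ⟨hxC, hodd⟩ => ⟨⟨x, hxC⟩, ?_, rfl⟩⟩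
  show _ ∈ Cfsg.pPrimeCore 2 ↥(Subgroup.centralizer ({u} : Set G))
  rw [Transfer.pPrimeCore_eq_pResidual hnpc]
  refine Transfer.mem_pResidual_of_coprime ?_
  rw [← Subgroup.orderOf_coe]
  exact hodd.coprime_two_right

theorem KPair.cO_le_kO (h : KPair u c s) : cO u ≤ kO u := fun x hx =>
  h.mem_kO.mpr ⟨cO_le_cC u hx, ((mem_cO h.six).mp hx).2⟩

theorem KPair.c_mem_kO (h : KPair u c s) : c ∈ kO u :=
  h.mem_kO.mpr ⟨h.six.c_mem, by rw [h.six.oc]; decide⟩

theorem KPair.u_not_kO (h : KPair u c s) : u ∉ kO u := fun hx => by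
  have := (h.mem_kO.mp hx).2
  rw [h.six.ou] at this
  exact absurd this (by decide)

/-- An element of `O_{3'}` inside the odd part lies in the core. -/
theorem KPair.cX_kO (h : KPair u c s) {x : G} (hX : x ∈ cX u) (hx : x ∈ kO u) : x ∈ cO u :=
  (mem_cO h.six).mpr ⟨hX, (h.mem_kO.mp hx).2⟩

theorem KPair.kO_cases (h : KPair u c s) {x : G} (hx : x ∈ kO u) :
    x ∈ cO u ∨ x * c ∈ cO u ∨ x * c⁻¹ ∈ cO u := by
  rcases kinds h.six h.low (kO_le u hx) with e | e | e | ⟨-, e⟩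
  · exact Or.inl (h.cX_kO e hx)
  · exact Or.inr (Or.inl (h.cX_kO e (mul_mem hx h.c_mem_kO)))
  · exact Or.inr (Or.inr (h.cX_kO e (mul_mem hx (inv_mem h.c_mem_kO))))
  · exfalso
    obtain ⟨j, hj⟩ := (h.mem_kO.mp hx).2
    refine e.2.1 ?_
    have h1 : x = ((x * x) ^ j)⁻¹ := by
      rw [eq_inv_iff_mul_eq_one, ← pow_two, ← pow_mul, ← pow_succ', ← hj, pow_orderOf_eq_one]
    rw [h1]
    exact inv_mem (pow_mem e.2.2.1 j)

theorem KPair.c_pow_not_cO (h : KPair u c s) : c ∉ cO u ∧ c⁻¹ ∉ cO u :=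
  ⟨fun e => c_not_mem_cX h.six (cO_le_cX u e),
    fun e => c_not_mem_cX h.six (cO_le_cX u (by simpa using inv_mem e))⟩

/-- Summing over the odd part. -/
theorem KPair.sum_kO [Fintype ↥(kO u)] [Fintype ↥(cO u)] (h : KPair u c s) {A : Type*} [AddCommMonoid A]
    (F : G → A) : ∑ r : ↥(kO u), F r =
      (∑ o : ↥(cO u), F o) + ∑ o : ↥(cO u), F ((o : G) * c) + ∑ o : ↥(cO u), F ((o : G) * c⁻¹) := by
  classical
  let f : ↥(cO u) ⊕ ↥(cO u) ⊕ ↥(cO u) → ↥(kO u) := Sum.elim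
    (fun o => ⟨(o : G), h.cO_le_kO o.2⟩) (Sum.elim (fun o => ⟨(o : G) * c, mul_mem (h.cO_le_kO o.2) h.c_mem_kO⟩)
      (fun o => ⟨(o : G) * c⁻¹, mul_mem (h.cO_le_kO o.2) (inv_mem h.c_mem_kO)⟩))
  have hne : ∀ (o o' : ↥(cO u)), (o : G) ≠ o' * c ∧ (o : G) ≠ o' * c⁻¹ ∧ (o : G) * c ≠ o' * c⁻¹ := by
    intro o o'
    obtain ⟨h1, h2⟩ := h.c_pow_not_cO
    refine ⟨fun e => h1 ?_, fun e => h2 ?_, fun e => h2 ?_⟩
    · have := mul_mem (inv_mem o'.2) o.2; rwa [e, inv_mul_cancel_left] at this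
    · have := mul_mem (inv_mem o'.2) o.2; rwa [e, inv_mul_cancel_left] at this
    · have e2 : (o : G) = o' * (c⁻¹ * c⁻¹) := by rw [← mul_assoc, ← e, mul_inv_cancel_right]
      have hc : c⁻¹ * c⁻¹ = c := by
        rw [← mul_inv_rev, inv_eq_of_mul_eq_one_right]
        rw [← h.six.ccc, pow_succ, pow_two]
      have := mul_mem (inv_mem o'.2) o.2
      rw [e2, hc, inv_mul_cancel_left] at this
      exact absurd this h1
  have hf : Function.Bijective f := by
    refine ⟨?_, fun ⟨r, hr⟩ => ?_⟩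
    · rintro (o | o | o) (o' | o' | o') e <;> have e' := congrArg Subtype.val e <;>
        simp only [f, Sum.elim_inl, Sum.elim_inr] at e'
      · exact congrArg _ (Subtype.ext e')
      · exact absurd e' (hne o o').1
      · exact absurd e' (hne o o').2.1
      · exact absurd e'.symm (hne o' o).1
      · exact congrArg _ (congrArg _ (Subtype.ext (mul_right_cancel e')))
      · exact absurd e' (hne o o').2.2
      · exact absurd e'.symm (hne o' o).2.1
      · exact absurd e'.symm (hne o' o).2.2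
      · exact congrArg _ (congrArg _ (Subtype.ext (mul_right_cancel e')))
    · rcases h.kO_cases hr with e | e | e
      · exact ⟨Sum.inl ⟨r, e⟩, rfl⟩
      · exact ⟨Sum.inr (Sum.inr ⟨_, e⟩), Subtype.ext (by simp [f])⟩
      · exact ⟨Sum.inr (Sum.inl ⟨_, e⟩), Subtype.ext (by simp [f])⟩
  rw [← Fintype.sum_bijective f hf (fun z => F (f z)) (fun r => F r) (fun _ => rfl),
    Fintype.sum_sum_type, Fintype.sum_sum_type, ← add_assoc]
  rfl

theorem KPair.card_kO (h : KPair u c s) : Nat.card (kO u) = 3 * Nat.card (cO u) := by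
  classical
  letI := Fintype.ofFinite ↥(kO u)
  letI := Fintype.ofFinite ↥(cO u)
  have := h.sum_kO (fun _ => 1)
  simp only [Finset.sum_const, Finset.card_univ, ← Nat.card_eq_fintype_card, smul_eq_mul, mul_one] at this
  omega

namespace KFour

variable (h : KFour u c s)
include h

/-- The elements of the two outer cosets times `u` are conjugate to `u c`. -/
theorem isConj_uc {o : G} (ho : o ∈ cO u) : IsConj (u * c) (u * (o * c)) ∧ IsConj (u * c) (u * (o * c⁻¹)) := by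
  classical
  have hsix := h.six
  have hinj : Function.Injective (fun o : ↥(cO u) => (⟨(o : G) * (c * (o : G)⁻¹ * c⁻¹),
      mul_mem o.2 (cO_conj_mem hsix hsix.c_mem (inv_mem o.2))⟩ : ↥(cO u))) := by
    intro a b e
    have e' : (a : G) * (c * (a : G)⁻¹ * c⁻¹) = b * (c * (b : G)⁻¹ * c⁻¹) := congrArg Subtype.val e
    have hfix : c * ((b : G)⁻¹ * a) = (b : G)⁻¹ * a * c := by
      calc c * ((b : G)⁻¹ * a) = (b : G)⁻¹ * ((b : G) * (c * (b : G)⁻¹ * c⁻¹)) * c * a := by group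
        _ = (b : G)⁻¹ * ((a : G) * (c * (a : G)⁻¹ * c⁻¹)) * c * a := by rw [e']
        _ = _ := by group
    exact Subtype.ext (inv_mul_eq_one.mp (cO_fpf hsix (mul_mem (inv_mem b.2) a.2) hfix)).symm
  have key : ∀ o ∈ cO u, IsConj (u * c) (u * (o * c)) := by
    intro o ho
    obtain ⟨⟨d, hd⟩, e⟩ := Finite.surjective_of_injective hinj ⟨o, ho⟩
    have e' : d * (c * d⁻¹ * c⁻¹) = o := congrArg Subtype.val e
    refine isConj_iff.mpr ⟨d, ?_⟩
    rw [← e', ← mul_assoc d u c, mem_cC.mp (cO_le_cC u hd)]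
    group
  refine ⟨key o ho, ?_⟩
  refine (key _ (cO_conj_mem hsix h.s_mem ho)).trans (isConj_iff.mpr ⟨s, ?_⟩)
  have e1 : s * c * s⁻¹ = c⁻¹ := h.inv
  calc s * (u * (s * o * s⁻¹ * c)) * s⁻¹ = s * u * s * o * (s⁻¹ * c * s⁻¹) := by group
    _ = u * (s * s) * o * (s * c * s⁻¹) := by rw [h.su, h.s_inv]; group
    _ = _ := by rw [h.ss, e1]; group

end KFour

end CfsgLib.OrderSix
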