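import Cfsg.Agent.Lib.OrderSix.Bar
import Cfsg.Agent.Lib.OrderSix.Average
import Cfsg.Agent.Lib.PSolvable.Omega

/-!
The normalizer of `O_2` of an involution centralizer is that centralizer.
-/

set_option autoImplicit false
set_option linter.unusedVariables false
set_option linter.unusedSectionVars false
set_option linter.style.haveILetI false

namespace CfsgLib.OrderSix

open CfsgLib.SelfCent CfsgLib.SCThree
open scoped commutatorElement

universe v

variable {G : Type v} [Group G] [Finite G] {u c : G}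

/-- The fixed points of `c` on a two-subgroup containing `u`. -/
theorem fixed_in_two_group (h : Six u c) {N : Subgroup G} (hN : IsPGroup 2 N) (hu : u ∈ N) {a : G}
    (ha : a ∈ N) (hac : a * c = c * a) : a = 1 ∨ a = u := by
  haveI := Fact.mk Nat.prime_two
  set A := N ⊓ Subgroup.centralizer ({c} : Set G) with hA
  have hAp : IsPGroup 2 A := hN.to_le inf_le_left
  have huA : u ∈ A := ⟨hu, Subgroup.mem_centralizer_singleton_iff.mpr h.comm⟩
  haveI : Nontrivial A := ⟨⟨⟨u, huA⟩, 1, fun e => h.u_ne_one (congrArg Subtype.val e)⟩⟩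
  haveI := hAp.center_nontrivial
  obtain ⟨z, hz1⟩ := exists_ne (1 : Subgroup.center A)
  have hz : ∀ b : A, (z : A).1 * b = b * (z : A).1 := fun b =>
    (congrArg Subtype.val (Subgroup.mem_center_iff.mp z.2 b)).symm
  obtain ⟨n, hn⟩ := isPGroup_two_pow hAp (z : A).2
  have hzu : (z : A).1 = u := by
    rcases h.eq_of_comm_two (hz ⟨u, huA⟩) (Subgroup.mem_centralizer_singleton_iff.mp (z : A).2.2) hn with e | e
    · exact absurd (Subtype.ext (Subtype.ext e)) hz1
    · exact e
  obtain ⟨m, hm⟩ := isPGroup_two_pow hN ha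
  refine h.eq_of_comm_two ?_ hac hm
  have := hz ⟨a, ⟨ha, Subgroup.mem_centralizer_singleton_iff.mpr hac⟩⟩
  rw [hzu] at this
  exact this.symm

/-- A group normalising a two-subgroup through `u` has a self-centralizing element of order three modulo it. -/
theorem sc_normalizer (h : Six u c) {K N : Subgroup G} (hN : IsPGroup 2 N) (hu : u ∈ N) (hNK : N ≤ K)
    (hn : K ≤ Subgroup.normalizer (N : Set G)) (hc : c ∈ K) [(N.subgroupOf K).Normal] :
    SC (QuotientGroup.mk (⟨c, hc⟩ : ↥K) : ↥K ⧸ N.subgroupOf K) := by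
  haveI : Fact (Nat.Prime 3) := ⟨Nat.prime_three⟩
  set q : ↥K ⧸ N.subgroupOf K := QuotientGroup.mk (⟨c, hc⟩ : ↥K) with hq
  have ho : orderOf q = 3 := by
    refine orderOf_eq_prime ?_ ?_
    · rw [hq, ← QuotientGroup.mk_pow]
      refine (QuotientGroup.eq_one_iff _).mpr (Subgroup.mem_subgroupOf.mpr ?_)
      rw [SubgroupClass.coe_pow]
      show c ^ 3 ∈ N
      rw [h.ccc]; exact one_mem N
    · intro e
      rw [hq, QuotientGroup.eq_one_iff, Subgroup.mem_subgroupOf] at e
      exact not_three_dvd_two_group hN (h.oc ▸ Subgroup.orderOf_dvd_natCard N e)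
  refine ⟨Nat.prime_three, ho, le_antisymm ?_ ?_⟩
  swap
  · exact Subgroup.zpowers_le.mpr (Subgroup.mem_centralizer_singleton_iff.mpr rfl)
  intro z hz
  obtain ⟨x, rfl⟩ := QuotientGroup.mk'_surjective _ z
  have hz' := Subgroup.mem_centralizer_singleton_iff.mp hz
  rw [QuotientGroup.mk'_apply, hq, ← QuotientGroup.mk_mul, ← QuotientGroup.mk_mul, QuotientGroup.eq,
    Subgroup.mem_subgroupOf] at hz'
  simp only [Subgroup.coe_mul, Subgroup.coe_inv] at hz'
  have hcN : c ∈ Subgroup.normalizer (N : Set G) := hn hc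
  have hx1 : (x : G)⁻¹ * (c * x * c⁻¹) ∈ N := by
    have := (Subgroup.mem_normalizer_iff.mp hcN _).mp hz'
    refine (congrArg (· ∈ N) ?_).mp this
    group
  -- a fixed point in the coset
  let f : Function.End {y : G // (x : G)⁻¹ * y ∈ N} := fun y => ⟨c * y * c⁻¹, by
    have := mul_mem hx1 ((Subgroup.mem_normalizer_iff.mp hcN _).mp y.2)
    refine (congrArg (· ∈ N) ?_).mp this
    group⟩
  have hf : f ^ 3 ^ 1 = 1 := funext fun y => Subtype.ext (by
    show c * (c * (c * (y : G) * c⁻¹) * c⁻¹) * c⁻¹ = y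
    calc _ = c * c * c * (y : G) * (c * c * c)⁻¹ := by group
      _ = y := by rw [show c * c * c = 1 by rw [← h.ccc, pow_succ, pow_two]]; group)
  classical
  letI := Fintype.ofFinite {y : G // (x : G)⁻¹ * y ∈ N}
  obtain ⟨y, hy⟩ : (Function.fixedPoints f).Nonempty := by
    by_contra he
    rw [Set.not_nonempty_iff_eq_empty] at he
    have := Equiv.Perm.card_fixedPoints_modEq hf
    rw [← Nat.card_eq_fintype_card, ← Nat.card_eq_fintype_card, he, Nat.card_coe_set_eq,
      Set.ncard_empty] at this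
    have hcard : Nat.card {y : G // (x : G)⁻¹ * y ∈ N} = Nat.card N :=
      Nat.card_congr ⟨fun y => ⟨(x : G)⁻¹ * y, y.2⟩, fun m => ⟨x * m, by simp⟩,
        fun y => Subtype.ext (by simp), fun m => Subtype.ext (by simp)⟩
    rw [hcard] at this
    exact not_three_dvd_two_group hN (Nat.modEq_zero_iff_dvd.mp this)
  have hyc : c * (y : G) = y * c := mul_inv_eq_iff_eq_mul.mp (congrArg Subtype.val hy)
  have hyK : (y : G) ∈ K := by
    have := mul_mem x.2 (hNK y.2)
    rwa [mul_inv_cancel_left] at this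
  have huy : (y : G) * u * (y : G)⁻¹ = u := by
    rcases fixed_in_two_group h hN hu ((Subgroup.mem_normalizer_iff.mp (hn hyK) u).mp hu) (by
      have e : (y : G)⁻¹ * c = c * (y : G)⁻¹ := ((show Commute c (y : G) from hyc).inv_right).eq.symm
      calc (y : G) * u * (y : G)⁻¹ * c = (y : G) * (u * c) * (y : G)⁻¹ := by
            rw [mul_assoc _ _ c, e]; group
        _ = (y : G) * c * u * (y : G)⁻¹ := by rw [h.comm, ← mul_assoc]
        _ = _ := by rw [← hyc]; group) with e | e
    · exact absurd (conj_eq_one_iff.mp e) h.u_ne_one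
    · exact e
  obtain ⟨i, hi⟩ := h.cent y (mul_inv_eq_iff_eq_mul.mp huy) hyc.symm
  refine Subgroup.mem_zpowers_iff.mpr ⟨i, ?_⟩
  rw [zpow_natCast, QuotientGroup.mk'_apply, hq, ← QuotientGroup.mk_pow, QuotientGroup.eq, Subgroup.mem_subgroupOf]
  simp only [Subgroup.coe_mul, Subgroup.coe_inv, SubgroupClass.coe_pow]
  have hyN := y.2
  rcases hi with e | e <;> rw [e] at hyN
  · simpa using inv_mem hyN
  · have := mul_mem (inv_mem (mul_mem hyN (inv_mem hu))) (one_mem N)
    have hcu : Commute u (c ^ i) := (show Commute u c from h.comm).pow_right i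
    rw [hcu.eq, mul_assoc ((x : G)⁻¹), mul_inv_cancel_right, mul_one, mul_inv_rev, inv_inv] at this
    exact this

theorem card_normalizer_sylow (h : Six u c) (hl : Low u) {K : Subgroup G} (hT : cT u ≤ K) :
    ¬ 4 ∣ (cT u).relIndex K := by
  haveI := Fact.mk Nat.prime_two
  intro h4
  obtain ⟨S, -, hS⟩ := exists_sylow_cC h (IsPGroup.of_bot (p := 2)) bot_le
  obtain ⟨n, hn⟩ := IsPGroup.iff_card.mp (cT_isPGroup u)
  have hK : Nat.card (cT u) * (cT u).relIndex K = Nat.card K := by
    have := ((cT u).subgroupOf K).card_mul_index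
    rwa [Nat.card_congr (Subgroup.subgroupOfEquivOfLe hT).toEquiv] at this
  have hdvd : 2 ^ (n + 2) ∣ Nat.card G := by
    refine dvd_trans ?_ K.card_subgroup_dvd_card
    rw [← hK, hn, pow_add]
    exact mul_dvd_mul_left _ h4
  have hSd := S.pow_dvd_card_of_pow_dvd_card hdvd
  have hTS := cT_le_sylow h S hS
  have hST : Nat.card (cT u) * (cT u).relIndex (S : Subgroup G) = Nat.card (S : Subgroup G) := by
    have := ((cT u).subgroupOf (S : Subgroup G)).card_mul_index
    rwa [Nat.card_congr (Subgroup.subgroupOfEquivOfLe hTS).toEquiv] at this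
  rcases sylow_index h hl S hS with ⟨-, e⟩ | ⟨-, e⟩
  · rw [e, hn, pow_add] at hSd
    have := Nat.le_of_dvd (by positivity) hSd
    have h0 : 0 < 2 ^ n := by positivity
    omega
  · rw [← hST, e, hn, pow_add] at hSd
    have := Nat.le_of_dvd (by positivity) hSd
    have h0 : 0 < 2 ^ n := by positivity
    omega

/-- `N(O_2(C(u))) = C(u)`. -/
theorem normalizer_cT (h : Six u c) (hl : Low u) (hu : u ∈ cD u) :
    Subgroup.normalizer (cT u : Set G) ≤ cC u := by
  haveI := Fact.mk Nat.prime_two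
  set NT := Subgroup.normalizer (cT u : Set G) with hNT
  have hTle : cT u ≤ NT := (cT_le_cC u).trans (cT_normalized u)
  have hCle : cC u ≤ NT := cT_normalized u
  haveI hTn : ((cT u).subgroupOf NT).Normal := Subgroup.normal_subgroupOf_iff_le_normalizer hTle |>.mpr le_rfl
  set L := ↥NT ⧸ (cT u).subgroupOf NT
  have hcN : c ∈ NT := hCle h.c_mem
  have hsc := sc_normalizer h (cT_isPGroup u) (u_mem_cT h) hTle le_rfl hcN
  have hL4 : ¬ 4 ∣ Nat.card L := fun h4 => card_normalizer_sylow h hl hTle h4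
  set R := core3 L with hR
  have hRidx : R.index = 3 ∨ R.index = 6 := by
    have hdvd : R.index ∣ Nat.card L := R.index_dvd_card
    rcases shape_of_selfCent hsc with e | ⟨e, -⟩ | ⟨e, hc, -⟩
    · exact e
    · exact absurd (Dvd.dvd.trans (by rw [e]; norm_num) hdvd) hL4
    · exact absurd (show 4 ∣ Nat.card L by rw [hc]; norm_num) hL4
  set cb : L := QuotientGroup.mk (⟨c, hcN⟩ : ↥NT) with hcb
  have hRinv : Inv cb R := ⟨by rw [Subgroup.normalizer_eq_top]; exact Subgroup.mem_top _, not_three_dvd_core3⟩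
  haveI := hRinv.isNilpotent hsc
  -- the core has odd order
  have hRodd : Odd (Nat.card R) := by
    rw [Nat.odd_iff]
    by_contra he
    have h2 : 2 ∣ Nat.card R := by omega
    obtain ⟨P⟩ : Nonempty (Sylow 2 ↥R) := inferInstance
    haveI : (P : Subgroup ↥R).Characteristic := P.characteristic_of_normal inferInstance
    set P' := (P : Subgroup ↥R).map R.subtype
    have hP' : Inv cb P' := by
      refine ⟨?_, not_three_dvd_two_group (P.isPGroup'.map _)⟩
      haveI : P'.Normal := inferInstance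
      rw [Subgroup.normalizer_eq_top]; exact Subgroup.mem_top _
    have h1 := hP'.card_mod hsc
    obtain ⟨k, hk⟩ := IsPGroup.iff_card.mp P.isPGroup'
    have hP2 : 2 ∣ Nat.card (P : Subgroup ↥R) := P.dvd_card_of_dvd_card h2
    have hle : k ≤ 1 := by
      by_contra hh
      refine hL4 (dvd_trans ?_ (R.card_subgroup_dvd_card))
      refine dvd_trans ?_ (P : Subgroup ↥R).card_subgroup_dvd_card
      rw [hk, show 4 = 2 ^ 2 from rfl]
      exact pow_dvd_pow 2 (by omega)
    rw [card_map_subtype, hk] at h1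
    rw [hk] at hP2
    interval_cases k <;> simp at h1 hP2
  -- the action on the abelianization
  haveI : Finite (Abelianization ↥(cT u)) := Quotient.finite _
  let ρ0 : L →* MulAut (Abelianization ↥(cT u)) :=
    QuotientGroup.lift ((cT u).subgroupOf NT) (actAb u) (fun x hx => by
      rw [MonoidHom.mem_ker]
      exact actAb_cX h (cT_le_cX u (Subgroup.mem_subgroupOf.mp hx)))
  let φ : MulAut (Abelianization ↥(cT u)) := ρ0 cb
  have hφ3 : ∀ m, φ (φ (φ m)) = m := by
    intro m
    show ρ0 cb (ρ0 cb (ρ0 cb m)) = m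
    rw [← MulAut.mul_apply, ← MulAut.mul_apply, ← map_mul, ← map_mul, hsc.pow_three, map_one, MulAut.one_apply]
  have hφ : ∀ m, φ m = m → m = 1 := by
    intro m hm
    obtain ⟨z, rfl⟩ := QuotientGroup.mk'_surjective (commutator ↥(cT u)) m
    change actAb u ⟨c, hcN⟩ (Abelianization.of z) = Abelianization.of z at hm
    rw [show z = ⟨(z : G), z.2⟩ from rfl, actAb_of] at hm
    have h0 : Abelianization.of
        ((⟨z, z.2⟩ : ↥(cT u))⁻¹ * ⟨c * z * c⁻¹, (Subgroup.mem_normalizer_iff.mp hcN z).mp z.2⟩) = 1 := by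
      rw [map_mul, map_inv, hm, inv_mul_cancel]
    have h1 : (z : G)⁻¹ * (c * z * c⁻¹) ∈ cD u :=
      (of_eq_one (u := u) (mul_mem (inv_mem z.2) ((Subgroup.mem_normalizer_iff.mp hcN z).mp z.2))).mp h0
    have h2 := fix_mod h (cD_le u) hu (cD_normalized u h.c_mem) z.2 h1
    exact (of_eq_one z.2).mpr h2
  have hσ : ∀ y : ↥R, invAut hRinv y = y → y = 1 := fun y hy => Subtype.ext (hRinv.eq_one hsc y.2 (by
    have : cb * (y : L) * cb⁻¹ = y := congrArg Subtype.val hy
    exact (mul_inv_eq_iff_eq_mul.mp this).symm))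
  have htriv : ∀ (y : ↥R) (m : Abelianization ↥(cT u)), ρ0 y m = m := by
    refine Average.trivial_action (ρ0.comp R.subtype) φ (invAut hRinv)
      (fun y => Subtype.ext (Inv.three_steps hsc (y : L))) hσ hφ3 hφ (fun y m => ?_) (fun m hm => ?_)
    · show ρ0 cb (ρ0 (y : L) m) = ρ0 (cb * (y : L) * cb⁻¹) (ρ0 cb m)
      rw [← MulAut.mul_apply, ← MulAut.mul_apply, ← map_mul, ← map_mul]
      congr 2; group
    · have hp : IsPGroup 2 (Abelianization ↥(cT u)) := (cT_isPGroup u).to_quotient _
      obtain ⟨k, hk⟩ := hp m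
      have hd := Nat.dvd_gcd (orderOf_dvd_of_pow_eq_one hm) (orderOf_dvd_of_pow_eq_one hk)
      rw [(Nat.Coprime.pow_right k hRodd.coprime_two_right).gcd_eq_one, Nat.dvd_one] at hd
      exact orderOf_eq_one_iff.mp hd
  -- the preimage of the core
  set Rg := (R.comap (QuotientGroup.mk' ((cT u).subgroupOf NT))).map NT.subtype with hRg
  have hRC : Rg ≤ cC u := by
    rintro _ ⟨g, hg, rfl⟩
    have hgR : QuotientGroup.mk' ((cT u).subgroupOf NT) g ∈ R := hg
    obtain ⟨a, m, hm, e⟩ := Nat.exists_eq_two_pow_mul_odd (orderOf_pos g).ne'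
    -- the two-part lies in `O_2`, the odd part centralizes it
    obtain ⟨i, j, hij⟩ : IsCoprime (m : ℤ) ((2 : ℤ) ^ a) := by
      rw [Int.isCoprime_iff_nat_coprime, Int.natAbs_natCast, Int.natAbs_pow]
      exact Nat.Coprime.pow_right a hm.coprime_two_right
    have hgp : g ^ ((m : ℤ) * (2 : ℤ) ^ a) = 1 := by
      rw [show ((m : ℤ) * (2 : ℤ) ^ a) = ((orderOf g : ℕ) : ℤ) by rw [e]; push_cast; ring, zpow_natCast,
        pow_orderOf_eq_one]
    have h2 : g ^ (i * m) ∈ (cT u).subgroupOf NT := by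
      have h2' : (g ^ (i * m)) ^ 2 ^ a = 1 := by
        rw [← zpow_natCast, ← zpow_mul]; push_cast
        rw [mul_assoc, mul_comm i, zpow_mul, hgp, one_zpow]
      have hmem : QuotientGroup.mk' ((cT u).subgroupOf NT) (g ^ (i * m)) ∈ R := by
        rw [map_zpow]; exact zpow_mem hgR _
      rw [← QuotientGroup.eq_one_iff]
      have hd : orderOf (⟨_, hmem⟩ : ↥R) ∣ Nat.gcd (Nat.card R) (2 ^ a) := by
        refine Nat.dvd_gcd (orderOf_dvd_natCard _) (orderOf_dvd_of_pow_eq_one (Subtype.ext ?_))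
        rw [SubgroupClass.coe_pow, OneMemClass.coe_one, ← map_pow, h2', map_one]
      rw [(Nat.Coprime.pow_right a hRodd.coprime_two_right).gcd_eq_one, Nat.dvd_one, orderOf_eq_one_iff] at hd
      exact congrArg Subtype.val hd
    set o := g ^ (j * (2 : ℤ) ^ a) with ho
    have hoodd : Odd (orderOf o) := by
      refine hm.of_dvd_nat (orderOf_dvd_of_pow_eq_one ?_)
      rw [ho, ← zpow_natCast, ← zpow_mul, mul_assoc, mul_comm ((2 : ℤ) ^ a) (m : ℤ), mul_comm j, zpow_mul, hgp,
        one_zpow]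
    have hoR : QuotientGroup.mk' ((cT u).subgroupOf NT) o ∈ R := by
      rw [ho, map_zpow]; exact zpow_mem hgR _
    have hle : Subgroup.zpowers (o : G) ≤ Subgroup.centralizer (cT u : Set G) := by
      refine Coprime.le_centralizer_of_frattini (Subgroup.zpowers_le.mpr o.2) ?_ ?_
      · rw [Nat.card_zpowers, Subgroup.orderOf_coe]
        obtain ⟨k, hk⟩ := IsPGroup.iff_card.mp ((cT_isPGroup u).to_subgroup (frattini ↥(cT u)))
        rw [hk]; exact Nat.Coprime.pow_right k hoodd.coprime_two_right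
      · intro w hw k hk
        have hwo : ∃ n : ℤ, w = ((o ^ n : ↥NT) : G) := by
          obtain ⟨n, rfl⟩ := Subgroup.mem_zpowers_iff.mp hw
          exact ⟨n, (SubgroupClass.coe_zpow o n).symm⟩
        obtain ⟨n, rfl⟩ := hwo
        have hmem : QuotientGroup.mk' ((cT u).subgroupOf NT) (o ^ n) ∈ R := by
          rw [map_zpow]; exact zpow_mem hoR _
        have h1 := htriv ⟨_, hmem⟩ (Abelianization.of ⟨k, hk⟩)
        change actAb u ⟨((o ^ n : ↥NT) : G), (o ^ n).2⟩ (Abelianization.of ⟨k, hk⟩) = _ at h1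
        rw [actAb_of] at h1
        have hk' := (Subgroup.mem_normalizer_iff.mp (o ^ n).2 k).mp hk
        refine ⟨⟨((o ^ n : ↥NT) : G) * k * ((o ^ n : ↥NT) : G)⁻¹ * k⁻¹, mul_mem hk' (inv_mem hk)⟩, ?_, rfl⟩
        refine (PSolvable.commutator_le_frattini (cT_isPGroup u)).1 ?_
        rw [← Abelianization.ker_of, MonoidHom.mem_ker]
        show Abelianization.of ((⟨_, hk'⟩ : ↥(cT u)) * ⟨k, hk⟩⁻¹) = 1
        rw [map_mul, map_inv, h1, mul_inv_cancel]
    have hgo : g = g ^ (i * m) * o := by rw [ho, ← zpow_add, hij, zpow_one]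
    rw [hgo]
    refine mul_mem (cT_le_cC u (Subgroup.mem_subgroupOf.mp h2)) (mem_cC.mpr ?_)
    exact (hle (Subgroup.mem_zpowers (o : G)) u (u_mem_cT h)).symm
  -- the index
  have hcR : Nat.card Rg = Nat.card (cT u) * Nat.card R := by
    rw [hRg, card_map_subtype]
    have h1 := Subgroup.index_comap_of_surjective R (QuotientGroup.mk'_surjective ((cT u).subgroupOf NT))
    have h2 := (R.comap (QuotientGroup.mk' ((cT u).subgroupOf NT))).card_mul_index
    rw [h1, Subgroup.card_eq_card_quotient_mul_card_subgroup ((cT u).subgroupOf NT),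
      Nat.card_congr (Subgroup.subgroupOfEquivOfLe hTle).toEquiv, ← R.card_mul_index] at h2
    have hpos : 0 < R.index := Nat.pos_of_ne_zero Subgroup.index_ne_zero_of_finite
    exact Nat.eq_of_mul_eq_mul_right hpos (h2.trans (by ring))
  have hNcard : Nat.card NT = Nat.card Rg * R.index := by
    rw [Subgroup.card_eq_card_quotient_mul_card_subgroup ((cT u).subgroupOf NT),
      Nat.card_congr (Subgroup.subgroupOfEquivOfLe hTle).toEquiv, ← R.card_mul_index, hcR]
    ring
  set ι := (cC u).relIndex NT with hι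
  have hCN : Nat.card ↥(cC u) * ι = Nat.card NT := by
    have := ((cC u).subgroupOf NT).card_mul_index
    rwa [Nat.card_congr (Subgroup.subgroupOfEquivOfLe hCle).toEquiv] at this
  have hι6 : ι ∣ 6 := by
    obtain ⟨k, hk⟩ := Subgroup.card_dvd_of_le hRC
    rw [hNcard, hk, mul_assoc] at hCN
    have := Nat.eq_of_mul_eq_mul_left Nat.card_pos hCN
    rcases hRidx with e | e <;> rw [e] at this
    · exact (Dvd.intro_left k this).trans (by norm_num)
    · exact Dvd.intro_left k this
  have hι3 : ¬ 3 ∣ ι := by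
    intro h3
    have h9 : 9 ∣ Nat.card NT := by
      rw [← hCN]
      exact Nat.mul_dvd_mul (h.oc ▸ Subgroup.orderOf_dvd_natCard (cC u) h.c_mem) h3
    rw [hNcard, hcR] at h9
    have hco : Nat.Coprime 9 (Nat.card (cT u) * Nat.card R) :=
      Nat.Coprime.pow_left 2 (Nat.prime_three.coprime_iff_not_dvd.mpr fun hd =>
        (Nat.prime_three.dvd_mul.mp hd).elim (not_three_dvd_two_group (cT_isPGroup u)) not_three_dvd_core3)
    have := hco.dvd_of_dvd_mul_left h9
    rcases hRidx with e | e <;> rw [e] at this <;> norm_num at this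
  have hι2 : ¬ 2 ∣ ι := by
    intro h2
    obtain ⟨S, -, hS⟩ := exists_sylow_cC h (IsPGroup.of_bot (p := 2)) bot_le
    have hd : ι ∣ (cC u).index := ⟨NT.index, (Subgroup.relIndex_mul_index hCle).symm⟩
    exact S.not_dvd_index ((h2.trans hd).trans (Subgroup.index_dvd_of_le hS))
  have hι1 : ι = 1 := by
    have hle : ι ≤ 6 := Nat.le_of_dvd (by norm_num) hι6
    clear_value ι
    interval_cases ι <;> omega
  exact Subgroup.relIndex_eq_one.mp hι1

end CfsgLib.OrderSix
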