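import Cfsg.Agent.Lib.OrderSix.KleinChar
import Cfsg.Agent.Lib.OrderSix.Normal
import Cfsg.Agent.S0219

/-!
Index six with `O_2` of order two: pairs of odd elements multiplying to the element of order six.
-/

set_option autoImplicit false
set_option linter.unusedVariables false
set_option linter.unusedSectionVars false
set_option linter.style.haveILetI false

namespace CfsgLib.OrderSix

open Cfsg CfsgLib CfsgLib.SelfCent CfsgLib.SCThree
open scoped ComplexConjugate CfsgLib.Char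

universe v

variable {G : Type v} [Group G] [Finite G] {u c s : G}

/-- The pairs in two given classes with product the element of order six. -/
abbrev KPairs (u c y₁ y₂ : G) : Type v :=
  {p : G × G // IsConj y₁ p.1 ∧ IsConj y₂ p.2 ∧ p.1 * p.2 = u * c}

theorem odd_of_isConj {a b : G} (ha : Odd (orderOf a)) (h : IsConj a b) : Odd (orderOf b) := by
  obtain ⟨g, rfl⟩ := isConj_iff.mp h
  rwa [Transfer.orderOf_conj]

/-- The centralizer of the element of order three has no two elements of odd order with product `u c`. -/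
theorem Six.no_pair_three (h : Six u c) {a b : G} (ha : a * c = c * a) (hb : b * c = c * b)
    (hao : Odd (orderOf a)) (hbo : Odd (orderOf b)) (hab : a * b = u * c) : False := by
  haveI := Fact.mk Nat.prime_two
  set D := Subgroup.centralizer ({c} : Set G) with hD
  have huD : u ∈ D := Subgroup.mem_centralizer_singleton_iff.mpr h.comm
  have hcD : c ∈ D := Subgroup.mem_centralizer_singleton_iff.mpr rfl
  have hou : orderOf (⟨u, huD⟩ : ↥D) = 2 := by rw [← Subgroup.orderOf_coe]; exact h.ou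
  obtain ⟨Q, hQ⟩ := (IsPGroup.of_card (n := 1)
    (show Nat.card (Subgroup.zpowers (⟨u, huD⟩ : ↥D)) = 2 ^ 1 by rw [Nat.card_zpowers, hou, pow_one])).exists_le_sylow
  have huQ : (⟨u, huD⟩ : ↥D) ∈ (Q : Subgroup ↥D) := hQ (Subgroup.mem_zpowers _)
  have hle : ∀ z ∈ (Q : Subgroup ↥D), z ∈ Subgroup.zpowers (⟨u, huD⟩ : ↥D) := by
    intro z hz
    rcases fixed_in_two_group h (Q.isPGroup'.map D.subtype) ⟨_, huQ, rfl⟩ ⟨z, hz, rfl⟩
      (Subgroup.mem_centralizer_singleton_iff.mp z.2) with e | e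
    · rw [show z = 1 from Subtype.ext e]; exact one_mem _
    · rw [show z = ⟨u, huD⟩ from Subtype.ext e]; exact Subgroup.mem_zpowers _
  have hcard : Nat.card (Q : Subgroup ↥D) = 2 := by
    rw [le_antisymm hle hQ, Nat.card_zpowers, hou]
  haveI : IsCyclic (Q : Subgroup ↥D) := isCyclic_of_prime_card hcard
  obtain ⟨H, hH⟩ := Cfsg.Agent.S0219.result
    (even_iff_two_dvd.mpr (hou ▸ orderOf_dvd_natCard (⟨u, huD⟩ : ↥D))) Q inferInstance
  have hodd : ∀ x : ↥D, Odd (orderOf x) → x ∈ H := by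
    intro x hx
    obtain ⟨j, hj⟩ := hx
    have h1 : x = ((x * x) ^ j)⁻¹ := by
      rw [eq_inv_iff_mul_eq_one, ← pow_two, ← pow_mul, ← pow_succ', ← hj, pow_orderOf_eq_one]
    rw [h1]
    exact inv_mem (pow_mem (Subgroup.mul_self_mem_of_index_two hH x) j)
  have haH := hodd ⟨a, Subgroup.mem_centralizer_singleton_iff.mpr ha⟩ (by rwa [← Subgroup.orderOf_coe])
  have hbH := hodd ⟨b, Subgroup.mem_centralizer_singleton_iff.mpr hb⟩ (by rwa [← Subgroup.orderOf_coe])
  have hcH := hodd ⟨c, hcD⟩ (by rw [← Subgroup.orderOf_coe]; show Odd (orderOf c); rw [h.oc]; decide)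
  have huH : (⟨u, huD⟩ : ↥D) ∈ H := by
    have := mul_mem (mul_mem haH hbH) (inv_mem hcH)
    refine (congrArg (· ∈ H) (Subtype.ext ?_)).mp this
    show a * b * c⁻¹ = u
    rw [hab, mul_inv_cancel_right]
  have hQH : (Q : Subgroup ↥D) ≤ H := fun z hz => Subgroup.zpowers_le.mpr huH (hle z hz)
  exact Q.not_dvd_index ((hH ▸ dvd_rfl : 2 ∣ H.index).trans (Subgroup.index_dvd_of_le hQH))

/-- The number of pairs is a multiple of six. -/
theorem KFour.six_dvd_pairs (h : KFour u c s) {y₁ y₂ : G} (h₁ : Odd (orderOf y₁)) (h₂ : Odd (orderOf y₂)) :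
    6 ∣ Nat.card (KPairs u c y₁ y₂) := by
  classical
  letI := Fintype.ofFinite (KPairs u c y₁ y₂)
  rw [Nat.card_eq_fintype_card]
  have key : ∀ (g : G) (p : ℕ), p.Prime → g * (u * c) * g⁻¹ = u * c → g ^ p = 1 →
      (∀ a b : G, Odd (orderOf a) → Odd (orderOf b) → a * b = u * c → a * g = g * a → b * g = g * b → False) →
      p ∣ Fintype.card (KPairs u c y₁ y₂) := by
    intro g p hp hg hgp hno
    haveI := Fact.mk hp
    let f : Function.End (KPairs u c y₁ y₂) := fun v => ⟨(g * v.1.1 * g⁻¹, g * v.1.2 * g⁻¹),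
      v.2.1.trans (isConj_iff.mpr ⟨g, rfl⟩), v.2.2.1.trans (isConj_iff.mpr ⟨g, rfl⟩), by
        show g * v.1.1 * g⁻¹ * (g * v.1.2 * g⁻¹) = u * c
        rw [show g * v.1.1 * g⁻¹ * (g * v.1.2 * g⁻¹) = g * (v.1.1 * v.1.2) * g⁻¹ by group, v.2.2.2, hg]⟩
    have hpow : ∀ (n : ℕ) (v : KPairs u c y₁ y₂),
        ((f ^ n) v).1 = (g ^ n * v.1.1 * (g ^ n)⁻¹, g ^ n * v.1.2 * (g ^ n)⁻¹) := by
      intro n
      induction n with
      | zero => intro v; simp; rfl
      | succ n ih =>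
        intro v
        rw [pow_succ']
        show (g * ((f ^ n) v).1.1 * g⁻¹, g * ((f ^ n) v).1.2 * g⁻¹) = _
        rw [ih, pow_succ']
        simp [mul_assoc]
    have hf : f ^ p ^ 1 = 1 := funext fun v => Subtype.ext (by rw [pow_one, hpow, hgp]; simp; rfl)
    have h0 : Fintype.card f.fixedPoints = 0 := by
      refine Fintype.card_eq_zero_iff.mpr ⟨fun v => ?_⟩
      have e : f v.1 = v.1 := v.2
      have e1 : g * v.1.1.1 * g⁻¹ = v.1.1.1 := congrArg (fun w => w.1.1) e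
      have e2 : g * v.1.1.2 * g⁻¹ = v.1.1.2 := congrArg (fun w => w.1.2) e
      exact hno _ _ (odd_of_isConj h₁ v.1.2.1) (odd_of_isConj h₂ v.1.2.2.1) v.1.2.2.2
        (mul_inv_eq_iff_eq_mul.mp e1).symm (mul_inv_eq_iff_eq_mul.mp e2).symm
    have := Equiv.Perm.card_fixedPoints_modEq hf
    rw [h0] at this
    exact Nat.modEq_zero_iff_dvd.mp this
  have h2 : 2 ∣ Fintype.card (KPairs u c y₁ y₂) := by
    refine key u 2 Nat.prime_two (by rw [← mul_assoc u u, h.six.uu, one_mul, h.six.u_inv, h.six.comm])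
      (by rw [pow_two, h.six.uu]) fun a b ha hb hab hau hbu => h.toKPair.u_not_kO ?_
    have := mul_mem (mul_mem (h.toKPair.mem_kO.mpr ⟨mem_cC.mpr hau, ha⟩)
      (h.toKPair.mem_kO.mpr ⟨mem_cC.mpr hbu, hb⟩)) (inv_mem h.toKPair.c_mem_kO)
    rwa [hab, mul_inv_cancel_right] at this
  have h3 : 3 ∣ Fintype.card (KPairs u c y₁ y₂) :=
    key c 3 Nat.prime_three (by rw [← mul_assoc c u c, ← h.six.comm, mul_inv_cancel_right])
      h.six.ccc fun a b ha hb hab hac hbc => h.six.no_pair_three hac hbc ha hb hab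
  omega

/-- The number of pairs through the principal block. -/
theorem KFour.pairs_formula [Fintype G] (h : KFour u c s) {M : Ideal AlgInt} (hM : IsPModular 2 M)
    [DecidablePred (· ∈ principalBlock M G)] {y₁ y₂ : G} (h₁ : Odd (orderOf y₁)) (h₂ : Odd (orderOf y₂)) :
    (Nat.card (KPairs u c y₁ y₂⁻¹) : ℂ) * Nat.card ↥(Subgroup.centralizer ({y₁} : Set G)) *
        Nat.card ↥(Subgroup.centralizer ({y₂} : Set G)) =
      (Nat.card G : ℂ) * ∑ χ : IrrCharacter G with χ ∈ principalBlock M G,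
        (χ : G → ℂ) u * (χ : G → ℂ) y₁ * conj ((χ : G → ℂ) y₂) / (charDegree (χ : G → ℂ) : ℂ) := by
  classical
  obtain ⟨X, X', hne, heq, hval⟩ := h.exists_pair hM
  have hc : ∀ y : G, Subgroup.centralizer ({y⁻¹} : Set G) = Subgroup.centralizer ({y} : Set G) := fun y => by
    ext x
    simp only [Subgroup.mem_centralizer_singleton_iff]
    exact Commute.inv_right_iff (a := x) (b := y)
  have hidx : ∀ y : G, ((Subgroup.centralizer ({y} : Set G)).index : ℂ) =
      (Nat.card G : ℂ) / Nat.card ↥(Subgroup.centralizer ({y} : Set G)) := fun y => by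
    rw [← (Subgroup.centralizer ({y} : Set G)).card_mul_index, Nat.cast_mul,
      mul_div_cancel_left₀ _ (Nat.cast_ne_zero.mpr Nat.card_pos.ne')]
  show (Nat.card {p : G × G // IsConj y₁ p.1 ∧ IsConj y₂⁻¹ p.2 ∧ p.1 * p.2 = u * c} : ℂ) * _ * _ = _
  rw [Char.class_mult y₁ y₂⁻¹ (u * c), hc, hidx, hidx]
  have hsum : ∑ χ : IrrCharacter G,
        (χ : G → ℂ) y₁ * (χ : G → ℂ) y₂⁻¹ * conj ((χ : G → ℂ) (u * c)) / (χ : G → ℂ) 1 =
      ∑ χ : IrrCharacter G with χ ∈ principalBlock M G,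
        (χ : G → ℂ) u * (χ : G → ℂ) y₁ * conj ((χ : G → ℂ) y₂) / (charDegree (χ : G → ℂ) : ℂ) := by
    set T : IrrCharacter G → ℂ := fun χ => (χ : G → ℂ) y₁ * conj ((χ : G → ℂ) y₂) / (charDegree (χ : G → ℂ) : ℂ)
    have hT : T X = T X' := by
      have hd := heq 1 (by rw [orderOf_one]; exact odd_one)
      rw [(Blocks.irr_degree_eq X).1, (Blocks.irr_degree_eq X').1] at hd
      simp only [T, heq y₁ h₁, heq y₂ h₂, hd]
    rw [Finset.sum_filter]
    have e : ∀ χ : IrrCharacter G,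
        (χ : G → ℂ) y₁ * (χ : G → ℂ) y₂⁻¹ * conj ((χ : G → ℂ) (u * c)) / (χ : G → ℂ) 1 =
        (if χ ∈ principalBlock M G then
          (χ : G → ℂ) u * (χ : G → ℂ) y₁ * conj ((χ : G → ℂ) y₂) / (charDegree (χ : G → ℂ) : ℂ) else 0) -
          ((if χ = X then T χ else 0) - (if χ = X' then T χ else 0)) := by
      intro χ
      rw [Char.irr_inv, hval, (Blocks.irr_degree_eq χ).1]
      simp only [T]
      split_ifs <;> ring
    rw [Finset.sum_congr rfl fun χ _ => e χ, Finset.sum_sub_distrib, Finset.sum_sub_distrib,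
      Finset.sum_ite_eq', Finset.sum_ite_eq', if_pos (Finset.mem_univ _), if_pos (Finset.mem_univ _), hT,
      sub_self, sub_zero]
  rw [hsum]
  have hC1 : (Nat.card ↥(Subgroup.centralizer ({y₁} : Set G)) : ℂ) ≠ 0 := Nat.cast_ne_zero.mpr Nat.card_pos.ne'
  have hC2 : (Nat.card ↥(Subgroup.centralizer ({y₂} : Set G)) : ℂ) ≠ 0 := Nat.cast_ne_zero.mpr Nat.card_pos.ne'
  have hG : (Nat.card G : ℂ) ≠ 0 := Nat.cast_ne_zero.mpr Nat.card_pos.ne'
  field_simp

end CfsgLib.OrderSix
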