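import Cfsg.Agent.Lib.OrderSix.CoreOdd
import Cfsg.Agent.Lib.SmallCent.FourFixed

/-!
Index six with `O_2` of order two: the four group and the odd fixed points of the four group.
-/

set_option autoImplicit false
set_option linter.unusedVariables false
set_option linter.unusedSectionVars false
set_option linter.style.haveILetI false

namespace CfsgLib.OrderSix

open CfsgLib.SelfCent CfsgLib.SCThree
open scoped commutatorElement

universe v

/-! ### A fixed-point-free automorphism of order three inverted by an involution -/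

namespace Fpf

variable {Q : Type v} [Group Q] [Finite Q] {φ σ : MulAut Q}

/-- The map exchanging fixed and inverted elements. -/
def tw (φ : MulAut Q) (x : Q) : Q := x * (φ x * φ x)

theorem Three.comm (h : Three φ) (x : Q) : Commute x (φ x) :=
  commutatorElement_eq_one_iff_mul_comm.mp (h.self_comm x)

theorem Three.sq_map (h : Three φ) (x : Q) : φ (φ x) = x⁻¹ * (φ x)⁻¹ := by
  rw [eq_inv_of_mul_eq_one_right (h.ident x), mul_inv_rev, ((h.comm x).inv_left.inv_right).eq]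

theorem Three.tw_fixed (h : Three φ) (hσ : ∀ x, σ (φ x) = φ (φ (σ x))) {x : Q} (hx : σ x = x) :
    σ (tw φ x) = (tw φ x)⁻¹ := by
  have hc := (h.comm x).inv_left.inv_right
  simp only [tw, map_mul, hσ, hx, h.sq_map, mul_inv_rev]
  calc x * (x⁻¹ * (φ x)⁻¹ * (x⁻¹ * (φ x)⁻¹)) = (φ x)⁻¹ * x⁻¹ * (φ x)⁻¹ := by group
    _ = _ := by rw [mul_assoc, hc.eq, mul_assoc]

theorem Three.tw_inverted (h : Three φ) (hσ : ∀ x, σ (φ x) = φ (φ (σ x))) {x : Q} (hx : σ x = x⁻¹) :
    σ (tw φ x) = tw φ x := by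
  have hc := h.comm x
  have e : σ (φ x) = φ x * x := by rw [hσ, hx, map_inv, map_inv, h.sq_map, mul_inv_rev, inv_inv, inv_inv]
  simp only [tw, map_mul, e, hx]
  calc x⁻¹ * (φ x * x * (φ x * x)) = x⁻¹ * (x * φ x * (φ x * x)) := by rw [hc.eq]
    _ = φ x * (φ x * x) := by group
    _ = φ x * (x * φ x) := by rw [hc.eq]
    _ = x * (φ x * φ x) := by rw [← mul_assoc, ← hc.eq, mul_assoc]

theorem Three.tw_tw (h : Three φ) (x : Q) : tw φ (tw φ x) = (x ^ 3)⁻¹ := by
  set b := φ x with hb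
  have hc : Commute x b := h.comm x
  have e : φ (tw φ x) = x⁻¹ * x⁻¹ * b⁻¹ := by
    simp only [tw, map_mul, ← hb]
    rw [show φ b = x⁻¹ * b⁻¹ from h.sq_map x]
    calc b * (x⁻¹ * b⁻¹ * (x⁻¹ * b⁻¹)) = x⁻¹ * b * b⁻¹ * (x⁻¹ * b⁻¹) := by
          rw [← mul_assoc, ← mul_assoc b, ← hc.inv_left.eq]
      _ = _ := by group
  show tw φ x * (φ (tw φ x) * φ (tw φ x)) = _
  rw [e]
  have hc' : Commute b⁻¹ (x⁻¹ * x⁻¹) := (hc.inv_left.inv_right.symm).mul_right hc.inv_left.inv_right.symm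
  simp only [tw, ← hb]
  have h4 : x⁻¹ * x⁻¹ * b⁻¹ * (x⁻¹ * x⁻¹ * b⁻¹) = x⁻¹ * x⁻¹ * (x⁻¹ * x⁻¹) * (b⁻¹ * b⁻¹) :=
    hc'.mul_mul_mul_comm _ _
  have h5 : Commute (b * b) (x⁻¹ * x⁻¹ * (x⁻¹ * x⁻¹)) :=
    let hb' := hc.inv_left.symm.mul_left hc.inv_left.symm
    (hb'.mul_right hb').mul_right (hb'.mul_right hb')
  calc x * (b * b) * (x⁻¹ * x⁻¹ * b⁻¹ * (x⁻¹ * x⁻¹ * b⁻¹))
      = x * ((b * b) * (x⁻¹ * x⁻¹ * (x⁻¹ * x⁻¹))) * (b⁻¹ * b⁻¹) := by rw [h4]; group
    _ = _ := by rw [h5.eq]; group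

theorem inv_cube_inj (h3 : ¬ 3 ∣ Nat.card Q) {x y : Q} (e : (x ^ 3)⁻¹ = (y ^ 3)⁻¹) : x = y :=
  (powCoprime (G := Q) ((Nat.prime_three.coprime_iff_not_dvd.mpr h3).symm)).injective (inv_injective e)

theorem Three.card_fixed_eq_inverted (h : Three φ) (hσ : ∀ x, σ (φ x) = φ (φ (σ x)))
    (h3 : ¬ 3 ∣ Nat.card Q) : Nat.card {x : Q // σ x = x} = Nat.card {x : Q // σ x = x⁻¹} := by
  refine le_antisymm (Nat.card_le_card_of_injective (fun x => ⟨tw φ x.1, h.tw_fixed hσ x.2⟩) ?_)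
    (Nat.card_le_card_of_injective (fun x => ⟨tw φ x.1, h.tw_inverted hσ x.2⟩) ?_)
  all_goals
    intro x y e
    refine Subtype.ext (inv_cube_inj h3 ?_)
    rw [← h.tw_tw, ← h.tw_tw, show tw φ x.1 = tw φ y.1 from congrArg Subtype.val e]

/-- An inverted element is generated by the fixed points and their images. -/
theorem Three.inverted_mem (h : Three φ) (hσ : ∀ x, σ (φ x) = φ (φ (σ x))) (h3 : ¬ 3 ∣ Nat.card Q)
    {A : Subgroup Q} (hA : ∀ a, σ a = a → a ∈ A ∧ φ a ∈ A) {x : Q} (hx : σ x = x⁻¹) : x ∈ A := by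
  obtain ⟨hz, hpz⟩ := hA _ (h.tw_inverted hσ hx)
  have h2 : tw φ (tw φ x) ∈ A := mul_mem hz (mul_mem hpz hpz)
  rw [h.tw_tw, inv_mem_iff] at h2
  obtain ⟨k, hk⟩ : ∃ k : ℕ, (x ^ 3) ^ k = x :=
    exists_pow_eq_self_of_coprime (Nat.prime_three.coprime_iff_not_dvd.mpr fun h' =>
      h3 (h'.trans (orderOf_dvd_natCard x)))
  exact hk ▸ pow_mem h2 k

end Fpf

variable {G : Type v} [Group G] [Finite G] {u c s : G}

/-! ### Two commuting involutions -/

/-- Two commuting involutions, the first with `O_2` of order two and index six. -/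
structure KPair (u c s : G) : Prop where
  six : Six u c
  idx6 : idx u = 6
  hT : cT u = Subgroup.zpowers u
  os : orderOf s = 2
  su : s * u = u * s
  ne : s ≠ u

/-- The inverted element of order three. -/
structure KFour (u c s : G) : Prop extends KPair u c s where
  inv : s * c * s⁻¹ = c⁻¹

/-- The odd fixed points of the four group. -/
abbrev kZ (u s : G) : Subgroup G := cO u ⊓ Subgroup.centralizer ({s} : Set G)

namespace KPair

variable (h : KPair u c s)
include h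

theorem low : Low u := Or.inr h.idx6

theorem ss : s * s = 1 := (orderOf_two_iff.mp h.os).1

theorem s_inv : s⁻¹ = s := inv_eq_of_mul_eq_one_left h.ss

theorem s_mem : s ∈ cC u := mem_cC.mpr h.su

theorem s_not_U : s ∉ Subgroup.zpowers u := fun hh => by
  rcases (mem_U h.six).mp hh with e | e
  · exact (orderOf_two_iff.mp h.os).2 e
  · exact h.ne e

theorem s_not_cX : s ∉ cX u := fun hX =>
  h.s_not_U (h.hT ▸ mem_cT h.six hX (n := 1) (by rw [pow_one, pow_two, h.ss]))

theorem refl : Refl u c s := by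
  rcases two_elt h.six h.low h.s_mem (n := 1) (by rw [pow_one, pow_two, h.ss]) with e | ⟨-, e⟩
  · exact absurd (cT_le_cX u e) h.s_not_cX
  · exact e

theorem card_cT_two : Nat.card (cT u) = 2 := by rw [h.hT, card_U h.six]

theorem card_C : Nat.card ↥(cC u) = 12 * Nat.card (cO u) := by
  rw [card_cC, card_cX h.six, h.card_cT_two, h.idx6]; ring

/-- The inverted element of order three exists. -/
theorem exists_klein : ∃ α, KFour u α s := by
  obtain ⟨hq2, hqy, -⟩ := h.refl.quot h.six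
  have hoy := orderOf_piX_c h.six
  set y := piX u ⟨c, h.six.c_mem⟩ with hy
  set q := piX u ⟨s, h.refl.1⟩ with hq
  have hy3 : y * y * y = 1 := by
    have := pow_orderOf_eq_one y; rwa [hoy, pow_succ, pow_two] at this
  set d := s * (c * s * c⁻¹) with hd
  have hdC : d ∈ cC u := mul_mem h.s_mem (mul_mem (mul_mem h.six.c_mem h.s_mem) (inv_mem h.six.c_mem))
  have hdy : piX u ⟨d, hdC⟩ = y := by
    show piX u (⟨s, h.refl.1⟩ * (⟨c, h.six.c_mem⟩ * ⟨s, h.refl.1⟩ * ⟨c, h.six.c_mem⟩⁻¹)) = _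
    rw [map_mul, map_mul, map_mul, map_inv]
    calc q * (y * q * y⁻¹) = (q * y * q⁻¹) * (q * q) * y⁻¹ := by group
      _ = y⁻¹ * y⁻¹ := by rw [mul_eq_one_iff_eq_inv.mp hqy, hq2, mul_one]
      _ = y := by rw [← mul_inv_rev, inv_eq_of_mul_eq_one_right hy3]
  have hd3 : 3 ∣ orderOf d := by
    rw [← hoy, ← hdy, ← Subgroup.orderOf_mk d hdC]
    exact orderOf_map_dvd (piX u) _
  have hinv : s * d * s⁻¹ = d⁻¹ := by
    calc s * d * s⁻¹ = s * s * (c * s * c⁻¹) * s⁻¹ := by rw [hd]; group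
      _ = c * s⁻¹ * c⁻¹ * s⁻¹ := by rw [h.ss, one_mul, h.s_inv]
      _ = _ := by rw [hd]; group
  refine ⟨d ^ (orderOf d / 3), ⟨⟨?_, h.idx6, h.hT, h.os, h.su, h.ne⟩, ?_⟩⟩
  · exact h.six.of_commute h.six.ou (orderOf_pow_orderOf_div (orderOf_pos d).ne' hd3)
      (mem_cC.mp (pow_mem hdC _)).symm
  · rw [← conj_pow, hinv, inv_pow]

/-- The pair read from the other involution. -/
theorem swap : ∃ e, KPair s e u := by
  obtain ⟨g, hg⟩ := isConj_iff.mp (h.six.one u s h.six.ou h.os)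
  have hs := h.six.conj g
  rw [hg] at hs
  refine ⟨_, hs, by rw [← hg, idx_conj, h.idx6], ?_, h.six.ou, h.su.symm, h.ne.symm⟩
  refine (Subgroup.eq_of_le_of_card_ge (Subgroup.zpowers_le.mpr (u_mem_cT hs)) ?_).symm
  have e : Nat.card (cT s) = Nat.card (cT u) := by rw [← hg, cT_conj, card_cj]
  rw [e, h.card_cT_two, Nat.card_zpowers, h.os]

theorem right : KPair u c (u * s) := by
  refine ⟨h.six, h.idx6, h.hT, orderOf_two_iff.mpr ⟨?_, fun e => ?_⟩, ?_, fun e => ?_⟩
  · calc u * s * (u * s) = u * (s * u) * s := by group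
      _ = 1 := by rw [h.su, ← mul_assoc, h.six.uu, one_mul, h.ss]
  · exact h.ne ((inv_eq_of_mul_eq_one_right e).symm.trans h.six.u_inv)
  · rw [mul_assoc, h.su]
  · exact (orderOf_two_iff.mp h.os).2 (mul_left_cancel (e.trans (mul_one u).symm))

/-- An odd element fixed by both involutions is in the core. -/
theorem fixed_not_rotation {x : G} (hx : x ∈ cC u) (hxs : x * s = s * x) :
    x * c ∉ cX u ∧ x * c⁻¹ ∉ cX u := by
  obtain ⟨hq2, hqy, -⟩ := h.refl.quot h.six
  have hoy := orderOf_piX_c h.six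
  set y := piX u ⟨c, h.six.c_mem⟩ with hy
  set q := piX u ⟨s, h.refl.1⟩ with hq
  have hqx : q * piX u ⟨x, hx⟩ = piX u ⟨x, hx⟩ * q := by
    rw [hq, ← map_mul, ← map_mul]
    exact congrArg (piX u) (Subtype.ext hxs.symm)
  have hqyq : q * y * q⁻¹ = y⁻¹ := mul_eq_one_iff_eq_inv.mp hqy
  have hne : ¬ q * y = y * q := fun e => by
    rw [e, mul_inv_cancel_right] at hqyq
    have h2 : y ^ 2 = 1 := by rw [pow_two]; exact mul_eq_one_iff_eq_inv.mpr hqyq
    have := orderOf_le_of_pow_eq_one (by norm_num) h2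
    omega
  constructor
  · intro e
    have e' : piX u ⟨x, hx⟩ = y⁻¹ := by
      rw [eq_inv_iff_mul_eq_one, hy, ← map_mul]; exact (piX_eq_one _).mpr e
    rw [e'] at hqx
    exact hne (by simpa using (show Commute q y⁻¹ from hqx).inv_right.eq)
  · intro e
    have e' : piX u ⟨x, hx⟩ = y := by
      rw [← mul_inv_eq_one, hy, ← map_inv, ← map_mul]; exact (piX_eq_one _).mpr e
    rw [e'] at hqx
    exact hne hqx

theorem mem_kZ {x : G} : x ∈ kZ u s ↔ x * u = u * x ∧ x * s = s * x ∧ Odd (orderOf x) := by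
  constructor
  · intro hx
    obtain ⟨hO, hs⟩ := Subgroup.mem_inf.mp hx
    exact ⟨mem_cC.mp (cO_le_cC u hO), Subgroup.mem_centralizer_singleton_iff.mp hs,
      ((mem_cO h.six).mp hO).2⟩
  · rintro ⟨hu, hs, hodd⟩
    have hxC : x ∈ cC u := mem_cC.mpr hu
    refine Subgroup.mem_inf.mpr ⟨(mem_cO h.six).mpr ⟨?_, hodd⟩, Subgroup.mem_centralizer_singleton_iff.mpr hs⟩
    rcases kinds h.six h.low hxC with e | e | e | ⟨-, e⟩
    · exact e
    · exact absurd e (h.fixed_not_rotation hxC hs).1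
    · exact absurd e (h.fixed_not_rotation hxC hs).2
    · exfalso
      obtain ⟨j, hj⟩ := hodd
      refine e.2.1 ?_
      have h1 : x = ((x * x) ^ j)⁻¹ := by
        rw [eq_inv_iff_mul_eq_one, ← pow_two, ← pow_mul, ← pow_succ', ← hj, pow_orderOf_eq_one]
      rw [h1]
      exact inv_mem (pow_mem e.2.2.1 j)

end KPair

theorem KPair.kZ_swap {e : G} (h : KPair u c s) (h' : KPair s e u) : kZ u s = kZ s u := by
  ext x; rw [h.mem_kZ, h'.mem_kZ]; tauto

theorem KPair.kZ_right (h : KPair u c s) : kZ u s = kZ u (u * s) := by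
  ext x
  rw [h.mem_kZ, h.right.mem_kZ]
  refine and_congr_right fun hu => and_congr_left fun _ => ⟨fun hs => ?_, fun hs => ?_⟩
  · exact ((show Commute x u from hu).mul_right hs).eq
  · have := ((show Commute x u from hu).mul_right (show Commute x (u * s) from hs)).eq
    rwa [← mul_assoc u u s, h.six.uu, one_mul] at this

/-- The four group. -/
theorem KPair.sylow (h : KPair u c s) : ∃ S : Sylow 2 G, (S : Subgroup G) ≤ cC u ∧ s ∈ (S : Subgroup G) ∧
    u ∈ (S : Subgroup G) ∧ IsKleinFour (S : Subgroup G) ∧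
    ∀ x ∈ (S : Subgroup G), x = 1 ∨ x = u ∨ x = s ∨ x = u * s := by
  classical
  haveI := Fact.mk Nat.prime_two
  obtain ⟨S, hsS, hS⟩ := exists_sylow_cC h.six (P := Subgroup.zpowers s)
    (IsPGroup.of_card (n := 1) (by rw [Nat.card_zpowers, h.os, pow_one])) (Subgroup.zpowers_le.mpr h.s_mem)
  have hs := hsS (Subgroup.mem_zpowers s)
  have hT := cT_le_sylow h.six S hS
  have hu := hT (u_mem_cT h.six)
  rcases sylow_index h.six h.low S hS with ⟨e, -⟩ | ⟨-, e⟩
  · have := h.idx6; omega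
  have h4 : Nat.card (S : Subgroup G) = 4 := by
    have := ((cT u).subgroupOf (S : Subgroup G)).card_mul_index
    rw [Nat.card_congr (Subgroup.subgroupOfEquivOfLe hT).toEquiv, h.card_cT_two] at this
    have e2 : ((cT u).subgroupOf (S : Subgroup G)).index = 2 := e
    rw [e2] at this
    omega
  set f : Fin 4 → (S : Subgroup G) := ![1, ⟨u, hu⟩, ⟨s, hs⟩, ⟨u * s, mul_mem hu hs⟩] with hf
  have hinj : Function.Injective f := by
    have h1 := h.six.u_ne_one
    have h2 := (orderOf_two_iff.mp h.os).2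
    have h3 := (orderOf_two_iff.mp h.right.os).2
    intro i j e
    have e' := congrArg Subtype.val e
    fin_cases i <;> fin_cases j <;>
      simp [f] at e' ⊢ <;>
      first
        | exact h1 e'.symm | exact h1 e' | exact h2 e'.symm | exact h2 e' | exact h3 e'.symm | exact h3 e'
        | exact h.ne e'.symm | exact h.ne e'
  have hbij : Function.Bijective f := (Nat.bijective_iff_injective_and_card f).mpr ⟨hinj, by rw [Nat.card_fin, h4]⟩
  have hmem : ∀ x ∈ (S : Subgroup G), x = 1 ∨ x = u ∨ x = s ∨ x = u * s := by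
    intro x hx
    obtain ⟨i, hi⟩ := hbij.2 ⟨x, hx⟩
    have e := congrArg Subtype.val hi
    fin_cases i <;> simp [f] at e <;> simp [← e]
  refine ⟨S, hS, hs, hu, ?_, hmem⟩
  refine { card_four := h4, exponent_two := ?_ }
  have hsq : ∀ x : (S : Subgroup G), x ^ 2 = 1 := fun x => Subtype.ext (by
    rw [SubgroupClass.coe_pow, OneMemClass.coe_one, pow_two]
    rcases hmem x x.2 with e | e | e | e <;> rw [e]
    exacts [one_mul 1, h.six.uu, h.ss, h.right.ss])
  refine (Nat.prime_two.eq_one_or_self_of_dvd _ (Monoid.exponent_dvd_of_forall_pow_eq_one hsq)).resolve_left ?_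
  intro e1
  haveI := (Monoid.exp_eq_one_iff).mp e1
  rw [Nat.card_unique] at h4
  omega

/-- The centralizer of the four group. -/
theorem KPair.card_cV (h : KPair u c s) :
    Nat.card ↥(cC u ⊓ Subgroup.centralizer ({s} : Set G)) = 4 * Nat.card (kZ u s) := by
  obtain ⟨S, hS, hs, hu, hK, hmem⟩ := h.sylow
  have hcom : ∀ p ∈ (S : Subgroup G), p * u = u * p ∧ p * s = s * p := by
    intro p hp
    rcases hmem p hp with e | e | e | e <;> rw [e]
    · simp
    · exact ⟨rfl, h.su.symm⟩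
    · exact ⟨h.su, rfl⟩
    · exact ⟨h.right.su, by rw [mul_assoc, ← mul_assoc s u, h.su, mul_assoc]⟩
  rw [← hK.card_four, ← Nat.card_prod]
  refine (Nat.card_eq_of_bijective
    (fun v : ↥(S : Subgroup G) × ↥(kZ u s) =>
      (⟨(v.1 : G) * v.2, mul_mem (Subgroup.mem_inf.mpr ⟨mem_cC.mpr (hcom _ v.1.2).1,
        Subgroup.mem_centralizer_singleton_iff.mpr (hcom _ v.1.2).2⟩)
        (Subgroup.mem_inf.mpr ⟨cO_le_cC u v.2.2.1, v.2.2.2⟩)⟩ :
        ↥(cC u ⊓ Subgroup.centralizer ({s} : Set G)))) ⟨?_, ?_⟩).symm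
  · rintro ⟨p, o⟩ ⟨p', o'⟩ e
    have e' : (p : G) * o = p' * o' := congrArg Subtype.val e
    have e2 : (p' : G)⁻¹ * p = o' * (o : G)⁻¹ := by
      rw [eq_mul_inv_iff_mul_eq, mul_assoc, e', inv_mul_cancel_left]
    have hp : (p' : G)⁻¹ * p ∈ (S : Subgroup G) := mul_mem (inv_mem p'.2) p.2
    have hodd := ((h.mem_kZ).mp (e2 ▸ mul_mem o'.2 (inv_mem o.2) : (p' : G)⁻¹ * p ∈ kZ u s)).2.2
    have h1 : (p' : G)⁻¹ * p = 1 := by
      rcases hmem _ hp with e | e | e | e
      · exact e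
      all_goals rw [e] at hodd
      · rw [h.six.ou] at hodd; exact absurd hodd (by decide)
      · rw [h.os] at hodd; exact absurd hodd (by decide)
      · rw [h.right.os] at hodd; exact absurd hodd (by decide)
    have ht : p = p' := Subtype.ext (inv_mul_eq_one.mp h1).symm
    subst ht
    exact Prod.ext rfl (Subtype.ext (mul_left_cancel e'))
  · rintro ⟨x, hx⟩
    obtain ⟨hxu, hxs⟩ := Subgroup.mem_inf.mp hx
    rw [Subgroup.mem_centralizer_singleton_iff] at hxs
    -- reduce to the core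
    have key : ∀ p ∈ (S : Subgroup G), p⁻¹ * x ∈ cX u → ∃ v : ↥(S : Subgroup G) × ↥(kZ u s), (v.1 : G) * v.2 = x := by
      intro p hp hpX
      obtain ⟨τ, hτ, o, ho, e⟩ := cX_eq_mul h.six hpX
      rw [h.hT] at hτ
      have hτS : τ ∈ (S : Subgroup G) := by
        rcases (mem_U h.six).mp hτ with e | e <;> rw [e]
        exacts [one_mem _, hu]
      have hpS : p * τ ∈ (S : Subgroup G) := mul_mem hp hτS
      have ex : x = p * τ * o := by rw [mul_assoc, ← e, mul_inv_cancel_left]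
      have hos : o * s = s * o := by
        have hc := (show Commute (p * τ) s from (hcom _ hpS).2).inv_left.mul_left (show Commute x s from hxs)
        rwa [ex, inv_mul_cancel_left] at hc
      exact ⟨(⟨_, hpS⟩, ⟨o, Subgroup.mem_inf.mpr ⟨ho, Subgroup.mem_centralizer_singleton_iff.mpr hos⟩⟩), ex.symm⟩
    suffices ∃ v : ↥(S : Subgroup G) × ↥(kZ u s), (v.1 : G) * v.2 = x by
      obtain ⟨v, hv⟩ := this
      exact ⟨v, Subtype.ext hv⟩
    rcases kinds h.six h.low hxu with e | e | e | ⟨-, e⟩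
    · exact key 1 (one_mem _) (by simpa using e)
    · exact absurd e (h.fixed_not_rotation hxu hxs).1
    · exact absurd e (h.fixed_not_rotation hxu hxs).2
    · have hsx : s⁻¹ * x ∈ cC u := mul_mem (inv_mem h.s_mem) hxu
      have hsx' : s⁻¹ * x * s = s * (s⁻¹ * x) := by rw [mul_assoc, hxs, inv_mul_cancel_left, mul_inv_cancel_left]
      refine key s hs ?_
      rcases kinds h.six h.low hsx with e' | e' | e' | ⟨-, e'⟩
      · exact e'
      · exact absurd e' (h.fixed_not_rotation hsx hsx').1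
      · exact absurd e' (h.fixed_not_rotation hsx hsx').2
      · exfalso
        -- three reflections cannot multiply to one
        obtain ⟨hq2, hqy, -⟩ := h.refl.quot h.six
        obtain ⟨-, hxy, -⟩ := e.quot h.six
        obtain ⟨-, hzy, -⟩ := e'.quot h.six
        set y := piX u ⟨c, h.six.c_mem⟩ with hy
        set q := piX u ⟨s, h.refl.1⟩ with hq
        have hz : piX u ⟨s⁻¹ * x, e'.1⟩ = q⁻¹ * piX u ⟨x, e.1⟩ := by
          rw [hq, ← map_inv, ← map_mul]; rfl
        rw [hz] at hzy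
        have h1 := mul_eq_one_iff_eq_inv.mp hzy
        have h2 := mul_eq_one_iff_eq_inv.mp hxy
        have h3 := mul_eq_one_iff_eq_inv.mp hqy
        have h4 : q⁻¹ * y⁻¹ * q = y⁻¹ := by
          calc q⁻¹ * y⁻¹ * q = q⁻¹ * (piX u ⟨x, e.1⟩ * y * (piX u ⟨x, e.1⟩)⁻¹) * q := by rw [h2]
            _ = q⁻¹ * piX u ⟨x, e.1⟩ * y * (q⁻¹ * piX u ⟨x, e.1⟩)⁻¹ := by group
            _ = _ := h1
        have h5 : y = y⁻¹ := by
          calc y = q⁻¹ * (q * y * q⁻¹) * q := by group
            _ = y⁻¹ := by rw [h3, h4]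
        have ho : orderOf y = 3 := orderOf_piX_c h.six
        have := orderOf_le_of_pow_eq_one (n := 2) (by norm_num)
          (show y ^ 2 = 1 by rw [pow_two]; exact mul_eq_one_iff_eq_inv.mpr h5)
        omega

/-! ### The core as a group with an automorphism of order three -/

theorem cO_conj_mem (h : Six u c) {g x : G} (hg : g ∈ cC u) (hx : x ∈ cO u) : g * x * g⁻¹ ∈ cO u :=
  (Subgroup.mem_normalizer_iff.mp (cO_normalized h hg) x).mp hx

/-- Conjugation on the core. -/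
noncomputable def cOconj (h : Six u c) {g : G} (hg : g ∈ cC u) : MulAut ↥(cO u) :=
  (cO u).normalizerMonoidHom ⟨g, cO_normalized h hg⟩

theorem cOconj_val (h : Six u c) {g : G} (hg : g ∈ cC u) (x : ↥(cO u)) :
    ((cOconj h hg x : ↥(cO u)) : G) = g * x * g⁻¹ := rfl

theorem Six.three_cO (h : Six u c) : Fpf.Three (cOconj h h.c_mem) := by
  refine ⟨fun x => Subtype.ext ?_, fun x hx => Subtype.ext ?_⟩
  · rw [cOconj_val, cOconj_val, cOconj_val]
    have hc : c * c * c = 1 := by rw [← h.ccc, pow_succ, pow_two]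
    calc _ = c * c * c * (x : G) * (c * c * c)⁻¹ := by group
      _ = _ := by rw [hc]; group
  · exact cO_fpf h x.2 (mul_inv_eq_iff_eq_mul.mp (congrArg Subtype.val hx))

/-- A commutator in the core commutes with the core. -/
theorem Six.comm_central_cO (h : Six u c) {a b q : G} (ha : a ∈ cO u) (hb : b ∈ cO u) (hq : q ∈ cO u) :
    ⁅a, b⁆ * q = q * ⁅a, b⁆ :=
  congrArg Subtype.val (h.three_cO.comm_central ⟨a, ha⟩ ⟨b, hb⟩ ⟨q, hq⟩)

namespace KFour

variable (h : KFour u c s)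
include h

theorem sigma_phi (x : ↥(cO u)) : cOconj h.six h.s_mem (cOconj h.six h.six.c_mem x) =
    cOconj h.six h.six.c_mem (cOconj h.six h.six.c_mem (cOconj h.six h.s_mem x)) := by
  refine Subtype.ext ?_
  simp only [cOconj_val]
  have e2 : s * c = c * c * s := by
    rw [← mul_inv_eq_iff_eq_mul, h.inv, inv_eq_of_mul_eq_one_left]
    rw [← h.six.ccc, pow_succ, pow_two]
  calc s * (c * (x : G) * c⁻¹) * s⁻¹ = (s * c) * x * (s * c)⁻¹ := by group
    _ = _ := by rw [e2]; group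

/-- The core has square order. -/
theorem card_cO_sq : Nat.card (cO u) = Nat.card (kZ u s) ^ 2 := by
  have h3 := not_three_dvd_cO h.six
  have e := SmallCent.card_fixed_mul_inverted (cO_odd h.six) h.ss
    (fun x hx => cO_conj_mem h.six h.s_mem hx)
  have e2 := h.six.three_cO.card_fixed_eq_inverted h.sigma_phi h3
  have hf : Nat.card {x : ↥(cO u) // cOconj h.six h.s_mem x = x} = Nat.card (kZ u s) :=
    Nat.card_congr
      { toFun := fun x => ⟨x.1, Subgroup.mem_inf.mpr ⟨x.1.2, Subgroup.mem_centralizer_singleton_iff.mpr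
          (mul_inv_eq_iff_eq_mul.mp (congrArg Subtype.val x.2)).symm⟩⟩
        invFun := fun x => ⟨⟨x, x.2.1⟩, Subtype.ext (mul_inv_eq_iff_eq_mul.mpr
          (Subgroup.mem_centralizer_singleton_iff.mp x.2.2).symm)⟩
        left_inv := fun x => rfl
        right_inv := fun x => rfl }
  have hi : Nat.card {x : ↥(cO u) // cOconj h.six h.s_mem x = x⁻¹} = (SmallCent.inverted (cO u) s).ncard := by
    rw [← Nat.card_coe_set_eq]
    exact Nat.card_congr
      { toFun := fun x => ⟨x.1, x.1.2, congrArg Subtype.val x.2⟩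
        invFun := fun x => ⟨⟨x, x.2.1⟩, Subtype.ext x.2.2⟩
        left_inv := fun x => rfl
        right_inv := fun x => rfl }
  rw [hf, hi] at e2
  rw [e, ← e2, pow_two]

/-- The fixed points and their images generate the core. -/
theorem top_le : (⊤ : Subgroup ↥(cO u)) ≤ ((kZ u s).subgroupOf (cO u)) ⊔
    ((kZ u s).subgroupOf (cO u)).map (cOconj h.six h.six.c_mem).toMonoidHom := by
  set φ := cOconj h.six h.six.c_mem
  set σ := cOconj h.six h.s_mem
  set A := (kZ u s).subgroupOf (cO u)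
  set B := A ⊔ A.map φ.toMonoidHom
  have hfix : ∀ a : ↥(cO u), σ a = a → a ∈ A := fun a ha =>
    Subgroup.mem_subgroupOf.mpr (Subgroup.mem_inf.mpr ⟨a.2, Subgroup.mem_centralizer_singleton_iff.mpr
      (mul_inv_eq_iff_eq_mul.mp (congrArg Subtype.val ha)).symm⟩)
  intro x _
  obtain ⟨k, hk⟩ := SmallCent.odd_half (cO_odd h.six)
  -- split into a fixed and an inverted element
  set q := (σ x)⁻¹ * x with hq
  set a := q ^ k with ha
  have hss : ∀ y, σ (σ y) = y := fun y => Subtype.ext (by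
    rw [cOconj_val, cOconj_val]
    calc s * (s * (y : G) * s⁻¹) * s⁻¹ = (s * s) * y * (s * s)⁻¹ := by group
      _ = _ := by rw [h.ss]; group)
  have haa : a * a = q := Subtype.ext (by
    simpa [ha] using (hk _ q.2).1)
  have hai : σ a = a⁻¹ := by
    rw [ha, map_pow, ← inv_pow]; congr 1
    rw [hq, map_mul, map_inv, hss, mul_inv_rev, inv_inv]
  have hxa : σ (x * a⁻¹) = x * a⁻¹ := by
    rw [map_mul, map_inv, hai, inv_inv]
    have : σ x = x * q⁻¹ := by rw [hq]; group
    rw [this, ← haa]; group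
  have h1 : a ∈ B := h.six.three_cO.inverted_mem h.sigma_phi (not_three_dvd_cO h.six)
    (fun b hb => ⟨Subgroup.mem_sup_left (hfix b hb), Subgroup.mem_sup_right (Subgroup.mem_map_of_mem _ (hfix b hb))⟩) hai
  have := mul_mem (Subgroup.mem_sup_left (hfix _ hxa) : x * a⁻¹ ∈ B) h1
  rw [inv_mul_cancel_right] at this
  exact this

/-- If the fixed points commute then the core is commutative. -/
theorem comm_of_kZ (hZ : ∀ a ∈ kZ u s, ∀ b ∈ kZ u s, a * b = b * a) :
    ∀ a ∈ cO u, ∀ b ∈ cO u, a * b = b * a := by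
  set A := (kZ u s).subgroupOf (cO u)
  have hA : ∀ a ∈ A, ∀ b ∈ A, ⁅a, b⁆ = 1 := fun a ha b hb =>
    commutatorElement_eq_one_iff_mul_comm.mpr (Subtype.ext (hZ a ha b hb))
  intro a ha b hb
  exact congrArg Subtype.val (commutatorElement_eq_one_iff_mul_comm.mp
    (h.six.three_cO.span_comm hA ⟨a, ha⟩ (Subgroup.mem_sup_left (h.top_le (Subgroup.mem_top _)))
      ⟨b, hb⟩ (Subgroup.mem_sup_left (h.top_le (Subgroup.mem_top _)))))

/-- The order of the fixed points, if the core is nontrivial. -/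
theorem five_le (hne : cO u ≠ ⊥) : 5 ≤ Nat.card (kZ u s) := by
  have e := h.card_cO_sq
  have hodd := cO_odd h.six
  have h3 := not_three_dvd_cO h.six
  rw [← Subgroup.one_lt_card_iff_ne_bot, e] at hne
  rw [e] at hodd h3
  have h1 : Nat.card (kZ u s) ≠ 3 := fun e' => h3 (by rw [e']; norm_num)
  obtain ⟨j, hj⟩ := (Nat.odd_pow_iff two_ne_zero).mp hodd
  have : Nat.card (kZ u s) ≠ 1 := fun e' => by rw [e'] at hne; simp at hne
  omega

end KFour

/-- An element centralizing the cores of the three involutions. -/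
theorem KFour.exists_z (h : KFour u c s) (hne : cO u ≠ ⊥) :
    ∃ z ∈ kZ u s, z ≠ 1 ∧ (∀ o ∈ cO u, z * o = o * z) ∧ (∀ o ∈ cO s, z * o = o * z) ∧
      ∀ o ∈ cO (u * s), z * o = o * z := by
  obtain ⟨e₁, p₁⟩ := h.toKPair.swap
  obtain ⟨e₂, p₂⟩ := h.right.swap
  obtain ⟨d₁, k₁⟩ := p₁.exists_klein
  obtain ⟨d₂, k₂⟩ := p₂.exists_klein
  have hz₁ : kZ u s = kZ s u := h.toKPair.kZ_swap p₁
  have hz₂ : kZ u s = kZ (u * s) u := h.toKPair.kZ_right.trans (h.right.kZ_swap p₂)
  by_cases hab : ∀ a ∈ kZ u s, ∀ b ∈ kZ u s, a * b = b * a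
  · have h5 := h.five_le hne
    haveI : Nontrivial (kZ u s) := Finite.one_lt_card_iff_nontrivial.mp (by omega)
    obtain ⟨⟨z, hz⟩, hz1⟩ := exists_ne (1 : kZ u s)
    refine ⟨z, hz, fun e => hz1 (Subtype.ext e), fun o ho => h.comm_of_kZ hab z hz.1 o ho,
      fun o ho => k₁.comm_of_kZ (hz₁ ▸ hab) z (hz₁ ▸ hz : z ∈ kZ s u).1 o ho,
      fun o ho => k₂.comm_of_kZ (hz₂ ▸ hab) z (hz₂ ▸ hz : z ∈ kZ (u * s) u).1 o ho⟩
  · push Not at hab
    obtain ⟨a, ha, b, hb, hne⟩ := hab
    have hz : ⁅a, b⁆ ∈ kZ u s := mul_mem (mul_mem (mul_mem ha hb) (inv_mem ha)) (inv_mem hb)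
    exact ⟨⁅a, b⁆, hz, fun e => hne (commutatorElement_eq_one_iff_mul_comm.mp e),
      fun o ho => h.six.comm_central_cO ha.1 hb.1 ho,
      fun o ho => k₁.six.comm_central_cO (hz₁ ▸ ha : a ∈ kZ s u).1 (hz₁ ▸ hb : b ∈ kZ s u).1 ho,
      fun o ho => k₂.six.comm_central_cO (hz₂ ▸ ha : a ∈ kZ (u * s) u).1 (hz₂ ▸ hb : b ∈ kZ (u * s) u).1 ho⟩

/-- Index six with `O_2` of order two gives a four group. -/
theorem Six.exists_klein_four (h : Six u c) (h6 : idx u = 6) (hT : cT u = Subgroup.zpowers u) :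
    ∃ α s, KFour u α s := by
  obtain ⟨S, -, hS⟩ := exists_sylow_cC h (IsPGroup.of_bot (p := 2)) bot_le
  obtain ⟨s, hs, hs2, hsu⟩ := h.exists_invol S hS
  obtain ⟨α, hα⟩ := (⟨h, h6, hT, hs2, mem_cC.mp (hS hs), hsu⟩ : KPair u c s).exists_klein
  exact ⟨α, s, hα⟩

end CfsgLib.OrderSix
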