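import Cfsg.Agent.Lib.OrderSix.Trio

/-!
Large `O_2`: the derived groups lie in the meet of the three cores.
-/

set_option autoImplicit false
set_option linter.unusedVariables false
set_option linter.unusedSectionVars false
set_option linter.style.haveILetI false

namespace CfsgLib.OrderSix

open CfsgLib.SelfCent CfsgLib.SCThree
open scoped commutatorElement

universe v

variable {G : Type v} [Group G] [Finite G] {u c x d h g : G} {S Sx : Sylow 2 G}

theorem cj_normalizer {N : Subgroup G} {k : G} (hk : k ∈ Subgroup.normalizer (N : Set G)) : cj k N = N := by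
  ext a
  rw [mem_cj]
  simpa [mul_assoc] using (Subgroup.mem_normalizer_iff.mp (inv_mem hk) a).symm

theorem normalizer_of_cj {N : Subgroup G} {k : G} (hk : cj k N = N) : k ∈ Subgroup.normalizer (N : Set G) := by
  rw [Subgroup.mem_normalizer_iff]
  intro a
  conv_rhs => rw [← hk, mem_cj]
  simp [mul_assoc]

theorem cj_inf (k : G) (A B : Subgroup G) : cj k (A ⊓ B) = cj k A ⊓ cj k B :=
  Subgroup.map_inf A B _ (MulAut.conj k).injective

theorem cD_conj (i k : G) : cD (k * i * k⁻¹) = cj k (cD i) := by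
  show ⁅cT (k * i * k⁻¹), cT (k * i * k⁻¹)⁆ = _
  rw [cT_conj]
  exact (Subgroup.map_commutator _ _ _).symm

/-- A `3`-element acts with a number of fixed points congruent to the order. -/
theorem card_fixed_mod {A : Subgroup G} {r : G} {k : ℕ} (hk : orderOf r ∣ 3 ^ k)
    (hrA : r ∈ Subgroup.normalizer (A : Set G)) :
    Nat.card A % 3 = Nat.card ↥(A ⊓ Subgroup.centralizer ({r} : Set G)) % 3 := by
  haveI : Fact (Nat.Prime 3) := ⟨Nat.prime_three⟩
  classical
  let f : Function.End A := fun y => ⟨r * y * r⁻¹, (Subgroup.mem_normalizer_iff.mp hrA y).mp y.2⟩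
  have hpow : ∀ n : ℕ, ∀ y : A, ((f ^ n) y : G) = r ^ n * y * (r ^ n)⁻¹ := by
    intro n
    induction n with
    | zero => intro y; simp [Function.End.one_def]
    | succ n ih =>
      intro y
      rw [pow_succ]
      show ((f ^ n) (f y) : G) = _
      rw [ih]
      show r ^ n * (r * y * r⁻¹) * (r ^ n)⁻¹ = _
      rw [pow_succ]; group
  have h1 : f ^ 3 ^ k = 1 := funext fun y => Subtype.ext (by
    rw [hpow, orderOf_dvd_iff_pow_eq_one.mp hk]
    simp [Function.End.one_def])
  letI := Fintype.ofFinite A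
  have := Equiv.Perm.card_fixedPoints_modEq h1
  rw [← Nat.card_eq_fintype_card, ← Nat.card_eq_fintype_card] at this
  rw [this]
  congr 1
  refine Nat.card_congr ⟨fun y => ⟨(y : A), y.1.2, Subgroup.mem_centralizer_singleton_iff.mpr
    (mul_inv_eq_iff_eq_mul.mp (congrArg Subtype.val y.2)).symm⟩,
    fun y => ⟨⟨y, y.2.1⟩, Subtype.ext (mul_inv_eq_iff_eq_mul.mpr
      (Subgroup.mem_centralizer_singleton_iff.mp y.2.2).symm)⟩, fun y => rfl, fun y => rfl⟩

theorem card_tb_mod (h : Six u c) : Nat.card (Tb u) % 3 = 1 := by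
  have := h.three.card_mod (N := ⊤) (fun a _ => Subgroup.mem_top _)
  rwa [Nat.card_congr Subgroup.topEquiv.toEquiv] at this

/-- `V = ⟨u, x⟩`. -/
abbrev pV (u x : G) : Subgroup G := Subgroup.closure ({u, x} : Set G)

theorem Adm.mem_V (a : Adm u c x S) {z : G} : z ∈ pV u x ↔ z = 1 ∨ z = u ∨ z = x ∨ z = u * x :=
  mem_pair a.good.six.uu a.xx a.xu.symm

theorem Adm.ux_two (a : Adm u c x S) : orderOf (x * u) = 2 := by
  rw [orderOf_two_iff]
  refine ⟨?_, fun e => a.ne ?_⟩
  · rw [(show Commute u x from a.xu.symm).mul_mul_mul_comm, a.xx, a.good.six.uu, one_mul]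
  · rw [eq_inv_of_mul_eq_one_left e, a.good.six.u_inv]

theorem Adm.card_V (a : Adm u c x S) : Nat.card (pV u x) = 4 := by
  classical
  have e : (pV u x : Set G) = ↑({1, u, x, u * x} : Finset G) := by
    ext z; simp [a.mem_V]
  have h4 : ({1, u, x, u * x} : Finset G).card = 4 := by
    have h1 := a.good.six.u_ne_one
    have h2 := a.x_ne_one
    have h3 := a.ne
    have h5 : u * x ≠ 1 := fun e => h3 (by rw [eq_inv_of_mul_eq_one_right e, a.good.six.u_inv])
    have h6 : u * x ≠ u := fun e => h2 (mul_eq_left.mp e)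
    have h7 : u * x ≠ x := fun e => h1 (mul_eq_right.mp e)
    rw [Finset.card_insert_of_notMem (by simp [h1.symm, h2.symm, h5.symm]),
      Finset.card_insert_of_notMem (by simp [h3.symm, h6.symm]),
      Finset.card_insert_of_notMem (by simp [h7.symm]), Finset.card_singleton]
  show Nat.card ↥(pV u x : Set G) = 4
  rw [e, Nat.card_coe_set_eq, Set.ncard_coe_finset, h4]

theorem isPGroup_cT_le {A : Subgroup G} {i : G} (hA : A ≤ cT i) : IsPGroup 2 A := (cT_isPGroup i).to_le hA

namespace Trio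

variable (a : Trio u c x d S Sx h g)
include a

theorem TP_relIndex : (cT u ⊓ pP x S).relIndex (cT u) = 2 := by
  have hle : (pP x S).relIndex (cT u) ≤ 2 := by
    rw [← a.pair.adm.relIndex_pP]
    exact Subgroup.relIndex_le_of_le_right (cT_le_sylow a.pair.adm.good.six S a.pair.adm.sylow)
      Subgroup.index_ne_zero_of_finite
  rw [Subgroup.inf_relIndex_left]
  have hne : (pP x S).relIndex (cT u) ≠ 1 := fun e => a.hP (Subgroup.relIndex_eq_one.mp e a.hT)
  have h0 : (pP x S).relIndex (cT u) ≠ 0 := Subgroup.index_ne_zero_of_finite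
  omega

theorem TxP_relIndex : (cT x ⊓ pP x S).relIndex (cT x) = 2 := by
  have hle : (pP x S).relIndex (cT x) ≤ 2 := by
    rw [← a.pair.relIndex_x]
    exact Subgroup.relIndex_le_of_le_right (cT_le_sylow a.pair.goodx.six Sx a.pair.sylx)
      Subgroup.index_ne_zero_of_finite
  rw [Subgroup.inf_relIndex_left]
  have hne : (pP x S).relIndex (cT x) ≠ 1 := fun e => a.gP (Subgroup.relIndex_eq_one.mp e a.gT)
  have h0 : (pP x S).relIndex (cT x) ≠ 0 := Subgroup.index_ne_zero_of_finite
  omega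

theorem cj_h : cj h (cT u) = cT u ∧ cj h (cT x) = cT (x * u) ∧ cj h (cT (x * u)) = cT x := by
  refine ⟨?_, ?_, ?_⟩ <;> rw [← cT_conj]
  · rw [a.h_u]
  · rw [a.h_x]
  · rw [a.h_xu]

theorem cj_g : cj g (cT x) = cT x ∧ cj g (cT u) = cT (x * u) ∧ cj g (cT (x * u)) = cT u := by
  refine ⟨?_, ?_, ?_⟩ <;> rw [← cT_conj]
  · rw [a.g_x]
  · rw [a.g_u, a.pair.adm.xu]
  · rw [a.g_xu]

theorem hD : h ∈ Subgroup.normalizer (pD u x : Set G) := by
  refine normalizer_of_cj ?_
  rw [cj_inf, cj_inf, a.cj_h.1, a.cj_h.2.1, a.cj_h.2.2, inf_right_comm]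

theorem gD : g ∈ Subgroup.normalizer (pD u x : Set G) := by
  refine normalizer_of_cj ?_
  rw [cj_inf, cj_inf, a.cj_g.1, a.cj_g.2.1, a.cj_g.2.2]
  show _ = cT u ⊓ cT x ⊓ cT (x * u)
  ac_rfl

theorem hV : h ∈ Subgroup.normalizer (pV u x : Set G) := by
  refine normalizer_of_cj (Subgroup.eq_of_le_of_card_ge ?_ (card_cj h _).ge)
  show Subgroup.map _ _ ≤ _
  rw [MonoidHom.map_closure, Subgroup.closure_le]
  rintro _ ⟨y, hy, rfl⟩
  show h * y * h⁻¹ ∈ pV u x
  rcases hy with rfl | rfl
  · rw [a.h_u]; exact Subgroup.subset_closure (by simp)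
  · rw [a.h_x]; exact mul_mem (Subgroup.subset_closure (by simp)) (Subgroup.subset_closure (by simp))

theorem gV : g ∈ Subgroup.normalizer (pV u x : Set G) := by
  refine normalizer_of_cj (Subgroup.eq_of_le_of_card_ge ?_ (card_cj g _).ge)
  show Subgroup.map _ _ ≤ _
  rw [MonoidHom.map_closure, Subgroup.closure_le]
  rintro _ ⟨y, hy, rfl⟩
  show g * y * g⁻¹ ∈ pV u x
  rcases hy with rfl | rfl
  · rw [a.g_u]; exact mul_mem (Subgroup.subset_closure (by simp)) (Subgroup.subset_closure (by simp))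
  · rw [a.g_x]; exact Subgroup.subset_closure (by simp)

theorem D_le_P : pD u x ≤ pP x S := fun y hy =>
  mem_pP.mpr ⟨cT_le_sylow a.pair.adm.good.six S a.pair.adm.sylow hy.1.1, mem_cC.mp (cT_le_cC x hy.1.2)⟩

theorem V_le_D : pV u x ≤ pD u x := by
  have hux : u ∈ cT x := a.pair.u_mem_Tx
  have hux2 : u ∈ cT (x * u) := by
    have : h * u * h⁻¹ ∈ cj h (cT x) := ⟨u, hux, rfl⟩
    rwa [a.h_u, a.cj_h.2.1] at this
  have hxx : x ∈ cT x := u_mem_cT a.pair.goodx.six
  obtain ⟨d', hd'⟩ := a.pair.adm.good.at_inv a.pair.adm.ux_two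
  have hxx2 : x ∈ cT (x * u) := by
    have := mul_mem (u_mem_cT hd'.six) hux2
    rwa [mul_assoc, a.pair.adm.good.six.uu, mul_one] at this
  rw [Subgroup.closure_le]
  rintro y (rfl | rfl)
  · exact ⟨⟨u_mem_cT a.pair.adm.good.six, hux⟩, hux2⟩
  · exact ⟨⟨a.pair.adm.mem, hxx⟩, hxx2⟩

theorem card_P : 2 * Nat.card (pP x S) = Nat.card (S : Subgroup G) := by
  rw [← card_relIndex (inf_le_left : pP x S ≤ (S : Subgroup G)), a.pair.adm.relIndex_pP, mul_comm]

theorem card_D_three (h3 : idx u = 3) : Nat.card (cT u) = 2 * Nat.card (pD u x) := by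
  have hS : (S : Subgroup G) = cT u := by
    rcases sylow_index a.pair.adm.good.six a.pair.adm.good.low S a.pair.adm.sylow with ⟨-, e⟩ | ⟨e, -⟩
    · exact e
    · omega
  have hSx : (Sx : Subgroup G) = cT x := by
    rcases sylow_index a.pair.goodx.six a.pair.goodx.low Sx a.pair.sylx with ⟨-, e⟩ | ⟨e, -⟩
    · exact e
    · rw [idx_eq a.pair.adm.good.six a.pair.adm.two] at e; omega
  have hPu : pP x S ≤ cT u := hS ▸ inf_le_left
  have hPx : pP x S ≤ cT x := hSx ▸ a.pair.le
  have hPxu : pP x S ≤ cT (x * u) := by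
    rw [← a.cj_h.2.1, ← cj_normalizer a.hN]
    exact Subgroup.map_mono hPx
  rw [le_antisymm a.D_le_P (le_inf (le_inf hPu hPx) hPxu), a.card_P, hS]

theorem relIndex_P_six (h6 : idx u = 6) :
    Nat.card (pP x S) = Nat.card (cT u) ∧ (cT u ⊓ pP x S).relIndex (pP x S) = 2 ∧
      (cT x ⊓ pP x S).relIndex (pP x S) = 2 ∧ (cT (x * u) ⊓ pP x S).relIndex (pP x S) = 2 := by
  have hTS := cT_le_sylow a.pair.adm.good.six S a.pair.adm.sylow
  have hS : 2 * Nat.card (cT u) = Nat.card (S : Subgroup G) := by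
    rcases sylow_index a.pair.adm.good.six a.pair.adm.good.low S a.pair.adm.sylow with ⟨e, -⟩ | ⟨-, e⟩
    · omega
    · rw [← card_relIndex hTS, e, mul_comm]
  have hP : Nat.card (pP x S) = Nat.card (cT u) := by
    have := a.card_P; omega
  have hpos : 0 < Nat.card (cT u) := Nat.card_pos
  have key : ∀ i, Nat.card (cT i) = Nat.card (cT u) → (cT i ⊓ pP x S).relIndex (cT i) = 2 →
      (cT i ⊓ pP x S).relIndex (pP x S) = 2 := by
    intro i hc hi
    have h1 := card_relIndex (inf_le_left : cT i ⊓ pP x S ≤ cT i)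
    have h2 := card_relIndex (inf_le_right : cT i ⊓ pP x S ≤ pP x S)
    rw [hi, hc] at h1
    rw [hP, ← h1] at h2
    exact Nat.eq_of_mul_eq_mul_left Nat.card_pos h2
  refine ⟨hP, key u rfl a.TP_relIndex, key x (a.pair.adm.good.card_eq a.pair.adm.two) a.TxP_relIndex,
    key (x * u) (a.pair.adm.good.card_eq a.pair.adm.ux_two) ?_⟩
  rw [← a.cj_h.2.1, ← cj_normalizer a.hN, ← cj_inf]
  exact (Subgroup.relIndex_map_map_of_injective _ _ (MulAut.conj h).injective).trans a.TxP_relIndex

theorem card_D_le : Nat.card (cT u) ≤ 8 * Nat.card (pD u x) := by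
  rcases a.pair.adm.good.low with h3 | h6
  · rw [a.card_D_three h3]; omega
  obtain ⟨hP, e1, e2, e3⟩ := a.relIndex_P_six h6
  have hle : (pD u x).relIndex (pP x S) ≤ 8 := by
    have e : pD u x = (cT u ⊓ pP x S) ⊓ (cT x ⊓ pP x S) ⊓ (cT (x * u) ⊓ pP x S) := by
      refine le_antisymm (le_inf (le_inf ?_ ?_) ?_) ?_
      · exact le_inf (inf_le_left.trans inf_le_left) a.D_le_P
      · exact le_inf (inf_le_left.trans inf_le_right) a.D_le_P
      · exact le_inf inf_le_right a.D_le_P
      · exact inf_le_inf (inf_le_inf inf_le_left inf_le_left) inf_le_left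
    rw [e]
    refine Subgroup.relIndex_inf_le.trans ?_
    refine (Nat.mul_le_mul (Subgroup.relIndex_inf_le.trans (Nat.mul_le_mul e1.le e2.le)) e3.le).trans ?_
    norm_num
  rw [← hP, ← card_relIndex a.D_le_P, mul_comm 8]
  exact Nat.mul_le_mul_left _ hle

theorem x_comm_cD {e : G} (he : e ∈ cD u) : e * x = x * e := by
  have hxS := a.pair.adm.fixS
  have hTS := cT_le_sylow a.pair.adm.good.six S a.pair.adm.sylow
  suffices cD u ≤ pP x S from (mem_pP.mp (this he)).2
  rw [Subgroup.commutator_le]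
  intro p hp q hq
  have hN : ∀ y ∈ (S : Subgroup G), y ∉ pP x S → y * x * y⁻¹ = x * u := fun y hy hyP =>
    a.pair.adm.moved_iff hy hyP
  have hp' := hTS hp
  have hq' := hTS hq
  haveI hn : ((pP x S).subgroupOf (S : Subgroup G)).Normal :=
    Subgroup.normal_of_index_eq_two a.pair.adm.relIndex_pP
  have h1 : ⁅(⟨p, hp'⟩ : ↥(S : Subgroup G)), ⟨q, hq'⟩⁆ ∈ (pP x S).subgroupOf (S : Subgroup G) := by
    set H := (pP x S).subgroupOf (S : Subgroup G) with hH
    have hi : H.index = 2 := a.pair.adm.relIndex_pP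
    rw [commutatorElement_def]
    simp only [Subgroup.mul_mem_iff_of_index_two hi, inv_mem_iff]
    tauto
  exact Subgroup.mem_subgroupOf.mp h1

/-- The derived group of `O_2` lies in all three cores. -/
theorem cD_le_D (hxD : cD u ≠ Subgroup.zpowers u → x ∈ cD u) : cD u ≤ pD u x := by
  have hTS := cT_le_sylow a.pair.adm.good.six S a.pair.adm.sylow
  have hsix := a.pair.adm.good.six
  have hP : cD u ≤ pP x S := fun e he => mem_pP.mpr ⟨hTS (cD_le u he), a.x_comm_cD he⟩
  suffices hx : cD u ≤ cT x by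
    refine le_inf (le_inf (cD_le u) hx) ?_
    rw [← a.cj_h.2.1, ← cj_normalizer (cD_normalized_of (normalizer_of_cj a.cj_h.1))]
    exact Subgroup.map_mono hx
  intro e he
  by_contra hn
  have heS := a.pair.le (hP he)
  obtain ⟨h6', hR⟩ := two_group_refl a.pair.goodx.six a.pair.goodx.low Sx.isPGroup' a.pair.sylx heS hn
  have h6 : idx u = 6 := by rw [idx_eq hsix a.pair.adm.two] at h6'; exact h6'
  obtain ⟨hPc, e1, e2, -⟩ := a.relIndex_P_six h6
  set B := cT x ⊓ cT u
  -- commutation with `e` on the common part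
  let χ : ↥B →* ↥(Subgroup.zpowers u) :=
    MonoidHom.mk' (fun b => ⟨⁅e, (b : G)⁆, comm_mem_U_of_central hsix (cD_le u he) b.2.2 he⟩)
      (fun b b' => Subtype.ext (by
        show ⁅e, (b : G) * b'⁆ = ⁅e, (b : G)⁆ * ⁅e, (b' : G)⁆
        have hcm : Commute ⁅e, (b' : G)⁆ (b : G) := by
          obtain ⟨k, hk⟩ := Subgroup.mem_zpowers_iff.mp (comm_mem_U_of_central hsix (cD_le u he) b'.2.2 he)
          rw [← hk]
          exact ((show Commute (b : G) u from mem_cC.mp (cT_le_cC u b.2.2)).symm).zpow_left k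
        calc ⁅e, (b : G) * b'⁆ = ⁅e, (b : G)⁆ * ((b : G) * ⁅e, (b' : G)⁆ * (b : G)⁻¹) := by
              simp only [commutatorElement_def]; group
          _ = _ := by rw [← hcm.eq, mul_inv_cancel_right]))
  set B' := χ.ker.map B.subtype
  have hB'le : B' ≤ B := Subgroup.map_subtype_le _
  have hB'i : B'.relIndex B ≤ 2 := by
    rw [Subgroup.relIndex, Subgroup.subgroupOf, Subgroup.comap_map_eq_self_of_injective B.subtype_injective,
      Subgroup.index_ker]
    exact (Subgroup.card_le_card_group _).trans (le_of_eq (card_U hsix))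
  have hBi : B.relIndex (cT x) ≤ 4 := by
    have h0 : cT x ⊓ (cT u ⊓ pP x S) ≤ B := inf_le_inf le_rfl inf_le_left
    refine le_trans (Nat.le_of_dvd (Nat.pos_of_ne_zero Subgroup.index_ne_zero_of_finite)
      (Subgroup.relIndex_dvd_of_le_left _ h0)) ?_
    have h1 : cT x ⊓ (cT u ⊓ pP x S) = (cT x ⊓ pP x S) ⊓ (cT u ⊓ pP x S) := by
      rw [inf_assoc (cT x), ← inf_assoc (pP x S), inf_comm (pP x S) (cT u), inf_assoc, inf_idem]
    have h2 := Subgroup.relIndex_mul_relIndex (cT x ⊓ (cT u ⊓ pP x S)) (cT x ⊓ pP x S) (cT x)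
      (inf_le_inf le_rfl inf_le_right) inf_le_left
    rw [a.TxP_relIndex, h1, Subgroup.inf_relIndex_left] at h2
    rw [h1]
    show (cT x ⊓ pP x S ⊓ (cT u ⊓ pP x S)).relIndex (cT x) ≤ 4
    rw [← h2]
    have h3 : (cT u ⊓ pP x S).relIndex (cT x ⊓ pP x S) ≤ 2 := by
      rw [← e1]
      exact Subgroup.relIndex_le_of_le_right inf_le_right Subgroup.index_ne_zero_of_finite
    omega
  have hfree := free_index a.pair.goodx.six a.pair.goodx.low (U_le_cT a.pair.goodx.six) (Subgroup.mem_zpowers x)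
    (U_normalized x) (hB'le.trans inf_le_left) hR (by
      rintro _ ⟨b, hb, rfl⟩
      have : ⁅e, (b : G)⁆ = 1 := congrArg Subtype.val hb
      simp only [Subgroup.coe_subtype]
      rw [commutatorElement_def] at this
      rw [this]
      exact one_mem _)
  have hB'T : B'.relIndex (cT x) ≤ 8 := by
    rw [← Subgroup.relIndex_mul_relIndex B' B (cT x) hB'le inf_le_left]
    exact le_trans (Nat.mul_le_mul hB'i hBi) (by norm_num)
  have hT128 : Nat.card (cT u) ≤ 128 := by
    have h1 := card_relIndex (U_le_cT a.pair.goodx.six)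
    rw [card_U a.pair.goodx.six, a.pair.adm.good.card_eq a.pair.adm.two] at h1
    have : (Subgroup.zpowers x).relIndex (cT x) ≤ 64 := hfree.trans (Nat.mul_le_mul hB'T hB'T)
    omega
  -- the derived group modulo `u`
  have hnU : cD u ≠ Subgroup.zpowers u := fun e0 => hn (by
    rcases (mem_U hsix).mp (e0 ▸ he) with rfl | rfl
    · exact one_mem _
    · exact a.pair.u_mem_Tx)
  have hnab : ¬ ∀ p q : Tb u, p * q = q * p := by
    intro hab
    refine hnU (le_antisymm ?_ (Subgroup.zpowers_le.mpr a.pair.adm.good.der))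
    rw [Subgroup.commutator_le]
    intro p hp q hq
    have := commutatorElement_eq_one_iff_mul_comm.mpr (hab (tb p hp) (tb q hq))
    rwa [tb_comm, tb_eq_one] at this
  have htb := card_tb hsix
  have hmod := card_tb_mod hsix
  have h16 : ¬ Nat.card (Tb u) ≤ 16 := fun hh => hnab (hsix.three.comm_of_card (tb_isPGroup u) hh)
  obtain ⟨n, hn'⟩ := IsPGroup.iff_card.mp (tb_isPGroup u)
  have h64 : Nat.card (Tb u) = 64 := by
    have hn6 : n ≤ 6 := by
      by_contra hh
      have : 2 ^ 7 ≤ 2 ^ n := Nat.pow_le_pow_right (by norm_num) (by omega)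
      omega
    interval_cases n <;> omega
  set K := ((cD u).subgroupOf (cT u)).map (QuotientGroup.mk' ((Subgroup.zpowers u).subgroupOf (cT u))) with hK
  have hKφ : ∀ y ∈ K, hsix.phi y ∈ K := by
    rintro _ ⟨⟨z, hzT⟩, hz, rfl⟩
    refine ⟨⟨c * z * c⁻¹, (Subgroup.mem_normalizer_iff.mp (cT_normalized u hsix.c_mem) z).mp hzT⟩, ?_, rfl⟩
    exact Subgroup.mem_subgroupOf.mpr
      ((Subgroup.mem_normalizer_iff.mp (cD_normalized u hsix.c_mem) z).mp (Subgroup.mem_subgroupOf.mp hz))
  have hK4 : Nat.card K ≤ 4 := by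
    by_contra hh
    have hmodK := hsix.three.card_mod hKφ
    obtain ⟨m, hm⟩ := IsPGroup.iff_card.mp ((tb_isPGroup u).to_subgroup K)
    have hKc : K ≤ Subgroup.center (Tb u) := by
      rintro _ ⟨⟨z, hzT⟩, hz, rfl⟩
      rw [Subgroup.mem_center_iff]
      intro q
      obtain ⟨t, ht, rfl⟩ := tb_surj q
      have h1 : ⁅tb (u := u) t ht, tb z hzT⁆ = 1 := by
        rw [tb_comm, tb_eq_one]
        exact comm_U_symm (comm_mem_U_of_central hsix hzT ht (Subgroup.mem_subgroupOf.mp hz))
      exact commutatorElement_eq_one_iff_mul_comm.mp h1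
    refine hnab (hsix.three.comm_of_center_index (tb_isPGroup u) ?_)
    have h16' : 16 ≤ Nat.card K := by
      have hm4 : 4 ≤ m := by
        by_contra hh'
        rw [hm] at hh hmodK
        interval_cases m <;> simp at hh hmodK
      rw [hm]; exact le_trans (by norm_num) (Nat.pow_le_pow_right (by norm_num) hm4)
    have h1 := (Subgroup.center (Tb u)).card_mul_index
    have h2 := Nat.le_of_dvd Nat.card_pos (Subgroup.card_dvd_of_le hKc)
    rw [h64] at h1
    nlinarith
  have hD8 : Nat.card (cD u) ≤ 8 := by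
    have h1 := ((cD u).subgroupOf (cT u)).card_mul_index
    have h2 : Nat.card ((cD u).subgroupOf (cT u)) = Nat.card K * 2 := by
      set D' := (cD u).subgroupOf (cT u)
      set U' := (Subgroup.zpowers u).subgroupOf (cT u)
      have hU' : U' ≤ D' := fun z hz => Subgroup.mem_subgroupOf.mpr
        (Subgroup.zpowers_le.mpr a.pair.adm.good.der (Subgroup.mem_subgroupOf.mp hz))
      have := card_relIndex hU'
      rw [Nat.card_congr (Subgroup.subgroupOfEquivOfLe (U_le_cT hsix)).toEquiv, card_U hsix] at this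
      rw [← this, hK, mul_comm]
      congr 1
      have h3 := Subgroup.relIndex_ker (K := D') (QuotientGroup.mk' U')
      rwa [QuotientGroup.ker_mk'] at h3
    rw [Nat.card_congr (Subgroup.subgroupOfEquivOfLe (cD_le u)).toEquiv] at h2
    omega
  have hVD : pV u x ≤ cD u ⊓ cT x := by
    rw [Subgroup.closure_le]
    rintro y (rfl | rfl)
    · exact ⟨a.pair.adm.good.der, a.pair.u_mem_Tx⟩
    · exact ⟨hxD hnU, u_mem_cT a.pair.goodx.six⟩
  have hW : cD u ⊓ cT x = pV u x := by
    refine (Subgroup.eq_of_le_of_card_ge hVD ?_).symm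
    rw [a.pair.adm.card_V]
    have hlt : Nat.card ↥(cD u ⊓ cT x) < Nat.card (cD u) := by
      refine lt_of_le_of_ne (Subgroup.card_le_of_le inf_le_left) fun e0 => ?_
      exact hn ((Subgroup.eq_of_le_of_card_ge inf_le_left e0.ge).ge he).2
    obtain ⟨m, hm⟩ := IsPGroup.iff_card.mp (isPGroup_cT_le (inf_le_right : cD u ⊓ cT x ≤ cT x))
    rw [hm] at hlt ⊢
    have hm2 : m ≤ 2 := by
      by_contra hh
      have : 2 ^ 3 ≤ 2 ^ m := Nat.pow_le_pow_right (by norm_num) (by omega)
      omega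
    exact le_trans (Nat.pow_le_pow_right (by norm_num) hm2) (by norm_num)
  have hrV : cj (rot h g) (pV u x) = pV u x := cj_normalizer (rot_mem_normalizer a.hV a.gV)
  have hrD : cj (rot h g) (pD u x) = pD u x := cj_normalizer (rot_mem_normalizer a.hD a.gD)
  have hDV : cD u ⊓ pD u x ≤ pV u x := by
    rw [← hW]; exact inf_le_inf le_rfl (inf_le_left.trans inf_le_right)
  have hDVx : cD x ⊓ pD u x ≤ pV u x := by
    rw [← a.rot_act.1, cD_conj, a.rot_act.1, ← hrD, ← cj_inf, ← hrV]
    exact Subgroup.map_mono hDV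
  obtain ⟨-, hcard⟩ := a.trick (isPGroup_cT_le (inf_le_left.trans inf_le_left : pD u x ≤ cT u)) a.V_le_D
    a.hD a.gD a.hV a.gV
    (fun y hy => by
      rw [Subgroup.mem_normalizer_iff]
      intro z
      have hy' := a.D_le_P hy
      constructor
      · intro hz
        have hc : y * z = z * y := by
          rcases a.pair.adm.mem_V.mp hz with rfl | rfl | rfl | rfl
          · simp
          · exact mem_cC.mp (a.pair.adm.sylow hy'.1)
          · exact (mem_pP.mp hy').2
          · rw [← mul_assoc, mem_cC.mp (a.pair.adm.sylow hy'.1), mul_assoc, (mem_pP.mp hy').2, mul_assoc]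
        rw [hc, mul_inv_cancel_right]; exact hz
      · intro hz
        have hz' : z = y⁻¹ * (y * z * y⁻¹) * y := by group
        set z1 := y * z * y⁻¹
        have hc : y * z1 = z1 * y := by
          rcases a.pair.adm.mem_V.mp hz with e0 | e0 | e0 | e0 <;> rw [e0]
          · simp
          · exact mem_cC.mp (a.pair.adm.sylow hy'.1)
          · exact (mem_pP.mp hy').2
          · rw [← mul_assoc, mem_cC.mp (a.pair.adm.sylow hy'.1), mul_assoc, (mem_pP.mp hy').2, mul_assoc]
        rw [hz', mul_assoc, ← hc, inv_mul_cancel_left]; exact hz)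
    (fun y hy => hDV (Subgroup.mem_inf.mpr ⟨Subgroup.commutator_mem_commutator a.hT (show y ∈ cT u from hy.1.1),
      mul_mem ((Subgroup.mem_normalizer_iff.mp a.hD y).mp hy) (inv_mem (show y ∈ pD u x from hy))⟩))
    (fun y hy => hDVx (Subgroup.mem_inf.mpr ⟨Subgroup.commutator_mem_commutator a.gT (show y ∈ cT x from hy.1.2),
      mul_mem ((Subgroup.mem_normalizer_iff.mp a.gD y).mp hy) (inv_mem (show y ∈ pD u x from hy))⟩))
  rw [a.pair.adm.card_V] at hcard
  have h0 := a.card_D_le.trans (Nat.mul_le_mul_left 8 hcard)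
  omega

end Trio

end CfsgLib.OrderSix
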