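import Cfsg.Agent.Lib.OrderSix.LeafTwo
import Cfsg.Agent.Lib.SelfCentThree.Existence

/-!
Large `O_2`: it has order `32` and `E` is self-centralizing in it.
-/

set_option autoImplicit false
set_option linter.unusedVariables false
set_option linter.unusedSectionVars false
set_option linter.style.haveILetI false

namespace CfsgLib.OrderSix

open CfsgLib.SelfCent CfsgLib.SCThree
open scoped commutatorElement

universe v

variable {G : Type v} [Group G] [Finite G] {u c x d h g : G} {S Sx : Sylow 2 G}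

/-- The centralizer of `E` in `O_2`. -/
abbrev pJ (u c x : G) : Subgroup G :=
  (cT u ⊓ Subgroup.centralizer ({x} : Set G)) ⊓ Subgroup.centralizer ({c * x * c⁻¹} : Set G)

theorem mem_pJ {z : G} :
    z ∈ pJ u c x ↔ z ∈ cT u ∧ z * x = x * z ∧ z * (c * x * c⁻¹) = c * x * c⁻¹ * z := by
  rw [Subgroup.mem_inf, Subgroup.mem_inf, Subgroup.mem_centralizer_singleton_iff,
    Subgroup.mem_centralizer_singleton_iff, and_assoc]

theorem Adm.E_centralized (a : Adm u c x S) {z : G} (hu : z * u = u * z) (hx : z * x = x * z)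
    (hx' : z * (c * x * c⁻¹) = c * x * c⁻¹ * z) {e : G} (he : e ∈ eE u c x) : z * e = e * z := by
  have hle : eE u c x ≤ Subgroup.centralizer ({z} : Set G) := by
    rw [Subgroup.closure_le]
    rintro y (rfl | rfl | rfl) <;> refine Subgroup.mem_centralizer_singleton_iff.mpr ?_
    · exact hu.symm
    · exact hx.symm
    · exact hx'.symm
  exact (Subgroup.mem_centralizer_singleton_iff.mp (hle he)).symm

theorem Adm.E_le_J (a : Adm u c x S) : eE u c x ≤ pJ u c x := by
  intro e he
  refine mem_pJ.mpr ⟨a.E_le_cT he, ?_, ?_⟩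
  · exact (a.E_centralized a.xu rfl a.x_comm_cx he).symm
  · exact (a.E_centralized (mem_cC.mp (cT_le_cC u a.cx_mem)) a.x_comm_cx.symm rfl he).symm

theorem Adm.C_x_relIndex (a : Adm u c x S) :
    (cT u ⊓ Subgroup.centralizer ({x} : Set G)).relIndex (cT u) = 2 := by
  obtain ⟨d, Sx, hpair⟩ := a.exists_pair
  obtain ⟨h, g, ht⟩ := hpair.exists_trio
  have e : cT u ⊓ Subgroup.centralizer ({x} : Set G) = cT u ⊓ pP x S := by
    rw [← inf_assoc, inf_eq_left.mpr (cT_le_sylow a.good.six S a.sylow)]
  rw [e]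
  exact ht.TP_relIndex

theorem Adm.J_relIndex (a : Adm u c x S) : (pJ u c x).relIndex (cT u) = 4 := by
  set A := cT u ⊓ Subgroup.centralizer ({x} : Set G) with hA
  have hA2 := a.C_x_relIndex
  rw [← hA] at hA2
  have hTc : cj c (cT u) = cT u := cj_normalizer (cT_normalized u a.good.six.c_mem)
  have hB : cj c A = cT u ⊓ Subgroup.centralizer ({c * x * c⁻¹} : Set G) := by
    rw [hA, cj_inf, hTc]
    congr 1
    show cj c (cC x) = cC (c * x * c⁻¹)
    rw [cC_conj]
  have hB2 : (cj c A).relIndex (cT u) = 2 := by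
    conv_lhs => rw [← hTc]
    exact (Subgroup.relIndex_map_map_of_injective _ _ (MulAut.conj c).injective).trans hA2
  have hJ : pJ u c x = A ⊓ cj c A := by
    rw [hB, hA, pJ, inf_inf_inf_comm, inf_idem, inf_assoc]
  have hle : (pJ u c x).relIndex (cT u) ≤ 4 := by
    rw [hJ]
    exact Subgroup.relIndex_inf_le.trans (by rw [hA2, hB2])
  have hmul := Subgroup.relIndex_mul_relIndex (pJ u c x) A (cT u) inf_le_left inf_le_left
  rw [hA2] at hmul
  have hne : (pJ u c x).relIndex A ≠ 1 := by
    intro e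
    have h1 : A ≤ cj c A := (Subgroup.relIndex_eq_one.mp e).trans (hJ.le.trans inf_le_right)
    have e2 : cj c A = A := (Subgroup.eq_of_le_of_card_ge h1 (card_cj c A).le).symm
    obtain ⟨m, hm, hmA⟩ : ∃ m ∈ cT u, m ∉ A := by
      by_contra hc
      push Not at hc
      rw [Subgroup.relIndex_eq_one.mpr hc] at hA2
      omega
    refine hmA (fix_mod a.good.six inf_le_left ⟨u_mem_cT a.good.six, ?_⟩ (normalizer_of_cj e2) hm ?_)
    · exact Subgroup.mem_centralizer_singleton_iff.mpr a.xu.symm
    · have hcm : c * m * c⁻¹ ∈ cT u :=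
        (Subgroup.mem_normalizer_iff.mp (cT_normalized u a.good.six.c_mem) m).mp hm
      refine two_coset hA2 hm hmA hcm fun hh => hmA ?_
      rw [← e2, mem_cj] at hh
      simpa [mul_assoc] using hh
  have h0 : (pJ u c x).relIndex A ≠ 0 := Subgroup.index_ne_zero_of_finite
  omega

theorem Adm.U_E (a : Adm u c x S) : Subgroup.zpowers u ≤ eE u c x :=
  Subgroup.zpowers_le.mpr (Subgroup.subset_closure (by simp))

theorem Adm.cX_norm_E (a : Adm u c x S) {y : G} (hy : y ∈ cX u) :
    y ∈ Subgroup.normalizer (eE u c x : Set G) := by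
  refine normalizer_of_cj (Subgroup.eq_of_le_of_card_ge ?_ (card_cj y _).ge)
  refine Subgroup.map_le_iff_le_comap.mpr ((Subgroup.closure_le _).mpr ?_)
  obtain ⟨τ, hτ, o, ho, rfl, hco⟩ := cX_split a.good.six hy
  intro z hz
  show τ * o * z * (τ * o)⁻¹ ∈ eE u c x
  have hzT : z ∈ cT u := a.E_le_cT (Subgroup.subset_closure hz)
  have e : τ * o * z * (τ * o)⁻¹ = ⁅τ, z⁆ * z := by
    rw [mul_assoc τ o, hco z hzT, commutatorElement_def]; group
  rw [e]
  refine mul_mem ?_ (Subgroup.subset_closure hz)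
  rcases hz with rfl | rfl | rfl
  · rw [commutatorElement_eq_one_iff_mul_comm.mpr (mem_cC.mp (cT_le_cC z hτ))]; exact one_mem _
  · exact a.U_E (a.smallT hτ)
  · exact a.U_E (a.smallT' hτ)

theorem Adm.ccx_mem_E (a : Adm u c x S) : c * (c * x * c⁻¹) * c⁻¹ ∈ eE u c x := by
  have h1 := a.U_E (a.good.six.ident_U a.mem)
  have hx : x ∈ eE u c x := Subgroup.subset_closure (by simp)
  have hx' : c * x * c⁻¹ ∈ eE u c x := Subgroup.subset_closure (by simp)
  have := mul_mem (inv_mem (mul_mem hx hx')) h1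
  rwa [inv_mul_cancel_left] at this

theorem Adm.c_norm_E (a : Adm u c x S) : c ∈ Subgroup.normalizer (eE u c x : Set G) := by
  refine normalizer_of_cj (Subgroup.eq_of_le_of_card_ge ?_ (card_cj c _).ge)
  refine Subgroup.map_le_iff_le_comap.mpr ((Subgroup.closure_le _).mpr ?_)
  rintro z (rfl | rfl | rfl)
  · show c * z * c⁻¹ ∈ eE z c x
    rw [← a.good.six.comm, mul_inv_cancel_right]
    exact Subgroup.subset_closure (by simp)
  · exact Subgroup.subset_closure (by simp)
  · exact a.ccx_mem_E

theorem Adm.sylow_norm_E (a : Adm u c x S) :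
    (S : Subgroup G) ≤ Subgroup.normalizer (eE u c x : Set G) := by
  intro s hs
  have hsC := a.sylow hs
  refine normalizer_of_cj (Subgroup.eq_of_le_of_card_ge ?_ (card_cj s _).ge)
  refine Subgroup.map_le_iff_le_comap.mpr ((Subgroup.closure_le _).mpr ?_)
  have hsx : s * x * s⁻¹ ∈ eE u c x := by
    have h1 := mul_mem (a.U_E (a.fixS s hs)) (Subgroup.subset_closure (by simp) : x ∈ eE u c x)
    refine (congrArg (· ∈ eE u c x) ?_).mp h1
    rw [commutatorElement_def]; group
  rintro z (rfl | rfl | rfl)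
  · show s * z * s⁻¹ ∈ eE z c x
    rw [mem_cC.mp hsC, mul_inv_cancel_right]
    exact Subgroup.subset_closure (by simp)
  · exact hsx
  · show s * (c * x * c⁻¹) * s⁻¹ ∈ eE u c x
    rcases conj_c a.good.six a.good.low hsC with e | e
    · have hN := mul_mem (a.cX_norm_E e) a.c_norm_E
      rw [inv_mul_cancel_right] at hN
      have := (Subgroup.mem_normalizer_iff.mp hN _).mp hsx
      refine (congrArg (· ∈ eE u c x) ?_).mp this
      group
    · have hN := mul_mem (a.cX_norm_E e) (inv_mem a.c_norm_E)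
      rw [mul_inv_cancel_right] at hN
      have := (Subgroup.mem_normalizer_iff.mp hN _).mp hsx
      refine (congrArg (· ∈ eE u c x) ?_).mp this
      group

/-- Elements centralizing `E` lie in `O_{3'}`. -/
theorem Adm.cent_E_le (a : Adm u c x S) {z : G} (hzu : z * u = u * z) (hzx : z * x = x * z)
    (hzx' : z * (c * x * c⁻¹) = c * x * c⁻¹ * z) : z ∈ cX u := by
  have hs := a.good.six
  have hmodU : ∀ y ∈ cX u, ⁅y, x⁆ ∈ Subgroup.zpowers u := by
    intro y hy
    obtain ⟨τ, hτ, o, ho, rfl, hco⟩ := cX_split hs hy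
    have e : ⁅τ * o, x⁆ = ⁅τ, x⁆ := by
      rw [commutatorElement_def, commutatorElement_def, mul_assoc τ o, hco x a.mem]; group
    rw [e]; exact a.smallT hτ
  have hne : ⁅c, x⁆ ∉ Subgroup.zpowers u := fun hh => by
    refine a.x_not_U (fix_mod hs (U_le_cT hs) (Subgroup.mem_zpowers u) (U_normalized u hs.c_mem) a.mem ?_)
    have := (Subgroup.mem_normalizer_iff.mp (U_normalized u (inv_mem (cT_le_cC u a.mem))) _).mp hh
    refine (congrArg (· ∈ Subgroup.zpowers u) ?_).mp this
    rw [commutatorElement_def]; group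
  have hzC : z ∈ cC u := mem_cC.mpr hzu
  have hzx1 : z⁻¹ * x * z = x := by rw [mul_assoc, ← hzx, inv_mul_cancel_left]
  rcases kinds hs a.good.low hzC with e | e | e | ⟨-, hR⟩
  · exact e
  · exfalso
    apply hne
    have h2 := (Subgroup.mem_normalizer_iff.mp (U_normalized u (inv_mem hzC)) _).mp (hmodU _ e)
    refine (congrArg (· ∈ Subgroup.zpowers u) ?_).mp h2
    calc z⁻¹ * ⁅z * c, x⁆ * z⁻¹⁻¹ = c * x * c⁻¹ * (z⁻¹ * x * z)⁻¹ := by
          rw [commutatorElement_def]; group
      _ = _ := by rw [hzx1, commutatorElement_def]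
  · exfalso
    apply hne
    have h2 := (Subgroup.mem_normalizer_iff.mp (U_normalized u hs.c_mem) _).mp
      ((Subgroup.mem_normalizer_iff.mp (U_normalized u (inv_mem hzC)) _).mp (hmodU _ e))
    have h3 := inv_mem h2
    refine (congrArg (· ∈ Subgroup.zpowers u) ?_).mp h3
    calc (c * (z⁻¹ * ⁅z * c⁻¹, x⁆ * z⁻¹⁻¹) * c⁻¹)⁻¹ = c * (z⁻¹ * x * z) * c⁻¹ * x⁻¹ := by
          rw [commutatorElement_def]; group
      _ = _ := by rw [hzx1, commutatorElement_def]
  · exfalso
    have h1 := free_fix hs a.good.low (U_le_cT hs) (Subgroup.mem_zpowers u) (U_normalized u) hR a.cx_mem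
      (by rw [hzx', mul_inv_cancel_right, mul_inv_cancel]; exact one_mem _)
      (by
        have e : c * z * c⁻¹ * (c * x * c⁻¹) * (c * z * c⁻¹)⁻¹ = c * x * c⁻¹ := by
          calc _ = c * (z * x * z⁻¹) * c⁻¹ := by group
            _ = _ := by rw [hzx, mul_inv_cancel_right]
        rw [e, mul_inv_cancel]; exact one_mem _)
    refine a.cx_not_V ?_
    rcases (mem_U hs).mp h1 with e | e <;> rw [e]
    · exact one_mem _
    · exact Subgroup.subset_closure (by simp)

namespace Trio

variable (a : Trio u c x d S Sx h g)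
include a

/-- The third leaf, first part. -/
theorem leaf_three_a (hrE : rot h g ∈ Subgroup.normalizer (eE u c x : Set G)) :
    idx u = 6 ∧ Nat.card (cT u) = 32 ∧ pJ u c x = eE u c x := by
  haveI := Fact.mk Nat.prime_two
  have hA := a.pair.adm
  have hs := hA.good.six
  have hl := hA.good.low
  set r := rot h g with hr
  obtain ⟨hru, hrx, hrxu⟩ := a.rot_act
  rw [← hr] at hru hrx hrxu
  have hTS := cT_le_sylow hs S hA.sylow
  have hJ4 := hA.J_relIndex
  -- index six
  have h6 : idx u = 6 := by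
    rcases hl with h3 | h6
    · exfalso
      have hS : (S : Subgroup G) = cT u := by
        rcases sylow_index hs (Or.inl h3) S hA.sylow with ⟨-, e⟩ | ⟨e, -⟩
        · exact e
        · omega
      have hrP : r ∈ Subgroup.normalizer (pP x S : Set G) := rot_mem_normalizer a.hN a.gN
      have hPT : pP x S ≤ cT u := hS ▸ inf_le_left
      have hPE : ∀ p ∈ pP x S, p * (c * x * c⁻¹) = c * x * c⁻¹ * p := by
        intro p hp
        have hcomm : ∀ e ∈ eE u c x, ∀ q ∈ pP x S, ⁅q, e⁆ ∈ Subgroup.zpowers u := by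
          intro e he q hq
          have hqT := hPT hq
          have hcx := hA.smallT' hqT
          have hgen : ∀ y ∈ ({u, x, c * x * c⁻¹} : Set G), ⁅q, y⁆ ∈ Subgroup.zpowers u := by
            rintro y (rfl | rfl | rfl)
            · rw [commutatorElement_eq_one_iff_mul_comm.mpr (mem_cC.mp (cT_le_cC y hqT))]; exact one_mem _
            · exact hA.smallT hqT
            · exact hcx
          refine Subgroup.closure_induction (p := fun w _ => ⁅q, w⁆ ∈ Subgroup.zpowers u) hgen ?_ ?_ ?_ he
          · rw [commutatorElement_one_right]; exact one_mem _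
          · intro v w hv _ h1 h2
            have e1 : ⁅q, v * w⁆ = ⁅q, v⁆ * (v * ⁅q, w⁆ * v⁻¹) := by simp only [commutatorElement_def]; group
            rw [e1]
            exact mul_mem h1 ((Subgroup.mem_normalizer_iff.mp (U_normalized u (cT_le_cC u (hA.E_le_cT hv))) _).mp h2)
          · intro v hv h1
            have e1 : ⁅q, v⁻¹⁆ = v⁻¹ * ⁅q, v⁆⁻¹ * v⁻¹⁻¹ := by simp only [commutatorElement_def]; group
            rw [e1]
            exact (Subgroup.mem_normalizer_iff.mp (U_normalized u (cT_le_cC u (inv_mem (hA.E_le_cT hv)))) _).mp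
              (inv_mem h1)
        have hx'E : c * x * c⁻¹ ∈ eE u c x := Subgroup.subset_closure (by simp)
        have h1 := hcomm _ hx'E p hp
        have hp' : r⁻¹ * p * r ∈ pP x S := by
          simpa using (Subgroup.mem_normalizer_iff.mp (inv_mem hrP) p).mp hp
        have he' : r⁻¹ * (c * x * c⁻¹) * r ∈ eE u c x := by
          simpa [mul_assoc] using (Subgroup.mem_normalizer_iff.mp (inv_mem hrE) (c * x * c⁻¹)).mp hx'E
        have h2 := hcomm _ he' _ hp'
        rcases (mem_U hs).mp h1 with e | e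
        · exact commutatorElement_eq_one_iff_mul_comm.mp e
        · exfalso
          have e2 : ⁅r⁻¹ * p * r, r⁻¹ * (c * x * c⁻¹) * r⁆ = r⁻¹ * u * r := by
            rw [← e]; simp only [commutatorElement_def]; group
          rw [e2] at h2
          rcases (mem_U hs).mp h2 with e3 | e3
          · refine hs.u_ne_one ?_
            calc u = r * (r⁻¹ * u * r) * r⁻¹ := by group
              _ = 1 := by rw [e3]; group
          · have : r * u * r⁻¹ = u := by
              calc r * u * r⁻¹ = r * (r⁻¹ * u * r) * r⁻¹ := by rw [e3]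
                _ = u := by group
            exact hA.ne (hru.symm.trans this)
      have hle : cT u ⊓ Subgroup.centralizer ({x} : Set G) ≤ pJ u c x := by
        intro z hz
        have hzP : z ∈ pP x S := Subgroup.mem_inf.mpr ⟨hTS (Subgroup.mem_inf.mp hz).1, (Subgroup.mem_inf.mp hz).2⟩
        exact Subgroup.mem_inf.mpr ⟨hz, Subgroup.mem_centralizer_singleton_iff.mpr (hPE z hzP)⟩
      have := Nat.le_of_dvd (by rw [hA.C_x_relIndex]; norm_num)
        (Subgroup.relIndex_dvd_of_le_left (cT u) hle)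
      rw [hA.C_x_relIndex, hJ4] at this
      omega
    · exact h6
  set E := eE u c x with hE
  set J := pJ u c x with hJdef
  set K := Subgroup.normalizer (E : Set G) with hK
  have hJT : J ≤ cT u := inf_le_left.trans inf_le_left
  have hEJ : E ≤ J := hA.E_le_J
  have huJ : u ∈ J := hEJ (Subgroup.subset_closure (by simp))
  have hJp : IsPGroup 2 J := isPGroup_cT_le hJT
  have hJcent : ∀ j ∈ J, ∀ e ∈ E, j * e = e * j := fun j hj e he => by
    obtain ⟨hjT, h1, h2⟩ := mem_pJ.mp hj
    exact hA.E_centralized (mem_cC.mp (cT_le_cC u hjT)) h1 h2 he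
  have hJK : J ≤ K := fun j hj => by
    rw [hK, Subgroup.mem_normalizer_iff]
    intro e
    constructor
    · intro he
      rw [hJcent j hj e he, mul_inv_cancel_right]; exact he
    · intro he
      have e1 : j * e * j⁻¹ = e := by
        have h1 := hJcent j hj _ he
        have h2 : j * (j * e * j⁻¹) = j * (e) → j * e * j⁻¹ = e := mul_left_cancel
        refine h2 ?_
        rw [h1]; group
      rwa [e1] at he
  have hKJ : K ≤ Subgroup.normalizer (J : Set G) := by
    intro n hn
    refine normalizer_of_cj (Subgroup.eq_of_le_of_card_ge ?_ (card_cj n _).ge)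
    rintro _ ⟨j, hj, rfl⟩
    show n * j * n⁻¹ ∈ J
    have hcent : ∀ e ∈ E, n * j * n⁻¹ * e = e * (n * j * n⁻¹) := by
      intro e he
      have he' : n⁻¹ * e * n ∈ E := by
        simpa using (Subgroup.mem_normalizer_iff.mp (inv_mem hn) e).mp he
      calc n * j * n⁻¹ * e = n * (j * (n⁻¹ * e * n)) * n⁻¹ := by group
        _ = n * ((n⁻¹ * e * n) * j) * n⁻¹ := by rw [hJcent j hj _ he']
        _ = _ := by group
    have hx1 := hcent x (Subgroup.subset_closure (by simp))
    have hx2 := hcent (c * x * c⁻¹) (Subgroup.subset_closure (by simp))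
    obtain ⟨k, hk⟩ := isPGroup_two_pow hJp hj
    refine mem_pJ.mpr ⟨mem_cT hs (hA.cent_E_le (hcent u (Subgroup.subset_closure (by simp))) hx1 hx2) (n := k) ?_,
      hx1, hx2⟩
    rw [conj_pow, hk]; group
  haveI hJn : (J.subgroupOf K).Normal := Subgroup.normal_subgroupOf_iff_le_normalizer hJK |>.mpr hKJ
  have hcK : c ∈ K := hA.c_norm_E
  have hsc := sc_normalizer hs hJp huJ hJK hKJ hcK
  set L := ↥K ⧸ J.subgroupOf K
  -- the two-part of the quotient
  have hSK : (S : Subgroup G) ≤ K := hA.sylow_norm_E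
  have hTS2 : (cT u).relIndex (S : Subgroup G) = 2 := by
    rcases sylow_index hs hl S hA.sylow with ⟨e, -⟩ | ⟨-, e⟩
    · omega
    · exact e
  have hSJ : Nat.card J * 8 = Nat.card (S : Subgroup G) := by
    rw [← card_relIndex hTS, hTS2, ← card_relIndex hJT, hJ4]; ring
  have hLcard : Nat.card J * Nat.card L = Nat.card K := by
    rw [Subgroup.card_eq_card_quotient_mul_card_subgroup (J.subgroupOf K),
      Nat.card_congr (Subgroup.subgroupOfEquivOfLe hJK).toEquiv]
    exact mul_comm _ _
  have h8 : 8 ∣ Nat.card L := by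
    have h1 := Subgroup.card_dvd_of_le hSK
    rw [← hSJ, ← hLcard] at h1
    exact (Nat.mul_dvd_mul_iff_left Nat.card_pos).mp h1
  obtain ⟨nJ, hnJ⟩ := IsPGroup.iff_card.mp hJp
  have h16 : ¬ 16 ∣ Nat.card L := by
    intro h
    have h1 : 2 ^ (nJ + 4) ∣ Nat.card G := by
      refine dvd_trans ?_ K.card_subgroup_dvd_card
      rw [← hLcard, hnJ, pow_add]
      exact mul_dvd_mul_left _ h
    have h2 := Nat.le_of_dvd Nat.card_pos (S.pow_dvd_card_of_pow_dvd_card h1)
    rw [← hSJ, hnJ, pow_add] at h2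
    have : 0 < 2 ^ nJ := by positivity
    omega
  set cb : L := QuotientGroup.mk (⟨c, hcK⟩ : ↥K) with hcb
  set R := core3 L with hR
  have hRinv : Inv cb R := ⟨by rw [Subgroup.normalizer_eq_top]; exact Subgroup.mem_top _, not_three_dvd_core3⟩
  rcases shape_of_selfCent hsc with hi | ⟨hi, -, hRab, hRsq⟩ | ⟨-, hc, hsimp⟩
  · exfalso
    haveI := hRinv.isNilpotent hsc
    obtain ⟨W⟩ : Nonempty (Sylow 2 ↥R) := inferInstance
    haveI : (W : Subgroup ↥R).Characteristic := W.characteristic_of_normal inferInstance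
    set W' := (W : Subgroup ↥R).map R.subtype
    haveI : W'.Normal := inferInstance
    have hW' : Inv cb W' :=
      ⟨by rw [Subgroup.normalizer_eq_top]; exact Subgroup.mem_top _, not_three_dvd_two_group (W.isPGroup'.map _)⟩
    have hmod := hW'.card_mod hsc
    obtain ⟨k, hk⟩ := IsPGroup.iff_card.mp W.isPGroup'
    have hWd : ∀ m : ℕ, 2 ^ m ∣ Nat.card R → m ≤ k := fun m hm => by
      have h1 := W.pow_dvd_card_of_pow_dvd_card hm
      rw [hk] at h1
      exact (Nat.pow_dvd_pow_iff_le_right (by norm_num)).mp h1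
    have hk3 : k ≤ 3 := by
      by_contra hh
      refine h16 (dvd_trans ?_ R.card_subgroup_dvd_card)
      refine dvd_trans ?_ (W : Subgroup ↥R).card_subgroup_dvd_card
      rw [hk, show 16 = 2 ^ 4 from rfl]; exact pow_dvd_pow 2 (by omega)
    have hRk : 2 ≤ k := by
      refine hWd 2 ?_
      have h1 := h8
      rw [← R.card_mul_index] at h1
      rcases hi with e | e <;> rw [e] at h1
      · have h2 := (show Nat.Coprime 8 3 by norm_num).dvd_of_dvd_mul_right h1
        exact (show 2 ^ 2 ∣ 8 by norm_num).trans h2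
      · rw [show 8 = 2 * 4 from rfl, show 6 = 2 * 3 from rfl, mul_left_comm] at h1
        exact (show Nat.Coprime 4 3 by norm_num).dvd_of_dvd_mul_right ((Nat.mul_dvd_mul_iff_left two_pos).mp h1)
    have hk2 : k = 2 := by
      rw [card_map_subtype, hk] at hmod
      interval_cases k <;> simp at hmod ⊢
    -- the preimage is normal in `K`
    set K2 := (W'.comap (QuotientGroup.mk' (J.subgroupOf K))).map K.subtype
    have hK2c : Nat.card K2 = Nat.card (cT u) := by
      rw [card_map_subtype, ← card_relIndex hJT, hJ4]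
      have hle : J.subgroupOf K ≤ W'.comap (QuotientGroup.mk' (J.subgroupOf K)) := fun z hz => by
        rw [Subgroup.mem_comap, QuotientGroup.mk'_apply, (QuotientGroup.eq_one_iff z).mpr hz]; exact one_mem _
      rw [← card_relIndex hle, Nat.card_congr (Subgroup.subgroupOfEquivOfLe hJK).toEquiv]
      congr 1
      have h3 := Subgroup.relIndex_ker (K := W'.comap (QuotientGroup.mk' (J.subgroupOf K)))
        (QuotientGroup.mk' (J.subgroupOf K))
      rw [QuotientGroup.ker_mk', Subgroup.map_comap_eq_self_of_surjective (QuotientGroup.mk'_surjective _)] at h3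
      rw [h3, card_map_subtype, hk, hk2]
      norm_num
    have hK2p : IsPGroup 2 K2 := by
      obtain ⟨m, hm⟩ := IsPGroup.iff_card.mp (cT_isPGroup u)
      exact IsPGroup.of_card (n := m) (hK2c.trans hm)
    have hK2n : K ≤ Subgroup.normalizer (K2 : Set G) := map_normalized _
    have hK2S : K2 ≤ (S : Subgroup G) := by
      have := S.isPGroup'.to_sup_of_normal_right' hK2p (hSK.trans hK2n)
      exact sup_eq_left.mp (S.3 this le_sup_left)
    have hK2T : K2 ≤ cT u := le_cT_of_three hs hl hK2p (hK2S.trans hA.sylow) hs.c_mem hs.oc (hK2n hcK)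
    have e : K2 = cT u := Subgroup.eq_of_le_of_card_ge hK2T hK2c.ge
    have hrC : r ∈ cC u := normalizer_cT hs hl hA.good.der (e ▸ hK2n hrE)
    rw [mem_cC.mp hrC, mul_inv_cancel_right] at hru
    exact hA.ne hru.symm
  · exfalso
    have hRp : IsPGroup 2 R := fun z => ⟨1, Subtype.ext (by
      show (z : L) ^ (2 ^ 1) = 1
      rw [pow_one, pow_two]; exact hRsq z z.2)⟩
    obtain ⟨k, hk⟩ := IsPGroup.iff_card.mp hRp
    have hmod := hRinv.card_mod hsc
    rw [← R.card_mul_index, hi, hk] at h8 h16
    rw [hk] at hmod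
    have hk1 : k ≤ 1 := by
      by_contra hh
      refine h16 (dvd_trans ?_ (Nat.mul_dvd_mul_right (pow_dvd_pow 2 (show 2 ≤ k by omega)) 60))
      norm_num
    interval_cases k <;> simp at h8 hmod
  · refine ⟨h6, ?_⟩
    haveI := hsimp
    -- the abelian section `J / E Φ(J)`
    set EJ := E.subgroupOf J
    haveI : EJ.Normal := ⟨fun e he j => by
      rw [Subgroup.mem_subgroupOf] at he ⊢
      simp only [Subgroup.coe_mul, Subgroup.coe_inv]
      rw [hJcent j j.2 e he, mul_inv_cancel_right]; exact he⟩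
    set W := EJ ⊔ frattini ↥J with hW
    have hcomW : ∀ p q : ↥J, ⁅p, q⁆ ∈ W := fun p q => Subgroup.mem_sup_right
      ((PSolvable.commutator_le_frattini hJp).1
        (Subgroup.commutator_mem_commutator (Subgroup.mem_top _) (Subgroup.mem_top _)))
    letI : CommGroup (↥J ⧸ W) :=
      { (inferInstance : Group (↥J ⧸ W)) with
        mul_comm := fun p q => by
          obtain ⟨p, rfl⟩ := QuotientGroup.mk'_surjective W p
          obtain ⟨q, rfl⟩ := QuotientGroup.mk'_surjective W q
          rw [← commutatorElement_eq_one_iff_mul_comm, ← map_commutatorElement, QuotientGroup.mk'_apply,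
            QuotientGroup.eq_one_iff]
          exact hcomW p q }
    have hinvW : ∀ n : ↥K, W.map (J.normalizerMonoidHom ⟨n, hKJ n.2⟩).toMonoidHom = W := by
      intro n
      rw [hW, Subgroup.map_sup,
        Subgroup.characteristic_iff_map_eq.mp (inferInstance : (frattini ↥J).Characteristic) _]
      congr 1
      refine Subgroup.eq_of_le_of_card_ge ?_ (le_of_eq ?_)
      · rintro _ ⟨e, he, rfl⟩
        exact (Subgroup.mem_normalizer_iff.mp n.2 (e : G)).mp (Subgroup.mem_subgroupOf.mp he)
      · exact Nat.card_congr (Subgroup.equivMapOfInjective _ _ (MulEquiv.injective _)).toEquiv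
    let act : ↥K →* MulAut (↥J ⧸ W) :=
      MonoidHom.mk' (fun n => QuotientGroup.congr W W (J.normalizerMonoidHom ⟨n, hKJ n.2⟩) (hinvW n))
        (fun n n' => by
          ext z
          induction z using QuotientGroup.induction_on with
          | H z =>
            show QuotientGroup.mk (J.normalizerMonoidHom ⟨(n * n' : ↥K), hKJ (n * n').2⟩ z) = _
            rw [show (⟨((n * n' : ↥K) : G), hKJ (n * n').2⟩ : ↥(Subgroup.normalizer (J : Set G))) =
              ⟨n, hKJ n.2⟩ * ⟨n', hKJ n'.2⟩ from rfl, map_mul]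
            rfl)
    let ρ0 : L →* MulAut (↥J ⧸ W) := QuotientGroup.lift (J.subgroupOf K) act (fun n hn => by
      rw [MonoidHom.mem_ker]
      ext z
      induction z using QuotientGroup.induction_on with
      | H z =>
        show (QuotientGroup.mk _ : ↥J ⧸ W) = QuotientGroup.mk z
        refine QuotientGroup.eq.mpr ?_
        have hnJ' : (n : G) ∈ J := Subgroup.mem_subgroupOf.mp hn
        have h1 := hcomW ⟨n, hnJ'⟩ z⁻¹
        refine (congrArg (· ∈ W) ?_).mp h1
        ext
        simp [commutatorElement_def, mul_assoc])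
    set φ : MulAut (↥J ⧸ W) := ρ0 cb with hφdef
    have hφ3 : ∀ m, φ (φ (φ m)) = m := by
      intro m
      show ρ0 cb (ρ0 cb (ρ0 cb m)) = m
      rw [← MulAut.mul_apply, ← MulAut.mul_apply, ← map_mul, ← map_mul, hsc.pow_three, map_one, MulAut.one_apply]
    have huW : (⟨u, huJ⟩ : ↥J) ∈ W :=
      Subgroup.mem_sup_left (Subgroup.mem_subgroupOf.mpr (Subgroup.subset_closure (by simp)))
    have hφ : ∀ m, φ m = m → m = 1 := by
      intro m hm
      obtain ⟨z, rfl⟩ := QuotientGroup.mk'_surjective W m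
      change QuotientGroup.mk (J.normalizerMonoidHom ⟨c, hKJ hcK⟩ z) = QuotientGroup.mk z at hm
      rw [QuotientGroup.mk'_apply, QuotientGroup.eq_one_iff]
      set WG := W.map J.subtype
      have hWGT : WG ≤ cT u := (Subgroup.map_subtype_le _).trans hJT
      have hcWG : c ∈ Subgroup.normalizer (WG : Set G) := by
        refine normalizer_of_cj (Subgroup.eq_of_le_of_card_ge ?_ (card_cj c _).ge)
        rintro _ ⟨_, ⟨q, hq, rfl⟩, rfl⟩
        exact ⟨J.normalizerMonoidHom ⟨c, hKJ hcK⟩ q, (hinvW ⟨c, hcK⟩).le ⟨q, hq, rfl⟩, rfl⟩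
      have h2 : ((z : G))⁻¹ * (c * z * c⁻¹) ∈ WG := by
        have := inv_mem (QuotientGroup.eq.mp hm)
        rw [mul_inv_rev, inv_inv] at this
        exact ⟨_, this, rfl⟩
      obtain ⟨q, hq, e⟩ := fix_mod hs hWGT ⟨_, huW, rfl⟩ hcWG (hJT z.2) h2
      rwa [show z = q from Subtype.ext e.symm]
    -- an element of order seven normalised by `c`
    obtain ⟨y, s, m, hy, -, hs7, hrel, -⟩ := exists_seven_oneSixtyEight hc hsc
    obtain ⟨q, hq⟩ := card_P_mem_conj hsc (H := Subgroup.zpowers y) (by rw [Nat.card_zpowers, hy])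
    set s' := q⁻¹ * s * q with hs'
    set Rs := Subgroup.zpowers s'
    have hs'7 : orderOf s' = 7 := by
      rw [hs', show q⁻¹ * s * q = MulAut.conj q⁻¹ s by simp, MulEquiv.orderOf_eq, hs7]
    have hys : y⁻¹ * s * y ∈ Subgroup.zpowers s := by
      rw [mul_assoc, hrel, inv_mul_cancel_left]; exact Subgroup.npow_mem_zpowers s m
    have hyN : y⁻¹ ∈ Subgroup.normalizer (Subgroup.zpowers s : Set L) := by
      refine normalizer_of_cj (Subgroup.eq_of_le_of_card_ge ?_ (card_cj _ _).ge)
      rintro _ ⟨z, hz, rfl⟩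
      obtain ⟨l, rfl⟩ := Subgroup.mem_zpowers_iff.mp hz
      show y⁻¹ * s ^ l * y⁻¹⁻¹ ∈ Subgroup.zpowers s
      have := zpow_mem hys l
      rwa [show y⁻¹ * s * y = y⁻¹ * s * y⁻¹⁻¹ by group, conj_zpow] at this
    have hcN : cb ∈ Subgroup.normalizer (Rs : Set L) := by
      have hyN' : y ∈ Subgroup.normalizer (Subgroup.zpowers s : Set L) := by simpa using inv_mem hyN
      have hcy : q * cb * q⁻¹ ∈ Subgroup.zpowers y := hq ▸ ⟨cb, Subgroup.mem_zpowers cb, rfl⟩
      obtain ⟨l, hl'⟩ := Subgroup.mem_zpowers_iff.mp hcy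
      have hN : q * cb * q⁻¹ ∈ Subgroup.normalizer (Subgroup.zpowers s : Set L) := hl' ▸ zpow_mem hyN' l
      have hRs : Rs = cj q⁻¹ (Subgroup.zpowers s) := by
        show Subgroup.zpowers s' = Subgroup.map _ _
        rw [MonoidHom.map_zpowers]
        congr 1
        simp [hs', mul_assoc]
      rw [hRs, mem_normalizer_cj, inv_inv]
      exact hN
    have hRi : Inv cb Rs := ⟨hcN, by rw [Nat.card_zpowers, hs'7]; norm_num⟩
    have hσ : ∀ z : ↥Rs, invAut hRi z = z → z = 1 := fun z hz => Subtype.ext (hRi.eq_one hsc z.2 (by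
      have : cb * (z : L) * cb⁻¹ = z := congrArg Subtype.val hz
      exact (mul_inv_eq_iff_eq_mul.mp this).symm))
    have htriv : ∀ (z : ↥Rs) (m : ↥J ⧸ W), ρ0 z m = m := by
      refine Average.trivial_action (ρ0.comp Rs.subtype) φ (invAut hRi)
        (fun z => Subtype.ext (Inv.three_steps hsc (z : L))) hσ hφ3 hφ (fun z m => ?_) (fun m hm => ?_)
      · show ρ0 cb (ρ0 (z : L) m) = ρ0 (cb * (z : L) * cb⁻¹) (ρ0 cb m)
        rw [← MulAut.mul_apply, ← MulAut.mul_apply, ← map_mul, ← map_mul]
        congr 2; group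
      · rw [Nat.card_zpowers, hs'7] at hm
        obtain ⟨l, hl'⟩ := (hJp.to_quotient W) m
        have hd := Nat.dvd_gcd (orderOf_dvd_of_pow_eq_one hm) (orderOf_dvd_of_pow_eq_one hl')
        rw [(Nat.Coprime.pow_right l (show Nat.Coprime 7 2 by norm_num)).gcd_eq_one, Nat.dvd_one] at hd
        exact orderOf_eq_one_iff.mp hd
    have hker : s' ∈ ρ0.ker := by
      rw [MonoidHom.mem_ker]
      ext m
      exact htriv ⟨s', Subgroup.mem_zpowers s'⟩ m
    have htop : ρ0.ker = ⊤ := by
      rcases (inferInstance : (ρ0.ker).Normal).eq_bot_or_eq_top with e | e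
      · exfalso
        rw [e, Subgroup.mem_bot] at hker
        rw [hker, orderOf_one] at hs'7
        omega
      · exact e
    have hWtop : W = ⊤ := by
      rw [eq_top_iff]
      intro z _
      rw [← QuotientGroup.eq_one_iff]
      refine hφ _ ?_
      have : cb ∈ ρ0.ker := htop ▸ Subgroup.mem_top cb
      rw [hφdef, MonoidHom.mem_ker.mp this, MulAut.one_apply]
    have hEJtop : EJ = ⊤ := frattini_nongenerating (by rw [← hW]; exact hWtop)
    have hJE : J = E := le_antisymm (Subgroup.subgroupOf_eq_top.mp hEJtop) hEJ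
    refine ⟨?_, hJE⟩
    rw [← card_relIndex hJT, hJ4, hJE, hA.card_E]

end Trio

end CfsgLib.OrderSix
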