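import Cfsg.Agent.Lib.OrderSix.LeafThreeA

/-!
`O_2` of order `32`: a second admissible involution and an elementary group of order sixteen.
-/

set_option autoImplicit false
set_option linter.unusedVariables false
set_option linter.unusedSectionVars false
set_option linter.style.haveILetI false

namespace CfsgLib.OrderSix

open CfsgLib.SelfCent CfsgLib.SCThree
open scoped commutatorElement

universe v

variable {G : Type v} [Group G] [Finite G] {u c : G}

/-- The action of the centralizer on `O_2` modulo `u`. -/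
noncomputable def actHom (u : G) : ↥(cC u) →* MulAut (Tb u) :=
  MonoidHom.mk' (fun g => actT u g g.2) (fun g k => by
    ext z
    obtain ⟨t, ht, rfl⟩ := tb_surj z
    rw [MulAut.mul_apply, actT_tb, actT_tb, actT_tb]
    congr 1
    simp only [Subgroup.coe_mul]
    group)

theorem actHom_tb {g : G} (hg : g ∈ cC u) {t : G} (ht : t ∈ cT u) :
    actHom u ⟨g, hg⟩ (tb t ht) =
      tb (g * t * g⁻¹) ((Subgroup.mem_normalizer_iff.mp (cT_normalized u hg) t).mp ht) := rfl

/-- The setting. -/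
structure Small (u c : G) : Prop where
  good : Good u c
  six : idx u = 6
  card : Nat.card (cT u) = 32
  ab : cD u = Subgroup.zpowers u

/-- A `O_2` of order at least `32` has order exactly `32`. -/
theorem Good.small (h : Good u c) : Small u c := by
  obtain ⟨S, -, hS⟩ := exists_sylow_cC h.six (IsPGroup.of_bot (p := 2)) bot_le
  obtain ⟨x, hx, hxD⟩ := h.exists_adm S hS
  obtain ⟨d, Sx, hp⟩ := hx.exists_pair
  obtain ⟨a, b, ht⟩ := hp.exists_trio
  obtain ⟨h6, hc, -⟩ := ht.leaf_three_a (ht.E_normal hxD)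
  refine ⟨h, h6, hc, le_antisymm ?_ (Subgroup.zpowers_le.mpr h.der)⟩
  have htb := card_tb h.six
  have hab := h.six.three.comm_of_card (tb_isPGroup u) (by omega)
  rw [Subgroup.commutator_le]
  intro p hp q hq
  have := commutatorElement_eq_one_iff_mul_comm.mpr (hab (tb p hp) (tb q hq))
  rwa [tb_comm, tb_eq_one] at this

variable {S : Sylow 2 G}

namespace Small

variable (hs : Small u c)
include hs

theorem commU {a b : G} (ha : a ∈ cT u) (hb : b ∈ cT u) : ⁅a, b⁆ = 1 ∨ ⁅a, b⁆ = u :=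
  (mem_U hs.good.six).mp (hs.ab ▸ Subgroup.commutator_mem_commutator ha hb)

theorem centralU {a b z : G} (ha : a ∈ cT u) (hb : b ∈ cT u) (hz : z ∈ cC u) : Commute z ⁅a, b⁆ := by
  rcases hs.commU ha hb with e | e <;> rw [e]
  · exact Commute.one_right z
  · exact mem_cC.mp hz

theorem comm_mul_left {a b d : G} (ha : a ∈ cT u) (hb : b ∈ cT u) (hd : d ∈ cT u) :
    ⁅a * b, d⁆ = ⁅a, d⁆ * ⁅b, d⁆ := by
  have h1 := hs.centralU hb hd (cT_le_cC u ha)
  have h2 := hs.centralU hb hd (cT_le_cC u (mul_mem (mul_mem (mul_mem ha hd) (inv_mem ha)) (inv_mem hd)))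
  calc ⁅a * b, d⁆ = a * ⁅b, d⁆ * a⁻¹ * ⁅a, d⁆ := by simp only [commutatorElement_def]; group
    _ = ⁅b, d⁆ * ⁅a, d⁆ := by rw [h1.eq, mul_inv_cancel_right]
    _ = _ := h2.eq.symm

theorem comm_mul_right {a b d : G} (ha : a ∈ cT u) (hb : b ∈ cT u) (hd : d ∈ cT u) :
    ⁅a, b * d⁆ = ⁅a, b⁆ * ⁅a, d⁆ := by
  have h1 := hs.centralU ha hd (cT_le_cC u hb)
  calc ⁅a, b * d⁆ = ⁅a, b⁆ * (b * ⁅a, d⁆ * b⁻¹) := by simp only [commutatorElement_def]; group
    _ = _ := by rw [h1.eq, mul_inv_cancel_right]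

/-- Centralizer of a non-central element in `O_2`. -/
theorem cent_relIndex {y : G} (hy : y ∈ cT u) (hne : ∃ t ∈ cT u, t * y ≠ y * t) :
    (cT u ⊓ Subgroup.centralizer ({y} : Set G)).relIndex (cT u) = 2 := by
  let χ : ↥(cT u) →* ↥(Subgroup.zpowers u) :=
    MonoidHom.mk' (fun m => ⟨⁅(m : G), y⁆, hs.ab ▸ Subgroup.commutator_mem_commutator m.2 hy⟩)
      (fun m n => Subtype.ext (hs.comm_mul_left m.2 n.2 hy))
  have e : (cT u ⊓ Subgroup.centralizer ({y} : Set G)).subgroupOf (cT u) = χ.ker := by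
    ext m
    rw [Subgroup.mem_subgroupOf, Subgroup.mem_inf, Subgroup.mem_centralizer_singleton_iff, MonoidHom.mem_ker]
    refine ⟨fun hm => Subtype.ext (commutatorElement_eq_one_iff_mul_comm.mpr hm.2), fun hm => ?_⟩
    exact ⟨m.2, commutatorElement_eq_one_iff_mul_comm.mp (congrArg Subtype.val hm)⟩
  have h1 : (cT u ⊓ Subgroup.centralizer ({y} : Set G)).relIndex (cT u) ≤ 2 := by
    rw [Subgroup.relIndex, e, Subgroup.index_ker]
    exact (Subgroup.card_le_card_group _).trans (le_of_eq (card_U hs.good.six))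
  have h2 : (cT u ⊓ Subgroup.centralizer ({y} : Set G)).relIndex (cT u) ≠ 1 := fun e1 => by
    obtain ⟨t, ht, hne⟩ := hne
    exact hne (Subgroup.mem_centralizer_singleton_iff.mp (Subgroup.relIndex_eq_one.mp e1 ht).2)
  have h0 : (cT u ⊓ Subgroup.centralizer ({y} : Set G)).relIndex (cT u) ≠ 0 :=
    Subgroup.index_ne_zero_of_finite
  omega

theorem fixS_T {S : Sylow 2 G} (hS : (S : Subgroup G) ≤ cC u) {h0 y : G} (h0S : h0 ∈ (S : Subgroup G))
    (h0T : h0 ∉ cT u) (hy : y ∈ cT u) (hy0 : ⁅h0, y⁆ ∈ Subgroup.zpowers u) :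
    ∀ s ∈ (S : Subgroup G), ⁅s, y⁆ ∈ Subgroup.zpowers u := by
  have h2 : (cT u).relIndex (S : Subgroup G) = 2 := by
    rcases sylow_index hs.good.six hs.good.low S hS with ⟨e, -⟩ | ⟨-, e⟩
    · have := hs.six; omega
    · exact e
  intro s hsS
  by_cases hsT : s ∈ cT u
  · exact hs.ab ▸ Subgroup.commutator_mem_commutator hsT hy
  · have ht := two_coset h2 h0S h0T hsS hsT
    have e : ⁅s, y⁆ = h0 * ⁅h0⁻¹ * s, y⁆ * h0⁻¹ * ⁅h0, y⁆ := by simp only [commutatorElement_def]; group
    rw [e]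
    exact mul_mem ((Subgroup.mem_normalizer_iff.mp (U_normalized u (hS h0S)) _).mp
      (hs.ab ▸ Subgroup.commutator_mem_commutator ht hy)) hy0

/-- An involution outside the center is moved by a reflection commuting with it. -/
theorem exists_refl_cent {y : G} (hy : y ∈ cT u) (hy2 : orderOf y = 2) (hyu : y ≠ u) :
    ∃ k, Refl u c k ∧ k * y = y * k := by
  haveI := Fact.mk Nat.prime_two
  by_contra hno
  push Not at hno
  have h := hs.good
  have hsix := h.six
  obtain ⟨di, hdi⟩ := h.at_inv hy2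
  have hyU : y ∉ Subgroup.zpowers u := fun hh => by
    rcases (mem_U hsix).mp hh with e | e
    · exact (orderOf_two_iff.mp hy2).2 e
    · exact hyu e
  have hnc : ∃ t ∈ cT u, t * y ≠ y * t := by
    by_contra hc
    push Not at hc
    exact hyu (h.omega_center hy hc hy2)
  have h2 := hs.cent_relIndex hy hnc
  set P := cT u ⊓ Subgroup.centralizer ({y} : Set G) with hP
  have hP16 : Nat.card P = 16 := by
    have : Nat.card P * P.relIndex (cT u) = Nat.card (cT u) := card_relIndex inf_le_left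
    rw [h2, hs.card] at this
    omega
  have hPp : IsPGroup 2 P := isPGroup_cT_le inf_le_left
  set M := cC u ⊓ cC y with hM
  have hPM : P ≤ M := fun p hp => Subgroup.mem_inf.mpr ⟨cT_le_cC u (Subgroup.mem_inf.mp hp).1,
    mem_cC.mpr (Subgroup.mem_centralizer_singleton_iff.mp (Subgroup.mem_inf.mp hp).2)⟩
  have hmax : ∀ Q : Subgroup G, IsPGroup 2 Q → Q ≤ M → Q ≤ P := by
    intro Q hQ hQM q hq
    obtain ⟨hqu, hqy⟩ := Subgroup.mem_inf.mp (hQM hq)
    refine Subgroup.mem_inf.mpr ⟨?_, Subgroup.mem_centralizer_singleton_iff.mpr (mem_cC.mp hqy)⟩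
    by_contra hqT
    exact hno q (two_group_refl hsix h.low hQ (hQM.trans inf_le_left) hq hqT).2 (mem_cC.mp hqy)
  -- a commutator equal to `u`
  have hy'T : c * y * c⁻¹ ∈ cT u :=
    (Subgroup.mem_normalizer_iff.mp (cT_normalized u hsix.c_mem) y).mp hy
  have hyy : y * y = 1 := (orderOf_two_iff.mp hy2).1
  have hyy' : y * (c * y * c⁻¹) = c * y * c⁻¹ * y := by
    have h0 := hsix.three.self_comm (tb y hy)
    rcases hs.commU hy hy'T with e | e
    · exact commutatorElement_eq_one_iff_mul_comm.mp e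
    exfalso
    have hz := hsix.ident_U hy
    set y' := c * y * c⁻¹ with hy'
    set y'' := c * y' * c⁻¹ with hy''
    have hy'2 : y' * y' = 1 := by
      rw [hy', show c * y * c⁻¹ * (c * y * c⁻¹) = c * (y * y) * c⁻¹ by group, hyy]; group
    have hy''2 : y'' * y'' = 1 := by
      rw [hy'', show c * y' * c⁻¹ * (c * y' * c⁻¹) = c * (y' * y') * c⁻¹ by group, hy'2]; group
    have hy''T : y'' ∈ cT u := (Subgroup.mem_normalizer_iff.mp (cT_normalized u hsix.c_mem) y').mp hy'T
    set z := y * y' * y'' with hzdef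
    have e3 : y * y' = z * y''⁻¹ := by rw [hzdef]; group
    have hz2 : z * z = 1 := by
      rcases (mem_U hsix).mp hz with e1 | e1 <;> rw [e1] <;> simp [hsix.uu]
    have hzc : Commute z y''⁻¹ := by
      obtain ⟨k, hk⟩ := Subgroup.mem_zpowers_iff.mp hz
      rw [← hk]
      exact ((show Commute y'' u from mem_cC.mp (cT_le_cC u hy''T)).symm.inv_right).zpow_left k
    have h4 : y * y' * (y * y') = 1 := by
      rw [e3, hzc.symm.mul_mul_mul_comm, hz2, one_mul, ← mul_inv_rev, hy''2, inv_one]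
    apply hsix.u_ne_one
    rw [← e, commutatorElement_def, inv_eq_of_mul_eq_one_left hyy, inv_eq_of_mul_eq_one_left hy'2,
      mul_assoc (y * y'), h4]
  obtain ⟨z, hz, hzy'⟩ : ∃ z ∈ P, z * (c * y * c⁻¹) ≠ c * y * c⁻¹ * z := by
    by_contra hc
    push Not at hc
    -- the centralizer would be invariant under `c`
    have hTc : cj c (cT u) = cT u := cj_normalizer (cT_normalized u hsix.c_mem)
    have hB : cj c P = cT u ⊓ Subgroup.centralizer ({c * y * c⁻¹} : Set G) := by
      rw [hP, cj_inf, hTc]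
      congr 1
      show cj c (cC y) = cC (c * y * c⁻¹)
      rw [cC_conj]
    have h1 : P ≤ cj c P := fun p hp => hB ▸ Subgroup.mem_inf.mpr
      ⟨(Subgroup.mem_inf.mp hp).1, Subgroup.mem_centralizer_singleton_iff.mpr (hc p hp)⟩
    have e2 : cj c P = P := (Subgroup.eq_of_le_of_card_ge h1 (card_cj c P).le).symm
    obtain ⟨t, ht, htne⟩ := hnc
    have htP : t ∉ P := fun hh => htne (Subgroup.mem_centralizer_singleton_iff.mp (Subgroup.mem_inf.mp hh).2)
    refine htP (fix_mod hsix inf_le_left ⟨u_mem_cT hsix, ?_⟩ (normalizer_of_cj e2) ht ?_)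
    · exact Subgroup.mem_centralizer_singleton_iff.mpr (mem_cC.mp (cT_le_cC u hy)).symm
    · have hct : c * t * c⁻¹ ∈ cT u := (Subgroup.mem_normalizer_iff.mp (cT_normalized u hsix.c_mem) t).mp ht
      refine two_coset h2 ht htP hct fun hh => htP ?_
      rw [← e2, mem_cj] at hh
      simpa [mul_assoc] using hh
  set y' := c * y * c⁻¹ with hy'
  have hy'P : y' ∈ P := Subgroup.mem_inf.mpr ⟨hy'T, Subgroup.mem_centralizer_singleton_iff.mpr hyy'.symm⟩
  have hcom : ⁅z, y'⁆ = u := by
    rcases hs.commU (Subgroup.mem_inf.mp hz).1 hy'T with e | e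
    · exact absurd (commutatorElement_eq_one_iff_mul_comm.mp e) hzy'
    · exact e
  -- `u` lies in the core of `y`
  have huy : u ∈ cT y := by
    obtain ⟨Sy, hPSy, hSy⟩ := exists_sylow_cC hdi.six hPp (fun p hp => (Subgroup.mem_inf.mp (hPM hp)).2)
    rcases sylow_index hdi.six hdi.low Sy hSy with ⟨e, -⟩ | ⟨-, e⟩
    · rw [idx_eq hsix hy2] at e; have := hs.six; omega
    · rw [← hcom]
      haveI hn : ((cT y).subgroupOf (Sy : Subgroup G)).Normal := Subgroup.normal_of_index_eq_two e
      have h1 : ⁅(⟨z, hPSy hz⟩ : ↥(Sy : Subgroup G)), ⟨y', hPSy hy'P⟩⁆ ∈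
          (cT y).subgroupOf (Sy : Subgroup G) := by
        have hi : ((cT y).subgroupOf (Sy : Subgroup G)).index = 2 := e
        rw [commutatorElement_def]
        simp only [Subgroup.mul_mem_iff_of_index_two hi, inv_mem_iff]
        tauto
      exact Subgroup.mem_subgroupOf.mp h1
  obtain ⟨gy, hgy⟩ := isConj_iff.mp (hsix.one u y hsix.ou hy2)
  have habY : cD y = Subgroup.zpowers y := by
    rw [← hgy, cD_conj, hs.ab]
    show Subgroup.map _ _ = _
    rw [MonoidHom.map_zpowers]
    rfl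
  have hsy : Small y di := ⟨hdi, by rw [idx_eq hsix hy2]; exact hs.six,
    by rw [h.card_eq hy2]; exact hs.card, habY⟩
  have huncY : ∃ t ∈ cT y, t * u ≠ u * t := by
    by_contra hc
    push Not at hc
    exact hyu (hdi.omega_center huy hc hsix.ou).symm
  have hQ2 := hsy.cent_relIndex huy huncY
  set Q := cT y ⊓ Subgroup.centralizer ({u} : Set G) with hQ
  have hQ16 : Nat.card Q = 16 := by
    have : Nat.card Q * Q.relIndex (cT y) = Nat.card (cT y) := card_relIndex inf_le_left
    rw [hQ2, hsy.card] at this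
    omega
  have hQP : Q ≤ P := hmax Q (isPGroup_cT_le inf_le_left) (fun q hq => Subgroup.mem_inf.mpr
    ⟨(Subgroup.mem_inf.mp hq).2, cT_le_cC y (Subgroup.mem_inf.mp hq).1⟩)
  have e : Q = P := Subgroup.eq_of_le_of_card_ge hQP (by rw [hP16, hQ16])
  have hzT : z ∈ cT y := (Subgroup.mem_inf.mp (e ▸ hz : z ∈ Q)).1
  have hyT : y' ∈ cT y := (Subgroup.mem_inf.mp (e ▸ hy'P : y' ∈ Q)).1
  rcases hsy.commU hzT hyT with e1 | e1 <;> rw [hcom] at e1
  · exact hsix.u_ne_one e1
  · exact hyu e1.symm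

/-- A second admissible involution. -/
theorem exists_second {x : G} (hx : Adm u c x S) : ∃ x1, Adm u c x1 S ∧ x1 ∉ eE u c x := by
  haveI := Fact.mk Nat.prime_two
  have h := hs.good
  have hsix := h.six
  have hS := hx.sylow
  obtain ⟨d, Sx, hp⟩ := hx.exists_pair
  obtain ⟨a, b, ht⟩ := hp.exists_trio
  obtain ⟨-, -, hJE⟩ := ht.leaf_three_a (ht.E_normal (fun hh => absurd hs.ab hh))
  -- squares are in the center
  have hcentU : ∀ z ∈ eE u c x, (∀ t ∈ cT u, t * z = z * t) → z ∈ Subgroup.zpowers u := by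
    intro z hz hc
    by_cases hz1 : z = 1
    · exact hz1 ▸ one_mem _
    · have hzz : z * z = 1 := by
        rcases hx.mem_E.mp hz with hv | hv
        · rcases hx.mem_V.mp hv with e | e | e | e <;> rw [e]
          · simp
          · exact hsix.uu
          · exact hx.xx
          · rw [(show Commute x u from hx.xu).mul_mul_mul_comm, hsix.uu, hx.xx, one_mul]
        · have hzc : Commute z (c * x * c⁻¹) := (hc _ hx.cx_mem).symm
          have hv2 : (z * (c * x * c⁻¹)) * (z * (c * x * c⁻¹)) = 1 := by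
            rcases hx.mem_V.mp hv with e | e | e | e <;> rw [e]
            · simp
            · exact hsix.uu
            · exact hx.xx
            · rw [(show Commute x u from hx.xu).mul_mul_mul_comm, hsix.uu, hx.xx, one_mul]
          rwa [hzc.symm.mul_mul_mul_comm, hx.cx_two, mul_one] at hv2
      rw [h.omega_center (hx.E_le_cT hz) hc (orderOf_two_iff.mpr ⟨hzz, hz1⟩)]
      exact Subgroup.mem_zpowers u
  have hsq : ∀ t ∈ cT u, t * t ∈ Subgroup.zpowers u := by
    intro t htT
    have hcent : ∀ w ∈ cT u, w * (t * t) = t * t * w := by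
      intro w hw
      refine commutatorElement_eq_one_iff_mul_comm.mp ?_
      rw [hs.comm_mul_right hw htT htT]
      rcases hs.commU hw htT with e | e <;> rw [e] <;> simp [hsix.uu]
    refine hcentU _ ?_ hcent
    rw [← hJE]
    exact mem_pJ.mpr ⟨mul_mem htT htT, (hcent x hx.mem).symm, (hcent _ hx.cx_mem).symm⟩
  obtain ⟨y, hy, hy2, hyE⟩ : ∃ y ∈ cT u, y * y = 1 ∧ y ∉ eE u c x := by
    obtain ⟨t, htT, htE⟩ : ∃ t ∈ cT u, t ∉ eE u c x := by
      by_contra hc
      push Not at hc
      have := Subgroup.card_le_of_le hc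
      rw [hx.card_E, hs.card] at this
      omega
    rcases (mem_U hsix).mp (hsq t htT) with e | e
    · exact ⟨t, htT, e, htE⟩
    obtain ⟨w, hw, hwt⟩ : ∃ w ∈ ({x, c * x * c⁻¹} : Set G), t * w ≠ w * t := by
      by_contra hc
      push Not at hc
      exact htE (hJE ▸ mem_pJ.mpr ⟨htT, hc x (by simp), hc _ (by simp)⟩)
    have hwT : w ∈ cT u := by
      rcases hw with rfl | rfl
      exacts [hx.mem, hx.cx_mem]
    have hww : w * w = 1 := by
      rcases hw with rfl | rfl
      exacts [hx.xx, hx.cx_two]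
    have hwE : w ∈ eE u c x := by
      rcases hw with rfl | rfl <;> exact Subgroup.subset_closure (by simp)
    refine ⟨t * w, mul_mem htT hwT, ?_, fun hh => htE ?_⟩
    · rcases hs.commU htT hwT with e1 | e1
      · exact absurd (commutatorElement_eq_one_iff_mul_comm.mp e1) hwt
      · rw [commutatorElement_def, mul_inv_eq_iff_eq_mul, mul_inv_eq_iff_eq_mul] at e1
        have htu : Commute t u := mem_cC.mp (cT_le_cC u htT)
        have hwu : Commute w u := mem_cC.mp (cT_le_cC u hwT)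
        have e2 : w * t = u * (t * w) := by
          rw [e1, ← mul_assoc, ← mul_assoc, hsix.uu, one_mul]
        calc t * w * (t * w) = t * (w * t) * w := by group
          _ = t * u * t * (w * w) := by rw [e2]; group
          _ = t * t * u := by rw [hww, mul_one, mul_assoc, ← htu.eq, ← mul_assoc]
          _ = 1 := by rw [e, hsix.uu]
    · have := mul_mem hh (inv_mem hwE)
      rwa [mul_inv_cancel_right] at this
  have hy1 : y ≠ 1 := fun e => hyE (e ▸ one_mem _)
  have hyu : y ≠ u := fun e => hyE (e ▸ Subgroup.subset_closure (by simp))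
  obtain ⟨k, hkR, hky⟩ := hs.exists_refl_cent hy (orderOf_two_iff.mpr ⟨hy2, hy1⟩) hyu
  -- a reflection of the Sylow subgroup
  have hTS := cT_le_sylow hsix S hS
  obtain ⟨h0, h0S, h0T⟩ : ∃ g ∈ (S : Subgroup G), g ∉ cT u := by
    by_contra hc
    push Not at hc
    rcases sylow_index hsix h.low S hS with ⟨e, -⟩ | ⟨-, e⟩
    · have := hs.six; omega
    · rw [Subgroup.relIndex_eq_one.mpr hc] at e; omega
  obtain ⟨-, h0R⟩ := two_group_refl hsix h.low S.isPGroup' hS h0S h0T
  set A := actHom u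
  have hAX : ∀ g, ∀ hg : g ∈ cX u, A ⟨g, cX_le u hg⟩ = 1 := by
    intro g hg
    obtain ⟨τ, hτ, o, ho, rfl, hco⟩ := cX_split hsix hg
    ext z
    obtain ⟨t, ht', rfl⟩ := tb_surj z
    rw [actHom_tb, MulAut.one_apply, tb_eq]
    have e : (τ * o * t * (τ * o)⁻¹)⁻¹ * t = (⁅τ, t⁆ * t)⁻¹ * t := by
      congr 2
      rw [mul_assoc τ o, hco t ht', commutatorElement_def]; group
    rw [e, mul_inv_rev, mul_assoc]
    have hcU : ⁅τ, t⁆ ∈ Subgroup.zpowers u := hs.ab ▸ Subgroup.commutator_mem_commutator hτ ht'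
    rw [← ((show Commute t ⁅τ, t⁆ from hs.centralU hτ ht' (cT_le_cC u ht')).inv_right).eq, inv_mul_cancel_left]
    exact inv_mem hcU
  set C : ↥(cC u) := ⟨c, hsix.c_mem⟩
  set H : ↥(cC u) := ⟨h0, hS h0S⟩
  set K : ↥(cC u) := ⟨k, hkR.1⟩
  have hC3 : A C * A C * A C = 1 := by
    rw [← map_mul, ← map_mul]
    have : C * C * C = 1 := Subtype.ext (show c * c * c = 1 by rw [← hsix.ccc, pow_succ, pow_two])
    rw [this, map_one]
  have hHC : A H * A C * (A H)⁻¹ * A C = 1 := by
    rw [← map_inv, ← map_mul, ← map_mul, ← map_mul]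
    exact hAX _ h0R.2.2.2
  have hHH : A H * A H = 1 := by rw [← map_mul]; exact hAX _ h0R.2.2.1
  have hrel : A K = A H ∨ A K = A C * A H ∨ A K = (A C)⁻¹ * A H := by
    have hprod : k * h0 ∈ cC u := mul_mem hkR.1 (hS h0S)
    have hKH : A K = A ⟨k * h0, hprod⟩ * A H := by
      have : (⟨k * h0, hprod⟩ : ↥(cC u)) = K * H := rfl
      rw [this, map_mul, mul_assoc, hHH, mul_one]
    rcases kinds hsix h.low hprod with e | e | e | ⟨-, e⟩
    · left; rw [hKH, hAX _ e, one_mul]
    · right; right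
      rw [hKH]
      congr 1
      rw [eq_inv_iff_mul_eq_one, ← map_mul]
      exact hAX _ e
    · right; left
      rw [hKH]
      congr 1
      rw [← mul_inv_eq_one, ← map_inv, ← map_mul]
      exact hAX _ e
    · exfalso
      obtain ⟨-, e1, -⟩ := hkR.quot hsix
      obtain ⟨-, e2, -⟩ := h0R.quot hsix
      obtain ⟨-, e3, -⟩ := e.quot hsix
      set q1 := piX u K
      set q2 := piX u H
      set q := piX u C
      have e4 : piX u ⟨k * h0, e.1⟩ = q1 * q2 := by rw [← map_mul]; rfl
      rw [e4] at e3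
      have e2' : q2 * q * q2⁻¹ = q⁻¹ := eq_inv_of_mul_eq_one_left e2
      have e1' : q1 * q * q1⁻¹ = q⁻¹ := eq_inv_of_mul_eq_one_left e1
      have e5 : q1 * q2 * q * (q1 * q2)⁻¹ = q := by
        calc _ = q1 * (q2 * q * q2⁻¹) * q1⁻¹ := by group
          _ = (q1 * q * q1⁻¹)⁻¹ := by rw [e2']; group
          _ = q := by rw [e1', inv_inv]
      rw [e5] at e3
      have h3 := orderOf_piX_c hsix
      have h4 := orderOf_le_of_pow_eq_one (n := 2) (by norm_num) (by rw [pow_two]; exact e3 : q ^ 2 = 1)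
      have : orderOf q = 3 := h3
      omega
  have hky' : A K (tb y hy) = tb y hy := by
    rw [actHom_tb, tb_eq, hky]
    simp
  -- the conjugate fixed by `h0`
  obtain ⟨j, hjC, hjfix⟩ : ∃ j : ↥(cC u), (j = 1 ∨ j = C ∨ j = C⁻¹) ∧
      A H (A j (tb y hy)) = A j (tb y hy) := by
    have hHC' : A H * A C = (A C)⁻¹ * A H := by
      rw [← mul_inv_eq_iff_eq_mul]
      exact eq_inv_of_mul_eq_one_left hHC
    have hHC2 : A H * (A C)⁻¹ = A C * A H := by
      calc A H * (A C)⁻¹ = A C * ((A C)⁻¹ * A H) * (A C)⁻¹ := by group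
        _ = _ := by rw [← hHC']; group
    rcases hrel with e | e | e
    · exact ⟨1, Or.inl rfl, by rw [map_one, MulAut.one_apply, ← e, hky']⟩
    · refine ⟨C, Or.inr (Or.inl rfl), ?_⟩
      have h1 : A H * A C = A C * A K := by
        rw [e, hHC', ← mul_assoc]
        congr 1
        exact inv_eq_of_mul_eq_one_left hC3
      rw [← MulAut.mul_apply, h1, MulAut.mul_apply, hky']
    · refine ⟨C⁻¹, Or.inr (Or.inr rfl), ?_⟩
      have h1 : A H * A C⁻¹ = A C⁻¹ * A K := by
        rw [e, map_inv, hHC2, ← mul_assoc]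
        congr 1
        rw [← mul_inv_rev]
        exact eq_inv_of_mul_eq_one_right hC3
      rw [← MulAut.mul_apply, h1, MulAut.mul_apply, hky']
  set x1 := (j : G) * y * (j : G)⁻¹ with hx1
  have hjN : (j : G) ∈ Subgroup.normalizer (eE u c x : Set G) := by
    rcases hjC with e | e | e <;> rw [e]
    · exact one_mem _
    · exact hx.c_norm_E
    · exact inv_mem hx.c_norm_E
  have hx1T : x1 ∈ cT u := (Subgroup.mem_normalizer_iff.mp (cT_normalized u j.2) y).mp hy
  have hx1E : x1 ∉ eE u c x := fun hh => hyE ((Subgroup.mem_normalizer_iff.mp hjN y).mpr hh)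
  have hfix : ⁅h0, x1⁆ ∈ Subgroup.zpowers u := by
    have h1 : A H (tb x1 hx1T) = tb x1 hx1T := hjfix
    rw [actHom_tb, tb_eq] at h1
    have h2 := (Subgroup.mem_normalizer_iff.mp (U_normalized u (cT_le_cC u hx1T)) _).mp (inv_mem h1)
    refine (congrArg (· ∈ Subgroup.zpowers u) ?_).mp h2
    rw [commutatorElement_def]; group
  have hx12 : orderOf x1 = 2 := by
    rw [hx1, ← MulAut.conj_apply, MulEquiv.orderOf_eq]
    exact orderOf_two_iff.mpr ⟨hy2, hy1⟩
  refine ⟨x1, ⟨h, hS, hx1T, hx12, fun e => hx1E (e ▸ Subgroup.subset_closure (by simp)), ?_⟩, hx1E⟩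
  exact hs.fixS_T hS h0S h0T hx1T hfix

end Small

end CfsgLib.OrderSix
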