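import Cfsg.Agent.Lib.OrderSix.LeafThreeB

/-!
`O_2` of the centralizer of an involution has order less than `32`.
-/

set_option autoImplicit false
set_option linter.unusedVariables false
set_option linter.unusedSectionVars false
set_option linter.style.haveILetI false

namespace CfsgLib.OrderSix

open CfsgLib.SelfCent CfsgLib.SCThree
open scoped commutatorElement

universe v

variable {G : Type v} [Group G] [Finite G] {u c : G} {S : Sylow 2 G}

theorem closure_elementary {s : Set G} (hc : ∀ a ∈ s, ∀ b ∈ s, Commute a b) (h2 : ∀ a ∈ s, a * a = 1)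
    {z : G} (hz : z ∈ Subgroup.closure s) : (∀ w ∈ Subgroup.closure s, Commute z w) ∧ z * z = 1 := by
  have hcomm : ∀ p ∈ Subgroup.closure s, ∀ w ∈ Subgroup.closure s, Commute p w := by
    intro p hp w hw
    refine Subgroup.closure_induction (p := fun q _ => Commute q w) (fun q hq => ?_) (Commute.one_left w)
      (fun _ _ _ _ a b => a.mul_left b) (fun _ _ a => a.inv_left) hp
    exact Subgroup.closure_induction (p := fun r _ => Commute q r) (fun r hr => hc q hq r hr)
      (Commute.one_right q) (fun _ _ _ _ a b => a.mul_right b) (fun _ _ a => a.inv_right) hw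
  refine ⟨hcomm z hz, ?_⟩
  refine Subgroup.closure_induction (p := fun q _ => q * q = 1) h2 (one_mul 1) ?_ ?_ hz
  · intro a b ha hb e1 e2
    rw [(hcomm b hb a ha).mul_mul_mul_comm, e1, e2, one_mul]
  · intro a _ e
    rw [← mul_inv_rev, e, inv_one]

namespace Small

variable (hs : Small u c)
include hs

theorem trio_data {x : G} (hx : Adm u c x S) :
    ∃ r : G, r * u * r⁻¹ = x ∧ r * x * r⁻¹ = x * u ∧ r ∈ Subgroup.normalizer (pP x S : Set G) ∧
      r ∈ Subgroup.normalizer (eE u c x : Set G) ∧ pJ u c x = eE u c x ∧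
      (∀ z ∈ cT u, z ∈ pP x S → r * z * r⁻¹ ∈ cT u → z ∈ eE u c x) ∧
      (∃ k : ℕ, orderOf r ∣ 3 ^ k) ∧
      (∀ A : Subgroup G, IsPGroup 2 A → Nat.card ↥(A ⊓ Subgroup.centralizer ({r} : Set G)) ≤ 2) := by
  obtain ⟨d, Sx, hp⟩ := hx.exists_pair
  obtain ⟨h, g, a⟩ := hp.exists_trio
  have hxD : cD u ≠ Subgroup.zpowers u → x ∈ cD u := fun hh => absurd hs.ab hh
  have hrE := a.E_normal hxD
  obtain ⟨-, -, hJE⟩ := a.leaf_three_a hrE
  set r := rot h g with hr
  obtain ⟨hru, hrx, hrxu⟩ := a.rot_act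
  rw [← hr] at hru hrx hrxu
  have hrP : r ∈ Subgroup.normalizer (pP x S : Set G) := rot_mem_normalizer a.hN a.gN
  refine ⟨r, hru, hrx, hrP, hrE, hJE, ?_, orderOf_rot h g, fun A hA => a.card_fixR hA⟩
  intro z hz hzP hrz
  have hcD : ∀ k, cD (k * u * k⁻¹) = Subgroup.zpowers (k * u * k⁻¹) := fun k => by
    rw [cD_conj, hs.ab]
    show Subgroup.map _ _ = _
    rw [MonoidHom.map_zpowers]
    rfl
  have h1 : cD x = Subgroup.zpowers x := by rw [← hru]; exact hcD r
  have hDT : pD u x ≤ cT u := inf_le_left.trans inf_le_left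
  have hD8 : Nat.card (pD u x) ≤ 8 := by
    have hV : ∀ {w : G}, w ∈ pV u x ↔ w = 1 ∨ w = u ∨ w = x ∨ w = u * x := hx.mem_V
    obtain ⟨-, hcard⟩ := a.trick (isPGroup_cT_le hDT) a.V_le_D a.hD a.gD a.hV a.gV
      (fun y hy => by
        rw [Subgroup.mem_normalizer_iff]
        intro w
        have hyP := a.D_le_P hy
        have hc : ∀ v ∈ pV u x, y * v * y⁻¹ = v := fun v hv => by
          have h1 : Commute y u := mem_cC.mp (hx.sylow (mem_pP.mp hyP).1)
          have h2 : Commute y x := (mem_pP.mp hyP).2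
          have : Commute y v := by
            rcases hV.mp hv with e | e | e | e <;> rw [e]
            exacts [Commute.one_right y, h1, h2, h1.mul_right h2]
          rw [this.eq, mul_inv_cancel_right]
        refine ⟨fun hw => (hc w hw).symm ▸ hw, fun hw => ?_⟩
        have : y * w * y⁻¹ = w := by
          have h3 := hc _ hw
          exact mul_left_cancel (mul_right_cancel h3)
        rwa [this] at hw)
      (fun y hy => Subgroup.zpowers_le.mpr (Subgroup.subset_closure (by simp : u ∈ ({u, x} : Set G))) (by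
        have : ⁅h, y⁆ ∈ cD u := Subgroup.commutator_mem_commutator a.hT (hDT hy)
        rwa [hs.ab] at this))
      (fun y hy => by
        refine Subgroup.zpowers_le.mpr (Subgroup.subset_closure (by simp : x ∈ ({u, x} : Set G))) ?_
        rw [← h1]
        exact Subgroup.commutator_mem_commutator a.gT ((inf_le_left.trans inf_le_right : pD u x ≤ cT x) hy))
    rw [hx.card_V] at hcard
    exact hcard
  -- `E` is the meet
  have hET : eE u c x ≤ cT u := hx.E_le_cT
  have hE : eE u c x = pD u x := by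
    have hEr : cj r (eE u c x) = eE u c x := cj_normalizer hrE
    have h2 : eE u c x ≤ cT x := by
      have e : cT x = cj r (cT u) := by rw [← cT_conj, hru]
      rw [e, ← hEr]
      exact Subgroup.map_mono hET
    have h3 : eE u c x ≤ cT (x * u) := by
      have e : cT (x * u) = cj r (cT x) := by rw [← cT_conj, hrx]
      rw [e, ← hEr]
      exact Subgroup.map_mono h2
    exact Subgroup.eq_of_le_of_card_ge (le_inf (le_inf hET h2) h3) (by rw [hx.card_E]; exact hD8)
  by_contra hzE
  -- otherwise two of the three lines coincide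
  obtain ⟨hPc, e1, e2, e3⟩ := a.relIndex_P_six hs.six
  set L1 := cT u ⊓ pP x S
  set L3 := cT (x * u) ⊓ pP x S
  have hzxu : z ∈ cT (x * u) := by
    have e : cT u = cj r (cT (x * u)) := by rw [← cT_conj, hrxu]
    rw [e, mem_cj] at hrz
    simpa [mul_assoc] using hrz
  have hle : pD u x ≤ L1 ⊓ L3 := le_inf (le_inf hDT a.D_le_P) (le_inf inf_le_right a.D_le_P)
  have hzL : z ∈ L1 ⊓ L3 :=
    Subgroup.mem_inf.mpr ⟨Subgroup.mem_inf.mpr ⟨hz, hzP⟩, Subgroup.mem_inf.mpr ⟨hzxu, hzP⟩⟩
  have hc1 : Nat.card L1 * 2 = Nat.card (pP x S) := by rw [← e1]; exact card_relIndex inf_le_right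
  have hc3 : Nat.card L3 * 2 = Nat.card (pP x S) := by rw [← e3]; exact card_relIndex inf_le_right
  rw [hPc, hs.card] at hc1 hc3
  have hD : Nat.card (pD u x) = 8 := by rw [← hE, hx.card_E]
  have hlt : 8 < Nat.card ↥(L1 ⊓ L3) := by
    rw [← hD]
    refine lt_of_le_of_ne (Subgroup.card_le_of_le hle) fun e => hzE ?_
    rw [hE]
    exact (Subgroup.eq_of_le_of_card_ge hle e.ge).ge hzL
  have hdvd := Subgroup.card_dvd_of_le (inf_le_left : L1 ⊓ L3 ≤ L1)
  have h16 : Nat.card ↥(L1 ⊓ L3) = 16 := by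
    rw [show Nat.card L1 = 16 by omega] at hdvd
    have := Nat.le_of_dvd (by norm_num) hdvd
    generalize Nat.card ↥(L1 ⊓ L3) = n at hdvd hlt this
    interval_cases n <;> omega
  have e13 : L1 = L3 := by
    rw [← Subgroup.eq_of_le_of_card_ge (inf_le_left : L1 ⊓ L3 ≤ L1) (by omega)]
    exact Subgroup.eq_of_le_of_card_ge inf_le_right (by omega)
  have e12 : L1 = cT x ⊓ pP x S := by
    have := congrArg (cj h) e13
    rwa [cj_inf, a.cj_h.1, cj_normalizer a.hN, cj_inf, a.cj_h.2.2, cj_normalizer a.hN] at this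
  have hD' : L1 ≤ pD u x := by
    intro w hw
    refine Subgroup.mem_inf.mpr ⟨Subgroup.mem_inf.mpr ⟨(Subgroup.mem_inf.mp hw).1, ?_⟩, ?_⟩
    · exact (Subgroup.mem_inf.mp (e12.le hw)).1
    · exact (Subgroup.mem_inf.mp (e13.le hw)).1
  have := Subgroup.card_le_of_le hD'
  omega

end Small

/-- The centralizer in the Sylow subgroup of two admissible involutions. -/
abbrev pA (x y : G) (S : Sylow 2 G) : Subgroup G := pP x S ⊓ pP y S

theorem mem_pA {x y z : G} :
    z ∈ pA x y S ↔ z ∈ (S : Subgroup G) ∧ z * x = x * z ∧ z * y = y * z := by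
  rw [Subgroup.mem_inf, mem_pP, mem_pP]; tauto

/-- A pair of commuting admissible involutions in distinct groups `E`. -/
structure Two (u c x y : G) (S : Sylow 2 G) : Prop where
  small : Small u c
  ax : Adm u c x S
  ay : Adm u c y S
  out : y ∉ eE u c x
  comm : x * y = y * x

namespace Two

variable {x y : G} (p : Two u c x y S)
include p

theorem not_comm_cx : y * (c * x * c⁻¹) ≠ c * x * c⁻¹ * y := fun e => by
  obtain ⟨r, -, -, -, -, hJE, -⟩ := p.small.trio_data p.ax
  exact p.out (hJE ▸ mem_pJ.mpr ⟨p.ay.mem, p.comm.symm, e⟩)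

theorem B_card : Nat.card ↥(cT u ⊓ pA x y S) = 8 := by
  have hs := p.small
  have hTS := cT_le_sylow hs.good.six S p.ax.sylow
  set Cx := cT u ⊓ Subgroup.centralizer ({x} : Set G) with hCx
  set Cy := cT u ⊓ Subgroup.centralizer ({y} : Set G) with hCy
  have e : cT u ⊓ pA x y S = Cx ⊓ Cy := by
    ext z
    rw [Subgroup.mem_inf, mem_pA, Subgroup.mem_inf, Subgroup.mem_inf, Subgroup.mem_inf,
      Subgroup.mem_centralizer_singleton_iff, Subgroup.mem_centralizer_singleton_iff]
    exact ⟨fun h => ⟨⟨h.1, h.2.2.1⟩, h.1, h.2.2.2⟩, fun h => ⟨h.1.1, hTS h.1.1, h.1.2, h.2.2⟩⟩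
  have hx2 : Cx.relIndex (cT u) = 2 := p.ax.C_x_relIndex
  have hy2 : Cy.relIndex (cT u) = 2 := p.ay.C_x_relIndex
  have hle : (Cx ⊓ Cy).relIndex (cT u) ≤ 4 := Subgroup.relIndex_inf_le.trans (by rw [hx2, hy2])
  have hmul := Subgroup.relIndex_mul_relIndex (Cx ⊓ Cy) Cx (cT u) inf_le_left inf_le_left
  rw [hx2] at hmul
  have hne : (Cx ⊓ Cy).relIndex Cx ≠ 1 := by
    intro e1
    have hxy : Cx = Cy := by
      have h1 : Cx ≤ Cy := (Subgroup.relIndex_eq_one.mp e1).trans inf_le_right
      refine Subgroup.eq_of_le_of_card_ge h1 ?_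
      have a1 : Nat.card Cx * Cx.relIndex (cT u) = Nat.card (cT u) := card_relIndex inf_le_left
      have a2 : Nat.card Cy * Cy.relIndex (cT u) = Nat.card (cT u) := card_relIndex inf_le_left
      rw [hx2] at a1
      rw [hy2] at a2
      omega
    have hcent : ∀ t ∈ cT u, t * (x * y) = x * y * t := by
      intro t ht
      refine commutatorElement_eq_one_iff_mul_comm.mp ?_
      rw [hs.comm_mul_right ht p.ax.mem p.ay.mem]
      rcases hs.commU ht p.ax.mem with a1 | a1 <;> rcases hs.commU ht p.ay.mem with a2 | a2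
      · rw [a1, a2, one_mul]
      · exfalso
        have : t ∈ Cx := Subgroup.mem_inf.mpr ⟨ht, Subgroup.mem_centralizer_singleton_iff.mpr
          (commutatorElement_eq_one_iff_mul_comm.mp a1)⟩
        rw [hxy] at this
        rw [commutatorElement_eq_one_iff_mul_comm.mpr
          (Subgroup.mem_centralizer_singleton_iff.mp (Subgroup.mem_inf.mp this).2)] at a2
        exact hs.good.six.u_ne_one a2.symm
      · exfalso
        have : t ∈ Cy := Subgroup.mem_inf.mpr ⟨ht, Subgroup.mem_centralizer_singleton_iff.mpr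
          (commutatorElement_eq_one_iff_mul_comm.mp a2)⟩
        rw [← hxy] at this
        rw [commutatorElement_eq_one_iff_mul_comm.mpr
          (Subgroup.mem_centralizer_singleton_iff.mp (Subgroup.mem_inf.mp this).2)] at a1
        exact hs.good.six.u_ne_one a1.symm
      · rw [a1, a2, hs.good.six.uu]
    have hxy2 : orderOf (x * y) = 2 := by
      rw [orderOf_two_iff]
      refine ⟨?_, fun e2 => p.out ?_⟩
      · rw [(show Commute y x from p.comm.symm).mul_mul_mul_comm, p.ax.xx, p.ay.xx, one_mul]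
      · rw [eq_inv_of_mul_eq_one_right e2]
        exact inv_mem (Subgroup.subset_closure (by simp))
    have h3 := hs.good.omega_center (mul_mem p.ax.mem p.ay.mem) hcent hxy2
    refine p.out ?_
    rw [eq_inv_mul_of_mul_eq h3]
    exact mul_mem (inv_mem (Subgroup.subset_closure (by simp))) (Subgroup.subset_closure (by simp))
  have h0 : (Cx ⊓ Cy).relIndex Cx ≠ 0 := Subgroup.index_ne_zero_of_finite
  have h4 : (Cx ⊓ Cy).relIndex (cT u) = 4 := by omega
  have := card_relIndex (inf_le_left.trans inf_le_left : Cx ⊓ Cy ≤ cT u)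
  rw [h4, hs.card] at this
  rw [e]
  omega

theorem B_elementary {z : G} (hz : z ∈ cT u ⊓ pA x y S) :
    (∀ a ∈ pA x y S, Commute a z) ∧ z * z = 1 := by
  haveI := Fact.mk Nat.prime_two
  have hsix := p.small.good.six
  have hTS := cT_le_sylow hsix S p.ax.sylow
  have hux : Commute u x := p.ax.xu.symm
  have huy : Commute u y := p.ay.xu.symm
  have hxy : Commute x y := p.comm
  have hc : ∀ a ∈ ({u, x, y} : Set G), ∀ b ∈ ({u, x, y} : Set G), Commute a b := by
    rintro a (rfl | rfl | rfl) b (rfl | rfl | rfl)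
    exacts [Commute.refl _, hux, huy, hux.symm, Commute.refl _, hxy, huy.symm, hxy.symm, Commute.refl _]
  have h2 : ∀ a ∈ ({u, x, y} : Set G), a * a = 1 := by
    rintro a (rfl | rfl | rfl)
    exacts [hsix.uu, p.ax.xx, p.ay.xx]
  have hle : Subgroup.closure ({u, x, y} : Set G) ≤ cT u ⊓ pA x y S := by
    rw [Subgroup.closure_le]
    rintro a (rfl | rfl | rfl)
    · exact Subgroup.mem_inf.mpr ⟨u_mem_cT hsix, mem_pA.mpr ⟨hTS (u_mem_cT hsix), hux.eq, huy.eq⟩⟩
    · exact Subgroup.mem_inf.mpr ⟨p.ax.mem, mem_pA.mpr ⟨hTS p.ax.mem, rfl, hxy.eq⟩⟩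
    · exact Subgroup.mem_inf.mpr ⟨p.ay.mem, mem_pA.mpr ⟨hTS p.ay.mem, hxy.symm.eq, rfl⟩⟩
  have hV : pV u x ≤ Subgroup.closure ({u, x, y} : Set G) := Subgroup.closure_mono (by
    rintro a (rfl | rfl) <;> simp)
  have hyV : y ∉ pV u x := fun hh => p.out (p.ax.mem_E.mpr (Or.inl hh))
  have h4 : 4 < Nat.card (Subgroup.closure ({u, x, y} : Set G)) := by
    rw [← p.ax.card_V]
    refine lt_of_le_of_ne (Subgroup.card_le_of_le hV) fun e => hyV ?_
    exact (Subgroup.eq_of_le_of_card_ge hV e.ge).ge (Subgroup.subset_closure (by simp))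
  have hd := Subgroup.card_dvd_of_le hle
  rw [p.B_card] at hd
  have h8 := Nat.le_of_dvd (by norm_num) hd
  have heq : Subgroup.closure ({u, x, y} : Set G) = cT u ⊓ pA x y S := by
    refine Subgroup.eq_of_le_of_card_ge hle ?_
    rw [p.B_card]
    generalize Nat.card (Subgroup.closure ({u, x, y} : Set G)) = n at hd h4 h8
    interval_cases n <;> omega
  rw [← heq] at hz
  refine ⟨fun a ha => ?_, (closure_elementary hc h2 hz).2⟩
  obtain ⟨haS, hax, hay⟩ := mem_pA.mp ha
  have : Subgroup.closure ({u, x, y} : Set G) ≤ Subgroup.centralizer ({a} : Set G) := by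
    rw [Subgroup.closure_le]
    rintro b (rfl | rfl | rfl) <;> refine Subgroup.mem_centralizer_singleton_iff.mpr ?_
    · exact (mem_cC.mp (p.ax.sylow haS)).symm
    · exact hax.symm
    · exact hay.symm
  exact (Subgroup.mem_centralizer_singleton_iff.mp (this hz)).symm

theorem A_card : Nat.card (pA x y S) = 16 ∧ ∃ a ∈ pA x y S, a ∉ cT u := by
  have hs := p.small
  have hTS := cT_le_sylow hs.good.six S p.ax.sylow
  have hS64 : Nat.card (S : Subgroup G) = 64 := by
    rcases sylow_index hs.good.six hs.good.low S p.ax.sylow with ⟨e, -⟩ | ⟨-, e⟩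
    · have := hs.six; omega
    · rw [← card_relIndex hTS, e, hs.card]
  have hTS2 : (cT u).relIndex (S : Subgroup G) = 2 := by
    have := card_relIndex hTS
    rw [hs.card, hS64] at this
    omega
  have hA : (pA x y S).relIndex (S : Subgroup G) ≤ 4 :=
    Subgroup.relIndex_inf_le.trans (by rw [p.ax.relIndex_pP, p.ay.relIndex_pP])
  have hcA := card_relIndex (inf_le_left.trans inf_le_left : pA x y S ≤ (S : Subgroup G))
  rw [hS64] at hcA
  have h16 : 16 ≤ Nat.card (pA x y S) := by nlinarith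
  have hi : (cT u ⊓ pA x y S).relIndex (pA x y S) ≤ 2 := by
    rw [Subgroup.inf_relIndex_right, ← hTS2]
    exact Subgroup.relIndex_le_of_le_right (inf_le_left.trans inf_le_left) Subgroup.index_ne_zero_of_finite
  have hB := card_relIndex (inf_le_right : cT u ⊓ pA x y S ≤ pA x y S)
  rw [p.B_card] at hB
  have h16' : Nat.card (pA x y S) = 16 := by omega
  refine ⟨h16', ?_⟩
  by_contra hc
  push Not at hc
  have h8 : Nat.card (pA x y S) ≤ 8 := by
    rw [← p.B_card]
    exact Subgroup.card_le_of_le (le_inf hc le_rfl)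
  omega

theorem A_split {a b : G} (ha : a ∈ pA x y S) (haT : a ∉ cT u) (hb : b ∈ pA x y S) (hbT : b ∉ cT u) :
    a⁻¹ * b ∈ cT u ⊓ pA x y S := by
  have hs := p.small
  refine Subgroup.mem_inf.mpr ⟨?_, mul_mem (inv_mem ha) hb⟩
  rcases sylow_index hs.good.six hs.good.low S p.ax.sylow with ⟨e, -⟩ | ⟨-, e⟩
  · have := hs.six; omega
  · exact two_coset e (mem_pA.mp ha).1 haT (mem_pA.mp hb).1 hbT

theorem A_sq {a b : G} (ha : a ∈ pA x y S) (haT : a ∉ cT u) (hb : b ∈ pA x y S) (hbT : b ∉ cT u) :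
    b * b = a * a := by
  obtain ⟨hc, hz2⟩ := p.B_elementary (p.A_split ha haT hb hbT)
  have e : b = a * (a⁻¹ * b) := by group
  rw [e, (show Commute (a⁻¹ * b) a from (hc a ha).symm).mul_mul_mul_comm, hz2, mul_one]

/-- The basic alternative. -/
theorem alt {r : G} (hru : r * u * r⁻¹ = x) (hrP : r ∈ Subgroup.normalizer (pP x S : Set G))
    (hrE : r ∈ Subgroup.normalizer (eE u c x : Set G))
    (hline : ∀ z ∈ cT u, z ∈ pP x S → r * z * r⁻¹ ∈ cT u → z ∈ eE u c x)
    (hrx : r * x * r⁻¹ = x * u) :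
    r * y * r⁻¹ ∉ cT u ∧ (r * y * r⁻¹ ∈ pA x y S ∨ ∃ a ∈ pA x y S, a ∉ cT u ∧ a * a = x) := by
  have hs := p.small
  have hsix := hs.good.six
  have hTS := cT_le_sylow hsix S p.ax.sylow
  have hyP : y ∈ pP x S := mem_pP.mpr ⟨hTS p.ay.mem, p.comm.symm⟩
  set a1 := r * y * r⁻¹ with ha1
  have ha1T : a1 ∉ cT u := fun hh => p.out (hline y p.ay.mem hyP hh)
  have ha1P : a1 ∈ pP x S := (Subgroup.mem_normalizer_iff.mp hrP y).mp hyP
  obtain ⟨ha1S, ha1x⟩ := mem_pP.mp ha1P
  refine ⟨ha1T, ?_⟩
  rcases (mem_U hsix).mp (p.ay.fixS a1 ha1S) with e | e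
  · exact Or.inl (mem_pA.mpr ⟨ha1S, ha1x, commutatorElement_eq_one_iff_mul_comm.mp e⟩)
  right
  set x' := c * x * c⁻¹ with hx'
  have hx'S : x' ∈ (S : Subgroup G) := hTS p.ax.cx_mem
  have hx'y : ⁅x', y⁆ = u := by
    rcases hs.commU p.ax.cx_mem p.ay.mem with e1 | e1
    · exact absurd (commutatorElement_eq_one_iff_mul_comm.mp e1).symm p.not_comm_cx
    · exact e1
  have huy : Commute a1 u := mem_cC.mp (p.ax.sylow ha1S)
  refine ⟨a1 * x', mem_pA.mpr ⟨mul_mem ha1S hx'S, ?_, ?_⟩, fun hh => ha1T ?_, ?_⟩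
  · exact ((show Commute a1 x from ha1x).mul_left (show Commute x' x from p.ax.x_comm_cx.symm)).eq
  · have e2 : ⁅a1 * x', y⁆ = a1 * ⁅x', y⁆ * a1⁻¹ * ⁅a1, y⁆ := by simp only [commutatorElement_def]; group
    rw [hx'y, e, huy.eq, mul_inv_cancel_right, hsix.uu] at e2
    exact commutatorElement_eq_one_iff_mul_comm.mp e2
  · have := mul_mem hh (inv_mem p.ax.cx_mem)
    rwa [mul_inv_cancel_right] at this
  · have ha11 : a1 * a1 = 1 := by
      rw [ha1, show r * y * r⁻¹ * (r * y * r⁻¹) = r * (y * y) * r⁻¹ by group, p.ay.xx]; group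
    set e' := r⁻¹ * x' * r with he'
    have he'E : e' ∈ eE u c x := by
      have := (Subgroup.mem_normalizer_iff.mp (inv_mem hrE) x').mp (Subgroup.subset_closure (by simp [hx']))
      simpa [he'] using this
    have he'V : e' ∉ pV u x := by
      intro hh
      apply p.ax.cx_not_V
      have hx'e : x' = r * e' * r⁻¹ := by rw [he']; group
      rw [hx'] at hx'e
      rcases p.ax.mem_V.mp hh with q | q | q | q <;> rw [q] at hx'e <;> rw [hx'e]
      · rw [mul_one, mul_inv_cancel]; exact one_mem _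
      · rw [hru]; exact Subgroup.subset_closure (by simp)
      · rw [hrx]; exact mul_mem (Subgroup.subset_closure (by simp)) (Subgroup.subset_closure (by simp))
      · rw [show r * (u * x) * r⁻¹ = (r * u * r⁻¹) * (r * x * r⁻¹) by group, hru, hrx]
        exact mul_mem (Subgroup.subset_closure (by simp))
          (mul_mem (Subgroup.subset_closure (by simp)) (Subgroup.subset_closure (by simp)))
    have hye : ⁅y, e'⁆ = u := by
      rcases hs.commU p.ay.mem (p.ax.E_le_cT he'E) with e1 | e1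
      · exfalso
        have hc1 : Commute y e' := commutatorElement_eq_one_iff_mul_comm.mp e1
        rcases p.ax.mem_E.mp he'E with q | q
        · exact he'V q
        · apply p.not_comm_cx
          have hcV : ∀ v ∈ pV u x, Commute y v := by
            intro v hv
            have h1 : Commute y u := p.ay.xu
            have h2 : Commute y x := p.comm.symm
            rcases p.ax.mem_V.mp hv with q' | q' | q' | q' <;> rw [q']
            exacts [Commute.one_right y, h1, h2, h1.mul_right h2]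
          have := hc1.inv_right.mul_right (hcV _ q)
          rw [inv_mul_cancel_left] at this
          exact this.eq
      · exact e1
    calc a1 * x' * (a1 * x') = a1 * x' * a1⁻¹ * x'⁻¹ := by
          rw [inv_eq_of_mul_eq_one_left ha11,
            (inv_eq_of_mul_eq_one_left p.ax.cx_two : x'⁻¹ = x')]
          group
      _ = r * ⁅y, e'⁆ * r⁻¹ := by rw [ha1, he', commutatorElement_def]; group
      _ = x := by rw [hye, hru]

end Two

end CfsgLib.OrderSix
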