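import Cfsg.Agent.Lib.OrderSix.LeafThreeC
import Mathlib.GroupTheory.Transfer

/-!
`O_2` of the centralizer of an involution has order less than `32`: the final contradiction.
-/

set_option autoImplicit false
set_option linter.unusedVariables false
set_option linter.unusedSectionVars false
set_option linter.style.haveILetI false

namespace CfsgLib.OrderSix

open CfsgLib.SelfCent CfsgLib.SCThree
open scoped commutatorElement

universe v

/-- An elementary group of order sixteen admits no transitive group with such a stabilizer. -/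
theorem no_transitive_sixteen {A : Type v} [Group A] [Finite A] (h2 : ∀ a : A, a * a = 1)
    (h16 : Nat.card A = 16) {L P : Subgroup (MulAut A)} (hPL : P ≤ L) (hP4 : Nat.card P = 4)
    (hPexp : ∀ v ∈ P, v * v = 1) {u : A} (hu : u ≠ 1)
    (horb : ∀ z : A, z ≠ 1 → ∃ l ∈ L, l u = z)
    (hstab : ∀ l : MulAut A, l ∈ L ∧ l u = u ↔ l ∈ P)
    (hfix : ∀ z : A, (∀ v ∈ P, v z = z) → z = 1 ∨ z = u) : False := by
  classical
  haveI := Fact.mk Nat.prime_two
  haveI : Fact (Nat.Prime 3) := ⟨Nat.prime_three⟩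
  set PL := P.subgroupOf L with hPLdef
  have hmem : ∀ l : ↥L, l ∈ PL ↔ (l : MulAut A) u = u := fun l => by
    rw [hPLdef, Subgroup.mem_subgroupOf, ← hstab]
    exact ⟨fun h => h.2, fun h => ⟨l.2, h⟩⟩
  have hPL4 : Nat.card PL = 4 := by
    rw [← hP4]
    exact Nat.card_congr (Subgroup.subgroupOfEquivOfLe hPL).toEquiv
  -- the orbit
  have hidx : PL.index = 15 := by
    have hne : ∀ l : ↥L, (l : MulAut A) u ≠ 1 := fun l e => hu (by simpa using e)
    let f : ↥L ⧸ PL → {z : A // z ≠ 1} := fun q => Quotient.liftOn' q (fun l => ⟨(l : MulAut A) u, hne l⟩)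
      (fun a b hab => Subtype.ext (by
        have := (hmem _).mp (QuotientGroup.leftRel_apply.mp hab)
        simp only [Subgroup.coe_mul, Subgroup.coe_inv, MulAut.mul_apply] at this
        show (a : MulAut A) u = (b : MulAut A) u
        conv_lhs => rw [← this]
        simp))
    have hf : Function.Bijective f := by
      constructor
      · intro p q
        induction p using Quotient.inductionOn' with
        | h a =>
          induction q using Quotient.inductionOn' with
          | h b =>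
            intro e
            refine Quotient.sound' (QuotientGroup.leftRel_apply.mpr ((hmem _).mpr ?_))
            have e' : (a : MulAut A) u = (b : MulAut A) u := congrArg Subtype.val e
            simp [← e']
      · rintro ⟨z, hz⟩
        obtain ⟨l, hl, e⟩ := horb z hz
        exact ⟨QuotientGroup.mk ⟨l, hl⟩, Subtype.ext e⟩
    rw [Subgroup.index, Nat.card_congr (Equiv.ofBijective f hf)]
    haveI := Fintype.ofFinite A
    rw [Nat.card_eq_fintype_card, Fintype.card_subtype_compl, Fintype.card_subtype_eq,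
      ← Nat.card_eq_fintype_card, h16]
  have hcomm : ∀ a ∈ P, ∀ b ∈ P, a * b = b * a := by
    intro a ha b hb
    have hab := hPexp _ (mul_mem ha hb)
    calc a * b = (a * b)⁻¹ := (inv_eq_of_mul_eq_one_left hab).symm
      _ = b * a := by
        rw [mul_inv_rev, inv_eq_of_mul_eq_one_left (hPexp a ha), inv_eq_of_mul_eq_one_left (hPexp b hb)]
  -- Burnside
  set PS : Sylow 2 ↥L := (IsPGroup.of_card (p := 2) (n := 2) hPL4).toSylow (by rw [hidx]; norm_num) with hPS
  have hPSc : (PS : Subgroup ↥L) = PL := rfl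
  have hN : Subgroup.normalizer ((PS : Subgroup ↥L) : Set ↥L) ≤
      Subgroup.centralizer ((PS : Subgroup ↥L) : Set ↥L) := by
    intro n hn
    rw [hPSc] at hn ⊢
    have hz : ∀ w ∈ P, w ((n : MulAut A) u) = (n : MulAut A) u := by
      intro w hw
      have h1 : n⁻¹ * ⟨w, hPL hw⟩ * n ∈ PL := by
        have h0 : (⟨w, hPL hw⟩ : ↥L) ∈ PL := Subgroup.mem_subgroupOf.mpr hw
        simpa using (Subgroup.mem_normalizer_iff.mp (inv_mem hn) _).mp h0
      have h2' := (hmem _).mp h1
      simp only [Subgroup.coe_mul, Subgroup.coe_inv, MulAut.mul_apply] at h2'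
      conv_rhs => rw [← h2']
      simp
    have hnu : (n : MulAut A) u = u := by
      rcases hfix _ hz with e | e
      · exact absurd (by simpa using e) hu
      · exact e
    have hnP := (hstab (n : MulAut A)).mp ⟨n.2, hnu⟩
    rw [Subgroup.mem_centralizer_iff]
    intro p hp
    exact Subtype.ext (hcomm _ (Subgroup.mem_subgroupOf.mp hp) _ hnP)
  set R := (MonoidHom.transferSylow PS hN).ker with hR
  have hc := MonoidHom.ker_transferSylow_isComplement' PS hN
  have hR15 : Nat.card R = 15 := by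
    have h1 : Nat.card R * Nat.card (PS : Subgroup ↥L) = Nat.card ↥L := hc.card_mul_card
    rw [hPSc, hPL4] at h1
    have h3 := PL.card_mul_index
    rw [hPL4, hidx] at h3
    omega
  have hreg : ∀ a ∈ R, ∀ b ∈ R, (a : MulAut A) u = (b : MulAut A) u → a = b := by
    intro a ha b hb e
    have h1 : a⁻¹ * b ∈ PL := (hmem _).mpr (by simp [← e])
    have h2' := hc.disjoint.le_bot (Subgroup.mem_inf.mpr ⟨mul_mem (inv_mem ha) hb, hPSc ▸ h1⟩)
    exact inv_mul_eq_one.mp (Subgroup.mem_bot.mp h2')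
  have hsurj : ∀ z : A, z ≠ 1 → ∃ ρ ∈ R, (ρ : MulAut A) u = z := by
    intro z hz
    let f : ↥R → {z : A // z ≠ 1} := fun ρ => ⟨((ρ : ↥L) : MulAut A) u, fun e => hu (by simpa using e)⟩
    have hf : Function.Injective f := fun a b e => Subtype.ext (hreg _ a.2 _ b.2 (congrArg Subtype.val e))
    haveI := Fintype.ofFinite A
    have hbij : Function.Bijective f := by
      refine (Nat.bijective_iff_injective_and_card f).mpr ⟨hf, ?_⟩
      rw [hR15, Nat.card_eq_fintype_card (α := {z : A // z ≠ 1}), Fintype.card_subtype_compl, Fintype.card_subtype_eq,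
        ← Nat.card_eq_fintype_card, h16]
    obtain ⟨ρ, hρ⟩ := hbij.2 ⟨z, hz⟩
    exact ⟨ρ, ρ.2, congrArg Subtype.val hρ⟩
  -- the centralizer of an involution of the stabilizer
  have hcentR : ∀ v ∈ PL, v ≠ 1 → Nat.card ↥(R ⊓ Subgroup.centralizer ({v} : Set ↥L)) = 3 := by
    intro v hv hv1
    have hcA : ∀ a b : A, a * b = b * a := fun a b => by
      calc a * b = (a * b)⁻¹ := (inv_eq_of_mul_eq_one_left (h2 (a * b))).symm
        _ = b * a := by rw [mul_inv_rev, inv_eq_of_mul_eq_one_left (h2 a), inv_eq_of_mul_eq_one_left (h2 b)]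
    let φ : A →* A := MonoidHom.mk' (fun a => (v : MulAut A) a * a) (fun a b => by
      rw [map_mul]
      exact Commute.mul_mul_mul_comm (hcA ((v : MulAut A) b) a) ((v : MulAut A) a) b)
    have hker : ∀ a, a ∈ φ.ker ↔ (v : MulAut A) a = a := fun a => by
      rw [MonoidHom.mem_ker]
      show (v : MulAut A) a * a = 1 ↔ _
      rw [mul_eq_one_iff_eq_inv, inv_eq_of_mul_eq_one_left (h2 a)]
    have hvv : ∀ a, (v : MulAut A) ((v : MulAut A) a) = a := fun a => by
      rw [← MulAut.mul_apply, hPexp _ (Subgroup.mem_subgroupOf.mp hv), MulAut.one_apply]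
    have hrk : φ.range ≤ φ.ker := by
      rintro _ ⟨a, rfl⟩
      rw [hker]
      show (v : MulAut A) ((v : MulAut A) a * a) = (v : MulAut A) a * a
      rw [map_mul, hvv, hcA]
    have hF : 4 ≤ Nat.card φ.ker := by
      have h1 := φ.ker.card_mul_index
      rw [Subgroup.index_ker, h16] at h1
      have h3 := Subgroup.card_le_of_le hrk
      nlinarith
    have hne16 : Nat.card φ.ker ≠ 16 := fun e => hv1 (by
      have htop : φ.ker = ⊤ := Subgroup.eq_top_of_card_eq _ (by rw [e, h16])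
      refine Subtype.ext (MulEquiv.ext fun a => ?_)
      show (v : MulAut A) a = a
      exact (hker a).mp (htop ▸ Subgroup.mem_top a))
    set C := R ⊓ Subgroup.centralizer ({v} : Set ↥L) with hC
    let g : Option ↥C → ↥φ.ker := fun o => match o with
      | none => 1
      | some ρ => ⟨((ρ : ↥L) : MulAut A) u, (hker _).mpr (by
          have e := Subgroup.mem_centralizer_singleton_iff.mp (Subgroup.mem_inf.mp ρ.2).2
          have e' : (v : MulAut A) * ((ρ : ↥L) : MulAut A) = ((ρ : ↥L) : MulAut A) * (v : MulAut A) :=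
            (congrArg Subtype.val e).symm
          rw [← MulAut.mul_apply, e', MulAut.mul_apply, (hmem v).mp hv])⟩
    have hg : Function.Bijective g := by
      constructor
      · rintro (_ | a) (_ | b) e
        · rfl
        · exact absurd (congrArg Subtype.val e).symm (fun e' => hu (by simpa [g] using e'))
        · exact absurd (congrArg Subtype.val e) (fun e' => hu (by simpa [g] using e'))
        · exact congrArg some (Subtype.ext (hreg _ (Subgroup.mem_inf.mp a.2).1 _ (Subgroup.mem_inf.mp b.2).1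
            (congrArg Subtype.val e)))
      · rintro ⟨z, hz⟩
        by_cases hz1 : z = 1
        · exact ⟨none, Subtype.ext hz1.symm⟩
        obtain ⟨ρ, hρ, e⟩ := hsurj z hz1
        have h1 : v * ρ * v⁻¹ ∈ R := (MonoidHom.normal_ker _).conj_mem ρ hρ v
        have hvi : ((v⁻¹ : ↥L) : MulAut A) u = u := (hmem _).mp (inv_mem hv)
        have h2' : ((v * ρ * v⁻¹ : ↥L) : MulAut A) u = (ρ : MulAut A) u := by
          simp only [Subgroup.coe_mul, MulAut.mul_apply]
          rw [hvi, e, (hker z).mp hz]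
        refine ⟨some ⟨ρ, Subgroup.mem_inf.mpr ⟨hρ, Subgroup.mem_centralizer_singleton_iff.mpr ?_⟩⟩, Subtype.ext e⟩
        exact (mul_inv_eq_iff_eq_mul.mp (hreg _ h1 _ hρ h2')).symm
    have hcard : Nat.card C + 1 = Nat.card φ.ker := by
      rw [← Nat.card_congr (Equiv.ofBijective g hg), Finite.card_option]
    have hdA : Nat.card φ.ker ∣ 16 := h16 ▸ Subgroup.card_subgroup_dvd_card _
    have hdR : Nat.card C ∣ 15 := hR15 ▸ Subgroup.card_dvd_of_le inf_le_left
    have hle := Nat.le_of_dvd (by norm_num) hdA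
    generalize Nat.card φ.ker = k at *
    generalize Nat.card C = n at *
    interval_cases k <;> first | omega | (obtain rfl : n = 7 := (by omega); norm_num at hdR)
  -- all these centralizers coincide
  obtain ⟨Q⟩ : Nonempty (Sylow 3 ↥R) := inferInstance
  have huniq : ∀ C : Subgroup ↥L, C ≤ R → Nat.card C = 3 → C = (Q : Subgroup ↥R).map R.subtype := by
    intro C hC h3
    have h3' : Nat.card (C.subgroupOf R) = 3 := by
      rw [Nat.card_congr (Subgroup.subgroupOfEquivOfLe hC).toEquiv, h3]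
    have hi : (C.subgroupOf R).index = 5 := by
      have := (C.subgroupOf R).card_mul_index
      rw [h3', hR15] at this
      omega
    set QC : Sylow 3 ↥R :=
      (IsPGroup.of_card (p := 3) (n := 1) (by rw [h3', pow_one])).toSylow (by rw [hi]; norm_num)
    have hone : Nat.card (Sylow 3 ↥R) = 1 := by
      have hd : Nat.card (Sylow 3 ↥R) ∣ 5 := hi ▸ QC.card_dvd_index
      have hm := card_sylow_modEq_one 3 ↥R
      rcases (Nat.dvd_prime (by norm_num)).mp hd with e | e
      · exact e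
      · rw [e] at hm; exact absurd hm (by decide)
    haveI : Subsingleton (Sylow 3 ↥R) := (Nat.card_eq_one_iff_unique.mp hone).1
    have e : (QC : Subgroup ↥R) = (Q : Subgroup ↥R) := by rw [Subsingleton.elim QC Q]
    rw [← e]
    exact (Subgroup.map_subgroupOf_eq_of_le hC).symm
  set C0 := (Q : Subgroup ↥R).map R.subtype with hC0
  haveI : Nontrivial PL := Finite.one_lt_card_iff_nontrivial.mp (by omega)
  obtain ⟨⟨v0, hv0⟩, hv01⟩ := exists_ne (1 : PL)
  have hv0' : v0 ≠ 1 := fun e => hv01 (Subtype.ext e)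
  have hC03 : Nat.card C0 = 3 := by
    rw [← huniq _ inf_le_left (hcentR v0 hv0 hv0'), hcentR v0 hv0 hv0']
  haveI : Nontrivial C0 := Finite.one_lt_card_iff_nontrivial.mp (by omega)
  obtain ⟨⟨ρ, hρ⟩, hρ1⟩ := exists_ne (1 : C0)
  have hρR : ρ ∈ R := by
    obtain ⟨q, -, rfl⟩ := hρ
    exact q.2
  have hfixz : ∀ w ∈ P, w ((ρ : MulAut A) u) = (ρ : MulAut A) u := by
    intro w hw
    by_cases hw1 : w = 1
    · rw [hw1]; rfl
    set v : ↥L := ⟨w, hPL hw⟩
    have hv : v ∈ PL := Subgroup.mem_subgroupOf.mpr hw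
    have hv1 : v ≠ 1 := fun e => hw1 (congrArg Subtype.val e)
    have hρv := hρ
    rw [← huniq _ inf_le_left (hcentR v hv hv1)] at hρv
    have e := Subgroup.mem_centralizer_singleton_iff.mp (Subgroup.mem_inf.mp hρv).2
    have e' : w * (ρ : MulAut A) = (ρ : MulAut A) * w := (congrArg Subtype.val e).symm
    rw [← MulAut.mul_apply, e', MulAut.mul_apply, ((hstab w).mpr hw).2]
  rcases hfix _ hfixz with e | e
  · exact hu (by simpa using e)
  · exact hρ1 (Subtype.ext (hreg ρ hρR 1 (one_mem R) (by simpa using e)))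

variable {G : Type v} [Group G] [Finite G] {u c : G} {S : Sylow 2 G}

namespace Small

variable (hs : Small u c)
include hs

/-- `O_{3'}` is trivial on `O_2` modulo the involution. -/
theorem X_fix {w t : G} (hw : w ∈ cX u) (ht : t ∈ cT u) : w * t * w⁻¹ * t⁻¹ ∈ Subgroup.zpowers u := by
  obtain ⟨τ, hτ, o, ho, rfl, hco⟩ := cX_split hs.good.six hw
  have e : τ * o * t * (τ * o)⁻¹ * t⁻¹ = ⁅τ, t⁆ := by
    rw [mul_assoc τ o t, hco t ht, commutatorElement_def]; group
  rw [e]
  exact hs.ab ▸ Subgroup.commutator_mem_commutator hτ ht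

theorem exists_out (S : Sylow 2 G) (hS : (S : Subgroup G) ≤ cC u) :
    ∃ g ∈ (S : Subgroup G), g ∉ cT u ∧ Refl u c g := by
  obtain ⟨g, hg, hgT⟩ : ∃ g ∈ (S : Subgroup G), g ∉ cT u := by
    by_contra hc
    push Not at hc
    rcases sylow_index hs.good.six hs.good.low S hS with ⟨e, -⟩ | ⟨-, e⟩
    · have := hs.six; omega
    · rw [Subgroup.relIndex_eq_one.mpr hc] at e; omega
  exact ⟨g, hg, hgT, (two_group_refl hs.good.six hs.good.low S.isPGroup' hS hg hgT).2⟩

/-- A reflection exchanges the conjugates of an element which it fixes. -/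
theorem refl_conj {g t : G} (hg : Refl u c g) (ht : t ∈ cT u) (hgt : ⁅g, t⁆ ∈ Subgroup.zpowers u) :
    g * (c * t * c⁻¹) * g⁻¹ * (c⁻¹ * t * c)⁻¹ ∈ Subgroup.zpowers u := by
  have hsix := hs.good.six
  set t' := c⁻¹ * t * c with ht'
  have ht'T : t' ∈ cT u := by
    simpa using (Subgroup.mem_normalizer_iff.mp (cT_normalized u (inv_mem hsix.c_mem)) t).mp ht
  set w := g * c * g⁻¹ * c with hw
  set z := ⁅g, t⁆ with hz
  have hzc : ∀ y ∈ cC u, Commute y z := fun y hy => by
    rcases (mem_U hsix).mp hgt with e | e <;> rw [e]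
    · exact Commute.one_right y
    · exact mem_cC.mp hy
  have hwC : w ∈ cC u := mul_mem (mul_mem (mul_mem hg.1 hsix.c_mem) (inv_mem hg.1)) hsix.c_mem
  have e2 : c⁻¹ * z * c = z := by
    rw [mul_assoc, ← (hzc c hsix.c_mem).eq, inv_mul_cancel_left]
  have e : g * (c * t * c⁻¹) * g⁻¹ * t'⁻¹ = z * (w * t' * w⁻¹ * t'⁻¹) := by
    calc g * (c * t * c⁻¹) * g⁻¹ * t'⁻¹
        = w * ((c⁻¹ * z * c) * t') * w⁻¹ * t'⁻¹ := by
          rw [hw, hz, ht', commutatorElement_def]; group
      _ = w * z * t' * w⁻¹ * t'⁻¹ := by rw [e2]; group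
      _ = _ := by rw [(hzc w hwC).eq]; group
  rw [e]
  exact mul_mem hgt (hs.X_fix hg.2.2.2 ht'T)

/-- The fixed elements of `E`. -/
theorem fix_E {x z : G} (hx : Adm u c x S) (hz : z ∈ eE u c x)
    (hfix : ∀ s ∈ (S : Subgroup G), ⁅s, z⁆ ∈ Subgroup.zpowers u) : z ∈ pV u x := by
  rcases hx.mem_E.mp hz with h | h
  · exact h
  exfalso
  have hsix := hs.good.six
  obtain ⟨g, hgS, -, hg⟩ := hs.exists_out S hx.sylow
  set x' := c * x * c⁻¹ with hx'
  have hgC := hx.sylow hgS
  have hVfix : ∀ v ∈ pV u x, ⁅g, v⁆ ∈ Subgroup.zpowers u := by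
    intro v hv
    rcases hx.mem_V.mp hv with e | e | e | e <;> rw [e]
    · rw [commutatorElement_one_right]; exact one_mem _
    · rw [commutatorElement_eq_one_iff_mul_comm.mpr (mem_cC.mp hgC)]; exact one_mem _
    · exact hx.fixS g hgS
    · rw [show ⁅g, u * x⁆ = ⁅g, u⁆ * (u * ⁅g, x⁆ * u⁻¹) by simp only [commutatorElement_def]; group,
        commutatorElement_eq_one_iff_mul_comm.mpr (mem_cC.mp hgC), one_mul]
      exact (Subgroup.mem_normalizer_iff.mp (U_normalized u hsix.u_mem) _).mp (hx.fixS g hgS)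
  have hgx' : ⁅g, x'⁆ ∈ Subgroup.zpowers u := by
    have e : ⁅g, z * x'⁆ = ⁅g, z⁆ * (z * ⁅g, x'⁆ * z⁻¹) := by simp only [commutatorElement_def]; group
    have h1 : ⁅g, z * x'⁆ ∈ Subgroup.zpowers u := hVfix _ h
    rw [e] at h1
    have h2 := (Subgroup.mul_mem_cancel_left _ (hfix g hgS)).mp h1
    exact (Subgroup.mem_normalizer_iff.mp (U_normalized u (cT_le_cC u (hx.E_le_cT hz))) _).mpr h2
  -- hence the two conjugates agree
  have h1 := hs.refl_conj hg hx.mem (hx.fixS g hgS)
  have h2 : x' * (c⁻¹ * x * c)⁻¹ ∈ Subgroup.zpowers u := by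
    have := mul_mem (inv_mem hgx') h1
    refine (congrArg (· ∈ Subgroup.zpowers u) ?_).mp this
    rw [commutatorElement_def, hx']; group
  have h3 := (Subgroup.mem_normalizer_iff.mp (U_normalized u hsix.c_mem) _).mp h2
  set x'' := c * x' * c⁻¹ with hx''
  have h4 : x'' * x⁻¹ ∈ Subgroup.zpowers u := by
    refine (congrArg (· ∈ Subgroup.zpowers u) ?_).mp h3
    rw [hx'', hx']; group
  have h5 : x * x' * x'' ∈ Subgroup.zpowers u := hsix.ident_U hx.mem
  have hxu : ∀ y ∈ Subgroup.zpowers u, x * y * x⁻¹ ∈ Subgroup.zpowers u := fun y hy =>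
    (Subgroup.mem_normalizer_iff.mp (U_normalized u (cT_le_cC u hx.mem)) y).mp hy
  refine hx.cx_not_V ?_
  have hUV : Subgroup.zpowers u ≤ pV u x := Subgroup.zpowers_le.mpr (Subgroup.subset_closure (by simp))
  refine hUV ?_
  rw [← hx']
  have := mul_mem (hxu _ h5) (inv_mem h4)
  refine (congrArg (· ∈ Subgroup.zpowers u) ?_).mp this
  calc x * (x * x' * x'') * x⁻¹ * (x'' * x⁻¹)⁻¹ = (x * x) * x' := by group
    _ = x' := by rw [hx.xx, one_mul]

/-- Admissible involutions commute. -/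
theorem adm_comm {x y : G} (hx : Adm u c x S) (hy : Adm u c y S) : x * y = y * x := by
  have hsix := hs.good.six
  obtain ⟨g, hgS, -, hg⟩ := hs.exists_out S hx.sylow
  have hgC := hx.sylow hgS
  set y' := c * y * c⁻¹ with hy'
  set y₂ := c⁻¹ * y * c with hy₂
  have hy'T : y' ∈ cT u := (Subgroup.mem_normalizer_iff.mp (cT_normalized u hsix.c_mem) y).mp hy.mem
  have hy₂T : y₂ ∈ cT u := by
    simpa using (Subgroup.mem_normalizer_iff.mp (cT_normalized u (inv_mem hsix.c_mem)) y).mp hy.mem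
  have hUT := U_le_cT hsix
  have hU1 : ∀ a ∈ cT u, ∀ z ∈ Subgroup.zpowers u, ⁅a, z⁆ = 1 ∧ ⁅z, a⁆ = 1 := fun a ha z hz => by
    rcases (mem_U hsix).mp hz with e | e <;> rw [e]
    · exact ⟨commutatorElement_one_right a, commutatorElement_one_left a⟩
    · exact ⟨commutatorElement_eq_one_iff_mul_comm.mpr (mem_cC.mp (cT_le_cC u ha)),
        commutatorElement_eq_one_iff_mul_comm.mpr (mem_cC.mp (cT_le_cC u ha)).symm⟩
  set z := g * x * g⁻¹ * x⁻¹ with hz
  set z' := g * y' * g⁻¹ * y₂⁻¹ with hz'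
  have hzU : z ∈ Subgroup.zpowers u := hx.fixS g hgS
  have hz'U : z' ∈ Subgroup.zpowers u := hs.refl_conj hg hy.mem (hy.fixS g hgS)
  have heq : ⁅x, y'⁆ = ⁅x, y₂⁆ := by
    have e1 : g * ⁅x, y'⁆ * g⁻¹ = ⁅z * x, z' * y₂⁆ := by
      simp only [hz, hz', commutatorElement_def]; group
    rw [hs.comm_mul_right (mul_mem (hUT hzU) hx.mem) (hUT hz'U) hy₂T,
      (hU1 _ (mul_mem (hUT hzU) hx.mem) z' hz'U).1, one_mul, hs.comm_mul_left (hUT hzU) hx.mem hy₂T,
      (hU1 _ hy₂T z hzU).2, one_mul, (hs.centralU hx.mem hy'T hgC).eq, mul_inv_cancel_right] at e1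
    exact e1
  have hid := hsix.ident_U hy.mem
  rw [← hy'] at hid
  set y'' := c * y' * c⁻¹ with hy''
  have hy''e : y'' = y₂ := by
    have hci : c⁻¹ = c * c := inv_eq_of_mul_eq_one_left (by rw [← hsix.ccc, pow_succ, pow_two])
    calc y'' = (c * c) * y * (c * c)⁻¹ := by rw [hy'', hy']; group
      _ = c⁻¹ * y * c⁻¹⁻¹ := by rw [← hci]
      _ = y₂ := by rw [inv_inv]
  rw [hy''e] at hid
  have h1 : ⁅x, y * y' * y₂⁆ = 1 := (hU1 x hx.mem _ hid).1
  rw [hs.comm_mul_right hx.mem (mul_mem hy.mem hy'T) hy₂T, hs.comm_mul_right hx.mem hy.mem hy'T, ← heq,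
    mul_assoc] at h1
  have h2 : ⁅x, y'⁆ * ⁅x, y'⁆ = 1 := by
    rcases hs.commU hx.mem hy'T with e | e <;> rw [e]
    · exact one_mul 1
    · exact hsix.uu
  rw [h2, mul_one] at h1
  exact commutatorElement_eq_one_iff_mul_comm.mp h1

end Small

namespace Two

variable {x y : G} (p : Two u c x y S)
include p

theorem not_mem_V : y ∉ pV u x := fun h => p.out (p.ax.mem_E.mpr (Or.inl h))

theorem prod_adm : Adm u c (x * y) S := by
  have hsix := p.small.good.six
  refine ⟨p.small.good, p.ax.sylow, mul_mem p.ax.mem p.ay.mem, ?_, fun e => p.not_mem_V ?_, fun s hs => ?_⟩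
  · rw [orderOf_two_iff]
    refine ⟨?_, fun e => p.not_mem_V ?_⟩
    · rw [(show Commute y x from p.comm.symm).mul_mul_mul_comm, p.ax.xx, p.ay.xx, one_mul]
    · rw [eq_inv_of_mul_eq_one_right e]
      exact inv_mem (Subgroup.subset_closure (by simp))
  · rw [eq_inv_mul_of_mul_eq e]
    exact mul_mem (inv_mem (Subgroup.subset_closure (by simp))) (Subgroup.subset_closure (by simp))
  · have e : ⁅s, x * y⁆ = ⁅s, x⁆ * (x * ⁅s, y⁆ * x⁻¹) := by simp only [commutatorElement_def]; group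
    rw [e]
    exact mul_mem (p.ax.fixS s hs)
      ((Subgroup.mem_normalizer_iff.mp (U_normalized u (cT_le_cC u p.ax.mem)) _).mp (p.ay.fixS s hs))

theorem flip : Two u c y x S := by
  refine ⟨p.small, p.ay, p.ax, fun h => ?_, p.comm.symm⟩
  rcases p.ay.mem_V.mp (p.small.fix_E p.ay h p.ax.fixS) with e | e | e | e
  · exact p.ax.x_ne_one e
  · exact p.ax.ne e
  · exact p.not_mem_V (e ▸ Subgroup.subset_closure (by simp))
  · refine p.not_mem_V ?_
    rw [show y = u⁻¹ * x by rw [e]; group]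
    exact mul_mem (inv_mem (Subgroup.subset_closure (by simp))) (Subgroup.subset_closure (by simp))

theorem prod : Two u c (x * y) x S := by
  refine ⟨p.small, p.prod_adm, p.ax, fun h => ?_, by rw [mul_assoc, ← p.comm]⟩
  rcases p.prod_adm.mem_V.mp (p.small.fix_E p.prod_adm h p.ax.fixS) with e | e | e | e
  · exact p.ax.x_ne_one e
  · exact p.ax.ne e
  · exact p.ay.x_ne_one (mul_eq_left.mp e.symm)
  · refine p.ay.ne ?_
    have e' : x * 1 = x * (u * y) := by
      rw [mul_one, ← mul_assoc, p.ax.xu, mul_assoc, ← e]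
    rw [eq_inv_of_mul_eq_one_right (mul_left_cancel e').symm, p.small.good.six.u_inv]

theorem pA_prod : pA (x * y) x S = pA x y S := by
  ext z
  rw [mem_pA, mem_pA]
  constructor
  · rintro ⟨hS, h1, h2⟩
    refine ⟨hS, h2, ?_⟩
    have := (show Commute z x from h2).inv_right.mul_right (show Commute z (x * y) from h1)
    rwa [inv_mul_cancel_left] at this
  · rintro ⟨hS, h1, h2⟩
    exact ⟨hS, ((show Commute z x from h1).mul_right h2).eq, h1⟩

/-- The square of the elements outside `O_2`. -/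
theorem outside_sq {a : G} (ha : a ∈ pA x y S) (haT : a ∉ cT u) : a * a = 1 := by
  have key : ∀ {x y : G}, Two u c x y S → (∃ b ∈ pA x y S, b ∉ cT u ∧ b * b = 1) ∨
      ∃ b ∈ pA x y S, b ∉ cT u ∧ b * b = x := by
    intro x y p
    obtain ⟨r, hru, hrx, hrP, hrE, -, hline, -⟩ := p.small.trio_data p.ax
    obtain ⟨hT, h⟩ := p.alt hru hrP hrE hline hrx
    rcases h with h | h
    · refine Or.inl ⟨_, h, hT, ?_⟩
      rw [show r * y * r⁻¹ * (r * y * r⁻¹) = r * (y * y) * r⁻¹ by group, p.ay.xx]; group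
    · exact Or.inr h
  rcases key p with ⟨b, hb, hbT, e⟩ | ⟨b, hb, hbT, e⟩
  · rw [← p.A_sq ha haT hb hbT, e]
  · rcases key p.flip with ⟨d, hd, hdT, e'⟩ | ⟨d, hd, hdT, e'⟩ <;>
      rw [pA, inf_comm] at hd
    · rw [← p.A_sq ha haT hd hdT, e']
    · exfalso
      have := p.A_sq hb hbT hd hdT
      rw [e, e'] at this
      exact p.not_mem_V (this ▸ Subgroup.subset_closure (by simp))

theorem first_alt {r : G} (hru : r * u * r⁻¹ = x) (hrP : r ∈ Subgroup.normalizer (pP x S : Set G))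
    (hrE : r ∈ Subgroup.normalizer (eE u c x : Set G))
    (hline : ∀ z ∈ cT u, z ∈ pP x S → r * z * r⁻¹ ∈ cT u → z ∈ eE u c x)
    (hrx : r * x * r⁻¹ = x * u) : r * y * r⁻¹ ∈ pA x y S ∧ r * y * r⁻¹ ∉ cT u := by
  obtain ⟨hT, h | ⟨a, ha, haT, e⟩⟩ := p.alt hru hrP hrE hline hrx
  · exact ⟨h, hT⟩
  · exact absurd (e.symm.trans (p.outside_sq ha haT)) p.ax.x_ne_one

/-- The group of order sixteen is elementary abelian. -/
theorem A_elementary {a b : G} (ha : a ∈ pA x y S) (hb : b ∈ pA x y S) : a * b = b * a ∧ a * a = 1 := by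
  refine ⟨?_, ?_⟩
  · by_cases hbT : b ∈ cT u
    · exact ((p.B_elementary (Subgroup.mem_inf.mpr ⟨hbT, hb⟩)).1 a ha).eq
    by_cases haT : a ∈ cT u
    · exact ((p.B_elementary (Subgroup.mem_inf.mpr ⟨haT, ha⟩)).1 b hb).eq.symm
    have e : b = a * (a⁻¹ * b) := by group
    rw [e]
    exact ((Commute.refl a).mul_right ((p.B_elementary (p.A_split ha haT hb hbT)).1 a ha)).eq
  · by_cases haT : a ∈ cT u
    · exact (p.B_elementary (Subgroup.mem_inf.mpr ⟨haT, ha⟩)).2
    · exact p.outside_sq ha haT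

/-- A rotation of one of the pairs normalises the group of order sixteen. -/
theorem exists_rot : ∃ r : G, r * u * r⁻¹ = x ∧ r * x * r⁻¹ = x * u ∧
    r ∈ Subgroup.normalizer (pA x y S : Set G) ∧ r * y * r⁻¹ ∈ pA x y S ∧ r * y * r⁻¹ ∉ cT u ∧
    (∃ k : ℕ, orderOf r ∣ 3 ^ k) ∧
      Nat.card ↥(pA x y S ⊓ Subgroup.centralizer ({r} : Set G)) ≤ 2 := by
  obtain ⟨r, hru, hrx, hrP, hrE, -, hline, hk, hfix⟩ := p.small.trio_data p.ax
  obtain ⟨h, hT⟩ := p.first_alt hru hrP hrE hline hrx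
  refine ⟨r, hru, hrx, normalizer_of_cj ?_, h, hT, hk, hfix _ (S.isPGroup'.to_le (inf_le_left.trans inf_le_left))⟩
  refine (Subgroup.eq_of_le_of_card_ge ?_ (le_of_eq ?_)).symm
  · intro a ha
    rw [mem_cj]
    have haP : a ∈ pP x S := (Subgroup.mem_inf.mp ha).1
    have haP' : r⁻¹ * a * r ∈ pP x S := by
      simpa using (Subgroup.mem_normalizer_iff.mp (inv_mem hrP) a).mp haP
    obtain ⟨hS', hx'⟩ := mem_pP.mp haP'
    refine mem_pA.mpr ⟨hS', hx', ?_⟩
    calc r⁻¹ * a * r * y = r⁻¹ * (a * (r * y * r⁻¹)) * r := by group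
      _ = r⁻¹ * ((r * y * r⁻¹) * a) * r := by rw [(p.A_elementary ha h).1]
      _ = _ := by group
  · rw [card_cj]

theorem sylow_normalizes : (S : Subgroup G) ≤ Subgroup.normalizer (pA x y S : Set G) := by
  intro s hs
  rw [Subgroup.mem_normalizer_iff]
  have key : ∀ s ∈ (S : Subgroup G), ∀ a ∈ pA x y S, s * a * s⁻¹ ∈ pA x y S := by
    intro s hs a ha
    obtain ⟨haS, hax, hay⟩ := mem_pA.mp ha
    have conjc : ∀ w, (∀ s ∈ (S : Subgroup G), ⁅s, w⁆ ∈ Subgroup.zpowers u) → a * w = w * a →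
        s * a * s⁻¹ * w = w * (s * a * s⁻¹) := by
      intro w hfix haw
      have hc : Commute a (s⁻¹ * w * s) := by
        have e : s⁻¹ * w * s = ⁅s⁻¹, w⁆ * w := by rw [commutatorElement_def]; group
        rw [e]
        refine Commute.mul_right ?_ haw
        rcases (mem_U p.small.good.six).mp (hfix _ (inv_mem hs)) with e1 | e1 <;> rw [e1]
        · exact Commute.one_right a
        · exact mem_cC.mp (p.ax.sylow haS)
      calc s * a * s⁻¹ * w = s * (a * (s⁻¹ * w * s)) * s⁻¹ := by group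
        _ = s * ((s⁻¹ * w * s) * a) * s⁻¹ := by rw [hc.eq]
        _ = _ := by group
    exact mem_pA.mpr ⟨mul_mem (mul_mem hs haS) (inv_mem hs), conjc x p.ax.fixS hax, conjc y p.ay.fixS hay⟩
  intro a
  refine ⟨key s hs a, fun h => ?_⟩
  have := key _ (inv_mem hs) _ h
  simpa [mul_assoc] using this

theorem cent_outside {a : G} (ha : a ∈ pA x y S) (haT : a ∉ cT u) {s : G} (hs : s ∈ (S : Subgroup G))
    (hsa : s * a = a * s) : s ∈ pA x y S := by
  have hsm := p.small
  have hsix := hsm.good.six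
  have haS := (mem_pA.mp ha).1
  have haR := (two_group_refl hsix hsm.good.low S.isPGroup' p.ax.sylow haS haT).2
  set C := cT u ⊓ Subgroup.centralizer ({a} : Set G) with hC
  have hle : cT u ⊓ pA x y S ≤ C := fun z hz => Subgroup.mem_inf.mpr ⟨(Subgroup.mem_inf.mp hz).1,
    Subgroup.mem_centralizer_singleton_iff.mpr (p.A_elementary (Subgroup.mem_inf.mp hz).2 ha).1⟩
  have hC8 : Nat.card C ≤ 8 := by
    have h1 := hsm.good.refl_bound haR (inf_le_left : C ≤ cT u) fun b hb => by
      rw [← Subgroup.mem_centralizer_singleton_iff.mp (Subgroup.mem_inf.mp hb).2, mul_inv_cancel_right,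
        mul_inv_cancel]
      exact one_mem _
    have h2 : Nat.card C * C.relIndex (cT u) = Nat.card (cT u) := card_relIndex inf_le_left
    rw [hsm.card] at h2
    by_contra hh
    push Not at hh
    nlinarith
  have e : cT u ⊓ pA x y S = C := Subgroup.eq_of_le_of_card_ge hle (by rw [p.B_card]; exact hC8)
  have key : ∀ t ∈ cT u, t * a = a * t → t ∈ pA x y S := fun t ht hta =>
    (Subgroup.mem_inf.mp (e ▸ Subgroup.mem_inf.mpr ⟨ht, Subgroup.mem_centralizer_singleton_iff.mpr hta⟩ :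
      t ∈ cT u ⊓ pA x y S)).2
  by_cases hsT : s ∈ cT u
  · exact key s hsT hsa
  · rcases sylow_index hsix hsm.good.low S p.ax.sylow with ⟨e6, -⟩ | ⟨-, e6⟩
    · have := hsm.six; omega
    · have h1 := key _ (two_coset e6 haS haT hs hsT)
        (((Commute.refl a).inv_left).mul_left (show Commute s a from hsa)).eq
      have := mul_mem ha h1
      rwa [mul_inv_cancel_left] at this

/-- Elements of odd order act trivially. -/
theorem odd_trivial {n : G} (hn : n ∈ cC u) (hnA : n ∈ Subgroup.normalizer (pA x y S : Set G))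
    (ho : Odd (orderOf n)) {a : G} (ha : a ∈ pA x y S) : n * a * n⁻¹ = a := by
  have hsm := p.small
  have hsix := hsm.good.six
  have hnT := Subgroup.mem_normalizer_iff.mp (cT_normalized u hn)
  have hnA' := Subgroup.mem_normalizer_iff.mp hnA
  have hu : u ∈ cT u ⊓ pA x y S := Subgroup.mem_inf.mpr ⟨u_mem_cT hsix, mem_pA.mpr
    ⟨cT_le_sylow hsix S p.ax.sylow (u_mem_cT hsix), p.ax.xu.symm, p.ay.xu.symm⟩⟩
  have hx : x ∈ cT u ⊓ pA x y S := Subgroup.mem_inf.mpr ⟨p.ax.mem, mem_pA.mpr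
    ⟨cT_le_sylow hsix S p.ax.sylow p.ax.mem, rfl, p.comm⟩⟩
  have hUB : Subgroup.zpowers u ≤ cT u ⊓ pA x y S := Subgroup.zpowers_le.mpr hu
  have hbad : c * x * c⁻¹ ∈ pA x y S → False := fun h => p.not_comm_cx (mem_pA.mp h).2.2.symm
  have hconjB : ∀ b ∈ cT u ⊓ pA x y S, n * b * n⁻¹ ∈ cT u ⊓ pA x y S ∧ n⁻¹ * b * n ∈ cT u ⊓ pA x y S := by
    intro b hb
    obtain ⟨hbT, hbA⟩ := Subgroup.mem_inf.mp hb
    refine ⟨Subgroup.mem_inf.mpr ⟨(hnT b).mp hbT, (hnA' b).mp hbA⟩, Subgroup.mem_inf.mpr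
      ⟨(hnT _).mpr (by simpa [mul_assoc] using hbT), (hnA' _).mpr (by simpa [mul_assoc] using hbA)⟩⟩
  have hwB : ∀ w ∈ cX u, ∀ b ∈ cT u ⊓ pA x y S, w * b * w⁻¹ ∈ cT u ⊓ pA x y S := by
    intro w hw b hb
    have := mul_mem (hUB (hsm.X_fix hw (Subgroup.mem_inf.mp hb).1)) hb
    rwa [inv_mul_cancel_right] at this
  rcases kinds hsix hsm.good.low hn with e | e | e | ⟨-, e⟩
  · have hB : ∀ b ∈ cT u ⊓ pA x y S, Commute n b := fun b hb =>
      odd_commute_cT hsix e ho (Subgroup.mem_inf.mp hb).1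
    by_cases haT : a ∈ cT u
    · rw [(hB a (Subgroup.mem_inf.mpr ⟨haT, ha⟩)).eq, mul_inv_cancel_right]
    set b := a⁻¹ * (n * a * n⁻¹) with hb
    have hbB : b ∈ cT u ⊓ pA x y S :=
      p.A_split ha haT ((hnA' a).mp ha) (fun h => haT ((hnT a).mpr h))
    have hk : ∀ k : ℕ, n ^ k * a * (n ^ k)⁻¹ = a * b ^ k := by
      intro k
      induction k with
      | zero => simp
      | succ k ih =>
        calc n ^ (k + 1) * a * (n ^ (k + 1))⁻¹ = n * (n ^ k * a * (n ^ k)⁻¹) * n⁻¹ := by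
              rw [pow_succ']; group
          _ = n * a * n⁻¹ * (n * b ^ k * n⁻¹) := by rw [ih]; group
          _ = n * a * n⁻¹ * b ^ k := by rw [((hB b hbB).pow_right k).eq, mul_inv_cancel_right]
          _ = a * b * b ^ k := by rw [hb]; group
          _ = _ := by rw [mul_assoc, ← pow_succ']
    have h1 := hk (orderOf n)
    obtain ⟨m, hm⟩ := ho
    rw [pow_orderOf_eq_one, hm, pow_succ, pow_mul, pow_two, (p.B_elementary hbB).2, one_pow, one_mul] at h1
    have hb1 : b = 1 := (mul_eq_left (a := a)).mp (by simpa using h1.symm)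
    rw [hb] at hb1
    exact (inv_mul_eq_one.mp hb1).symm
  · refine (hbad ?_).elim
    have := (hconjB _ (hwB _ e x hx)).2
    refine (Subgroup.mem_inf.mp ((congrArg (· ∈ cT u ⊓ pA x y S) ?_).mp this)).2
    group
  · refine (hbad ?_).elim
    have := hwB _ (inv_mem e) _ (hconjB x hx).1
    refine (Subgroup.mem_inf.mp ((congrArg (· ∈ cT u ⊓ pA x y S) ?_).mp this)).2
    group
  · exfalso
    obtain ⟨m, hm⟩ := ho
    have hn' : n = ((n * n) ^ m)⁻¹ := by
      rw [eq_inv_iff_mul_eq_one, ← pow_two, ← pow_mul, ← pow_succ', ← hm, pow_orderOf_eq_one]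
    refine e.2.1 ?_
    rw [hn']
    exact inv_mem (pow_mem e.2.2.1 m)

end Two

namespace Small

/-- The final contradiction. -/
theorem false (hs : Small u c) : False := by
  classical
  haveI := Fact.mk Nat.prime_two
  have hsix := hs.good.six
  obtain ⟨S, -, hS⟩ := exists_sylow_cC hsix (IsPGroup.of_bot (p := 2)) bot_le
  obtain ⟨x, hx, -⟩ := hs.good.exists_adm S hS
  obtain ⟨y, hy, hyE⟩ := hs.exists_second hx
  have p : Two u c x y S := ⟨hs, hx, hy, hyE, hs.adm_comm hx hy⟩
  set A := pA x y S with hA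
  have hTS := cT_le_sylow hsix S hS
  have hT2 : (cT u).relIndex (S : Subgroup G) = 2 := by
    rcases sylow_index hsix hs.good.low S hS with ⟨e, -⟩ | ⟨-, e⟩
    · have := hs.six; omega
    · exact e
  have hS64 : Nat.card (S : Subgroup G) = 64 := by rw [← card_relIndex hTS, hT2, hs.card]
  have hA16 : Nat.card A = 16 := p.A_card.1
  set N := Subgroup.normalizer (A : Set G)
  have hSN : (S : Subgroup G) ≤ N := p.sylow_normalizes
  set ψ := A.normalizerMonoidHom with hψdef
  set ι := Subgroup.inclusion hSN with hι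
  set L := ψ.range with hL
  set P := (ψ.comp ι).range with hPdef
  have hψ : ∀ (n : ↥N) (a : ↥A), (ψ n a : G) = n * a * (n : G)⁻¹ := fun n a => rfl
  have hAA : ∀ a ∈ A, ∀ b ∈ A, a * b = b * a := fun a ha b hb => (p.A_elementary ha hb).1
  have hψA : ∀ n : ↥N, (n : G) ∈ A → ψ n = 1 := fun n hn => by
    ext a
    rw [hψ, hAA _ hn _ a.2, mul_inv_cancel_right]
    rfl
  obtain ⟨a0, ha0, ha0T⟩ := p.A_card.2
  have hAS : A ≤ (S : Subgroup G) := inf_le_left.trans inf_le_left
  have hP4 : Nat.card P = 4 := by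
    have hker : (ψ.comp ι).ker = A.subgroupOf (S : Subgroup G) := by
      ext s
      rw [MonoidHom.mem_ker, Subgroup.mem_subgroupOf]
      refine ⟨fun h => ?_, fun h => hψA _ h⟩
      refine p.cent_outside ha0 ha0T s.2 (mul_inv_eq_iff_eq_mul.mp ?_)
      have := congrArg (fun f : MulAut ↥A => (f ⟨a0, ha0⟩ : G)) h
      exact this
    rw [hPdef, ← Subgroup.index_ker, hker]
    have := card_relIndex hAS
    rw [hA16, hS64] at this
    show A.relIndex (S : Subgroup G) = 4
    omega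
  have hPL : P ≤ L := by rintro _ ⟨s, rfl⟩; exact ⟨_, rfl⟩
  have hsqA : ∀ t ∈ cT u, t * t ∈ A := by
    intro t ht
    have key : ∀ w ∈ cT u, t * t * w = w * (t * t) := by
      intro w hw
      refine commutatorElement_eq_one_iff_mul_comm.mp ?_
      rw [hs.comm_mul_left ht ht hw]
      rcases hs.commU ht hw with e | e <;> rw [e]
      · exact one_mul 1
      · exact hsix.uu
    exact mem_pA.mpr ⟨hTS (mul_mem ht ht), key x hx.mem, key y hy.mem⟩
  have hPexp : ∀ v ∈ P, v * v = 1 := by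
    rintro _ ⟨s, rfl⟩
    show ψ (ι s) * ψ (ι s) = 1
    by_cases hsT : (s : G) ∈ cT u
    · rw [← map_mul]
      exact hψA _ (hsqA _ hsT)
    · have ht := two_coset hT2 (hAS ha0) ha0T s.2 hsT
      set t : ↥N := ⟨a0⁻¹ * s, hSN (hTS ht)⟩
      have e : ι s = ⟨a0, hSN (hAS ha0)⟩ * t := Subtype.ext (by
        show (s : G) = a0 * (a0⁻¹ * s)
        group)
      rw [e, map_mul, hψA _ ha0, one_mul, ← map_mul]
      exact hψA _ (hsqA _ ht)
  -- the involution
  have huA : u ∈ A := mem_pA.mpr ⟨hTS (u_mem_cT hsix), hx.xu.symm, hy.xu.symm⟩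
  set uA : ↥A := ⟨u, huA⟩ with huAdef
  have huA1 : uA ≠ 1 := fun e => hsix.u_ne_one (congrArg Subtype.val e)
  -- the orbit
  let O : Set G := {z | ∃ n ∈ N, n * u * n⁻¹ = z}
  have hOin : ∀ {n z : G}, n ∈ N → z ∈ O → n * z * n⁻¹ ∈ O := by
    rintro n z hn ⟨m, hm, rfl⟩
    exact ⟨n * m, mul_mem hn hm, by group⟩
  have huO : u ∈ O := ⟨1, one_mem _, by group⟩
  have hOA : ∀ z ∈ O, z ∈ A ∧ z ≠ 1 := by
    rintro z ⟨n, hn, rfl⟩
    exact ⟨(Subgroup.mem_normalizer_iff.mp hn u).mp huA, fun e => hsix.u_ne_one (conj_eq_one_iff.mp e)⟩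
  have pairs : ∀ {x y : G}, Two u c x y S → pA x y S = A → x ∈ O ∧ x * u ∈ O := by
    intro x y q e
    obtain ⟨r, hru, hrx, hrN, -⟩ := q.exists_rot
    rw [e] at hrN
    exact ⟨⟨r, hrN, hru⟩, hrx ▸ hOin hrN ⟨r, hrN, hru⟩⟩
  obtain ⟨hxO, hxuO⟩ := pairs p rfl
  obtain ⟨hyO, hyuO⟩ := pairs p.flip (inf_comm _ _)
  obtain ⟨hxyO, hxyuO⟩ := pairs p.prod p.pA_prod
  obtain ⟨r, hru, hrx, hrN, ha1, ha1T, ⟨k, hk⟩, hrfix⟩ := p.exists_rot
  rw [← hA] at hrN hrfix ha1
  set a1 := r * y * r⁻¹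
  have ha1O : a1 ∈ O := hOin hrN hyO
  -- the elements of `O_2` in the group
  have hB : ∀ z ∈ A, z ∈ cT u → z ≠ 1 → z ∈ O := by
    have hle : Subgroup.closure ({u, x, y} : Set G) ≤ cT u ⊓ A := by
      rw [Subgroup.closure_le]
      rintro z (rfl | rfl | rfl)
      · exact Subgroup.mem_inf.mpr ⟨u_mem_cT hsix, huA⟩
      · exact Subgroup.mem_inf.mpr ⟨hx.mem, mem_pA.mpr ⟨hTS hx.mem, rfl, p.comm⟩⟩
      · exact Subgroup.mem_inf.mpr ⟨hy.mem, mem_pA.mpr ⟨hTS hy.mem, p.comm.symm, rfl⟩⟩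
    have hV : pV u x ≤ cT u ⊓ A := (Subgroup.closure_mono (by
      rintro w (rfl | rfl) <;> simp)).trans hle
    have hi : (pV u x).relIndex (cT u ⊓ A) = 2 := by
      have h1 : Nat.card (pV u x) * (pV u x).relIndex (cT u ⊓ A) = Nat.card ↥(cT u ⊓ A) := card_relIndex hV
      rw [hx.card_V, p.B_card] at h1
      omega
    intro z hz hzT hz1
    by_cases hzV : z ∈ pV u x
    · rcases hx.mem_V.mp hzV with e | e | e | e <;> rw [e]
      · exact absurd e hz1
      · exact huO
      · exact hxO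
      · rw [← hx.xu]; exact hxuO
    · have h1 := two_coset hi (hle (Subgroup.subset_closure (by simp : y ∈ ({u, x, y} : Set G)))) p.not_mem_V
        (Subgroup.mem_inf.mpr ⟨hzT, hz⟩) hzV
      have ez : z = y * (y⁻¹ * z) := by group
      rcases hx.mem_V.mp h1 with e | e | e | e <;> rw [ez, e]
      · rw [mul_one]; exact hyO
      · exact hyuO
      · rw [← p.comm]; exact hxyO
      · rw [← hx.xu, ← mul_assoc, ← p.comm]; exact hxyuO
  -- orbits outside `O_2`
  let Ob : G → Set G := fun w => {z | ∃ s ∈ (S : Subgroup G), s * w * s⁻¹ = z}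
  have hObA : ∀ w ∈ A, w ∉ cT u → ∀ z ∈ Ob w, z ∈ A ∧ z ∉ cT u := by
    rintro w hw hwT z ⟨s, hs', rfl⟩
    exact ⟨(Subgroup.mem_normalizer_iff.mp (hSN hs') w).mp hw,
      fun h => hwT ((Subgroup.mem_normalizer_iff.mp (cT_normalized u (hS hs')) w).mpr h)⟩
  have hOb4 : ∀ w ∈ A, w ∉ cT u → Nat.card (Ob w) = 4 := by
    intro w hw hwT
    let F : ↥(S : Subgroup G) ⧸ A.subgroupOf (S : Subgroup G) → Ob w := fun q => Quotient.liftOn' q
      (fun s => ⟨(s : G) * w * (s : G)⁻¹, s, s.2, rfl⟩) (fun a b hab => Subtype.ext (by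
        have h1 := Subgroup.mem_subgroupOf.mp (QuotientGroup.leftRel_apply.mp hab)
        simp only [Subgroup.coe_mul, Subgroup.coe_inv] at h1
        show (a : G) * w * (a : G)⁻¹ = b * w * (b : G)⁻¹
        calc (a : G) * w * (a : G)⁻¹ = a * (((a : G)⁻¹ * b) * w * ((a : G)⁻¹ * b)⁻¹) * (a : G)⁻¹ := by
              rw [hAA _ h1 w hw, mul_inv_cancel_right]
          _ = _ := by group))
    have hF : Function.Bijective F := by
      constructor
      · intro a b
        induction a using Quotient.inductionOn' with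
        | h a =>
          induction b using Quotient.inductionOn' with
          | h b =>
            intro e
            have e' : (a : G) * w * (a : G)⁻¹ = b * w * (b : G)⁻¹ := congrArg Subtype.val e
            refine Quotient.sound' (QuotientGroup.leftRel_apply.mpr (Subgroup.mem_subgroupOf.mpr ?_))
            refine p.cent_outside hw hwT (a⁻¹ * b).2 ?_
            simp only [Subgroup.coe_mul, Subgroup.coe_inv]
            calc (a : G)⁻¹ * b * w = (a : G)⁻¹ * ((b : G) * w * (b : G)⁻¹) * b := by group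
              _ = _ := by rw [← e']; group
      · rintro ⟨z, s, hs', rfl⟩
        exact ⟨QuotientGroup.mk ⟨s, hs'⟩, rfl⟩
    rw [← Nat.card_congr (Equiv.ofBijective F hF)]
    have := card_relIndex hAS
    rw [hA16, hS64] at this
    show A.relIndex (S : Subgroup G) = 4
    omega
  have hall : ∀ z ∈ A, z ≠ 1 → z ∈ O := by
    intro z hz hz1
    by_cases hzT : z ∈ cT u
    · exact hB z hz hzT hz1
    by_contra hzO
    -- count
    haveI := Fintype.ofFinite G
    have hcard : O.ncard = 11 := by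
      have hsplit : ∀ w ∈ A, w ∉ cT u → w ∈ Ob a1 ∨ w ∈ Ob z := by
        have hdis : Disjoint (Ob a1) (Ob z) := by
          rw [Set.disjoint_left]
          rintro w ⟨s, hs', rfl⟩ ⟨t, ht', e⟩
          refine hzO ?_
          have := hOin (mul_mem (inv_mem (hSN ht')) (hSN hs')) ha1O
          refine (congrArg (· ∈ O) ?_).mp this
          calc t⁻¹ * s * a1 * (t⁻¹ * s)⁻¹ = t⁻¹ * (s * a1 * s⁻¹) * t := by group
            _ = z := by rw [← e]; group
        have hsub : Ob a1 ∪ Ob z ⊆ {w | w ∈ A ∧ w ∉ cT u} :=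
          Set.union_subset (hObA a1 ha1 ha1T) (hObA z hz hzT)
        have h8 : {w | w ∈ A ∧ w ∉ cT u}.ncard = 8 := by
          have e : {w | w ∈ A ∧ w ∉ cT u} = (A : Set G) \ ((cT u ⊓ A : Subgroup G) : Set G) := by
            ext w; simp only [Set.mem_ofPred_eq, Set.mem_sdiff, SetLike.mem_coe, Subgroup.mem_inf]; tauto
          rw [e, Set.ncard_sdiff (fun w hw => hw.2), ← Nat.card_coe_set_eq, ← Nat.card_coe_set_eq]
          show Nat.card A - Nat.card ↥(cT u ⊓ A) = 8
          rw [hA16, p.B_card]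
        have := Set.eq_of_subset_of_ncard_le hsub (by
          rw [h8, Set.ncard_union_eq hdis, ← Nat.card_coe_set_eq, ← Nat.card_coe_set_eq, hOb4 a1 ha1 ha1T,
            hOb4 z hz hzT])
        intro w hw hwT
        exact this.ge ⟨hw, hwT⟩
      have e : O = (((cT u ⊓ A : Subgroup G) : Set G) \ {1}) ∪ Ob a1 := by
        ext w
        constructor
        · intro hw
          obtain ⟨hwA, hw1⟩ := hOA w hw
          by_cases hwT : w ∈ cT u
          · exact Or.inl ⟨⟨hwT, hwA⟩, hw1⟩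
          refine Or.inr ((hsplit w hwA hwT).resolve_right ?_)
          rintro ⟨s, hs', rfl⟩
          refine hzO ?_
          have := hOin (inv_mem (hSN hs')) hw
          simpa [mul_assoc] using this
        · rintro (⟨⟨hwT, hwA⟩, hw1⟩ | ⟨s, hs', rfl⟩)
          · exact hB w hwA hwT hw1
          · exact hOin (hSN hs') ha1O
      rw [e, Set.ncard_union_eq, Set.ncard_sdiff_singleton_of_mem (one_mem (cT u ⊓ A)), ← Nat.card_coe_set_eq,
        ← Nat.card_coe_set_eq, hOb4 a1 ha1 ha1T]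
      · show Nat.card ↥(cT u ⊓ A) - 1 + 4 = 11
        rw [p.B_card]
      · rw [Set.disjoint_left]
        rintro w ⟨⟨hwT, -⟩, -⟩ hw
        exact (hObA a1 ha1 ha1T w hw).2 hwT
    -- the rotation moves every point
    haveI : Fact (Nat.Prime 3) := ⟨Nat.prime_three⟩
    set Z := Subgroup.zpowers r
    have hZ : IsPGroup 3 ↥Z := by
      obtain ⟨j, -, hj⟩ := (Nat.dvd_prime_pow Nat.prime_three).mp hk
      exact IsPGroup.of_card (n := j) (by rw [Nat.card_zpowers, hj])
    have hZN : Z ≤ N := Subgroup.zpowers_le.mpr hrN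
    letI : MulAction ↥Z ↥O :=
      { smul := fun g w => ⟨(g : G) * w * (g : G)⁻¹, hOin (hZN g.2) w.2⟩
        one_smul := fun w => Subtype.ext (by show ((1 : ↥Z) : G) * w * ((1 : ↥Z) : G)⁻¹ = w; simp)
        mul_smul := fun g g' w => Subtype.ext (by
          show ((g * g' : ↥Z) : G) * w * ((g * g' : ↥Z) : G)⁻¹ = g * (g' * w * (g' : G)⁻¹) * (g : G)⁻¹
          simp [mul_assoc]) }
    have hmod := hZ.card_modEq_card_fixedPoints ↥O
    have hfix0 : Nat.card (MulAction.fixedPoints ↥Z ↥O) = 0 := by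
      rw [Nat.card_eq_zero]
      left
      refine ⟨fun ⟨w, hw⟩ => ?_⟩
      obtain ⟨hwA, hw1⟩ := hOA w w.2
      have hwr : (w : G) * r = r * w := by
        have := congrArg Subtype.val (hw ⟨r, Subgroup.mem_zpowers r⟩)
        exact (mul_inv_eq_iff_eq_mul.mp this).symm
      have h1 := card_fixed_mod hk hrN
      have h2 : (1 : ℕ) < Nat.card ↥(A ⊓ Subgroup.centralizer ({r} : Set G)) := by
        rw [Finite.one_lt_card_iff_nontrivial]
        exact nontrivial_of_ne ⟨w, Subgroup.mem_inf.mpr ⟨hwA, Subgroup.mem_centralizer_singleton_iff.mpr hwr⟩⟩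
          1 fun e => hw1 (congrArg Subtype.val e)
      rw [hA16] at h1
      omega
    rw [hfix0, Nat.card_coe_set_eq, hcard] at hmod
    exact absurd hmod (by decide)
  have horb : ∀ z : ↥A, z ≠ 1 → ∃ l ∈ L, l uA = z := by
    intro z hz
    obtain ⟨n, hn, e⟩ := hall z z.2 (fun e => hz (Subtype.ext e))
    exact ⟨ψ ⟨n, hn⟩, ⟨_, rfl⟩, Subtype.ext e⟩
  -- the stabilizer
  have hstab : ∀ l : MulAut ↥A, l ∈ L ∧ l uA = uA ↔ l ∈ P := by
    set K : Subgroup (MulAut ↥A) :=
      { carrier := {l | l ∈ L ∧ l uA = uA}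
        one_mem' := ⟨one_mem L, rfl⟩
        mul_mem' := fun {a b} ha hb => ⟨mul_mem ha.1 hb.1, by rw [MulAut.mul_apply, hb.2, ha.2]⟩
        inv_mem' := fun {a} ha => ⟨inv_mem ha.1, by
          conv_lhs => rw [← ha.2]
          simp⟩ } with hK
    have hPK : P ≤ K := by
      rintro _ ⟨s, rfl⟩
      refine ⟨⟨_, rfl⟩, Subtype.ext ?_⟩
      show (s : G) * u * (s : G)⁻¹ = u
      rw [mem_cC.mp (hS s.2), mul_inv_cancel_right]
    have hK2 : IsPGroup 2 ↥K := by
      rintro ⟨l, ⟨n, rfl⟩, hl⟩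
      have hnu : (n : G) ∈ cC u := mem_cC.mpr (mul_inv_eq_iff_eq_mul.mp (congrArg Subtype.val hl))
      obtain ⟨e, m, hm, hem⟩ := Nat.exists_eq_two_pow_mul_odd (orderOf_pos n).ne'
      refine ⟨e, Subtype.ext ?_⟩
      show ψ n ^ 2 ^ e = 1
      rw [← map_pow]
      ext a
      rw [hψ, MulAut.one_apply]
      refine p.odd_trivial (pow_mem hnu _) (n ^ 2 ^ e).2 ?_ a.2
      rw [orderOf_pow' _ (by positivity), Subgroup.orderOf_coe, hem, Nat.gcd_mul_right_left,
        Nat.mul_div_cancel_left _ (by positivity)]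
      exact hm
    have hKP : P = K := by
      set S' : Sylow 2 ↥N := S.subtype hSN with hS'
      have hPmap : (S' : Subgroup ↥N).map ψ = P := by
        rw [hPdef, MonoidHom.range_comp]
        congr 1
        exact (Subgroup.inclusion_range hSN).symm
      have hodd : ¬ 2 ∣ (P.subgroupOf L).index := by
        rw [show P.subgroupOf L = (S' : Subgroup ↥N).map ψ.rangeRestrict by
          ext ⟨w, hw⟩
          rw [Subgroup.mem_subgroupOf, ← hPmap]
          exact ⟨fun ⟨a, ha, e⟩ => ⟨a, ha, Subtype.ext e⟩, fun ⟨a, ha, e⟩ => ⟨a, ha, congrArg Subtype.val e⟩⟩]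
        intro hd
        refine S'.not_dvd_index (hd.trans ?_)
        exact Subgroup.index_map_dvd _ ψ.rangeRestrict_surjective
      have hKL : K ≤ L := fun l hl => hl.1
      refine le_antisymm hPK fun l hl => ?_
      have h1 := ((IsPGroup.of_card (p := 2) (n := 2) hP4).comap_subtype (K := L)).toSylow hodd
      have h2 := ((IsPGroup.of_card (p := 2) (n := 2) hP4).comap_subtype (K := L) |>.toSylow hodd).3
        (hK2.comap_subtype (K := L)) (fun w hw => hPK hw)
      have : (⟨l, hl.1⟩ : ↥L) ∈ K.subgroupOf L := hl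
      exact h2.le this
    intro l
    rw [hKP]
    exact Iff.rfl
  refine no_transitive_sixteen (fun a => Subtype.ext (p.A_elementary a.2 a.2).2) hA16 hPL hP4 hPexp huA1
    horb hstab ?_
  intro z hz
  by_cases hz1 : z = 1
  · exact Or.inl hz1
  refine Or.inr ?_
  have hzc : ∀ s ∈ (S : Subgroup G), s * (z : G) = z * s := fun s hs' =>
    mul_inv_eq_iff_eq_mul.mp (congrArg Subtype.val (hz _ ⟨⟨s, hs'⟩, rfl⟩))
  exact Subtype.ext (hs.good.sylow_center S hS
    (orderOf_two_iff.mpr ⟨(p.A_elementary z.2 z.2).2, fun e => hz1 (Subtype.ext e)⟩) hzc)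

end Small

/-- `O_2` has order less than `32`. -/
theorem Six.card_cT_lt (h : Six u c) (hl : Low u) (hu : u ∈ cD u) : Nat.card (cT u) < 32 := by
  by_contra hh
  push Not at hh
  exact Small.false (Good.small ⟨h, hl, hu, hh⟩)

end CfsgLib.OrderSix
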