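import Cfsg.Agent.Lib.OrderSix.Nonab

/-!
Large `O_2`: the rotation always normalises `E`.
-/

set_option autoImplicit false
set_option linter.unusedVariables false
set_option linter.unusedSectionVars false
set_option linter.style.haveILetI false

namespace CfsgLib.OrderSix

open CfsgLib.SelfCent CfsgLib.SCThree
open scoped commutatorElement

universe v

variable {G : Type v} [Group G] [Finite G] {u c x d h g : G} {S Sx : Sylow 2 G}

/-- The three-part of an element, normalised. -/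
noncomputable def tp (w : G) : G := w ^ ((orderOf w / 3 ^ (orderOf w).factorization 3) ^ 2)

theorem orderOf_tp (w : G) : ∃ k : ℕ, orderOf (tp w) ∣ 3 ^ k := by
  refine ⟨(orderOf w).factorization 3, orderOf_dvd_of_pow_eq_one ?_⟩
  rw [tp, ← pow_mul, pow_two, mul_assoc, Nat.div_mul_cancel (Nat.ordProj_dvd _ 3), mul_comm, pow_mul,
    pow_orderOf_eq_one, one_pow]

theorem tp_act {w y : G} (hy : w * (w * (w * y * w⁻¹) * w⁻¹) * w⁻¹ = y) :
    tp w * y * (tp w)⁻¹ = w * y * w⁻¹ := by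
  have h3 : ∀ n : ℕ, w ^ (3 * n) * y * (w ^ (3 * n))⁻¹ = y := by
    intro n
    induction n with
    | zero => simp
    | succ n ih =>
      have e : w ^ (3 * (n + 1)) * y * (w ^ (3 * (n + 1)))⁻¹ =
          w ^ (3 * n) * (w * (w * (w * y * w⁻¹) * w⁻¹) * w⁻¹) * (w ^ (3 * n))⁻¹ := by
        rw [show 3 * (n + 1) = 3 * n + 3 by ring, pow_add, pow_succ, pow_two]; group
      rw [e, hy, ih]
  set o := orderOf w with ho
  set m := o / 3 ^ o.factorization 3 with hm
  have hm3 : m ^ 2 % 3 = 1 := by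
    have hn : ¬ 3 ∣ m := Nat.not_dvd_ordCompl Nat.prime_three (orderOf_pos w).ne'
    rw [Nat.pow_mod]
    have : m % 3 = 1 ∨ m % 3 = 2 := by omega
    rcases this with e | e <;> simp [e]
  have hr : tp w = w * w ^ (3 * (m ^ 2 / 3)) := by
    rw [← pow_succ']
    show w ^ (m ^ 2) = _
    congr 1
    omega
  rw [hr]
  calc w * w ^ (3 * (m ^ 2 / 3)) * y * (w * w ^ (3 * (m ^ 2 / 3)))⁻¹
      = w * (w ^ (3 * (m ^ 2 / 3)) * y * (w ^ (3 * (m ^ 2 / 3)))⁻¹) * w⁻¹ := by group
    _ = _ := by rw [h3]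

namespace Trio

variable (a : Trio u c x d S Sx h g)
include a

/-- The second leaf. -/
theorem leaf_two (hab : cD u = Subgroup.zpowers u) (h32 : Nat.card (cT u) = 32)
    (hD8 : Nat.card (pD u x) ≤ 8) : c * x * c⁻¹ ∈ pD u x := by
  by_contra hcx
  have hA := a.pair.adm
  have hs := hA.good.six
  have hl := hA.good.low
  haveI := Fact.mk Nat.prime_two
  set r := rot h g with hr
  obtain ⟨kk, hk3⟩ := orderOf_rot h g
  obtain ⟨hru, hrx, hrxu⟩ := a.rot_act
  rw [← hr] at hru hrx hrxu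
  have h6 : idx u = 6 := by
    rcases hl with h3 | h6
    · exfalso; have := a.card_D_three h3; omega
    · exact h6
  obtain ⟨hP, -, -, -⟩ := a.relIndex_P_six h6
  rw [h32] at hP
  have hrP : r ∈ Subgroup.normalizer (pP x S : Set G) := rot_mem_normalizer a.hN a.gN
  have hPfix : Nat.card (pP x S) % 3 = Nat.card (fixR h g (pP x S)) % 3 := card_fixed_mod hk3 hrP
  have hCP := a.card_fixR (D := pP x S) (S.isPGroup'.to_le inf_le_left)
  have hC2 : Nat.card (fixR h g (pP x S)) = 2 := by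
    have : 0 < Nat.card (fixR h g (pP x S)) := Nat.card_pos
    omega
  obtain ⟨⟨i, hi⟩, hi1⟩ : ∃ z : fixR h g (pP x S), z ≠ 1 := by
    haveI : Nontrivial ↥(fixR h g (pP x S)) := Finite.one_lt_card_iff_nontrivial.mp (by omega)
    exact exists_ne 1
  have hi1' : i ≠ 1 := fun e => hi1 (Subtype.ext e)
  have hzi : Subgroup.zpowers i = fixR h g (pP x S) := eq_zpowers_of_card Nat.prime_two hC2 hi hi1'
  have hi2 : orderOf i = 2 := by rw [← Nat.card_zpowers, hzi, hC2]
  have hii : i * i = 1 := (orderOf_two_iff.mp hi2).1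
  obtain ⟨hiP, hir⟩ := mem_fixR.mp hi
  rw [← hr] at hir
  have hiu : i * u = u * i := mem_cC.mp (hA.sylow (mem_pP.mp hiP).1)
  have hix : i * x = x * i := (mem_pP.mp hiP).2
  set V := pV u x with hV
  have hrV : r ∈ Subgroup.normalizer (V : Set G) := rot_mem_normalizer a.hV a.gV
  have hiV : i ∉ V := by
    intro hh
    have hfix : r * i * r⁻¹ = i := by rw [← hir, mul_inv_cancel_right]
    rcases hA.mem_V.mp hh with e | e | e | e
    · exact hi1' e
    · rw [e, hru] at hfix; exact hA.ne hfix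
    · rw [e, hrx] at hfix; exact hs.u_ne_one (mul_eq_left.mp hfix)
    · rw [e, ← hA.xu, hrxu] at hfix
      exact hA.x_ne_one (mul_eq_right.mp hfix.symm)
  have hVP : V ≤ pP x S := a.V_le_D.trans a.D_le_P
  have hVcent : ∀ v ∈ V, ∀ q ∈ pP x S, q * v = v * q := by
    intro v hv q hq
    have h1 : Commute q u := mem_cC.mp (hA.sylow (mem_pP.mp hq).1)
    have h2 : Commute q x := (mem_pP.mp hq).2
    rcases hA.mem_V.mp hv with e | e | e | e <;> rw [e]
    exacts [(Commute.one_right q).eq, h1.eq, h2.eq, (h1.mul_right h2).eq]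
  -- `i` is central modulo `V`
  let Zc : Subgroup G :=
    { carrier := {p | p ∈ pP x S ∧ ∀ q ∈ pP x S, ⁅p, q⁆ ∈ V}
      one_mem' := ⟨one_mem _, fun q _ => by rw [commutatorElement_one_left]; exact one_mem V⟩
      mul_mem' := by
        rintro p p' ⟨hp, hp1⟩ ⟨hp', hp1'⟩
        refine ⟨mul_mem hp hp', fun q hq => ?_⟩
        have e : ⁅p * p', q⁆ = p * ⁅p', q⁆ * p⁻¹ * ⁅p, q⁆ := by simp only [commutatorElement_def]; group
        rw [e, hVcent _ (hp1' q hq) p hp, mul_inv_cancel_right]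
        exact mul_mem (hp1' q hq) (hp1 q hq)
      inv_mem' := by
        rintro p ⟨hp, hp1⟩
        refine ⟨inv_mem hp, fun q hq => ?_⟩
        have e : ⁅p⁻¹, q⁆ = p⁻¹ * ⁅p, q⁆⁻¹ * p := by simp only [commutatorElement_def]; group
        rw [e, hVcent _ (inv_mem (hp1 q hq)) p⁻¹ (inv_mem hp), mul_assoc, inv_mul_cancel, mul_one]
        exact inv_mem (hp1 q hq) }
  have hVZ : V ≤ Zc := fun v hv => ⟨hVP hv, fun q hq => by
    rw [commutatorElement_eq_one_iff_mul_comm.mpr (hVcent v hv q hq).symm]; exact one_mem V⟩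
  have hrZ : r ∈ Subgroup.normalizer (Zc : Set G) := by
    refine normalizer_of_cj (Subgroup.eq_of_le_of_card_ge ?_ (card_cj r _).ge)
    rintro _ ⟨p, ⟨hp, hp1⟩, rfl⟩
    have hrPi := Subgroup.mem_normalizer_iff.mp hrP
    refine ⟨(hrPi p).mp hp, fun q hq => ?_⟩
    have hq' : r⁻¹ * q * r ∈ pP x S := (hrPi _).mpr (by simpa [mul_assoc] using hq)
    have := (Subgroup.mem_normalizer_iff.mp hrV _).mp (hp1 _ hq')
    refine (congrArg (· ∈ V) ?_).mp this
    show _ = ⁅r * p * r⁻¹, q⁆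
    simp only [commutatorElement_def]; group
  have hiZ : i ∈ Zc := by
    by_contra hiZ
    have hfixZ : Nat.card ↥(Zc ⊓ Subgroup.centralizer ({r} : Set G)) = 1 := by
      rw [Subgroup.card_eq_one, eq_bot_iff]
      intro z hz
      obtain ⟨hzZ, hzr⟩ := Subgroup.mem_inf.mp hz
      have hzF : z ∈ fixR h g (pP x S) := mem_fixR.mpr ⟨hzZ.1, Subgroup.mem_centralizer_singleton_iff.mp hzr⟩
      rw [← hzi] at hzF
      obtain ⟨m, rfl⟩ := Subgroup.mem_zpowers_iff.mp hzF
      rw [← zpow_mod_orderOf, hi2] at hzZ ⊢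
      push_cast at hzZ ⊢
      rcases Int.emod_two_eq_zero_or_one m with e | e <;> rw [e] at hzZ ⊢
      · simp
      · rw [zpow_one] at hzZ; exact absurd hzZ hiZ
    have hmod := card_fixed_mod hk3 hrZ
    rw [hfixZ] at hmod
    have hVn : (V.subgroupOf (pP x S)).Normal := ⟨fun v hv q => by
      rw [Subgroup.mem_subgroupOf] at hv ⊢
      simp only [Subgroup.coe_mul, Subgroup.coe_inv]
      rw [hVcent _ hv q q.2, mul_inv_cancel_right]; exact hv⟩
    haveI := hVn
    -- the center of the quotient is non-trivial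
    have hPp : IsPGroup 2 (pP x S) := S.isPGroup'.to_le inf_le_left
    haveI : Nontrivial (↥(pP x S) ⧸ V.subgroupOf (pP x S)) := by
      refine Finite.one_lt_card_iff_nontrivial.mp ?_
      have h1 := ((V.subgroupOf (pP x S))).card_eq_card_quotient_mul_card_subgroup
      rw [Nat.card_congr (Subgroup.subgroupOfEquivOfLe hVP).toEquiv, hA.card_V, hP] at h1
      omega
    haveI := (hPp.to_quotient (V.subgroupOf (pP x S))).center_nontrivial
    obtain ⟨⟨q0, hq0⟩, hq01⟩ := exists_ne (1 : Subgroup.center (↥(pP x S) ⧸ V.subgroupOf (pP x S)))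
    obtain ⟨p0, hp0⟩ := QuotientGroup.mk'_surjective _ q0
    have hp0Z : (p0 : G) ∈ Zc := by
      refine ⟨p0.2, fun q hq => ?_⟩
      have hcm := Subgroup.mem_center_iff.mp hq0 (QuotientGroup.mk' _ ⟨q, hq⟩)
      rw [← hp0] at hcm
      have h1 : QuotientGroup.mk' (V.subgroupOf (pP x S)) ⁅p0, ⟨q, hq⟩⁆ = 1 := by
        rw [map_commutatorElement]; exact commutatorElement_eq_one_iff_mul_comm.mpr hcm.symm
      rw [QuotientGroup.mk'_apply, QuotientGroup.eq_one_iff, Subgroup.mem_subgroupOf] at h1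
      exact h1
    have hp0V : (p0 : G) ∉ V := fun hh => hq01 (Subtype.ext (by
      exact hp0.symm.trans ((QuotientGroup.eq_one_iff _).mpr (Subgroup.mem_subgroupOf.mpr hh))))
    have hVlt : 4 < Nat.card Zc := by
      rw [← hA.card_V]
      refine lt_of_le_of_ne (Subgroup.card_le_of_le hVZ) fun e => hp0V ?_
      exact (Subgroup.eq_of_le_of_card_ge hVZ e.ge).ge hp0Z
    have hZP : Zc ≤ pP x S := fun p hp => hp.1
    obtain ⟨n, hn⟩ := IsPGroup.iff_card.mp (hPp.to_le hZP)
    have hdvd := Subgroup.card_dvd_of_le hZP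
    rw [hP] at hdvd
    have hle := Nat.le_of_dvd (by norm_num) hdvd
    have hn5 : n ≤ 5 := by
      by_contra hh
      have : 2 ^ 6 ≤ 2 ^ n := Nat.pow_le_pow_right (by norm_num) (by omega)
      omega
    have hn16 : Nat.card Zc = 16 := by interval_cases n <;> omega
    have hidx : Zc.relIndex (pP x S) = 2 := by
      have h1 := card_relIndex hZP
      rw [hn16, hP] at h1
      omega
    obtain ⟨b, hb, hbZ⟩ : ∃ b ∈ pP x S, b ∉ Zc := by
      by_contra hc
      push Not at hc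
      exact hiZ (hc i hiP)
    refine hbZ ⟨hb, fun q hq => ?_⟩
    by_cases hqZ : q ∈ Zc
    · rw [← commutatorElement_inv]; exact inv_mem (hqZ.2 b hb)
    · have hz := two_coset hidx hb hbZ hq hqZ
      have h1 := inv_mem (hz.2 b hb)
      rw [commutatorElement_inv] at h1
      have e : ⁅b, q⁆ = b * ⁅b, b⁻¹ * q⁆ * b⁻¹ := by simp only [commutatorElement_def]; group
      rw [e, hVcent _ h1 b hb, mul_inv_cancel_right]
      exact h1
  -- `i` is not central in `P`
  obtain ⟨g0, hg0S, p0, hp0, -, hg0P, hg0r⟩ := a.exists_inverting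
  rw [← hr] at hg0r
  have hg0i : g0 * i = i * g0 := by
    have hgiP : g0 * i * g0⁻¹ ∈ pP x S :=
      (Subgroup.mem_normalizer_iff.mp (normal_two hA.relIndex_pP hg0S inf_le_left) i).mp hiP
    have hgir : g0 * i * g0⁻¹ * r = r * (g0 * i * g0⁻¹) := by
      have e : r = g0 * r⁻¹ * g0⁻¹ := by
        calc r = (g0 * r * g0⁻¹)⁻¹ := by rw [hg0r, inv_inv]
          _ = _ := by group
      have hc : Commute i r⁻¹ := (show Commute i r from hir).inv_right
      calc g0 * i * g0⁻¹ * r = g0 * i * g0⁻¹ * (g0 * r⁻¹ * g0⁻¹) := by rw [← e]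
        _ = g0 * (i * r⁻¹) * g0⁻¹ := by group
        _ = g0 * (r⁻¹ * i) * g0⁻¹ := by rw [hc.eq]
        _ = g0 * r⁻¹ * g0⁻¹ * (g0 * i * g0⁻¹) := by group
        _ = _ := by rw [← e]
    have h1 : g0 * i * g0⁻¹ ∈ Subgroup.zpowers i := hzi ▸ mem_fixR.mpr ⟨hgiP, hr ▸ hgir⟩
    obtain ⟨m, hm⟩ := Subgroup.mem_zpowers_iff.mp h1
    rw [← zpow_mod_orderOf, hi2] at hm
    push_cast at hm
    rcases Int.emod_two_eq_zero_or_one m with e | e <;> rw [e] at hm
    · rw [zpow_zero] at hm; exact absurd (conj_eq_one_iff.mp hm.symm) hi1'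
    · rw [zpow_one] at hm; exact mul_inv_eq_iff_eq_mul.mp hm.symm
  obtain ⟨α0, hα0, hα0i⟩ : ∃ q ∈ pP x S, q * i ≠ i * q := by
    by_contra hc
    push Not at hc
    refine hiV (hA.mem_V.mpr (Or.inr (Or.inl ?_)))
    refine hA.good.sylow_center S hA.sylow hi2 fun s hs => ?_
    by_cases hsP : s ∈ pP x S
    · exact hc s hsP
    · have e : s = g0 * (g0⁻¹ * s) := by group
      rw [e]
      exact ((show Commute g0 i from hg0i).mul_left (hc _ (two_coset hA.relIndex_pP hg0S hg0P hs hsP))).eq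
  -- an element moving `i` to `xi`
  obtain ⟨α, hα, hαi⟩ : ∃ q ∈ pP x S, q * i * q⁻¹ = x * i := by
    set v0 := ⁅α0, i⁆ with hv0
    have hvV : v0 ∈ V := by rw [hv0, ← commutatorElement_inv]; exact inv_mem (hiZ.2 α0 hα0)
    have hconj : ∀ q, r * q * i * (r * q)⁻¹ = r * (q * i * q⁻¹) * r⁻¹ := fun q => by group
    have step : ∀ q ∈ pP x S, ∀ v, q * i * q⁻¹ = v * i →
        ∃ q' ∈ pP x S, q' * i * q'⁻¹ = r * v * r⁻¹ * i := by
      intro q hq v e
      refine ⟨r * q * r⁻¹, (Subgroup.mem_normalizer_iff.mp hrP q).mp hq, ?_⟩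
      have hfix : r⁻¹ * i * r = i := by
        rw [mul_assoc, hir, inv_mul_cancel_left]
      calc r * q * r⁻¹ * i * (r * q * r⁻¹)⁻¹ = r * (q * (r⁻¹ * i * r) * q⁻¹) * r⁻¹ := by group
        _ = r * v * (i * r⁻¹) := by rw [hfix, e]; group
        _ = _ := by rw [((show Commute i r from hir).inv_right).eq]; group
    have e0 : α0 * i * α0⁻¹ = v0 * i := by rw [hv0, commutatorElement_def]; group
    rcases hA.mem_V.mp hvV with e | e | e | e <;> rw [e] at e0
    · exact absurd (mul_inv_eq_iff_eq_mul.mp (e0.trans (one_mul i))) hα0i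
    · obtain ⟨q, hq, e1⟩ := step α0 hα0 u e0
      exact ⟨q, hq, by rw [e1, hru]⟩
    · exact ⟨α0, hα0, e0⟩
    · rw [← hA.xu] at e0
      obtain ⟨q, hq, e1⟩ := step α0 hα0 (x * u) e0
      obtain ⟨q', hq', e2⟩ := step q hq _ e1
      exact ⟨q', hq', by rw [e2, hrxu, hru]⟩
  -- the centralizer of `i`
  obtain ⟨di, hdi⟩ := hA.good.at_inv hi2
  obtain ⟨j0, hj0⟩ : ∃ j0, rot h g = r := ⟨1, hr.symm⟩
  have hr3 : orderOf r = 3 := by
    rcases two_group_cent hs hl (S.isPGroup'.to_le ((inf_le_left : fixR h g (pP x S) ≤ pP x S).trans inf_le_left))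
      a.rot_ne_one hk3 (fun z hz => (mem_fixR.mp hz).2.symm) with e | ⟨-, e⟩
    · have : Nat.card ↥(fixR h g (pP x S)) = 1 := Subgroup.card_eq_one.mpr e
      omega
    · exact e
  have hsixi : Six i r := hs.of_commute hi2 hr3 hir
  have hgi : Good i r := ⟨hsixi, hdi.low, hdi.der, hdi.big⟩
  have hDi : cD i = Subgroup.zpowers i := by
    obtain ⟨k, hk⟩ := isConj_iff.mp (hs.one u i hs.ou hi2)
    rw [← hk, cD_conj, hab]
    show Subgroup.map _ _ = _
    rw [MonoidHom.map_zpowers]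
    rfl
  set E' := V ⊔ Subgroup.zpowers i with hE'
  have hE'P : E' ≤ pP x S := sup_le hVP (Subgroup.zpowers_le.mpr hiP)
  have hrE' : r ∈ Subgroup.normalizer (E' : Set G) := by
    refine normalizer_of_cj ?_
    show Subgroup.map _ _ = _
    rw [Subgroup.map_sup]
    show cj r V ⊔ _ = _
    rw [cj_normalizer hrV, MonoidHom.map_zpowers]
    show V ⊔ Subgroup.zpowers (r * i * r⁻¹) = _
    rw [← hir, mul_inv_cancel_right]
  have hE'Ci : E' ≤ cC i := by
    refine sup_le ?_ (Subgroup.zpowers_le.mpr hsixi.u_mem)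
    intro v hv
    exact mem_cC.mpr (hVcent v hv i hiP).symm
  have hE'Ti : E' ≤ cT i := le_cT_of_three hsixi hgi.low (S.isPGroup'.to_le (hE'P.trans inf_le_left)) hE'Ci
    (hgi.six.c_mem) hr3 hrE'
  have hVTi : V ≤ cT i := le_sup_left.trans hE'Ti
  have hcomm : ∀ β ∈ cT i, ∀ z ∈ cT i, ⁅β, z⁆ = 1 ∨ ⁅β, z⁆ = i := fun β hβ z hz =>
    (mem_U hsixi).mp (hDi ▸ Subgroup.commutator_mem_commutator hβ hz)
  have huTi : u ∈ cT i := hVTi (Subgroup.subset_closure (by simp))
  have hxTi : x ∈ cT i := hVTi (Subgroup.subset_closure (by simp))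
  have hbil : ∀ β ∈ cT i, ⁅β, x * u⁆ = ⁅β, x⁆ * ⁅β, u⁆ := by
    intro β hβ
    have hc : Commute x ⁅β, u⁆ := by
      rcases hcomm β hβ u huTi with e | e <;> rw [e]
      · exact Commute.one_right x
      · exact hix.symm
    calc ⁅β, x * u⁆ = ⁅β, x⁆ * (x * ⁅β, u⁆ * x⁻¹) := by simp only [commutatorElement_def]; group
      _ = _ := by rw [hc.eq, mul_inv_cancel_right]
  have hshift : ∀ β ∈ cT i, ∀ v, ⁅r * β * r⁻¹, r * v * r⁻¹⁆ = r * ⁅β, v⁆ * r⁻¹ := fun β _ v => by
    simp only [commutatorElement_def]; group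
  have hri : r * i * r⁻¹ = i := by rw [← hir, mul_inv_cancel_right]
  have hrT : ∀ β ∈ cT i, r * β * r⁻¹ ∈ cT i := fun β hβ =>
    (Subgroup.mem_normalizer_iff.mp (cT_normalized i hgi.six.c_mem) β).mp hβ
  have hshift1 : ∀ β ∈ cT i, ∀ v ∈ cT i, ⁅r * β * r⁻¹, r * v * r⁻¹⁆ = ⁅β, v⁆ := fun β hβ v hv => by
    rw [hshift β hβ v]
    rcases hcomm β hβ v hv with e | e <;> rw [e]
    · group
    · exact hri
  obtain ⟨β, hβ, hβu, hβx⟩ : ∃ β ∈ cT i, ⁅β, u⁆ = 1 ∧ ⁅β, x⁆ = i := by
    have hxui : x * u ∈ cT i := mul_mem hxTi huTi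
    obtain ⟨β, hβ, hne⟩ : ∃ β ∈ cT i, ¬ (⁅β, u⁆ = 1 ∧ ⁅β, x⁆ = 1) := by
      by_contra hc
      push Not at hc
      refine hiV (hA.mem_V.mpr (Or.inr (Or.inr (Or.inl ?_))))
      exact (hgi.omega_center hxTi (fun t ht =>
        commutatorElement_eq_one_iff_mul_comm.mp (hc t ht).2) hA.two).symm
    rcases hcomm β hβ u huTi with e1 | e1 <;> rcases hcomm β hβ x hxTi with e2 | e2
    · exact absurd ⟨e1, e2⟩ hne
    · exact ⟨β, hβ, e1, e2⟩
    · have hxu' : ⁅β, x * u⁆ = i := by rw [hbil β hβ, e1, e2, one_mul]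
      set β1 := r * β * r⁻¹
      have a1 : ⁅β1, x * u⁆ = 1 := by rw [← hrx, hshift1 β hβ x hxTi, e2]
      have a2 : ⁅β1, u⁆ = i := by rw [← hrxu, hshift1 β hβ _ hxui, hxu']
      refine ⟨r * β1 * r⁻¹, hrT _ (hrT β hβ), ?_, ?_⟩
      · rw [← hrxu, hshift1 _ (hrT β hβ) _ hxui, a1]
      · rw [← hru, hshift1 _ (hrT β hβ) u huTi, a2]
    · have hxu' : ⁅β, x * u⁆ = 1 := by rw [hbil β hβ, e1, e2, hii]
      refine ⟨r * β * r⁻¹, hrT β hβ, ?_, ?_⟩
      · rw [← hrxu, hshift1 β hβ _ hxui, hxu']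
      · rw [← hru, hshift1 β hβ u huTi, e1]
  -- the three-cycle fixing `u`
  set w := α * β with hw
  have hβu' : β * u = u * β := commutatorElement_eq_one_iff_mul_comm.mp hβu
  have hαu : α * u = u * α := mem_cC.mp (hA.sylow (mem_pP.mp hα).1)
  have hβi : β * i = i * β := mem_cC.mp (cT_le_cC i hβ)
  have hαx : α * x = x * α := (mem_pP.mp hα).2
  have w1 : w * x * w⁻¹ = i := by
    calc w * x * w⁻¹ = α * (β * x * β⁻¹) * α⁻¹ := by rw [hw]; group
      _ = α * (i * x) * α⁻¹ := by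
          rw [show β * x * β⁻¹ = ⁅β, x⁆ * x by rw [commutatorElement_def]; group, hβx]
      _ = (α * i * α⁻¹) * (α * x * α⁻¹) := by group
      _ = x * i * x := by rw [hαi, hαx, mul_inv_cancel_right]
      _ = i := by rw [mul_assoc, hix, ← mul_assoc, hA.xx, one_mul]
  have w2 : w * i * w⁻¹ = x * i := by
    calc w * i * w⁻¹ = α * (β * i * β⁻¹) * α⁻¹ := by rw [hw]; group
      _ = _ := by rw [hβi, mul_inv_cancel_right, hαi]
  have w3 : w * (x * i) * w⁻¹ = x := by
    rw [show w * (x * i) * w⁻¹ = (w * x * w⁻¹) * (w * i * w⁻¹) by group, w1, w2, ← mul_assoc, hix, mul_assoc,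
      hii, mul_one]
  have w0 : w * u * w⁻¹ = u := by
    have hc : Commute w u := (show Commute α u from hαu).mul_left hβu'
    rw [hc.eq, mul_inv_cancel_right]
  set n := tp w with hn
  have hnu : n * u * n⁻¹ = u := by rw [hn, tp_act (by rw [w0, w0, w0]), w0]
  have hnx : n * x * n⁻¹ = i := by rw [hn, tp_act (by rw [w1, w2, w3]), w1]
  have hni : n * i * n⁻¹ = x * i := by rw [hn, tp_act (by rw [w2, w3, w1]), w2]
  have hnC : n ∈ cC u := mem_cC.mpr (mul_inv_eq_iff_eq_mul.mp hnu)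
  obtain ⟨k, hk⟩ := orderOf_tp w
  have hn1 : n ≠ 1 := fun e => hiV (by
    rw [e, one_mul, inv_one, mul_one] at hnx
    exact hnx ▸ Subgroup.subset_closure (by simp))
  have hn3 : orderOf n = 3 := by
    obtain ⟨j, -, hj⟩ := (Nat.dvd_prime_pow Nat.prime_three).mp hk
    rw [← hn] at hj
    rcases Nat.lt_or_ge j 2 with e | e
    · interval_cases j
      · exact absurd (orderOf_eq_one_iff.mp hj) hn1
      · simpa using hj
    · exfalso
      refine not_nine_dvd_cC hl (dvd_trans ?_ (Subgroup.orderOf_dvd_natCard _ hnC))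
      rw [hj, show 9 = 3 ^ 2 from rfl]
      exact pow_dvd_pow 3 e
  have hnE : n ∈ Subgroup.normalizer (E' : Set G) := by
    refine normalizer_of_cj (Subgroup.eq_of_le_of_card_ge ?_ (card_cj n _).ge)
    have hxE : x ∈ E' := Subgroup.mem_sup_left (Subgroup.subset_closure (by simp))
    have huE : u ∈ E' := Subgroup.mem_sup_left (Subgroup.subset_closure (by simp))
    have hiE : i ∈ E' := Subgroup.mem_sup_right (Subgroup.mem_zpowers i)
    refine Subgroup.map_le_iff_le_comap.mpr (sup_le ?_ (Subgroup.zpowers_le.mpr ?_))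
    · rw [hV, Subgroup.closure_le]
      rintro y (rfl | rfl)
      · show n * y * n⁻¹ ∈ E'
        rw [hnu]; exact huE
      · show n * y * n⁻¹ ∈ E'
        rw [hnx]; exact hiE
    · show n * i * n⁻¹ ∈ E'
      rw [hni]; exact mul_mem hxE hiE
  have hE'T : E' ≤ cT u := le_cT_of_three hs hl (S.isPGroup'.to_le (hE'P.trans inf_le_left))
    ((hE'P.trans inf_le_left).trans hA.sylow) hnC hn3 hnE
  -- conjugation by `c` agrees with that by `n` or its inverse
  have hyfix : ∀ y ∈ cX u, ∀ z ∈ E', y * z * y⁻¹ ∈ E' := by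
    intro y hy z hz
    obtain ⟨τ, hτ, o, ho, rfl, hco⟩ := cX_split hs hy
    rw [show τ * o * z * (τ * o)⁻¹ = τ * (o * z) * o⁻¹ * τ⁻¹ by group, hco z (hE'T hz),
      show τ * (z * o) * o⁻¹ * τ⁻¹ = ⁅τ, z⁆ * z by rw [commutatorElement_def]; group]
    refine mul_mem ?_ hz
    have h1 : ⁅τ, z⁆ ∈ Subgroup.zpowers u := hab ▸ Subgroup.commutator_mem_commutator hτ (hE'T hz)
    exact Subgroup.zpowers_le.mpr (Subgroup.mem_sup_left (Subgroup.subset_closure (by simp))) h1
  have hyN : ∀ y ∈ cX u, y ∈ Subgroup.normalizer (E' : Set G) := fun y hy =>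
    normalizer_of_cj (Subgroup.eq_of_le_of_card_ge (by
      rintro _ ⟨z, hz, rfl⟩
      exact hyfix y hy z hz) (card_cj y _).ge)
  have hcE : c ∈ Subgroup.normalizer (E' : Set G) := by
    rcases kinds hs hl hnC with e | e | e | ⟨-, e⟩
    · exact absurd (hn3 ▸ Subgroup.orderOf_dvd_natCard _ e) (three_not_dvd_cX u)
    · have := mul_mem (inv_mem hnE) (hyN _ e)
      rwa [inv_mul_cancel_left] at this
    · have := mul_mem (inv_mem (hyN _ e)) hnE
      rwa [mul_inv_rev, inv_inv, inv_mul_cancel_right] at this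
    · exfalso
      refine e.2.1 ?_
      have h3 : n = (n * n)⁻¹ := by
        rw [eq_inv_iff_mul_eq_one, ← mul_assoc]
        have := pow_orderOf_eq_one n; rwa [hn3, pow_succ, pow_two] at this
      rw [h3]
      exact inv_mem e.2.2.1
  refine hcx ?_
  have hx'E : c * x * c⁻¹ ∈ E' :=
    (Subgroup.mem_normalizer_iff.mp hcE x).mp (Subgroup.mem_sup_left (Subgroup.subset_closure (by simp)))
  have hTx : E' ≤ cT x := by
    rw [← hru, cT_conj, ← cj_normalizer hrE']
    exact Subgroup.map_mono hE'T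
  have hTxu : E' ≤ cT (x * u) := by
    rw [← hrx, cT_conj, ← cj_normalizer hrE']
    exact Subgroup.map_mono hTx
  exact Subgroup.mem_inf.mpr ⟨Subgroup.mem_inf.mpr ⟨hE'T hx'E, hTx hx'E⟩, hTxu hx'E⟩

/-- The rotation normalises `E`. -/
theorem E_normal (hxD : cD u ≠ Subgroup.zpowers u → x ∈ cD u) :
    rot h g ∈ Subgroup.normalizer (eE u c x : Set G) := by
  by_cases hab : cD u = Subgroup.zpowers u
  swap
  · exact a.nonab_E_normal hxD hab
  have hA := a.pair.adm
  have hcj : ∀ k, cD (k * u * k⁻¹) = Subgroup.zpowers (k * u * k⁻¹) := fun k => by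
    rw [cD_conj, hab]
    show Subgroup.map _ _ = _
    rw [MonoidHom.map_zpowers]
    rfl
  have hQV : pQ u x ≤ pV u x := by
    have h1 : cD x = Subgroup.zpowers x := by rw [← a.rot_act.1]; exact hcj _
    have h2 : cD (x * u) = Subgroup.zpowers (x * u) := by
      have := hcj (rot h g * rot h g)
      rwa [show rot h g * rot h g * u * (rot h g * rot h g)⁻¹ =
        rot h g * (rot h g * u * (rot h g)⁻¹) * (rot h g)⁻¹ by group, a.rot_act.1, a.rot_act.2.1] at this
    refine sup_le (sup_le ?_ ?_) ?_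
    · rw [hab, Subgroup.zpowers_le]; exact Subgroup.subset_closure (by simp)
    · rw [h1, Subgroup.zpowers_le]; exact Subgroup.subset_closure (by simp)
    · rw [h2, Subgroup.zpowers_le]
      exact mul_mem (Subgroup.subset_closure (by simp)) (Subgroup.subset_closure (by simp))
  have hD8 : Nat.card (pD u x) ≤ 8 := by
    have h1 := (a.D_cover hxD).2
    have h2 := Subgroup.card_le_of_le hQV
    rw [hA.card_V] at h2
    omega
  have h32 : Nat.card (cT u) = 32 := by
    obtain ⟨n, hn⟩ := IsPGroup.iff_card.mp (cT_isPGroup u)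
    have h1 := hA.good.big
    have h2 := a.card_D_le
    have h3 := card_tb hA.good.six
    have h4 := card_tb_mod hA.good.six
    have hn6 : n ≤ 6 := by
      by_contra hh
      have : 2 ^ 7 ≤ 2 ^ n := Nat.pow_le_pow_right (by norm_num) (by omega)
      omega
    interval_cases n <;> omega
  have hcx := a.leaf_two hab h32 hD8
  have hle : eE u c x ≤ pD u x := by
    rw [Subgroup.closure_le]
    rintro z (rfl | rfl | rfl)
    · exact a.V_le_D (Subgroup.subset_closure (by simp))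
    · exact a.V_le_D (Subgroup.subset_closure (by simp))
    · exact hcx
  have e : eE u c x = pD u x := Subgroup.eq_of_le_of_card_ge hle (by rw [hA.card_E]; exact hD8)
  rw [e]
  exact rot_mem_normalizer a.hD a.gD

end Trio

end CfsgLib.OrderSix
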