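import Cfsg.Agent.Lib.OrderSix.Cores

/-!
Centralizers of involutions of index three or six over `O_{3'}`: reflections.
-/

set_option autoImplicit false
set_option linter.unusedVariables false
set_option linter.unusedSectionVars false
set_option linter.style.haveILetI false

namespace CfsgLib.OrderSix

open CfsgLib.SelfCent CfsgLib.SCThree

universe v

variable {G : Type v} [Group G] [Finite G] {u c : G}

/-- Index three or six. -/
def Low (u : G) : Prop := idx u = 3 ∨ idx u = 6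

theorem Low.of_idx_eq {u i : G} (hl : Low u) (e : idx i = idx u) : Low i := by
  unfold Low; rw [e]; exact hl

theorem Low.conj (hl : Low u) (g : G) : Low (g * u * g⁻¹) := hl.of_idx_eq (idx_conj u g)

/-- The quotient by `O_{3'}`. -/
abbrev piX (u : G) : ↥(cC u) →* ↥(cC u) ⧸ core3 ↥(cC u) := QuotientGroup.mk' _

theorem piX_eq_one {g : G} (hg : g ∈ cC u) : piX u ⟨g, hg⟩ = 1 ↔ g ∈ cX u := by
  rw [QuotientGroup.mk'_apply, QuotientGroup.eq_one_iff, mem_cX]
  exact ⟨fun hx => ⟨hg, hx⟩, fun ⟨_, hx⟩ => hx⟩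

theorem orderOf_piX_c (h : Six u c) : orderOf (piX u ⟨c, h.c_mem⟩) = 3 := by
  have hd : orderOf (piX u ⟨c, h.c_mem⟩) ∣ 3 := by
    refine (orderOf_map_dvd (piX u) _).trans ?_
    rw [← Subgroup.orderOf_coe]
    exact dvd_of_eq h.oc
  rcases Nat.prime_three.eq_one_or_self_of_dvd _ hd with e | e
  · rw [orderOf_eq_one_iff, piX_eq_one] at e
    exact absurd e (c_not_mem_cX h)
  · exact e

theorem card_piX (u : G) : Nat.card (↥(cC u) ⧸ core3 ↥(cC u)) = idx u := rfl

theorem mem_zpowers_three {Q : Type*} [Group Q] {y : Q} (hy : orderOf y = 3) {q : Q}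
    (hq : q ∈ Subgroup.zpowers y) : q = 1 ∨ q = y ∨ q = y⁻¹ := by
  obtain ⟨k, rfl⟩ := Subgroup.mem_zpowers_iff.mp hq
  rw [← zpow_mod_orderOf, hy]
  have h1 : k % 3 = 0 ∨ k % 3 = 1 ∨ k % 3 = 2 := by omega
  rcases h1 with e | e | e <;> push_cast <;> rw [e]
  · simp
  · simp
  · refine Or.inr (Or.inr ?_)
    rw [show ((2 : ℤ)) = (3 : ℤ) + (-1) from rfl, zpow_add, zpow_neg_one,
      show y ^ (3 : ℤ) = 1 by rw [show (3 : ℤ) = ((3 : ℕ) : ℤ) from rfl, zpow_natCast, ← hy, pow_orderOf_eq_one],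
      one_mul]

/-- An element of the centralizer acting as a reflection. -/
def Refl (u c g : G) : Prop :=
  g ∈ cC u ∧ g ∉ cX u ∧ g * g ∈ cX u ∧ g * c * g⁻¹ * c ∈ cX u

theorem Refl.quot (h : Six u c) {g : G} (hg : Refl u c g) :
    piX u ⟨g, hg.1⟩ * piX u ⟨g, hg.1⟩ = 1 ∧
    piX u ⟨g, hg.1⟩ * piX u ⟨c, h.c_mem⟩ * (piX u ⟨g, hg.1⟩)⁻¹ * piX u ⟨c, h.c_mem⟩ = 1 ∧
    piX u ⟨g, hg.1⟩ ∉ Subgroup.zpowers (piX u ⟨c, h.c_mem⟩) := by
  refine ⟨?_, ?_, ?_⟩
  · rw [← map_mul]; exact (piX_eq_one _).mpr hg.2.2.1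
  · rw [← map_inv, ← map_mul, ← map_mul, ← map_mul]; exact (piX_eq_one _).mpr hg.2.2.2
  · intro hq
    have h2 : piX u ⟨g, hg.1⟩ * piX u ⟨g, hg.1⟩ = 1 := by
      rw [← map_mul]; exact (piX_eq_one _).mpr hg.2.2.1
    have hy := orderOf_piX_c h
    have hy2 : ∀ z : ↥(cC u) ⧸ core3 ↥(cC u), orderOf z = 3 → z * z ≠ 1 := fun z hz e => by
      have := orderOf_le_of_pow_eq_one (n := 2) (by norm_num) (by rw [pow_two, e] : z ^ 2 = 1)
      omega
    rcases mem_zpowers_three hy hq with e | e | e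
    · exact hg.2.1 ((piX_eq_one _).mp e)
    · rw [e] at h2; exact hy2 _ hy h2
    · rw [e] at h2; exact hy2 _ (by rw [orderOf_inv, hy]) h2

/-- The four kinds of elements of the centralizer. -/
theorem kinds (h : Six u c) (hl : Low u) {g : G} (hg : g ∈ cC u) :
    g ∈ cX u ∨ g * c ∈ cX u ∨ g * c⁻¹ ∈ cX u ∨ (idx u = 6 ∧ Refl u c g) := by
  set q := piX u ⟨g, hg⟩ with hq
  set y := piX u ⟨c, h.c_mem⟩ with hy
  have hoy : orderOf y = 3 := orderOf_piX_c h
  set H := Subgroup.zpowers y with hH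
  have hHc : Nat.card H = 3 := by rw [hH, Nat.card_zpowers, hoy]
  by_cases hqy : q ∈ H
  · rcases mem_zpowers_three hoy hqy with e | e | e
    · exact Or.inl ((piX_eq_one hg).mp e)
    · refine Or.inr (Or.inr (Or.inl ((piX_eq_one (mul_mem hg (inv_mem h.c_mem))).mp ?_)))
      show piX u (⟨g, hg⟩ * ⟨c, h.c_mem⟩⁻¹) = 1
      rw [map_mul, map_inv, ← hq, e, mul_inv_cancel]
    · refine Or.inr (Or.inl ((piX_eq_one (mul_mem hg h.c_mem)).mp ?_))
      show piX u (⟨g, hg⟩ * ⟨c, h.c_mem⟩) = 1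
      rw [map_mul, ← hq, e, inv_mul_cancel]
  · have h6 : idx u = 6 := by
      rcases hl with e | e
      · exfalso
        have : H = ⊤ := Subgroup.eq_top_of_card_eq H (by rw [hHc, card_piX, e])
        exact hqy (this ▸ Subgroup.mem_top _)
      · exact e
    have hidx : H.index = 2 := by
      have := H.card_mul_index
      rw [hHc, card_piX, h6] at this
      omega
    have hsc : ∀ z : ↥(cC u) ⧸ core3 ↥(cC u), z * y = y * z → z ∈ H := by
      intro z hz
      obtain ⟨x, rfl⟩ := QuotientGroup.mk'_surjective (core3 ↥(cC u)) z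
      set π0 := QuotientGroup.mk' (zU u)
      set π1 := QuotientGroup.mk' (core3 (↥(cC u) ⧸ zU u))
      have hmem : ∀ a : ↥(cC u), a ∈ core3 ↥(cC u) ↔ π1 (π0 a) = 1 := fun a => by
        rw [← comap_core3 h, Subgroup.mem_comap]; exact (QuotientGroup.eq_one_iff _).symm
      have hsc' := h.sc_quot.quotient (core3 (↥(cC u) ⧸ zU u)) not_three_dvd_core3
      have hcomm : π1 (π0 x) * π1 (π0 ⟨c, h.c_mem⟩) = π1 (π0 ⟨c, h.c_mem⟩) * π1 (π0 x) := by
        rw [← map_mul, ← map_mul, ← map_mul, ← map_mul]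
        have e : (x * ⟨c, h.c_mem⟩)⁻¹ * (⟨c, h.c_mem⟩ * x) ∈ core3 ↥(cC u) := by
          rw [← QuotientGroup.eq, QuotientGroup.mk_mul, QuotientGroup.mk_mul]
          exact hz
        rw [hmem, map_mul, map_mul, map_inv, map_inv, inv_mul_eq_one] at e
        exact e
      obtain ⟨k, hk⟩ := Subgroup.mem_zpowers_iff.mp (comm_mem_zpowers hsc' hcomm)
      refine Subgroup.mem_zpowers_iff.mpr ⟨k, ?_⟩
      show piX u ⟨c, h.c_mem⟩ ^ k = piX u x
      rw [← map_zpow]
      refine QuotientGroup.eq.mpr ((hmem _).mpr ?_)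
      rw [map_mul, map_mul, map_inv, map_inv, map_zpow, map_zpow, inv_mul_eq_one]
      exact hk
    haveI hn := Subgroup.normal_of_index_eq_two hidx
    have hne : ∀ z, z * y = y * z → q ≠ z := fun z hz e => hqy (hsc q (e ▸ hz))
    have hqq : q * q = 1 := by
      rcases mem_zpowers_three hoy (Subgroup.mul_self_mem_of_index_two hidx q) with e | e | e
      · exact e
      · exact absurd rfl (hne q (by rw [← e, mul_assoc]))
      · refine absurd rfl (hne q ?_)
        have hc : Commute q (q * q) := (Commute.refl q).mul_right (Commute.refl q)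
        rw [e] at hc
        simpa using hc.inv_right.eq
    have hconj : q * y * q⁻¹ * y = 1 := by
      rcases mem_zpowers_three hoy (hn.conj_mem y (Subgroup.mem_zpowers y) q) with e | e | e
      · exfalso
        rw [conj_eq_one_iff] at e
        rw [e, orderOf_one] at hoy; omega
      · exact absurd rfl (hne q (mul_inv_eq_iff_eq_mul.mp e))
      · rw [e, inv_mul_cancel]
    refine Or.inr (Or.inr (Or.inr ⟨h6, hg, fun hx => hqy ?_, ?_, ?_⟩))
    · rw [hq, (piX_eq_one hg).mpr hx]; exact one_mem H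
    · refine (piX_eq_one (mul_mem hg hg)).mp ?_
      show piX u (⟨g, hg⟩ * ⟨g, hg⟩) = 1
      rw [map_mul]; exact hqq
    · refine (piX_eq_one (mul_mem (mul_mem (mul_mem hg h.c_mem) (inv_mem hg)) h.c_mem)).mp ?_
      show piX u (⟨g, hg⟩ * ⟨c, h.c_mem⟩ * ⟨g, hg⟩⁻¹ * ⟨c, h.c_mem⟩) = 1
      rw [map_mul, map_mul, map_mul, map_inv]; exact hconj

/-- A two-element is in `O_2` or is a reflection. -/
theorem two_elt (h : Six u c) (hl : Low u) {g : G} (hg : g ∈ cC u) {n : ℕ} (hn : g ^ 2 ^ n = 1) :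
    g ∈ cT u ∨ (idx u = 6 ∧ Refl u c g) := by
  have key : ∀ d : G, ∀ hd : d ∈ cC u, orderOf (piX u ⟨d, hd⟩) = 3 → g * d ∈ cX u → False := by
    intro d hd ho hgd
    have e : piX u ⟨g, hg⟩ = (piX u ⟨d, hd⟩)⁻¹ := by
      rw [eq_inv_iff_mul_eq_one, ← map_mul]
      exact (piX_eq_one _).mpr hgd
    have h1 : piX u ⟨g, hg⟩ ^ 2 ^ n = 1 := by
      rw [← map_pow]
      exact (piX_eq_one (pow_mem hg _)).mpr (by rw [hn]; exact one_mem _)
    have h3 : (3 : ℕ) ∣ 2 ^ n := by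
      rw [e, inv_pow, inv_eq_one, ← orderOf_dvd_iff_pow_eq_one, ho] at h1
      exact h1
    have := Nat.prime_three.dvd_of_dvd_pow h3
    norm_num at this
  rcases kinds h hl hg with e | e | e | e
  · exact Or.inl (mem_cT h e hn)
  · exact (key c h.c_mem (orderOf_piX_c h) e).elim
  · refine (key c⁻¹ (inv_mem h.c_mem) ?_ e).elim
    show orderOf (piX u (⟨c, h.c_mem⟩⁻¹)) = 3
    rw [map_inv, orderOf_inv, orderOf_piX_c h]
  · exact Or.inr e

theorem two_group_refl (h : Six u c) (hl : Low u) {P : Subgroup G} (hP : IsPGroup 2 P) (hle : P ≤ cC u)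
    {g : G} (hg : g ∈ P) (hn : g ∉ cT u) : idx u = 6 ∧ Refl u c g := by
  obtain ⟨n, hn'⟩ := isPGroup_two_pow hP hg
  exact (two_elt h hl (hle hg) hn').resolve_left hn

/-- A two-subgroup normalised by an element of order three of the centralizer is in `O_2`. -/
theorem le_cT_of_three (h : Six u c) (hl : Low u) {P : Subgroup G} (hP : IsPGroup 2 P) (hle : P ≤ cC u)
    {r : G} (hr : r ∈ cC u) (hr3 : orderOf r = 3) (hrP : r ∈ Subgroup.normalizer (P : Set G)) :
    P ≤ cT u := by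
  intro g hg
  by_contra hgT
  obtain ⟨-, hR⟩ := two_group_refl h hl hP hle hg hgT
  have hg' : r * g * r⁻¹ ∈ P := (Subgroup.mem_normalizer_iff.mp hrP g).mp hg
  obtain ⟨hq2, hqy, hqn⟩ := hR.quot h
  set y := piX u ⟨c, h.c_mem⟩ with hy
  set q := piX u ⟨g, hR.1⟩ with hq
  set p := piX u ⟨r, hr⟩ with hp
  have hoy : orderOf y = 3 := orderOf_piX_c h
  have hy3 : y * y * y = 1 := by
    have := pow_orderOf_eq_one y; rwa [hoy, pow_succ, pow_two] at this
  have hqyq : q * y * q⁻¹ = y⁻¹ := mul_eq_one_iff_eq_inv.mp hqy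
  -- `r` acts as `c` or its inverse
  have hpy : p = y ∨ p = y⁻¹ := by
    rcases kinds h hl hr with e | e | e | ⟨-, e⟩
    · exact absurd (hr3 ▸ Subgroup.orderOf_dvd_natCard _ e) (three_not_dvd_cX u)
    · right
      rw [eq_inv_iff_mul_eq_one, hp, hy, ← map_mul]
      exact (piX_eq_one _).mpr e
    · left
      rw [← mul_inv_eq_one, hp, hy, ← map_inv, ← map_mul]
      exact (piX_eq_one _).mpr e
    · exfalso
      refine e.2.1 ?_
      have h3 : r = (r * r)⁻¹ := by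
        rw [eq_inv_iff_mul_eq_one, ← mul_assoc]
        have := pow_orderOf_eq_one r; rwa [hr3, pow_succ, pow_two] at this
      rw [h3]
      exact inv_mem e.2.2.1
  obtain ⟨n, hn⟩ := isPGroup_two_pow hP (mul_mem hg hg')
  have h1 : (q * (p * q * p⁻¹)) ^ 2 ^ n = 1 := by
    rw [hp, hq, ← map_inv, ← map_mul, ← map_mul, ← map_mul, ← map_pow]
    refine (piX_eq_one (pow_mem (mul_mem hR.1 (hle hg')) _)).mpr ?_
    rw [hn]; exact one_mem _
  have h3 : (3 : ℕ) ∣ 2 ^ n := by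
    rcases hpy with e | e
    · have : q * (p * q * p⁻¹) = y⁻¹ * y⁻¹ := by
        rw [e]
        calc q * (y * q * y⁻¹) = (q * y * q⁻¹) * (q * q) * y⁻¹ := by group
          _ = _ := by rw [hqyq, hq2, mul_one]
      rw [this, show y⁻¹ * y⁻¹ = y by rw [← mul_inv_rev, inv_eq_of_mul_eq_one_right hy3],
        ← orderOf_dvd_iff_pow_eq_one, hoy] at h1
      exact h1
    · have : q * (p * q * p⁻¹) = y * y := by
        rw [e]
        calc q * (y⁻¹ * q * y⁻¹⁻¹) = (q * y * q⁻¹)⁻¹ * (q * q) * y := by group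
          _ = _ := by rw [hqyq, hq2, mul_one, inv_inv]
      rw [this, show y * y = y⁻¹ from eq_inv_of_mul_eq_one_left hy3, ← orderOf_dvd_iff_pow_eq_one,
        orderOf_inv, hoy] at h1
      exact h1
  have := Nat.prime_three.dvd_of_dvd_pow h3
  norm_num at this

/-! ### Fixed points of two reflections -/

theorem not_nine_dvd_cC (hl : Low u) : ¬ 9 ∣ Nat.card ↥(cC u) := by
  rw [card_cC]
  intro h9
  have h3 : Nat.Coprime 9 (Nat.card (cX u)) :=
    Nat.Coprime.pow_left 2 (Nat.prime_three.coprime_iff_not_dvd.mpr (three_not_dvd_cX u))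
  have := h3.dvd_of_dvd_mul_left h9
  rcases hl with e | e <;> rw [e] at this <;> norm_num at this

/-- The elements fixing a coset modulo `N`. -/
theorem fixes_mul {N : Subgroup G} {g k m : G} (hg : g ∈ Subgroup.normalizer (N : Set G))
    (h1 : g * m * g⁻¹ * m⁻¹ ∈ N) (h2 : k * m * k⁻¹ * m⁻¹ ∈ N) :
    g * k * m * (g * k)⁻¹ * m⁻¹ ∈ N := by
  have e : g * k * m * (g * k)⁻¹ * m⁻¹ = g * (k * m * k⁻¹ * m⁻¹) * g⁻¹ * (g * m * g⁻¹ * m⁻¹) := by group
  rw [e]
  exact mul_mem ((Subgroup.mem_normalizer_iff.mp hg _).mp h2) h1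

theorem fixes_pow {N : Subgroup G} {g m : G} (hg : g ∈ Subgroup.normalizer (N : Set G))
    (h1 : g * m * g⁻¹ * m⁻¹ ∈ N) (n : ℕ) : g ^ n * m * (g ^ n)⁻¹ * m⁻¹ ∈ N := by
  induction n with
  | zero => simp
  | succ n ih => rw [pow_succ]; exact fixes_mul (pow_mem hg n) ih h1

theorem fix_cC (h : Six u c) (hl : Low u) {N : Subgroup G} (hN : N ≤ cT u) (hu : u ∈ N)
    (hn : cC u ≤ Subgroup.normalizer (N : Set G)) {r m : G} (hr : r ∈ cC u) (hr3 : orderOf r = 3)
    (hm : m ∈ cT u) (hf : r * m * r⁻¹ * m⁻¹ ∈ N) : m ∈ N := by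
  obtain ⟨g, hg, e⟩ := h.three_conj (mem_cC.mp hr) hr3
  have hgT : g⁻¹ * m * g ∈ cT u := by
    simpa using (Subgroup.mem_normalizer_iff.mp (cT_normalized u (inv_mem hg)) m).mp hm
  have key : ∀ d : G, Six u d → r = g * d * g⁻¹ → m ∈ N := by
    intro d hd e
    have h1 : d * (g⁻¹ * m * g) * d⁻¹ * (g⁻¹ * m * g)⁻¹ ∈ N := by
      have := (Subgroup.mem_normalizer_iff.mp (hn (inv_mem hg)) _).mp hf
      rw [e] at this
      refine (congrArg (· ∈ N) ?_).mp this
      group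
    have h2 : (g⁻¹ * m * g)⁻¹ * (d * (g⁻¹ * m * g) * d⁻¹) ∈ N := by
      have := (Subgroup.mem_normalizer_iff.mp (hn (cT_le_cC u (inv_mem hgT))) _).mp h1
      refine (congrArg (· ∈ N) ?_).mp this
      group
    have h3 := fix_mod hd hN hu (hn hd.c_mem) hgT h2
    have := (Subgroup.mem_normalizer_iff.mp (hn hg) _).mp h3
    simpa [mul_assoc] using this
  rcases e with e | e
  · exact key c h e
  · exact key c⁻¹ h.inv e

/-- Two conjugate reflections have no common fixed points modulo `N`. -/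
theorem free_fix (h : Six u c) (hl : Low u) {N : Subgroup G} (hN : N ≤ cT u) (hu : u ∈ N)
    (hn : cC u ≤ Subgroup.normalizer (N : Set G)) {g m : G} (hg : Refl u c g) (hm : m ∈ cT u)
    (h1 : g * m * g⁻¹ * m⁻¹ ∈ N) (h2 : c * g * c⁻¹ * m * (c * g * c⁻¹)⁻¹ * m⁻¹ ∈ N) : m ∈ N := by
  set k := g * (c * g * c⁻¹) with hk
  have hkC : k ∈ cC u := mul_mem hg.1 (mul_mem (mul_mem h.c_mem hg.1) (inv_mem h.c_mem))
  have hfk : k * m * k⁻¹ * m⁻¹ ∈ N := fixes_mul (hn hg.1) h1 h2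
  -- `k` acts as `c`
  obtain ⟨hq2, hqy, -⟩ := hg.quot h
  have hoy := orderOf_piX_c h
  have hky : piX u ⟨k, hkC⟩ = piX u ⟨c, h.c_mem⟩ := by
    show piX u (⟨g, hg.1⟩ * (⟨c, h.c_mem⟩ * ⟨g, hg.1⟩ * ⟨c, h.c_mem⟩⁻¹)) = _
    rw [map_mul, map_mul, map_mul, map_inv]
    set y := piX u ⟨c, h.c_mem⟩
    set q := piX u ⟨g, hg.1⟩
    have hy3 : y * y * y = 1 := by
      have := pow_orderOf_eq_one y; rwa [hoy, pow_succ, pow_two] at this
    have hyy : y⁻¹ * y⁻¹ = y := by rw [← mul_inv_rev, inv_eq_of_mul_eq_one_right hy3]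
    calc q * (y * q * y⁻¹) = (q * y * q⁻¹) * (q * q) * y⁻¹ := by group
      _ = y⁻¹ * y⁻¹ := by rw [mul_eq_one_iff_eq_inv.mp hqy, hq2, mul_one]
      _ = y := hyy
  have hd3 : 3 ∣ orderOf k := by
    rw [← hoy, ← hky, ← Subgroup.orderOf_mk k hkC]
    exact orderOf_map_dvd (piX u) _
  set r := k ^ (orderOf k / 3) with hr
  have hr3 : orderOf r = 3 := by
    rw [hr]; exact orderOf_pow_orderOf_div (orderOf_pos k).ne' hd3
  exact fix_cC h hl hN hu hn (pow_mem hkC _) hr3 hm (fixes_pow (hn hkC) hfk _)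

/-- A reflection fixes a small part of `O_2`. -/
theorem free_index (h : Six u c) (hl : Low u) {N B : Subgroup G} (hN : N ≤ cT u) (hu : u ∈ N)
    (hn : cC u ≤ Subgroup.normalizer (N : Set G)) (hB : B ≤ cT u) {g : G} (hg : Refl u c g)
    (hf : ∀ b ∈ B, g * b * g⁻¹ * b⁻¹ ∈ N) :
    N.relIndex (cT u) ≤ B.relIndex (cT u) * B.relIndex (cT u) := by
  have hTc : cj c (cT u) = cT u := by
    refine Subgroup.eq_of_le_of_card_ge ?_ (card_cj c _).ge
    intro a ha
    have := (Subgroup.mem_normalizer_iff.mp (cT_normalized u h.c_mem) _).mp (mem_cj.mp ha)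
    simpa [mul_assoc] using this
  have hle : B ⊓ cj c B ≤ N := by
    rintro b ⟨hb, hb'⟩
    refine free_fix h hl hN hu hn hg (hB hb) (hf b hb) ?_
    have := (Subgroup.mem_normalizer_iff.mp (hn h.c_mem) _).mp (hf _ (mem_cj.mp hb'))
    refine (congrArg (· ∈ N) ?_).mp this
    group
  have e : (cj c B).relIndex (cT u) = B.relIndex (cT u) := by
    conv_lhs => rw [← hTc]
    exact Subgroup.relIndex_map_map_of_injective _ _ (MulAut.conj c).injective
  refine le_trans ?_ ((Subgroup.relIndex_inf_le (H := B) (K := cj c B)).trans_eq (by rw [e]))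
  refine Nat.le_of_dvd (Nat.pos_of_ne_zero ?_) (Subgroup.relIndex_dvd_of_le_left _ hle)
  exact Subgroup.index_ne_zero_of_finite

/-! ### Sylow two-subgroups -/

theorem sylow_index (h : Six u c) (hl : Low u) (S : Sylow 2 G) (hS : (S : Subgroup G) ≤ cC u) :
    (idx u = 3 ∧ (S : Subgroup G) = cT u) ∨ (idx u = 6 ∧ (cT u).relIndex (S : Subgroup G) = 2) := by
  haveI := Fact.mk Nat.prime_two
  have hT := cT_le_sylow h S hS
  rcases hl with e | e
  · refine Or.inl ⟨e, le_antisymm (fun g hg => ?_) hT⟩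
    by_contra hn
    have := (two_group_refl h (Or.inl e) S.isPGroup' hS hg hn).1
    omega
  · refine Or.inr ⟨e, ?_⟩
    have hlow : Low u := Or.inr e
    obtain ⟨n, hn⟩ := IsPGroup.iff_card.mp (cT_isPGroup u)
    have hdvd : 2 ^ (n + 1) ∣ Nat.card G := by
      refine dvd_trans ?_ (cC u).card_subgroup_dvd_card
      rw [card_cC, e, pow_succ, ← hn]
      exact Nat.mul_dvd_mul (Subgroup.card_dvd_of_le (cT_le_cX u)) (by norm_num)
    have hSd := S.pow_dvd_card_of_pow_dvd_card hdvd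
    have hcard : Nat.card (cT u) * (cT u).relIndex (S : Subgroup G) = Nat.card (S : Subgroup G) := by
      have := ((cT u).subgroupOf (S : Subgroup G)).card_mul_index
      rwa [Nat.card_congr (Subgroup.subgroupOfEquivOfLe hT).toEquiv] at this
    have hdvd' : Nat.card (S : Subgroup G) ∣ 2 * Nat.card (cT u) := by
      have h1 : Nat.card (S : Subgroup G) ∣ Nat.card (cX u) * 6 := by
        rw [← e, ← card_cC]; exact Subgroup.card_dvd_of_le hS
      obtain ⟨Q⟩ : Nonempty (Sylow 2 ↥(cX u)) := inferInstance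
      have hQ : (Q : Subgroup ↥(cX u)).map (cX u).subtype ≤ cT u :=
        le_cT h (Q.isPGroup'.map _) (Subgroup.map_subtype_le _)
      obtain ⟨m, hm⟩ := IsPGroup.iff_card.mp S.isPGroup'
      rw [hm] at h1 ⊢
      have hodd : ¬ 2 ∣ (Q : Subgroup ↥(cX u)).index := Q.not_dvd_index
      rw [← (Q : Subgroup ↥(cX u)).card_mul_index, mul_assoc,
        show 6 = 2 * 3 from rfl, ← mul_assoc (Q : Subgroup ↥(cX u)).index,
        mul_comm _ 2, mul_assoc, ← mul_assoc] at h1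
      have hco : Nat.Coprime (2 ^ m) ((Q : Subgroup ↥(cX u)).index * 3) :=
        Nat.Coprime.pow_left m ((Nat.prime_two.coprime_iff_not_dvd.mpr hodd).mul_right (by norm_num))
      refine (hco.dvd_of_dvd_mul_right h1).trans ?_
      rw [mul_comm]
      refine mul_dvd_mul_left 2 ?_
      rw [← card_map_subtype (Q : Subgroup ↥(cX u))]
      exact Subgroup.card_dvd_of_le hQ
    rw [← hcard, mul_comm 2] at hdvd'
    have h1 := (Nat.mul_dvd_mul_iff_left Nat.card_pos).mp hdvd'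
    rw [pow_succ, ← hn, ← hcard] at hSd
    have h2 := (Nat.mul_dvd_mul_iff_left Nat.card_pos).mp hSd
    exact Nat.dvd_antisymm h1 h2

end CfsgLib.OrderSix
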