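import Cfsg.Agent.Lib.OrderSix.Span

/-!
Large `O_2`: if `O_2` is not abelian modulo `u`, the rotation normalises `E`.
-/

set_option autoImplicit false
set_option linter.unusedVariables false
set_option linter.unusedSectionVars false
set_option linter.style.haveILetI false

namespace CfsgLib.OrderSix

open CfsgLib.SelfCent CfsgLib.SCThree
open scoped commutatorElement

universe v

variable {G : Type v} [Group G] [Finite G] {u c x d h g : G} {S Sx : Sylow 2 G}

/-- The image of a subgroup of `O_2` modulo `u`. -/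
abbrev tbIm (u : G) (A : Subgroup G) : Subgroup (Tb u) :=
  (A.subgroupOf (cT u)).map (QuotientGroup.mk' ((Subgroup.zpowers u).subgroupOf (cT u)))

theorem tb_mem_tbIm {A : Subgroup G} {y : G} (hy : y ∈ cT u) (hA : y ∈ A) : tb y hy ∈ tbIm u A :=
  ⟨⟨y, hy⟩, Subgroup.mem_subgroupOf.mpr hA, rfl⟩

theorem card_tbIm (hs : Six u c) {A : Subgroup G} (hA : A ≤ cT u) (hu : u ∈ A) :
    Nat.card A = 2 * Nat.card (tbIm u A) := by
  set D' := A.subgroupOf (cT u)
  set U' := (Subgroup.zpowers u).subgroupOf (cT u)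
  have hU' : U' ≤ D' := fun z hz => Subgroup.mem_subgroupOf.mpr
    (Subgroup.zpowers_le.mpr hu (Subgroup.mem_subgroupOf.mp hz))
  have h1 := card_relIndex hU'
  rw [Nat.card_congr (Subgroup.subgroupOfEquivOfLe (U_le_cT hs)).toEquiv, card_U hs,
    Nat.card_congr (Subgroup.subgroupOfEquivOfLe hA).toEquiv] at h1
  rw [← h1]
  congr 1
  have h3 := Subgroup.relIndex_ker (K := D') (QuotientGroup.mk' U')
  rwa [QuotientGroup.ker_mk'] at h3

namespace Trio

variable (a : Trio u c x d S Sx h g) (hxD : cD u ≠ Subgroup.zpowers u → x ∈ cD u)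
include a

/-- The rotation is inverted by an element of the Sylow subgroup. -/
theorem exists_inverting : ∃ k ∈ (S : Subgroup G), ∃ p ∈ pP x S, k = p * h ∧ k ∉ pP x S ∧
    k * rot h g * k⁻¹ = (rot h g)⁻¹ := by
  haveI : Fact (Nat.Prime 3) := ⟨Nat.prime_three⟩
  set r := rot h g
  set P := pP x S with hP
  have hrN : r ∈ Subgroup.normalizer (P : Set G) := rot_mem_normalizer a.hN a.gN
  set r' := h * r * h⁻¹ with hr'
  have hinv : r' * r ∈ P := a.rot_inverted (Or.inl rfl)
  set Z := Subgroup.zpowers r with hZ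
  have hZN : Z ≤ Subgroup.normalizer (P : Set G) := Subgroup.zpowers_le.mpr hrN
  set M := Z ⊔ P with hM
  have hmem : ∀ m ∈ M, ∃ z ∈ Z, ∃ p ∈ P, z * p = m := fun m hm => by
    have hm' : m ∈ ((Z ⊔ P : Subgroup G) : Set G) := hm
    rw [Subgroup.coe_mul_of_left_le_normalizer_right Z P hZN] at hm'
    obtain ⟨z, hz, p, hp, e⟩ := hm'
    exact ⟨z, hz, p, hp, e⟩
  obtain ⟨k, hk⟩ := orderOf_rot h g
  obtain ⟨n, hn⟩ := IsPGroup.iff_card.mp (S.isPGroup'.to_le (inf_le_left : P ≤ _))
  have hcard : Nat.card M ≤ Nat.card Z * Nat.card P := by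
    let f : Z × P → M := fun q => ⟨q.1 * q.2, mul_mem (Subgroup.mem_sup_left q.1.2) (Subgroup.mem_sup_right q.2.2)⟩
    have hf : Function.Surjective f := by
      intro m
      obtain ⟨z, hz, p, hp, e⟩ := hmem m m.2
      exact ⟨(⟨z, hz⟩, ⟨p, hp⟩), Subtype.ext e⟩
    exact (Nat.card_le_card_of_surjective f hf).trans (le_of_eq (Nat.card_prod _ _))
  have hcard' : Nat.card M = Nat.card Z * Nat.card P := by
    refine le_antisymm hcard (Nat.le_of_dvd Nat.card_pos ?_)
    refine Nat.Coprime.mul_dvd_of_dvd_of_dvd ?_ (Subgroup.card_dvd_of_le le_sup_left)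
      (Subgroup.card_dvd_of_le le_sup_right)
    rw [Nat.card_zpowers, hn]
    exact (Nat.Coprime.pow k n (show Nat.Coprime 3 2 by norm_num)).coprime_dvd_left hk
  -- two subgroups of maximal order
  have hr'M : r' ∈ M := by
    have : r' = (r' * r) * r⁻¹ := by group
    rw [this]
    exact mul_mem (Subgroup.mem_sup_right hinv) (Subgroup.mem_sup_left (inv_mem (Subgroup.mem_zpowers r)))
  have hp3 : ∀ s ∈ M, orderOf s = orderOf r →
      ∃ Q : Sylow 3 ↥M, (Q : Subgroup ↥M) = (Subgroup.zpowers s).subgroupOf M := by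
    intro s hs hos
    have hc : Nat.card ((Subgroup.zpowers s).subgroupOf M) = orderOf r := by
      rw [Nat.card_congr (Subgroup.subgroupOfEquivOfLe (Subgroup.zpowers_le.mpr hs)).toEquiv, Nat.card_zpowers, hos]
    obtain ⟨j, -, hj⟩ := (Nat.dvd_prime_pow Nat.prime_three).mp hk
    have hpg : IsPGroup 3 ((Subgroup.zpowers s).subgroupOf M) := IsPGroup.of_card (n := j) (hc.trans hj)
    refine ⟨hpg.toSylow ?_, rfl⟩
    intro h3
    have h1 := ((Subgroup.zpowers s).subgroupOf M).card_mul_index
    rw [hc, hcard', Nat.card_zpowers] at h1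
    have h2 := Nat.eq_of_mul_eq_mul_left (orderOf_pos r) h1
    rw [h2, hn] at h3
    have := Nat.prime_three.dvd_of_dvd_pow h3
    norm_num at this
  obtain ⟨Q1, hQ1⟩ := hp3 r' hr'M (by rw [hr', ← MulAut.conj_apply, MulEquiv.orderOf_eq])
  obtain ⟨Q2, hQ2⟩ := hp3 r (Subgroup.mem_sup_left (Subgroup.mem_zpowers r)) rfl
  obtain ⟨m, hm⟩ := MulAction.exists_smul_eq ↥M Q1 Q2
  obtain ⟨z, hz, p, hp, e⟩ := hmem m m.2
  have hmr : (m : G) * r' * (m : G)⁻¹ ∈ Z := by
    have h1 : m * ⟨r', hr'M⟩ * m⁻¹ ∈ ((Q2 : Subgroup ↥M)) := by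
      rw [← hm, Sylow.coe_subgroup_smul, Subgroup.mem_pointwise_smul_iff_inv_smul_mem, hQ1]
      simp [Subgroup.mem_subgroupOf, mul_assoc]
    rw [hQ2] at h1
    exact h1
  have hpr : p * r' * p⁻¹ ∈ Z := by
    have := mul_mem (mul_mem (inv_mem hz) hmr) hz
    rwa [← e, show z⁻¹ * (z * p * r' * (z * p)⁻¹) * z = p * r' * p⁻¹ by group] at this
  have hkS : p * h ∈ (S : Subgroup G) := mul_mem (mem_pP.mp hp).1 a.hS
  have hkP : p * h ∉ P := fun hh => a.hP (by
    have := mul_mem (inv_mem hp) hh; rwa [inv_mul_cancel_left] at this)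
  refine ⟨p * h, hkS, p, hp, rfl, hkP, ?_⟩
  have h1 : p * h * r * (p * h)⁻¹ * r ∈ P := by
    have hrP : r⁻¹ * p⁻¹ * r ∈ P := by
      simpa using (Subgroup.mem_normalizer_iff.mp (inv_mem hrN) _).mp (inv_mem hp)
    have := mul_mem (mul_mem hp hinv) hrP
    refine (congrArg (· ∈ P) ?_).mp this
    rw [hr']; group
  have h2 : p * h * r * (p * h)⁻¹ * r ∈ Z := by
    refine mul_mem ?_ (Subgroup.mem_zpowers r)
    refine (congrArg (· ∈ Z) ?_).mp hpr
    rw [hr']; group
  have h3 : orderOf (p * h * r * (p * h)⁻¹ * r) = 1 := by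
    have d1 := Subgroup.orderOf_dvd_natCard _ h1
    have d2 := Subgroup.orderOf_dvd_natCard _ h2
    rw [Nat.card_zpowers] at d2
    rw [hn] at d1
    have := Nat.dvd_gcd d1 (d2.trans hk)
    rwa [(Nat.Coprime.pow n k (show Nat.Coprime 2 3 by norm_num)).gcd_eq_one, Nat.dvd_one] at this
  exact eq_inv_of_mul_eq_one_left (orderOf_eq_one_iff.mp h3)

/-- No element of `O_2` moves `x` and has a suitable commutator. -/
theorem lemma_L {k p : G} (hk : k ∈ cT u) (hkP : k ∉ pP x S)
    (hpx : ⁅p, k⁆ = x ∨ ⁅p, k⁆ = x * u) (hc : p * (k * k) = k * k * p) : False := by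
  have hkS := cT_le_sylow a.pair.adm.good.six S a.pair.adm.sylow hk
  have hm := a.pair.adm.moved_iff hkS hkP
  have hku : k * u * k⁻¹ = u := by rw [mem_cC.mp (cT_le_cC u hk), mul_inv_cancel_right]
  set e := ⁅p, k⁆ with he
  have h1 : e * (k * e * k⁻¹) = 1 := by
    rw [he, commutatorElement_def]
    calc p * k * p⁻¹ * k⁻¹ * (k * (p * k * p⁻¹ * k⁻¹) * k⁻¹) = p * (k * k) * p⁻¹ * (k * k)⁻¹ := by group
      _ = 1 := by rw [hc]; group
  rcases hpx with e0 | e0 <;> rw [e0] at h1
  · rw [hm, ← mul_assoc, a.pair.adm.xx, one_mul] at h1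
    exact a.pair.adm.good.six.u_ne_one h1
  · rw [show k * (x * u) * k⁻¹ = (k * x * k⁻¹) * (k * u * k⁻¹) by group, hm, hku, mul_assoc x u u,
      a.pair.adm.good.six.uu, mul_one, mul_assoc, a.pair.adm.xu.symm, ← mul_assoc, a.pair.adm.xx, one_mul] at h1
    exact a.pair.adm.good.six.u_ne_one h1

include hxD

/-- If `O_2` is not abelian modulo `u`, the rotation normalises `E`. -/
theorem nonab_E_normal (hnab : cD u ≠ Subgroup.zpowers u) :
    rot h g ∈ Subgroup.normalizer (eE u c x : Set G) := by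
  by_contra hne
  have hs := a.pair.adm.good.six
  have hQD := a.Q_le_D hxD
  have hDT : pD u x ≤ cT u := inf_le_left.trans inf_le_left
  have hQT : pQ u x ≤ cT u := hQD.trans hDT
  have huQ : u ∈ pQ u x := Subgroup.mem_sup_left (Subgroup.mem_sup_left a.pair.adm.good.der)
  have hUQ : Subgroup.zpowers u ≤ cD u := Subgroup.zpowers_le.mpr a.pair.adm.good.der
  have hEQ : eE u c x ≤ cD u := by
    rw [Subgroup.closure_le]
    rintro z (rfl | rfl | rfl)
    · exact a.pair.adm.good.der
    · exact hxD hnab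
    · exact (Subgroup.mem_normalizer_iff.mp (cD_normalized u hs.c_mem) x).mp (hxD hnab)
  set r := rot h g with hr
  obtain ⟨kk, hk3⟩ := orderOf_rot h g
  have hrD : r ∈ Subgroup.normalizer (pD u x : Set G) := rot_mem_normalizer a.hD a.gD
  have hrQ : r ∈ Subgroup.normalizer (pQ u x : Set G) := rot_mem_normalizer (a.hQ hxD) (a.gQ hxD)
  have hrP : r ∈ Subgroup.normalizer (pP x S : Set G) := rot_mem_normalizer a.hN a.gN
  obtain ⟨hcov, hD2⟩ := a.D_cover hxD
  have hDmod : Nat.card (pD u x) % 3 = Nat.card (fixR h g (pD u x)) % 3 := card_fixed_mod hk3 hrD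
  have hC := a.card_fixR (isPGroup_cT_le hDT)
  have hCpos : 0 < Nat.card (fixR h g (pD u x)) := Nat.card_pos
  -- the abelian span
  set A := tbIm u (pQ u x) with hA
  set Y := A ⊔ A.map hs.phi.toMonoidHom ⊔ A.map (hs.phi * hs.phi).toMonoidHom with hY
  have hAab : ∀ p ∈ A, ∀ q ∈ A, ⁅p, q⁆ = 1 := by
    rintro _ ⟨p, hp, rfl⟩ _ ⟨q, hq, rfl⟩
    rw [← map_commutatorElement]
    have e : ⁅p, q⁆ = 1 := commutatorElement_eq_one_iff_mul_comm.mpr (Subtype.ext
      (a.Q_comm hxD (Subgroup.mem_subgroupOf.mp hp) (Subgroup.mem_subgroupOf.mp hq)))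
    rw [e, map_one]
  have hYab := hs.three.span_comm hAab
  have hAY : A ≤ Y := le_sup_left.trans le_sup_left
  have hφY : ∀ y ∈ Y, hs.phi y ∈ Y := by
    have : Y.map hs.phi.toMonoidHom ≤ Y := by
      refine Subgroup.map_le_iff_le_comap.mpr (sup_le (sup_le ?_ ?_) ?_)
      · intro y hy
        exact Subgroup.mem_sup_left (Subgroup.mem_sup_right ⟨y, hy, rfl⟩)
      · rintro _ ⟨y, hy, rfl⟩
        exact Subgroup.mem_sup_right ⟨y, hy, rfl⟩
      · rintro _ ⟨y, hy, rfl⟩
        show hs.phi (hs.phi (hs.phi y)) ∈ Y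
        rw [hs.three.cube]; exact hAY hy
    exact fun y hy => this ⟨y, hy, rfl⟩
  -- the index of the span
  have hTcard := card_tb hs
  have hTmod := card_tb_mod hs
  have hQcard : Nat.card (pQ u x) = 2 * Nat.card A := card_tbIm hs hQT huQ
  have hnabT : ¬ ∀ p q : Tb u, p * q = q * p := by
    intro hab
    refine hnab (le_antisymm ?_ hUQ)
    rw [Subgroup.commutator_le]
    intro p hp q hq
    have := commutatorElement_eq_one_iff_mul_comm.mpr (hab (tb p hp) (tb q hq))
    rwa [tb_comm, tb_eq_one] at this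
  have hQD' : Nat.card (pQ u x) ≤ Nat.card (pD u x) := Subgroup.card_le_of_le hQD
  have hT8 := a.card_D_le
  have hDQ1 : Nat.card (fixR h g (pD u x)) = 1 → pD u x = pQ u x := by
    intro e
    refine le_antisymm (fun y hy => ?_) hQD
    obtain ⟨z, hz, hzQ⟩ := hcov y hy
    have hz1 : z = 1 := by
      rw [Subgroup.card_eq_one] at e
      exact Subgroup.mem_bot.mp (e ▸ hz)
    rw [hz1, mul_one, inv_mem_iff] at hzQ
    exact hzQ
  obtain ⟨nD, hnD⟩ := IsPGroup.iff_card.mp (isPGroup_cT_le hDT)
  obtain ⟨nT, hnT⟩ := IsPGroup.iff_card.mp (cT_isPGroup u)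
  have hDdvd := Subgroup.card_dvd_of_le hDT
  obtain ⟨ρ, hρ⟩ := hDdvd
  have hρpow : ∃ j, ρ = 2 ^ j := by
    have : ρ ∣ 2 ^ nT := hnT ▸ hρ ▸ dvd_mul_left ρ _
    obtain ⟨j, -, hj⟩ := (Nat.dvd_prime_pow Nat.prime_two).mp this
    exact ⟨j, hj⟩
  obtain ⟨j, hj⟩ := hρpow
  have hρ8 : ρ ≤ 8 := by
    have hpos : 0 < Nat.card (pD u x) := Nat.card_pos
    have : Nat.card (pD u x) * ρ ≤ Nat.card (pD u x) * 8 := by rw [← hρ, mul_comm _ 8]; exact hT8
    exact Nat.le_of_mul_le_mul_left this hpos
  have hjle : j ≤ 3 := by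
    by_contra hh
    have : 2 ^ 4 ≤ 2 ^ j := Nat.pow_le_pow_right (by norm_num) (by omega)
    omega
  have hTQ : Nat.card (cT u) ≤ 8 * Nat.card (pQ u x) := by
    rcases Nat.lt_or_ge (Nat.card (fixR h g (pD u x))) 2 with e | e
    · rw [← hDQ1 (by omega)]; exact hT8
    · have e2 : Nat.card (fixR h g (pD u x)) = 2 := by omega
      have h4 : ρ ≤ 4 := by
        interval_cases j <;> norm_num at hj <;> subst hj <;> omega
      calc Nat.card (cT u) = Nat.card (pD u x) * ρ := hρ
        _ ≤ 2 * Nat.card (pQ u x) * 4 := Nat.mul_le_mul hD2 h4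
        _ = _ := by ring
  have hYmod := hs.three.card_mod hφY
  have hYidx : Y.index = 1 ∨ Y.index = 4 := by
    have h1 := Y.card_mul_index
    have h2 : Y.index ≤ 8 := by
      have h3 := Nat.le_of_dvd Nat.card_pos (Subgroup.card_dvd_of_le hAY)
      have hpos : 0 < Nat.card Y := Nat.card_pos
      have : Nat.card Y * Y.index ≤ Nat.card Y * 8 := by
        rw [h1]; omega
      exact Nat.le_of_mul_le_mul_left this hpos
    obtain ⟨i, hi⟩ := (tb_isPGroup u).index Y
    have hi3 : i ≤ 3 := by
      by_contra hh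
      have : 2 ^ 4 ≤ 2 ^ i := Nat.pow_le_pow_right (by norm_num) (by omega)
      omega
    rw [← h1, Nat.mul_mod, hYmod] at hTmod
    interval_cases i <;> simp [hi] at hTmod ⊢
  have hY4 : Y.index = 4 := by
    rcases hYidx with e | e
    · exfalso
      refine hnabT fun p q => commutatorElement_eq_one_iff_mul_comm.mp (hYab p ?_ q ?_) <;>
        · show _ ∈ Y
          rw [Subgroup.index_eq_one.mp e]; exact Subgroup.mem_top _
    · exact e
  -- `ρ` is eight or four
  have hT2 : ∀ B : Subgroup G, B = pQ u x → Nat.card (cT u) ≤ 2 * Nat.card B → False := by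
    intro B hB h2'
    subst hB
    have h1 := Y.card_mul_index
    have h3 := Nat.le_of_dvd Nat.card_pos (Subgroup.card_dvd_of_le hAY)
    rw [hY4] at h1
    have : 0 < Nat.card A := Nat.card_pos
    omega
  -- the elements of the span fix `x`
  have noY : ∀ k, ∀ hk : k ∈ cT u, tb k hk ∈ Y → k ∈ pP x S := by
    intro k hk hkY
    by_contra hkP
    set g' := r * k * r⁻¹ with hg'
    have hg'T : g' ∈ cT x := by
      rw [← a.rot_act.1, cT_conj, mem_cj]
      have e : r⁻¹ * g' * r = k := by rw [hg']; group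
      show (rot h g)⁻¹ * g' * rot h g ∈ cT u
      rw [← hr, e]; exact hk
    have hkS := cT_le_sylow hs S a.pair.adm.sylow hk
    have hkx := a.pair.adm.moved_iff hkS hkP
    have hg'P : g' ∉ pP x S := by
      intro hh
      have e1 : g' * (x * u) * g'⁻¹ = u := by
        rw [hg']
        calc r * k * r⁻¹ * (x * u) * (r * k * r⁻¹)⁻¹
            = r * (k * (r⁻¹ * (r * x * r⁻¹) * r) * k⁻¹) * r⁻¹ := by rw [hr, a.rot_act.2.1]; group
          _ = r * (k * x * k⁻¹) * r⁻¹ := by group
          _ = u := by rw [hkx, hr, a.rot_act.2.2]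
      have e2 : g' * (x * u) * g'⁻¹ = x * u := by
        have hc1 : Commute g' x := (mem_pP.mp hh).2
        have hc2 : Commute g' u := mem_cC.mp (a.pair.adm.sylow (mem_pP.mp hh).1)
        rw [(hc1.mul_right hc2).eq, mul_inv_cancel_right]
      exact a.pair.adm.x_ne_one (mul_eq_right.mp (e2.symm.trans e1))
    have a' : Trio u c x d S Sx k g' := ⟨a.pair, hk, hkP, hg'T, hg'P⟩
    have hcomm : ∀ y ∈ pQ u x, ⁅k, y⁆ ∈ Subgroup.zpowers u := by
      intro y hy
      have hyT := hQT hy
      have h1 := hYab _ hkY _ (hAY (tb_mem_tbIm hyT hy))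
      rwa [tb_comm, tb_eq_one] at h1
    obtain ⟨-, hcard⟩ := a'.trick (isPGroup_cT_le hQT) (N := pV u x) (D := pQ u x)
      (le_trans (by
        rw [Subgroup.closure_le]
        rintro z (rfl | rfl)
        · exact a.pair.adm.good.der
        · exact hxD hnab) (le_sup_left.trans le_sup_left))
      (a'.hQ hxD) (a'.gQ hxD) a'.hV a'.gV
      (fun y hy => by
        have hy' := a.D_le_P (hQD hy)
        refine normalizer_of_cj (Subgroup.eq_of_le_of_card_ge ?_ (card_cj y _).ge)
        intro z hz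
        have hz' := mem_cj.mp hz
        have hyu : Commute y u := mem_cC.mp (a.pair.adm.sylow hy'.1)
        have hyx : Commute y x := (mem_pP.mp hy').2
        have hfix : Commute y (y⁻¹ * z * y) := by
          rcases a.pair.adm.mem_V.mp hz' with e | e | e | e <;> rw [e]
          exacts [Commute.one_right y, hyu, hyx, hyu.mul_right hyx]
        have e : z = y⁻¹ * z * y := by
          calc z = y * (y⁻¹ * z * y) * y⁻¹ := by group
            _ = _ := by rw [hfix.eq, mul_inv_cancel_right]
        rw [e]; exact hz')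
      (fun y hy => Subgroup.zpowers_le.mpr (Subgroup.subset_closure (by simp)) (hcomm y hy))
      (fun y hy => by
        have hy' : r⁻¹ * y * r ∈ pQ u x := by
          simpa using (Subgroup.mem_normalizer_iff.mp (inv_mem hrQ) y).mp hy
        have h1 := hcomm _ hy'
        have e : g' * y * g'⁻¹ * y⁻¹ = r * ⁅k, r⁻¹ * y * r⁆ * r⁻¹ := by
          rw [hg', commutatorElement_def]; group
        rw [e]
        rcases (mem_U hs).mp h1 with e1 | e1 <;> rw [e1]
        · rw [mul_one, mul_inv_cancel]; exact one_mem _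
        · rw [hr, a.rot_act.1]; exact Subgroup.subset_closure (by simp))
    rw [a.pair.adm.card_V] at hcard
    have hEQ' : eE u c x ≤ pQ u x := hEQ.trans (le_sup_left.trans le_sup_left)
    have e : eE u c x = pQ u x :=
      Subgroup.eq_of_le_of_card_ge hEQ' (by rw [a.pair.adm.card_E]; omega)
    exact hne (e ▸ hrQ)
  -- commutators with an element outside the span
  have hder : ∀ k, ∀ hk : k ∈ cT u, tb k hk ∉ Y → ∀ e, ∀ he : e ∈ cT u, e ∈ cD u →
      ∃ y, ∃ hy : y ∈ cT u, tb y hy ∈ Y ∧ tb e he = ⁅tb k hk, tb y hy⁆ := by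
    intro k hk hkY e he heD
    have hle : commutator (Tb u) ≤ Subgroup.closure {z | ∃ y ∈ Y, z = ⁅tb k hk, y⁆} := by
      rw [commutator_def, Subgroup.commutator_le]
      intro p _ q _
      exact Subgroup.subset_closure (hs.three.derived_le (tb_isPGroup u) hφY hYab (by omega) hkY p q)
    have hmem : tb e he ∈ commutator (Tb u) := by
      have h1 : (⟨e, he⟩ : ↥(cT u)) ∈ commutator ↥(cT u) := by
        rw [← Subgroup.mem_map_iff_mem (cT u).subtype_injective, commutator_def, Subgroup.map_commutator,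
          ← MonoidHom.range_eq_map, Subgroup.range_subtype]
        exact heD
      have h2 : (commutator ↥(cT u)).map (QuotientGroup.mk' ((Subgroup.zpowers u).subgroupOf (cT u))) ≤
          commutator (Tb u) := by
        rw [commutator_def, commutator_def, Subgroup.map_commutator]
        exact Subgroup.commutator_mono le_top le_top
      exact h2 ⟨_, h1, rfl⟩
    obtain ⟨y, hy, hey⟩ : ∃ y ∈ Y, tb e he = ⁅tb k hk, y⁆ := by
      refine Subgroup.closure_induction (p := fun w _ => ∃ y ∈ Y, w = ⁅tb k hk, y⁆) (fun w hw => hw)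
        ⟨1, one_mem _, (commutatorElement_one_right _).symm⟩ ?_ ?_ (hle hmem)
      · rintro _ _ _ _ ⟨p, hp, rfl⟩ ⟨q, hq, rfl⟩
        exact ⟨p * q, mul_mem hp hq, (hs.three.mul_right' _ p q).symm⟩
      · rintro _ _ ⟨p, hp, rfl⟩
        exact ⟨p⁻¹, inv_mem hp, (hs.three.inv_right' _ p).symm⟩
    obtain ⟨y', hy', rfl⟩ := tb_surj y
    exact ⟨y', hy', hy, hey⟩
  -- a final step
  have finish : ∀ k ∈ cT u, k ∉ pP x S →
      (∀ y, ∀ hy : y ∈ cT u, tb y hy ∈ Y → y * (k * k) = k * k * y) → False := by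
    intro k hk hkP hsq
    have hkY : tb k hk ∉ Y := fun hh => hkP (noY k hk hh)
    obtain ⟨y, hy, hyY, e⟩ := hder k hk hkY x a.pair.adm.mem (hxD hnab)
    rw [tb_comm, tb_eq, mem_U hs] at e
    refine a.lemma_L hk hkP (p := y) ?_ (hsq y hy hyY)
    rw [← commutatorElement_inv]
    rcases e with e | e
    · left
      rw [← eq_of_inv_mul_eq_one e, inv_eq_of_mul_eq_one_left a.pair.adm.xx]
    · right
      rw [inv_mul_eq_iff_eq_mul.mp e, mul_inv_rev, hs.u_inv, inv_eq_of_mul_eq_one_left a.pair.adm.xx,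
        a.pair.adm.xu]
  obtain ⟨g0, hg0S, p, hp, hg0, hg0P, hg0r⟩ := a.exists_inverting
  have hh2P : g0 * g0 ∈ pP x S := sq_mem_two a.pair.adm.relIndex_pP hg0S
  have hfixg0 : g0 * g0 ∈ fixR h g (pP x S) := by
    refine mem_fixR.mpr ⟨hh2P, ?_⟩
    have e1 : g0 * r = r⁻¹ * g0 := mul_inv_eq_iff_eq_mul.mp hg0r
    have e2 : g0 * r⁻¹ = r * g0 := by
      calc g0 * r⁻¹ = r * (r⁻¹ * g0) * r⁻¹ := by group
        _ = r * (g0 * r) * r⁻¹ := by rw [e1]
        _ = _ := by group
    show g0 * g0 * r = r * (g0 * g0)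
    rw [mul_assoc, e1, ← mul_assoc, e2, mul_assoc]
  have hC3 : idx u = 6 := by
    rcases a.pair.adm.good.low with h3 | h6
    · exfalso
      have hc := a.card_D_three h3
      have hDtb : Nat.card (pD u x) = Nat.card (Tb u) := by omega
      refine hT2 (pD u x) (hDQ1 ?_) hc.le
      have hDC : Nat.card (pD u x) % 3 = Nat.card (fixR h g (pD u x)) % 3 := hDmod
      omega
    · exact h6
  obtain ⟨hPc, eL1, eL2, eL3⟩ := a.relIndex_P_six hC3
  have hPfix : Nat.card (pP x S) % 3 = Nat.card (fixR h g (pP x S)) % 3 := card_fixed_mod hk3 hrP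
  have hCP := a.card_fixR (D := pP x S) (S.isPGroup'.to_le inf_le_left)
  have hDC : Nat.card (pD u x) % 3 = Nat.card (fixR h g (pD u x)) % 3 := hDmod
  rcases Nat.lt_or_ge (Nat.card (fixR h g (pD u x))) 2 with e1 | e2
  · -- no fixed point in the meet
    have hC1 : Nat.card (fixR h g (pD u x)) = 1 := by omega
    have hρval : ρ = 8 := by
      by_contra hh
      refine hT2 (pD u x) (hDQ1 hC1) ?_
      interval_cases j <;> norm_num at hj <;> subst hj <;> omega
    have hP2 : Nat.card (fixR h g (pP x S)) = 2 := by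
      have : Nat.card (pP x S) % 3 = Nat.card (fixR h g (pP x S)) % 3 := hPfix
      have hpos : 0 < Nat.card (fixR h g (pP x S)) := Nat.card_pos
      omega
    obtain ⟨⟨i, hi⟩, hi1⟩ : ∃ z : fixR h g (pP x S), z ≠ 1 := by
      haveI : Nontrivial ↥(fixR h g (pP x S)) := Finite.one_lt_card_iff_nontrivial.mp (by omega)
      exact exists_ne 1
    obtain ⟨hiP, hir⟩ := mem_fixR.mp hi
    have hiT : i ∉ cT u := by
      intro hiT
      apply hi1
      have hfix : rot h g * i * (rot h g)⁻¹ = i := by rw [← hir, mul_inv_cancel_right]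
      have h1 : i ∈ cT x := by
        have : rot h g * i * (rot h g)⁻¹ ∈ cj (rot h g) (cT u) := ⟨i, hiT, rfl⟩
        rwa [hfix, ← cT_conj, a.rot_act.1] at this
      have h2 : i ∈ cT (x * u) := by
        have : rot h g * i * (rot h g)⁻¹ ∈ cj (rot h g) (cT x) := ⟨i, h1, rfl⟩
        rwa [hfix, ← cT_conj, a.rot_act.2.1] at this
      have hiD : i ∈ fixR h g (pD u x) := mem_fixR.mpr ⟨Subgroup.mem_inf.mpr ⟨Subgroup.mem_inf.mpr ⟨hiT, h1⟩, h2⟩, hir⟩
      rw [Subgroup.card_eq_one] at hC1
      exact Subtype.ext (Subgroup.mem_bot.mp (hC1 ▸ hiD))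
    have hTS := cT_le_sylow hs S a.pair.adm.sylow
    have hTS2 : (cT u).relIndex (S : Subgroup G) = 2 := by
      rcases sylow_index hs a.pair.adm.good.low S a.pair.adm.sylow with ⟨e, -⟩ | ⟨-, e⟩
      · omega
      · exact e
    have hiS : i ∈ (S : Subgroup G) := (mem_pP.mp hiP).1
    obtain ⟨k, hkT, hkP, hkr⟩ : ∃ k ∈ cT u, k ∉ pP x S ∧ k * r * k⁻¹ = r⁻¹ := by
      by_cases hg0T : g0 ∈ cT u
      · exact ⟨g0, hg0T, hg0P, hg0r⟩
      · refine ⟨g0⁻¹⁻¹ * i, two_coset hTS2 (inv_mem hg0S) (by rwa [inv_mem_iff]) hiS hiT,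
          fun hh => hg0P ?_, ?_⟩
        · have := mul_mem hh (inv_mem hiP); rwa [mul_inv_cancel_right, inv_inv] at this
        · rw [inv_inv]
          have e : g0 * i * r * (g0 * i)⁻¹ = g0 * (i * r * i⁻¹) * g0⁻¹ := by group
          rw [e, hr, hir, mul_inv_cancel_right, ← hr, hg0r]
    have hk2 : k * k = 1 := by
      have hkS := hTS hkT
      have hkk : k * k ∈ fixR h g (pP x S) := by
        refine mem_fixR.mpr ⟨sq_mem_two a.pair.adm.relIndex_pP hkS, ?_⟩
        have e1 : k * r = r⁻¹ * k := mul_inv_eq_iff_eq_mul.mp hkr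
        have e2 : k * r⁻¹ = r * k := by
          calc k * r⁻¹ = r * (r⁻¹ * k) * r⁻¹ := by group
            _ = r * (k * r) * r⁻¹ := by rw [e1]
            _ = _ := by group
        show k * k * r = r * (k * k)
        rw [mul_assoc, e1, ← mul_assoc, e2, mul_assoc]
      by_contra hne1
      haveI := Fact.mk Nat.prime_two
      have he : Subgroup.zpowers i = fixR h g (pP x S) :=
        eq_zpowers_of_card Nat.prime_two hP2 hi (fun e => hi1 (Subtype.ext e))
      have he2 : Subgroup.zpowers (k * k) = fixR h g (pP x S) :=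
        eq_zpowers_of_card Nat.prime_two hP2 hkk hne1
      exact hiT (Subgroup.zpowers_le.mpr (mul_mem hkT hkT) (he2.trans he.symm ▸ Subgroup.mem_zpowers i))
    exact finish k hkT hkP fun y _ _ => by rw [hk2, mul_one, one_mul]
  · -- one fixed involution in the meet
    have hC2 : Nat.card (fixR h g (pD u x)) = 2 := by omega
    have hρval : ρ = 4 := by
      have hne1 : ρ ≠ 1 := fun e => a.hP (a.D_le_P
        ((Subgroup.eq_of_le_of_card_ge hDT (by rw [hρ, e, mul_one])).ge a.hT))
      interval_cases j <;> norm_num at hj <;> subst hj <;> omega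
    obtain ⟨⟨i, hi⟩, hi1⟩ : ∃ z : fixR h g (pD u x), z ≠ 1 := by
      haveI : Nontrivial ↥(fixR h g (pD u x)) := Finite.one_lt_card_iff_nontrivial.mp (by omega)
      exact exists_ne 1
    obtain ⟨hiD, hir⟩ := mem_fixR.mp hi
    have hiT : i ∈ cT u := hDT hiD
    haveI := Fact.mk Nat.prime_two
    have hzi : Subgroup.zpowers i = fixR h g (pD u x) :=
      eq_zpowers_of_card Nat.prime_two hC2 hi (fun e => hi1 (Subtype.ext e))
    have hii : i * i = 1 := by
      have : orderOf i = 2 := by rw [← Nat.card_zpowers, hzi, hC2]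
      exact (orderOf_two_iff.mp this).1
    have hfixP : fixR h g (pP x S) = fixR h g (pD u x) := by
      refine (Subgroup.eq_of_le_of_card_ge ?_ (by omega)).symm
      exact inf_le_inf a.D_le_P le_rfl
    have hcentQ : (∀ e ∈ cD u, i * e = e * i) → ∀ y ∈ pQ u x, i * y = y * i := by
      intro hce
      have hfix : rot h g * i * (rot h g)⁻¹ = i := by rw [← hir, mul_inv_cancel_right]
      have hle : ∀ j, (∀ e ∈ cD j, i * e = e * i) → ∀ e ∈ cj (rot h g) (cD j), i * e = e * i := by
        rintro j hj _ ⟨e, he, rfl⟩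
        show i * (rot h g * e * (rot h g)⁻¹) = rot h g * e * (rot h g)⁻¹ * i
        calc i * (rot h g * e * (rot h g)⁻¹) = rot h g * (i * e) * (rot h g)⁻¹ := by
              conv_lhs => rw [← hfix]
              group
          _ = rot h g * (e * i) * (rot h g)⁻¹ := by rw [hj e he]
          _ = _ := by
              conv_rhs => rw [← hfix]
              group
      have h1 : ∀ e ∈ cD x, i * e = e * i := by
        rw [← a.rot_act.1, cD_conj]; exact hle u hce
      have h2 : ∀ e ∈ cD (x * u), i * e = e * i := by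
        rw [← a.rot_act.2.1, cD_conj]; exact hle x h1
      intro y hy
      have : pQ u x ≤ Subgroup.centralizer ({i} : Set G) :=
        sup_le (sup_le (fun e he => Subgroup.mem_centralizer_singleton_iff.mpr (hce e he).symm)
          (fun e he => Subgroup.mem_centralizer_singleton_iff.mpr (h1 e he).symm))
          (fun e he => Subgroup.mem_centralizer_singleton_iff.mpr (h2 e he).symm)
      exact (Subgroup.mem_centralizer_singleton_iff.mp (this hy)).symm
    have hiY : tb i hiT ∈ Y := by
      by_contra hiY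
      -- `i` inverts, hence centralizes, the derived group
      have hinv : ∀ e ∈ cD u, i * e * i⁻¹ = e⁻¹ := by
        intro e he
        obtain ⟨y, hy, -, e0⟩ := hder i hiT hiY e (cD_le u he) he
        rw [tb_comm, tb_eq] at e0
        set w := ⁅i, y⁆ with hw
        have hiw : i * w * i⁻¹ = w⁻¹ := by
          rw [hw, commutatorElement_def]
          calc i * (i * y * i⁻¹ * y⁻¹) * i⁻¹ = i * i * y * i⁻¹ * y⁻¹ * i⁻¹ := by group
            _ = y * i * y⁻¹ * i⁻¹ := by rw [hii, one_mul, inv_eq_of_mul_eq_one_left hii]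
            _ = _ := by group
        obtain ⟨z, hz, ez⟩ : ∃ z ∈ Subgroup.zpowers u, e = w * z :=
          ⟨w⁻¹ * e, by simpa using inv_mem e0, by group⟩
        have hzc : ∀ b ∈ cT u, Commute z b := fun b hb => by
          obtain ⟨k, hk⟩ := Subgroup.mem_zpowers_iff.mp hz
          rw [← hk]
          exact ((show Commute b u from mem_cC.mp (cT_le_cC u hb)).symm).zpow_left k
        have hwT : w ∈ cT u := mul_mem (mul_mem (mul_mem hiT hy) (inv_mem hiT)) (inv_mem hy)
        have hzz : z⁻¹ = z := by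
          rcases (mem_U hs).mp hz with e' | e' <;> rw [e']
          · exact inv_one
          · exact hs.u_inv
        calc i * e * i⁻¹ = (i * w * i⁻¹) * (i * z * i⁻¹) := by rw [ez]; group
          _ = w⁻¹ * z := by rw [hiw, ← (hzc i hiT).eq, mul_inv_cancel_right]
          _ = e⁻¹ := by rw [ez, mul_inv_rev, hzz, ((hzc w hwT).inv_right).eq]
      have hce : ∀ e ∈ cD u, i * e = e * i := by
        intro e he
        have h2 : e * e ∈ Subgroup.zpowers u := by
          have h1 := comm_U_symm (comm_mem_U_of_central hs (cD_le u he) hiT he)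
          rw [commutatorElement_def, hinv e he, ← mul_inv_rev, inv_mem_iff] at h1
          exact h1
        have he2 : e * e = 1 := by
          rcases (mem_U hs).mp h2 with e2 | e2
          · exact e2
          exfalso
          set e' := c * e * c⁻¹ with he'
          set e'' := c * e' * c⁻¹ with he''
          have hcD := Subgroup.mem_normalizer_iff.mp (cD_normalized u hs.c_mem)
          have he'D : e' ∈ cD u := (hcD e).mp he
          have he''D : e'' ∈ cD u := (hcD e').mp he'D
          have hcu : c * u * c⁻¹ = u := by rw [← hs.comm, mul_inv_cancel_right]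
          have s1 : e' * e' = u := by
            rw [he', show c * e * c⁻¹ * (c * e * c⁻¹) = c * (e * e) * c⁻¹ by group, e2, hcu]
          have s2 : e'' * e'' = u := by
            rw [he'', show c * e' * c⁻¹ * (c * e' * c⁻¹) = c * (e' * e') * c⁻¹ by group, s1, hcu]
          have hz := hs.ident_U (cD_le u he)
          rw [← he', ← he''] at hz
          have hsq : e * e' * e'' * (e * e' * e'') = 1 := by
            rcases (mem_U hs).mp hz with e3 | e3 <;> rw [e3] <;> simp [hs.uu]
          have c1 : Commute e'' (e * e') :=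
            Commute.mul_right (cD_comm hs he''D he) (cD_comm hs he''D he'D)
          have c2 : Commute e' e := cD_comm hs he'D he
          rw [c1.mul_mul_mul_comm, c2.mul_mul_mul_comm, e2, s1, s2, hs.uu, one_mul] at hsq
          exact hs.u_ne_one hsq
        have h3 := hinv e he
        rw [inv_eq_of_mul_eq_one_left he2] at h3
        exact mul_inv_eq_iff_eq_mul.mp h3
      have hcA : ∀ q ∈ A, ⁅tb i hiT, q⁆ = 1 := by
        rintro _ ⟨⟨y, hyT⟩, hy, rfl⟩
        show ⁅tb i hiT, tb y hyT⁆ = 1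
        rw [tb_comm, tb_eq_one, commutatorElement_eq_one_iff_mul_comm.mpr
          (hcentQ hce y (Subgroup.mem_subgroupOf.mp hy))]
        exact one_mem _
      let K : Subgroup (Tb u) :=
        { carrier := {q | ⁅tb i hiT, q⁆ = 1}
          one_mem' := commutatorElement_one_right _
          mul_mem' := by
            intro p q hp hq
            show ⁅_, p * q⁆ = 1
            rw [hs.three.mul_right', hp, hq, one_mul]
          inv_mem' := by
            intro p hp
            show ⁅_, p⁻¹⁆ = 1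
            rw [hs.three.inv_right', hp, inv_one] }
      have hYK : Y ≤ K := by
        refine sup_le (sup_le hcA ?_) ?_
        · rintro _ ⟨q, hq, rfl⟩; exact (hs.three.orth (hcA q hq)).1
        · rintro _ ⟨q, hq, rfl⟩; exact (hs.three.orth (hcA q hq)).2
      refine hnab (le_antisymm (fun e he => ?_) hUQ)
      obtain ⟨y, hy, hyY, e0⟩ := hder i hiT hiY e (cD_le u he) he
      rw [show ⁅tb i hiT, tb y hy⁆ = 1 from hYK hyY, tb_eq_one] at e0
      exact e0
    have hDY : tbIm u (pD u x) = Y := by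
      have hle : tbIm u (pD u x) ≤ Y := by
        rintro _ ⟨⟨y, hyT⟩, hy, rfl⟩
        obtain ⟨z, hz, hzQ⟩ := hcov y (Subgroup.mem_subgroupOf.mp hy)
        have hzT : z ∈ cT u := hDT (mem_fixR.mp hz).1
        have hz1 : tb z hzT ∈ Y := by
          rw [← hzi] at hz
          obtain ⟨m, rfl⟩ := Subgroup.mem_zpowers_iff.mp hz
          have : tb (u := u) (i ^ m) hzT = tb i hiT ^ m := by
            show QuotientGroup.mk _ = QuotientGroup.mk _ ^ m
            rw [← QuotientGroup.mk_zpow]
            congr 1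
          rw [this]; exact zpow_mem hiY m
        have h2 : tb (y⁻¹ * z) (mul_mem (inv_mem hyT) hzT) ∈ Y := hAY (tb_mem_tbIm _ hzQ)
        rw [← tb_mul (inv_mem hyT) hzT, ← tb_inv hyT] at h2
        have := mul_mem hz1 (inv_mem h2)
        rwa [mul_inv_rev, inv_inv, mul_inv_cancel_left] at this
      refine Subgroup.eq_of_le_of_card_ge hle ?_
      have h1 := card_tbIm hs hDT (hQD huQ)
      have h2 := Y.card_mul_index
      rw [hY4] at h2
      rw [hρval] at hρ
      omega
    have hYD : ∀ y, ∀ hy : y ∈ cT u, tb y hy ∈ Y → y ∈ pD u x := by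
      intro y hy hyY
      rw [← hDY] at hyY
      obtain ⟨⟨z, hzT⟩, hz, e⟩ := hyY
      have e' : z⁻¹ * y ∈ Subgroup.zpowers u := tb_eq.mp (e : tb z hzT = tb y hy)
      have hUD : Subgroup.zpowers u ≤ pD u x := Subgroup.zpowers_le.mpr (hQD huQ)
      have := mul_mem (Subgroup.mem_subgroupOf.mp hz) (hUD e')
      rwa [mul_inv_cancel_left] at this
    -- the quotient by the span is elementary
    have hsqY : ∀ k, ∀ hk : k ∈ cT u, tb (k * k) (mul_mem hk hk) ∈ Y := by
      intro k hk
      have hcomY : ∀ p q : Tb u, ⁅p, q⁆ ∈ Y := by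
        intro p q
        obtain ⟨p', hp', rfl⟩ := tb_surj p
        obtain ⟨q', hq', rfl⟩ := tb_surj q
        rw [tb_comm]
        refine hAY (tb_mem_tbIm _ ?_)
        exact Subgroup.mem_sup_left (Subgroup.mem_sup_left (Subgroup.commutator_mem_commutator hp' hq'))
      haveI hYn : Y.Normal := ⟨fun y hy p => by
        have e : p * y * p⁻¹ = ⁅p, y⁆ * y := by rw [commutatorElement_def]; group
        rw [e]; exact mul_mem (hcomY p y) hy⟩
      set b := tb k hk with hb
      show b * b ∈ Y
      set π := QuotientGroup.mk' Y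
      have hc4 : Nat.card (Tb u ⧸ Y) = 4 := hY4
      have hb4 : π b ^ 4 = 1 := by rw [← hc4]; exact pow_card_eq_one'
      by_contra hbb
      have ho : orderOf (π b) = 4 := by
        refine orderOf_eq_prime_pow (p := 2) (n := 1) ?_ hb4
        rw [pow_one, pow_two, ← map_mul, QuotientGroup.mk'_apply, QuotientGroup.eq_one_iff]
        exact hbb
      have htop : Subgroup.zpowers (π b) = ⊤ :=
        Subgroup.eq_top_of_card_eq _ (by rw [Nat.card_zpowers, ho, hc4])
      obtain ⟨m, hm⟩ : ∃ m : ℤ, π b ^ m = π (hs.phi b) :=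
        Subgroup.mem_zpowers_iff.mp (htop ▸ Subgroup.mem_top (π (hs.phi b)))
      have hfix : π (hs.phi (b * b)) = π (b * b) := by
        rw [map_mul, map_mul, ← hm, ← zpow_add, map_mul, ← pow_two, ← zpow_natCast (π b) 2]
        refine zpow_eq_zpow_iff_modEq.mpr ?_
        rw [ho]
        rcases Int.even_or_odd m with ⟨q, rfl⟩ | ⟨q, rfl⟩
        · exfalso
          have hφb : π (hs.phi (b * b)) = 1 := by
            rw [map_mul, map_mul, ← hm, ← zpow_add, show q + q + (q + q) = (4 : ℕ) * q by push_cast; ring,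
              zpow_mul, zpow_natCast, hb4, one_zpow]
          rw [QuotientGroup.mk'_apply, QuotientGroup.eq_one_iff] at hφb
          have := hφY _ (hφY _ hφb)
          rw [hs.three.cube] at this
          exact hbb this
        · rw [Int.modEq_iff_dvd]
          exact ⟨-q, by push_cast; ring⟩
      -- a fixed coset lies in the span
      refine hbb ?_
      set w := b * b
      have h1 : w⁻¹ * hs.phi w ∈ Y := QuotientGroup.eq.mp hfix.symm
      have h2 : w⁻¹ * hs.phi (hs.phi w) ∈ Y := by
        have := mul_mem h1 (hφY _ h1)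
        rwa [map_mul hs.phi w⁻¹, map_inv, mul_assoc, mul_inv_cancel_left] at this
      have hw3 : w ^ 3 ∈ Y := by
        rw [← QuotientGroup.eq_one_iff]
        have hid := congrArg π (hs.three.ident w)
        rw [map_mul, map_mul, map_one] at hid
        have e1 : π (hs.phi w) = π w := (QuotientGroup.eq.mpr h1).symm
        have e2 : π (hs.phi (hs.phi w)) = π w := (QuotientGroup.eq.mpr h2).symm
        rw [e1, e2] at hid
        show π (w ^ 3) = 1
        rw [map_pow, pow_succ, pow_two]
        exact hid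
      obtain ⟨n, hn⟩ := tb_isPGroup u w
      obtain ⟨l, hl⟩ := exists_pow_eq_self_of_coprime
        ((Nat.Coprime.pow_right n (by norm_num)).coprime_dvd_right (orderOf_dvd_of_pow_eq_one hn) :
          Nat.Coprime 3 (orderOf w))
      rw [← hl]
      exact pow_mem hw3 l
    have hg0T : g0 ∈ cT u := by
      by_contra hg0T
      have hpT : p ∉ cT u := fun hh => hg0T (hg0 ▸ mul_mem hh a.hT)
      set L1 := cT u ⊓ pP x S
      set L2 := cT x ⊓ pP x S
      set L3 := cT (x * u) ⊓ pP x S
      have cjh : cj h L1 = L1 ∧ cj h L2 = L3 := by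
        refine ⟨?_, ?_⟩
        · rw [cj_inf, a.cj_h.1, cj_normalizer a.hN]
        · rw [cj_inf, a.cj_h.2.1, cj_normalizer a.hN]
      have cjh3 : cj h L3 = L2 := by rw [cj_inf, a.cj_h.2.2, cj_normalizer a.hN]
      have cjg : cj g L1 = L3 ∧ cj g L2 = L2 := by
        refine ⟨?_, ?_⟩
        · rw [cj_inf, a.cj_g.2.1, cj_normalizer a.gN]
        · rw [cj_inf, a.cj_g.1, cj_normalizer a.gN]
      have hLD : L1 ⊓ L2 ⊓ L3 = pD u x := by
        refine le_antisymm (inf_le_inf (inf_le_inf inf_le_left inf_le_left) inf_le_left) ?_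
        exact le_inf (le_inf (le_inf (inf_le_left.trans inf_le_left) a.D_le_P)
          (le_inf (inf_le_left.trans inf_le_right) a.D_le_P)) (le_inf inf_le_right a.D_le_P)
      have hsmall : L1 ≠ L2 := by
        intro e
        have e3 : L3 = L1 := by rw [← cjh.2, ← e, cjh.1]
        have : pD u x = L1 := by rw [← hLD, ← e, e3, inf_idem, inf_idem]
        have h1 : Nat.card L1 * 2 = Nat.card (pP x S) := by rw [← eL1]; exact card_relIndex inf_le_right
        have h2 : Nat.card (pD u x) = Nat.card L1 := by rw [this]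
        rw [hρval] at hρ
        omega
      have h23 : L2 ≠ L3 := by
        intro e
        have e1 : cj g L3 = L1 := by rw [cj_inf, a.cj_g.2.2, cj_normalizer a.gN]
        exact hsmall (by rw [← e1, ← e, cjg.2])
      have hmeet : L2 ⊓ L3 = pD u x := by
        have hle : pD u x ≤ L2 ⊓ L3 := hLD ▸ le_inf (inf_le_left.trans inf_le_right) inf_le_right
        refine (Subgroup.eq_of_le_of_card_ge hle ?_).symm
        have hlt : L2 ⊓ L3 < L2 := by
          refine lt_of_le_of_ne inf_le_left fun e => h23 ?_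
          have hle' : L2 ≤ L3 := inf_eq_left.mp e
          refine Subgroup.eq_of_le_of_card_ge hle' ?_
          have h1 : Nat.card L2 * 2 = Nat.card (pP x S) := by rw [← eL2]; exact card_relIndex inf_le_right
          have h2 : Nat.card L3 * 2 = Nat.card (pP x S) := by rw [← eL3]; exact card_relIndex inf_le_right
          omega
        obtain ⟨m, hm⟩ := IsPGroup.iff_card.mp (S.isPGroup'.to_le (inf_le_left.trans (inf_le_right.trans
          inf_le_left) : L2 ⊓ L3 ≤ (S : Subgroup G)))
        have h2 := card_relIndex hlt.le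
        have hri : (L2 ⊓ L3).relIndex L2 ≠ 1 := fun e => hlt.not_ge (Subgroup.relIndex_eq_one.mp e)
        have h0 : (L2 ⊓ L3).relIndex L2 ≠ 0 := Subgroup.index_ne_zero_of_finite
        have h3 : Nat.card L2 * 2 = Nat.card (pP x S) := by rw [← eL2]; exact card_relIndex inf_le_right
        have h4 : 2 * Nat.card ↥(L2 ⊓ L3) ≤ Nat.card L2 := by
          rw [← h2, mul_comm 2]; exact Nat.mul_le_mul_left _ (by omega)
        rw [hρval] at hρ
        omega
      obtain ⟨b, hb, hbT⟩ : ∃ b ∈ L2, b ∉ cT u := by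
        by_contra hc
        push Not at hc
        have hle : L2 ≤ L1 := fun b hb => Subgroup.mem_inf.mpr ⟨hc b hb, (Subgroup.mem_inf.mp hb).2⟩
        refine hsmall (Subgroup.eq_of_le_of_card_ge hle ?_).symm
        have h1 : Nat.card L1 * 2 = Nat.card (pP x S) := by rw [← eL1]; exact card_relIndex inf_le_right
        have h2 : Nat.card L2 * 2 = Nat.card (pP x S) := by rw [← eL2]; exact card_relIndex inf_le_right
        omega
      have hbP : b ∈ pP x S := (Subgroup.mem_inf.mp hb).2
      have hb1 : b ∉ L1 := fun hh => hbT (Subgroup.mem_inf.mp hh).1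
      have hp1 : p ∉ L1 := fun hh => hpT (Subgroup.mem_inf.mp hh).1
      have hcase : p ∈ L2 ∨ p ∈ L3 := by
        by_contra hc
        rw [not_or] at hc
        have hb3 : b ∉ L3 := fun hh => hb1 (by
          have : b ∈ pD u x := hmeet ▸ Subgroup.mem_inf.mpr ⟨hb, hh⟩
          exact Subgroup.mem_inf.mpr ⟨hDT this, hbP⟩)
        have h1 := two_coset eL1 hbP hb1 hp hp1
        have h3 := two_coset eL3 hbP hb3 hp hc.2
        apply hc.1
        have h2 : b⁻¹ * p ∈ cT u ⊓ cT (x * u) ⊓ pP x S :=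
          Subgroup.mem_inf.mpr ⟨Subgroup.mem_inf.mpr ⟨(Subgroup.mem_inf.mp h1).1, (Subgroup.mem_inf.mp h3).1⟩,
            (Subgroup.mem_inf.mp h1).2⟩
        -- the meet of two lines is `D`
        have h12 : L1 ⊓ L3 ≤ L2 := by
          have cjg3 : cj g L3 = L1 := by rw [cj_inf, a.cj_g.2.2, cj_normalizer a.gN]
          have e1 : L1 ⊓ L2 = pD u x := by
            have e := congrArg (cj g) hmeet
            rw [cj_inf, cjg.2, cjg3, cj_normalizer a.gD, inf_comm] at e
            exact e
          have e2 := congrArg (cj h) e1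
          rw [cj_inf, cjh.1, cjh.2, cj_normalizer a.hD, ← hmeet] at e2
          exact e2.le.trans inf_le_left
        have h4 : b⁻¹ * p ∈ L2 := h12 (Subgroup.mem_inf.mpr ⟨h1, h3⟩)
        have := mul_mem hb h4
        rwa [mul_inv_cancel_left] at this
      have hg2D : g0 * g0 ∈ pD u x := by
        have h1 : g0 * g0 ∈ fixR h g (pD u x) := hfixP ▸ hfixg0
        exact (mem_fixR.mp h1).1
      have hh2 : h * h ∈ pD u x := hYD _ _ (hsqY h a.hT)
      have hpp : p * (h * p * h⁻¹) ∈ pD u x := by
        have := mul_mem hg2D (inv_mem hh2)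
        refine (congrArg (· ∈ pD u x) ?_).mp this
        rw [hg0]; group
      have hD1 : pD u x ≤ L1 := le_inf hDT a.D_le_P
      have hswap : p ∈ pD u x := by
        rcases hcase with hc | hc
        · have h3 : h * p * h⁻¹ ∈ L3 := cjh.2 ▸ (⟨p, hc, rfl⟩ : h * p * h⁻¹ ∈ cj h L2)
          have h4 := mul_mem hpp (one_mem (pD u x))
          rw [mul_one] at h4
          have hD3 : pD u x ≤ L3 := le_inf inf_le_right a.D_le_P
          have : p ∈ L3 := by
            have := mul_mem (hD3 h4) (inv_mem h3)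
            rwa [mul_inv_cancel_right] at this
          exact hmeet ▸ Subgroup.mem_inf.mpr ⟨hc, this⟩
        · have h2 : h * p * h⁻¹ ∈ L2 := cjh3 ▸ (⟨p, hc, rfl⟩ : h * p * h⁻¹ ∈ cj h L3)
          have hD2' : pD u x ≤ L2 := le_inf (inf_le_left.trans inf_le_right) a.D_le_P
          have : p ∈ L2 := by
            have := mul_mem (hD2' hpp) (inv_mem h2)
            rwa [mul_inv_cancel_right] at this
          exact hmeet ▸ Subgroup.mem_inf.mpr ⟨this, hc⟩
      exact hpT (hDT hswap)
    refine finish g0 hg0T hg0P fun y hy hyY => ?_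
    have h1 : g0 * g0 ∈ fixR h g (pD u x) := hfixP ▸ hfixg0
    rw [← hzi] at h1
    obtain ⟨m, hm⟩ := Subgroup.mem_zpowers_iff.mp h1
    have hm2 : g0 * g0 = 1 ∨ g0 * g0 = i := by
      rw [← hm, ← zpow_mod_orderOf, orderOf_two_iff.mpr ⟨hii, fun e => hi1 (Subtype.ext e)⟩]
      rcases Int.emod_two_eq_zero_or_one m with e | e <;> simp [e]
    rcases hm2 with e | e
    · rw [e, mul_one, one_mul]
    · have hce : ∀ e' ∈ cD u, i * e' = e' * i := by
        intro e' he'
        have hU := comm_mem_U_of_central hs (cD_le u he') hg0T he'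
        have hcU : Commute g0 ⁅e', g0⁆ := by
          obtain ⟨k, hk⟩ := Subgroup.mem_zpowers_iff.mp hU
          rw [← hk]
          exact (show Commute g0 u from mem_cC.mp (cT_le_cC u hg0T)).zpow_right k
        have e1 : ⁅e', g0 * g0⁆ = ⁅e', g0⁆ * (g0 * ⁅e', g0⁆ * g0⁻¹) := by
          simp only [commutatorElement_def]; group
        rw [hcU.eq, mul_inv_cancel_right] at e1
        have h2 : ⁅e', g0⁆ * ⁅e', g0⁆ = 1 := by
          rcases (mem_U hs).mp hU with e3 | e3 <;> rw [e3] <;> simp [hs.uu]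
        rw [h2, e] at e1
        exact (commutatorElement_eq_one_iff_mul_comm.mp e1).symm
      rw [e]
      obtain ⟨z, hz, hzQ⟩ := hcov y (hYD y hy hyY)
      rw [← hzi] at hz
      have hzi' : Commute z i := by
        obtain ⟨l, rfl⟩ := Subgroup.mem_zpowers_iff.mp hz
        exact (Commute.refl i).zpow_left l
      have hwi : Commute (y⁻¹ * z) i := (hcentQ hce _ hzQ).symm
      have : y = z * (y⁻¹ * z)⁻¹ := by group
      rw [this]
      exact (hzi'.mul_left hwi.inv_left).eq

end Trio

end CfsgLib.OrderSix
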