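import Cfsg.Agent.Lib.GLTwoThreeCent.Combin

/-!
The two rational equations of a frame, with the degrees behind the two unknowns.
-/

set_option autoImplicit false
set_option linter.unusedVariables false
set_option linter.unusedSectionVars false

namespace CfsgLib.GLTwoThreeCent

open Finset

variable {ι : Type*} [Fintype ι] [DecidableEq ι] {i₀ : ι} {a b c d e f : ι → ℤ}

theorem Frame.norm_v (h : Frame i₀ a b c d e f) (v : ι → ℤ)
    (hv : ∀ i, v i = 3 * a i + 3 * b i - 2 * e i + 2 * d i) : ∑ i, v i * v i = 48 := by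
  have key : ∀ i, v i * v i = 9 * (a i * a i) + 9 * (b i * b i) + 4 * (e i * e i) + 4 * (d i * d i) +
      18 * (a i * b i) - 12 * (a i * e i) + 12 * (d i * a i) - 12 * (b i * e i) + 12 * (d i * b i) -
      8 * (d i * e i) := fun i => by rw [hv]; ring
  simp only [key, sum_add_distrib, sum_sub_distrib, ← mul_sum, h.aa, h.bb, h.ee, h.dd, h.ab, h.ae, h.da,
    h.be, h.db, h.de]
  norm_num

theorem Frame.equations_deg (h : Frame i₀ a b c d e f) (v : ι → ℤ)
    (hv : ∀ i, v i = 3 * a i + 3 * b i - 2 * e i + 2 * d i) :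
    (∀ i, (a i ≠ 0 ∨ b i ≠ 0 ∨ e i ≠ 0) → v i ≠ 0) ∧
    ∃ (P r : ℤ) (i j : ι), i ≠ i₀ ∧ j ≠ i₀ ∧ v i ≠ 0 ∧ v j ≠ 0 ∧ f i * f i = P * P ∧ f j * f j = r * r ∧
      P ≠ 0 ∧ P + 1 ≠ 0 ∧ r ≠ 0 ∧ r + 1 ≠ 0 ∧
      ((P : ℚ) * (P + 1)) * ∑ i, (a i : ℚ) * (v i) ^ 2 / f i = ((P : ℚ) + 4) ^ 2 ∧
      ((r : ℚ) * (r + 1)) * (∑ i, (e i : ℚ) * (v i) ^ 2 / f i - ∑ i, (b i : ℚ) * (v i) ^ 2 / f i) =
        ((r : ℚ) + 3) ^ 2 := by
  obtain ⟨P, Q, W, S, Y, hi₀, hcard, hb, he, ha, hbP, hbQ, hbW, heS, haY, haP, hePb, heQb, dP, dQ, dW, dS, dY⟩ :=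
    h.shape
  simp only [mem_insert, mem_singleton, not_or] at hi₀
  obtain ⟨n1, n2, n3, n4, n5⟩ := hi₀
  have hd : ({P, Q, W, S, Y} : Finset ι) = [P, Q, W, S, Y].toFinset := by simp
  rw [hd] at hcard
  have hnd : [P, Q, W, S, Y].Nodup := List.toFinset_card_of_nodup (l := [P, Q, W, S, Y]) |> fun _ => List.card_toFinset _ |>.symm.trans hcard |> fun hh => List.dedup_eq_self.mp ((List.dedup_sublist _).eq_of_length hh)
  simp only [List.nodup_cons, List.mem_cons, List.not_mem_nil, or_false, not_or, List.nodup_nil,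
    and_true, not_false_eq_true] at hnd
  obtain ⟨⟨pq, pw, ps, py⟩, ⟨qw, qs, qy⟩, ⟨ws, wy⟩, sy⟩ := hnd
  have sa : ∀ g : ι → ℚ, ∑ i, (a i : ℚ) * g i = g i₀ + b P * g P + a Y * g Y := fun g => by
    rw [sum_eq_of_supp {i₀, P, Y} _ (fun i hi => by rw [ha i hi, Int.cast_zero, zero_mul]),
      sum_insert (by simp [n1, n5]), sum_pair py, h.a0, haP, Int.cast_one, one_mul]
    ring
  have sb : ∀ g : ι → ℚ, ∑ i, (b i : ℚ) * g i = b P * g P + b Q * g Q + b W * g W := fun g => by
    rw [sum_eq_of_supp {P, Q, W} _ (fun i hi => by rw [hb i hi, Int.cast_zero, zero_mul]),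
      sum_insert (by simp [pq, pw]), sum_pair qw]
    ring
  have se : ∀ g : ι → ℚ, ∑ i, (e i : ℚ) * g i = g i₀ + b P * g P + b Q * g Q + e S * g S := fun g => by
    rw [sum_eq_of_supp {i₀, P, Q, S} _ (fun i hi => by rw [he i hi, Int.cast_zero, zero_mul]),
      sum_insert (by simp [n1, n2, n4]), sum_insert (by simp [pq, ps]), sum_pair qs, h.e0, hePb, heQb,
      Int.cast_one, one_mul]
    ring
  have da := sa fun i => (f i : ℚ)
  have db := sb fun i => (f i : ℚ)
  have de := se fun i => (f i : ℚ)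
  rw [show ∑ i, (a i : ℚ) * f i = 0 by exact_mod_cast h.af, h.f0] at da
  rw [show ∑ i, (b i : ℚ) * f i = 0 by exact_mod_cast h.bf] at db
  rw [show ∑ i, (e i : ℚ) * f i = 0 by exact_mod_cast h.ef, h.f0] at de
  push_cast at da de
  have v0 : v i₀ = 1 := by rw [hv, h.a0, h.b0, h.e0, h.d0]; norm_num
  have vP : v P = 4 * b P := by rw [hv, haP, hePb, dP]; ring
  have vY : v Y = 3 * a Y := by
    rw [hv, dY, hb Y (by simp [Ne.symm py, Ne.symm qy, Ne.symm wy]),
      he Y (by simp [Ne.symm n5, Ne.symm py, Ne.symm qy, Ne.symm sy])]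
    ring
  have vW : v W = 3 * b W := by
    rw [hv, dW, ha W (by simp [Ne.symm n3, Ne.symm pw, wy]),
      he W (by simp [Ne.symm n3, Ne.symm pw, Ne.symm qw, ws])]
    ring
  have vS : v S = -2 * e S := by
    rw [hv, dS, ha S (by simp [Ne.symm n4, Ne.symm ps, sy]),
      hb S (by simp [Ne.symm ps, Ne.symm qs, Ne.symm ws])]
    ring
  have vQ : v Q = b Q := by
    rw [hv, dQ, ha Q (by simp [Ne.symm n2, Ne.symm pq, qy]), heQb]; ring
  have zb : ∀ {i}, b i * b i = 1 → b i ≠ 0 := fun h1 h2 => by rw [h2] at h1; norm_num at h1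
  have ze : e S ≠ 0 := fun h2 => by rw [h2] at heS; norm_num at heS
  have za : a Y ≠ 0 := fun h2 => by rw [h2] at haY; norm_num at haY
  have hfP := h.fpos P
  have hfY := h.fpos Y
  have hfW := h.fpos W
  have hfS := h.fpos S
  have hfQ := h.fpos Q
  refine ⟨fun i hi => ?_, b P * f P, b P * f P + b Q * f Q, P, W, Ne.symm n1, Ne.symm n3,
    by rw [vP]; exact mul_ne_zero (by norm_num) (zb hbP), by rw [vW]; exact mul_ne_zero (by norm_num) (zb hbW),
    by rw [mul_mul_mul_comm, hbP, one_mul], ?_, mul_ne_zero (zb hbP) hfP, ?_, ?_, ?_, ?_, ?_⟩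
  · by_cases h0 : i = i₀
    · subst h0; rw [v0]; norm_num
    by_cases h1 : i = P
    · subst h1; rw [vP]; exact mul_ne_zero (by norm_num) (zb hbP)
    by_cases h2 : i = Y
    · subst h2; rw [vY]; exact mul_ne_zero (by norm_num) za
    by_cases h3 : i = Q
    · subst h3; rw [vQ]; exact zb hbQ
    by_cases h4 : i = W
    · subst h4; rw [vW]; exact mul_ne_zero (by norm_num) (zb hbW)
    by_cases h5 : i = S
    · subst h5; rw [vS]; exact mul_ne_zero (by norm_num) ze
    rcases hi with hi | hi | hi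
    · exact absurd (ha i (by simp [h0, h1, h2])) hi
    · exact absurd (hb i (by simp [h1, h3, h4])) hi
    · exact absurd (he i (by simp [h0, h1, h3, h5])) hi
  · have hz : ((b W * f W : ℤ) : ℚ) = ((-(b P * f P + b Q * f Q) : ℤ) : ℚ) := by push_cast; linarith
    have hz' : b W * f W = -(b P * f P + b Q * f Q) := by exact_mod_cast hz
    calc f W * f W = (b W * b W) * (f W * f W) := by rw [hbW, one_mul]
      _ = (b W * f W) * (b W * f W) := by ring
      _ = _ := by rw [hz']; ring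
  · intro hz
    have : (a Y : ℚ) * f Y = 0 := by
      have hz' : ((b P : ℚ) * f P + 1) = 0 := by exact_mod_cast hz
      linarith
    exact mul_ne_zero za hfY (by exact_mod_cast this)
  · intro hz
    have : (b W : ℚ) * f W = 0 := by
      have hz' : ((b P : ℚ) * f P + b Q * f Q) = 0 := by exact_mod_cast hz
      linarith
    exact mul_ne_zero (zb hbW) hfW (by exact_mod_cast this)
  · intro hz
    have : (e S : ℚ) * f S = 0 := by
      have hz' : ((b P : ℚ) * f P + b Q * f Q + 1) = 0 := by exact_mod_cast hz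
      linarith
    exact mul_ne_zero ze hfS (by exact_mod_cast this)
  · rw [show ∑ i, (a i : ℚ) * (v i : ℚ) ^ 2 / f i = ∑ i, (a i : ℚ) * ((v i : ℚ) ^ 2 / f i) from
        sum_congr rfl fun i _ => mul_div_assoc _ _ _, sa, v0, vP, vY, h.f0]
    push_cast
    have e1 : (b P : ℚ) * b P = 1 := by exact_mod_cast hbP
    have e2 : (a Y : ℚ) * a Y = 1 := by exact_mod_cast haY
    have hq1 : (f P : ℚ) ≠ 0 := by exact_mod_cast hfP
    have hq2 : (f Y : ℚ) ≠ 0 := by exact_mod_cast hfY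
    have hY' : (a Y : ℚ) * (3 * a Y) ^ 2 / f Y * ((b P : ℚ) * f P + 1) = -9 := by
      have : (b P : ℚ) * f P + 1 = -((a Y : ℚ) * f Y) := by linarith
      rw [this]; field_simp; linear_combination -9 * ((a Y : ℚ) * a Y + 1) * e2
    have hP' : (b P : ℚ) * (4 * b P) ^ 2 / f P * ((b P : ℚ) * f P) = 16 := by
      field_simp; linear_combination 16 * ((b P : ℚ) * b P + 1) * e1
    rw [mul_div_assoc] at hY' hP'
    linear_combination ((b P : ℚ) * f P + 1) * hP' + ((b P : ℚ) * f P) * hY'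
  · simp only [mul_div_assoc]
    rw [se, sb, v0, vP, vQ, vW, vS, h.f0]
    push_cast
    have e2 : (b W : ℚ) * b W = 1 := by exact_mod_cast hbW
    have e3 : (e S : ℚ) * e S = 1 := by exact_mod_cast heS
    have hq1 : (f W : ℚ) ≠ 0 := by exact_mod_cast hfW
    have hq2 : (f S : ℚ) ≠ 0 := by exact_mod_cast hfS
    have hW' : (b W : ℚ) * (3 * b W) ^ 2 / f W * ((b P : ℚ) * f P + b Q * f Q) = -9 := by
      have : (b P : ℚ) * f P + b Q * f Q = -((b W : ℚ) * f W) := by linarith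
      rw [this]; field_simp; linear_combination -9 * ((b W : ℚ) * b W + 1) * e2
    have hS' : (e S : ℚ) * (-2 * e S) ^ 2 / f S * ((b P : ℚ) * f P + b Q * f Q + 1) = -4 := by
      have : (b P : ℚ) * f P + b Q * f Q + 1 = -((e S : ℚ) * f S) := by linarith
      rw [this]; field_simp; linear_combination -4 * ((e S : ℚ) * e S + 1) * e3
    rw [mul_div_assoc] at hW' hS'
    linear_combination ((b P : ℚ) * f P + b Q * f Q) * hS' - ((b P : ℚ) * f P + b Q * f Q + 1) * hW'

/-- The elimination. -/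
theorem eliminate {g ρ₀ P r : ℤ} (hg : 0 < g) (hρ : 0 < ρ₀) (hr0 : r ≠ 0) (hP0 : P ≠ 0) (hP1 : P + 1 ≠ 0)
    (hr1 : r + 1 ≠ 0) (h32 : ¬ 32 ∣ g)
    (e1 : g * ((P + 4) * (P + 4)) = 9216 * ρ₀ * (P * (P + 1)))
    (e2 : g * ((r + 3) * (r + 3)) = 4608 * ρ₀ * (r * (r + 1))) :
    (-24 < P ∧ P < 24) ∨ (-24 < r ∧ r < 24) := by
  set x := P + 4 with hx
  set y := r + 3 with hy
  have hxy : ((x - 2) * y - x) * ((x - 12) * y + 6 * x) = 0 := by
    have h2 : g * ((2 * (P * (P + 1))) * (y * y) - (r * (r + 1)) * (x * x)) = 0 := by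
      linear_combination (2 * (P * (P + 1))) * e2 - (r * (r + 1)) * e1
    rcases mul_eq_zero.mp h2 with h0 | h0
    · omega
    · have eP : P = x - 4 := by omega
      have er : r = y - 3 := by omega
      rw [eP, er] at h0
      linear_combination h0
  rcases mul_eq_zero.mp hxy with h | h
  · exfalso
    have hx2 : x - 2 ≠ 0 := fun h2 => by
      have : x = 2 := by omega
      rw [this] at h; omega
    have hd : x - 2 ∣ 2 := ⟨y - 1, by linear_combination -h⟩
    have hb1 := Int.le_of_dvd (by norm_num) hd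
    have hb2 : -(x - 2) ≤ 2 := Int.le_of_dvd (by norm_num) (Int.neg_dvd.mpr hd)
    have hx0 : x ≠ 0 := fun h0 => by
      rw [h0, mul_zero, mul_zero] at e1
      have : P = -4 := by omega
      rw [this] at e1; nlinarith
    have hx1 : x = 1 := by omega
    rw [hx1] at e1
    have hP : P = -3 := by omega
    rw [hP] at e1
    exact h32 ⟨1728 * ρ₀, by linarith⟩
  · have hd0 : x - 12 ≠ 0 := fun h0 => by
      rw [h0, zero_mul, zero_add] at h; omega
    have hd : x - 12 ∣ 72 := ⟨-y - 6, by linear_combination h⟩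
    have hb1 := Int.le_of_dvd (by norm_num) hd
    have hb2 : -(x - 12) ≤ 72 := Int.le_of_dvd (by norm_num) (Int.neg_dvd.mpr hd)
    by_cases hP : -24 < P ∧ P < 24
    · exact Or.inl hP
    right
    have hsplit : 16 ≤ x - 12 ∨ x - 12 ≤ -32 := by omega
    rcases hsplit with h1 | h1 <;> constructor <;> nlinarith

end CfsgLib.GLTwoThreeCent
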