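import Cfsg.Agent.Lib.OrderSix.QuatCoord
import Cfsg.Agent.Lib.OrderSix.QuatFrameShape

/-!
Involution centralizers covering `GL(2,3)` with kernel of odd order: a small degree in the principal block.
-/

set_option autoImplicit false
set_option linter.unusedVariables false
set_option linter.unusedSectionVars false
set_option linter.style.haveILetI false

namespace CfsgLib.OrderSix.Quat

open Cfsg CfsgLib GLTwoThreeCent
open scoped ComplexConjugate CfsgLib.Char

variable {G : Type*} [Group G] [Fintype G] {u : G} (K : Cov u)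

/-- The involutions of the centralizer over a position. -/
noncomputable def Cov.lifts [Fintype ↥(Subgroup.centralizer ({u} : Set G))] (p : Fin 48) :
    Finset ↥(Subgroup.centralizer ({u} : Set G)) :=
  open Classical in Finset.univ.filter fun a => a * a = 1 ∧ a ≠ 1 ∧ K.q a = p

variable [Fintype ↥(Subgroup.centralizer ({u} : Set G))]

theorem Cov.mem_lifts {p : Fin 48} {a : ↥(Subgroup.centralizer ({u} : Set G))} :
    a ∈ K.lifts p ↔ a * a = 1 ∧ a ≠ 1 ∧ K.q a = p := by
  simp [Cov.lifts]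

theorem Cov.invol_q {a : ↥(Subgroup.centralizer ({u} : Set G))} (h2 : a * a = 1) (h1 : a ≠ 1) :
    invol (K.q a) := by
  refine ⟨by rw [← K.q_mul, h2, K.q_one], fun h0 => h1 ?_⟩
  have hp := K.ker_pow (K.q_eq_zero.mp h0)
  obtain ⟨j, hj⟩ := K.odd
  rwa [hj, pow_succ, pow_mul, pow_two, h2, one_pow, one_mul] at hp

theorem Cov.lifts_nonempty {p : Fin 48} (hp : invol p) : (K.lifts p).Nonempty := by
  obtain ⟨x, hx⟩ := K.q_surj p
  have hker : x * x ∈ K.π.ker := K.q_eq_zero.mp (by rw [K.q_mul, hx, hp.1])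
  have hodd := K.odd
  obtain ⟨j, hj⟩ := K.odd
  have hqa : K.q (x ^ Nat.card K.π.ker) = p := by
    have he : K.π (x ^ Nat.card K.π.ker) = K.π x := by
      rw [map_pow, hj, pow_succ, pow_mul, pow_two, ← map_mul, MonoidHom.mem_ker.mp hker, one_pow, one_mul]
    rw [← hx]
    exact congrArg ix he
  refine ⟨x ^ Nat.card K.π.ker, K.mem_lifts.mpr ⟨?_, fun h1 => hp.2 ?_, hqa⟩⟩
  · rw [← pow_add, ← two_mul, pow_mul, pow_two]
    exact K.ker_pow hker
  · rw [← hqa, h1, K.q_one]

theorem Cov.lifts_card_eq {p r : Fin 48} (hp : invol p) (hr : invol r) (hp' : p ≠ negI) (hr' : r ≠ negI) :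
    (K.lifts p).card = (K.lifts r).card := by
  obtain ⟨k, hk⟩ := one_class p r hp hr hp' hr'
  obtain ⟨x, hx⟩ := K.q_surj k
  refine Finset.card_bij' (fun a _ => x * a * x⁻¹) (fun a _ => x⁻¹ * a * x) (fun a ha => ?_) (fun a ha => ?_)
    (fun a _ => by group) (fun a _ => by group)
  · obtain ⟨h2, h1, hq⟩ := K.mem_lifts.mp ha
    refine K.mem_lifts.mpr ⟨?_, fun e => h1 (conj_eq_one_iff.mp e), ?_⟩
    · rw [show x * a * x⁻¹ * (x * a * x⁻¹) = x * (a * a) * x⁻¹ by group, h2]; group
    · have e : x * a = (x * a * x⁻¹) * x := by group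
      have e2 : mulI (K.q x) (K.q a) = mulI (K.q (x * a * x⁻¹)) (K.q x) := by
        rw [← K.q_mul, ← K.q_mul, ← e]
      rw [hx, hq, hk] at e2
      exact toGL_bijective.1 (mul_right_cancel (b := toGL k) (by rw [← toGL_mul, ← toGL_mul, e2]))
  · obtain ⟨h2, h1, hq⟩ := K.mem_lifts.mp ha
    refine K.mem_lifts.mpr ⟨?_, fun e => h1 ?_, ?_⟩
    · rw [show x⁻¹ * a * x * (x⁻¹ * a * x) = x⁻¹ * (a * a) * x by group, h2]; group
    · rw [show a = x * (x⁻¹ * a * x) * x⁻¹ by group, e]; group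
    · have e : a * x = x * (x⁻¹ * a * x) := by group
      have e2 : mulI (K.q a) (K.q x) = mulI (K.q x) (K.q (x⁻¹ * a * x)) := by
        rw [← K.q_mul, ← K.q_mul, ← e]
      rw [hx, hq, ← hk] at e2
      exact toGL_bijective.1 (mul_left_cancel (a := toGL k) (by rw [← toGL_mul, ← toGL_mul, e2]))

/-- The pairs of involutions with a given special product, as elements of the centralizer. -/
theorem Cov.count (hfus : ∀ a : G, a * a = 1 → a ≠ 1 → IsConj u a)
    {x : ↥(Subgroup.centralizer ({u} : Set G))} (hx : special (K.q x)) :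
    Nat.card {p : G × G // IsConj u p.1 ∧ IsConj u p.2 ∧ p.1 * p.2 = (x : G)} =
      Nat.card {a : ↥(Subgroup.centralizer ({u} : Set G)) //
        (a * a = 1 ∧ a ≠ 1) ∧ ((a * x) * (a * x) = 1 ∧ a * x ≠ 1)} := by
  obtain ⟨k, hk⟩ := (K.special_iff x).mp hx
  have hmem : ∀ p : G × G, IsConj u p.1 → IsConj u p.2 → p.1 * p.2 = (x : G) →
      p.1 ∈ Subgroup.centralizer ({u} : Set G) := by
    rintro ⟨a, b⟩ ha hb hab
    have h1 := (mul_self_of_isConj K.ou ha).1
    have h2 := (mul_self_of_isConj K.ou hb).1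
    have hinv : a * (x : G) * a⁻¹ = (x : G)⁻¹ := by
      rw [← hab, mul_inv_rev, inv_eq_of_mul_eq_one_right h1, inv_eq_of_mul_eq_one_right h2, ← mul_assoc, h1,
        one_mul]
    have h3 : a * u * a⁻¹ = u := by
      rw [← hk, ← conj_pow, hinv, inv_pow, hk, inv_eq_of_mul_eq_one_right]
      rw [← pow_two, ← K.ou, pow_orderOf_eq_one]
    exact Subgroup.mem_centralizer_singleton_iff.mpr (mul_inv_eq_iff_eq_mul.mp h3)
  refine Nat.card_congr
    { toFun := fun p => ⟨⟨p.1.1, hmem p.1 p.2.1 p.2.2.1 p.2.2.2⟩, ⟨?_, ?_⟩, ?_, ?_⟩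
      invFun := fun a => ⟨((a.1 : G), (a.1 : G) * x),
        hfus _ (congrArg Subtype.val a.2.1.1) (fun e => a.2.1.2 (Subtype.ext e)),
        hfus _ (congrArg Subtype.val a.2.2.1) (fun e => a.2.2.2 (Subtype.ext e)), by
          rw [← mul_assoc, show (a.1 : G) * a.1 = 1 from congrArg Subtype.val a.2.1.1, one_mul]⟩
      left_inv := fun p => Subtype.ext (Prod.ext rfl (by
        obtain ⟨⟨a, b⟩, ha, hb, hab⟩ := p
        show a * (x : G) = b
        simp only at hab
        rw [← hab, ← mul_assoc, (mul_self_of_isConj K.ou ha).1, one_mul]))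
      right_inv := fun a => rfl }
  · exact Subtype.ext (mul_self_of_isConj K.ou p.2.1).1
  · exact fun e => (mul_self_of_isConj K.ou p.2.1).2 (congrArg Subtype.val e)
  · refine Subtype.ext ?_
    obtain ⟨⟨a, b⟩, ha, hb, hab⟩ := p
    show a * (x : G) * (a * (x : G)) = 1
    simp only at hab
    rw [← hab, ← mul_assoc a, (mul_self_of_isConj K.ou ha).1, one_mul]
    exact (mul_self_of_isConj K.ou hb).1
  · intro e
    obtain ⟨⟨a, b⟩, ha, hb, hab⟩ := p
    refine (mul_self_of_isConj K.ou hb).2 ?_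
    have e' : a * (x : G) = 1 := congrArg Subtype.val e
    simp only at hab
    rwa [← hab, ← mul_assoc, (mul_self_of_isConj K.ou ha).1, one_mul] at e'

/-- The weighted sum of the counts. -/
theorem Cov.count_sum (hfus : ∀ a : G, a * a = 1 → a ≠ 1 → IsConj u a) :
    ∃ L : ℕ, 0 < L ∧ ∀ F : Fin 48 → ℤ√(-2), (∀ i, ¬ special i → F i = 0) →
      ∑ x, phi (F (K.q x)) *
          (Nat.card {p : G × G // IsConj u p.1 ∧ IsConj u p.2 ∧ p.1 * p.2 = (x : G)} : ℂ) =
        ((L * L : ℕ) : ℂ) * phi (∑ i, (pairs i : ℤ√(-2)) * F i) := by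
  classical
  obtain ⟨p₀, hp₀, hp₀'⟩ : ∃ p, invol p ∧ p ≠ negI := by decide +kernel
  refine ⟨(K.lifts p₀).card, Finset.card_pos.mpr (K.lifts_nonempty hp₀), fun F hF => ?_⟩
  set I : Finset ↥(Subgroup.centralizer ({u} : Set G)) := Finset.univ.filter fun a => a * a = 1 ∧ a ≠ 1 with hI
  calc ∑ x, phi (F (K.q x)) *
        (Nat.card {p : G × G // IsConj u p.1 ∧ IsConj u p.2 ∧ p.1 * p.2 = (x : G)} : ℂ)
      = ∑ x : ↥(Subgroup.centralizer ({u} : Set G)), ∑ a ∈ I, if a * x ∈ I then phi (F (K.q x)) else 0 := by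
        refine Finset.sum_congr rfl fun x _ => ?_
        by_cases hx : special (K.q x)
        · rw [← Finset.sum_filter, Finset.sum_const, nsmul_eq_mul, K.count hfus hx, mul_comm]
          congr 2
          rw [Nat.card_eq_fintype_card, Fintype.card_subtype, hI, Finset.filter_filter]
          congr 1
          ext a; simp
        · simp [hF _ hx]
    _ = ∑ a ∈ I, ∑ b ∈ I, phi (F (mulI (K.q a) (K.q b))) := by
        rw [Finset.sum_comm]
        refine Finset.sum_congr rfl fun a ha => ?_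
        have h2 := (Finset.mem_filter.mp ha).2.1
        rw [← Finset.sum_filter]
        refine Finset.sum_bij' (fun x _ => a * x) (fun b _ => a * b)
          (fun x hx => (Finset.mem_filter.mp hx).2) (fun b hb => Finset.mem_filter.mpr ⟨Finset.mem_univ _, ?_⟩)
          (fun x _ => by rw [← mul_assoc, h2, one_mul]) (fun b _ => by rw [← mul_assoc, h2, one_mul])
          (fun x _ => ?_)
        · rwa [← mul_assoc, h2, one_mul]
        · rw [← K.q_mul, ← mul_assoc, h2, one_mul]
    _ = ∑ p ∈ Finset.univ.filter invol, ∑ r ∈ Finset.univ.filter invol,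
          ((K.lifts p).card * (K.lifts r).card : ℕ) • phi (F (mulI p r)) := by
        have hfib : ∀ p, I.filter (fun a => K.q a = p) = K.lifts p := fun p => by
          ext a; simp [hI, Cov.mem_lifts, and_assoc]
        have hq : ∀ a ∈ I, K.q a ∈ Finset.univ.filter invol := fun a ha => by
          obtain ⟨h2, h1⟩ := (Finset.mem_filter.mp ha).2
          exact Finset.mem_filter.mpr ⟨Finset.mem_univ _, K.invol_q h2 h1⟩
        rw [← Finset.sum_fiberwise_of_maps_to hq]
        refine Finset.sum_congr rfl fun p _ => ?_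
        rw [Finset.sum_congr rfl (g := fun a => ∑ r ∈ Finset.univ.filter invol,
            (K.lifts r).card • phi (F (mulI p r))) fun a ha => ?_, Finset.sum_const, hfib, Finset.smul_sum]
        · exact Finset.sum_congr rfl fun r _ => by rw [mul_smul]
        · rw [(Finset.mem_filter.mp ha).2, ← Finset.sum_fiberwise_of_maps_to hq]
          refine Finset.sum_congr rfl fun r _ => ?_
          rw [Finset.sum_congr rfl (g := fun _ => phi (F (mulI p r))) fun b hb => by
            rw [(Finset.mem_filter.mp hb).2], Finset.sum_const, hfib]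
    _ = _ := by
        rw [map_sum, Finset.mul_sum]
        simp only [pairs, Finset.card_filter, Nat.cast_sum, Finset.sum_mul, map_sum, Finset.mul_sum]
        rw [Finset.sum_comm (s := (Finset.univ : Finset (Fin 48))), Finset.sum_filter]
        refine Finset.sum_congr rfl fun p _ => ?_
        split_ifs with hp
        · rw [Finset.sum_filter]
          refine Finset.sum_bij' (fun r _ => mulI p r) (fun i _ => mulI p i) (fun _ _ => Finset.mem_univ _)
            (fun _ _ => Finset.mem_univ _) (fun r _ => mulI_mulI p hp r) (fun i _ => mulI_mulI p hp i)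
            (fun r _ => ?_)
          simp only [mulI_mulI p hp r, hp, true_and]
          by_cases hr : invol r
          · by_cases hs : special (mulI p r)
            · obtain ⟨hn1, hn2⟩ := special_noncentral _ hs p hp (by rwa [mulI_mulI p hp r])
              rw [mulI_mulI p hp r] at hn2
              rw [if_pos hr, if_pos hr, K.lifts_card_eq hp hp₀ hn1 hp₀', K.lifts_card_eq hr hp₀ hn2 hp₀']
              simp
            · simp [hF _ hs]
          · simp [hr]
        · simp [hp]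

/-- The trivial character apart, every character of the principal block is constant on `u` times the kernel. -/
theorem Cov.value_u {M : Ideal AlgInt} (hM : IsPModular 2 M) {χ : IrrCharacter G}
    (hχ : χ ∈ principalBlock M G) {x : ↥(Subgroup.centralizer ({u} : Set G))} (hx : x ∈ K.π.ker) :
    (χ : G → ℂ) (u * (x : G)) = (χ : G → ℂ) u := by
  have hcop : x ∈ pPrimeCore 2 ↥(Subgroup.centralizer ({u} : Set G)) :=
    Transfer.le_pPrimeCore (MonoidHom.normal_ker _) K.odd.coprime_two_right hx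
  have h := Blocks.value_mul_pPrimeCore hM ⟨1, by rw [K.ou, pow_one]⟩ hχ (y := 1) (v := x)
    (by rw [orderOf_one]; norm_num) (by
      rw [one_mul]
      exact fun h2 => Nat.not_even_iff_odd.mpr
        (K.odd.of_dvd_nat (Subgroup.orderOf_dvd_natCard _ hx)) (even_iff_two_dvd.mpr h2)) hcop
  simpa using h

include K in
/-- The degrees of the characters of the centralizer inflated from the model. -/
theorem Cov.degrees_le {M : Ideal AlgInt} (hM : IsPModular 2 M) :
    48 ≤ ∑ᶠ ψ ∈ principalBlock M ↥(Subgroup.centralizer ({u} : Set G)),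
      charDegree (ψ : ↥(Subgroup.centralizer ({u} : Set G)) → ℂ) ^ 2 := by
  classical
  haveI := Blocks.isPrime_of_isPModular hM
  letI : Fintype (GL (Fin 2) (ZMod 3)) := Fintype.ofFinite _
  set f := K.π
  have hsub : ∀ η, Blocks.inflate f K.surj η ∈ principalBlock M ↥(Subgroup.centralizer ({u} : Set G)) := by
    intro η
    have h0 : SameBlock M (Blocks.trivIrr (GL (Fin 2) (ZMod 3)) : GL (Fin 2) (ZMod 3) → ℂ) (η : GL (Fin 2) (ZMod 3) → ℂ) := by
      have h := mem_principal hM η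
      rw [Blocks.principalBlock_eq] at h
      exact Blocks.mem_blockOf_iff.mp h
    have := Blocks.sameBlock_inflate (M := M) f K.surj h0
    rw [Blocks.principalBlock_eq]
    exact Blocks.mem_blockOf_iff.mpr this
  rw [finsum_mem_eq_sum_of_inter_support_eq _
    (t := Finset.univ.filter (· ∈ principalBlock M ↥(Subgroup.centralizer ({u} : Set G)))) (by ext; simp)]
  refine le_trans (le_of_eq ?_) (Finset.sum_le_sum_of_subset
    (s := Finset.univ.image (Blocks.inflate f K.surj)) (fun ψ hψ => ?_))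
  · rw [Finset.sum_image fun a _ b _ e => Blocks.inflate_injective f K.surj e]
    have hd : ∀ η : IrrCharacter (GL (Fin 2) (ZMod 3)),
        charDegree (Blocks.inflate f K.surj η : ↥(Subgroup.centralizer ({u} : Set G)) → ℂ) =
          charDegree (η : GL (Fin 2) (ZMod 3) → ℂ) := fun η => by
      show ⌊((η : GL (Fin 2) (ZMod 3) → ℂ) (f 1)).re⌋₊ = _
      rw [map_one]; rfl
    have key : ((∑ η, charDegree (Blocks.inflate f K.surj η : ↥(Subgroup.centralizer ({u} : Set G)) → ℂ) ^ 2 : ℕ) : ℂ) = ((48 : ℕ) : ℂ) := by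
      rw [show (48 : ℕ) = Nat.card (GL (Fin 2) (ZMod 3)) by
          rw [← Nat.card_eq_of_bijective toGL toGL_bijective, Nat.card_fin],
        ← Char.sum_sq_degree, Nat.cast_sum]
      exact Finset.sum_congr rfl fun η _ => by rw [hd, Nat.cast_pow, ← (Blocks.irr_degree_eq η).1]
    exact_mod_cast key.symm
  · obtain ⟨η, -, rfl⟩ := Finset.mem_image.mp hψ
    exact Finset.mem_filter.mpr ⟨Finset.mem_univ _, hsub η⟩

include K in
set_option maxHeartbeats 1000000 in
/-- **A small degree.** -/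
theorem Cov.small_degree [IsSimpleGroup G] {M : Ideal AlgInt} (hM : IsPModular 2 M)
    (hfus : ∀ a : G, a * a = 1 → a ≠ 1 → IsConj u a) (h32 : ¬ 32 ∣ Nat.card G) :
    ∃ χ : IrrCharacter G, χ ∈ principalBlock M G ∧ χ ≠ Blocks.trivIrr G ∧
      charDegree (χ : G → ℂ) < 24 := by
  classical
  set H := Subgroup.centralizer ({u} : Set G) with hH
  set w := Nat.card K.π.ker with hw
  have hw0 : (w : ℂ) ≠ 0 := Nat.cast_ne_zero.mpr Nat.card_pos.ne'
  have hHc : Nat.card ↥H = 48 * w := K.card_eq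
  obtain ⟨gA, gB, gC, gD, gE⟩ := self.isGeneralized_all
  have hco : ∀ F : Fin 48 → ℤ√(-2), IsGeneralizedCharacter H (K.fn F) → ∃ a : IrrCharacter G → ℤ,
      (∀ χ : IrrCharacter G, classInner (indFun H (K.fn F)) (χ : G → ℂ) = a χ) ∧
      (∀ χ : IrrCharacter G, (48 : ℂ) * w * a χ = ∑ x : H, phi (F (K.q x)) * conj ((χ : G → ℂ) x)) := by
    intro F hF
    have hg := Char.isGeneralized_indFun H hF
    choose a ha using fun χ : IrrCharacter G =>
      Char.exists_int_classInner hg (Char.isGeneralized_of_isIrr χ.2)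
    refine ⟨a, ha, fun χ => ?_⟩
    rw [← ha χ, Char.frobenius_reciprocity H _ (Blocks.irr_classFunction χ), classInner, hHc,
      Nat.cast_mul, Nat.cast_ofNat, mul_inv_cancel_left₀ (mul_ne_zero (by norm_num) hw0)]
    rfl
  obtain ⟨a, hai, ha⟩ := hco thA (K.isGeneralized gA)
  obtain ⟨b, hbi, hb⟩ := hco thB (K.isGeneralized gB)
  obtain ⟨c, hci, hc⟩ := hco thC (K.isGeneralized gC)
  obtain ⟨d, hdi, hd⟩ := hco thD (K.isGeneralized gD)
  obtain ⟨e, hei, he⟩ := hco thE (K.isGeneralized gE)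
  have hgram : ∀ (F F' : Fin 48 → ℤ√(-2)) (a a' : IrrCharacter G → ℤ) (n : ℤ),
      (∀ χ : IrrCharacter G, classInner (indFun H (K.fn F)) (χ : G → ℂ) = a χ) →
      (∀ χ : IrrCharacter G, classInner (indFun H (K.fn F')) (χ : G → ℂ) = a' χ) →
      IsGeneralizedCharacter H (K.fn F') →
      (∀ i, ¬ special i → F i = 0) → (∀ i, ¬ special i → F' i = 0) → F 0 = 0 →
      ip F F' = ((48 * n : ℤ) : ℤ√(-2)) → ∑ χ, a χ * a' χ = n := by
    intro F F' a a' n ha ha' hg' hv hv' h0 hip
    have h := Char.classInner_indFun_of_ti H _ K.ti (K.fn F) (K.fn F')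
      (Char.isClassFunction_of_isGeneralized hg') (K.vanish_off F hv) (K.vanish_off F' hv')
      (by rw [Cov.fn, K.q_one, h0, map_zero])
    conv at h => lhs; rw [Char.classFunction_expansion (Char.isClassFunction_indFun H (K.fn F)),
      Char.classFunction_expansion (Char.isClassFunction_indFun H (K.fn F')),
      Char.classInner_sum_smul_sum_smul]
    have hin : classInner (K.fn F) (K.fn F') = (48 : ℂ)⁻¹ * phi (ip F F') := by
      rw [classInner, hHc]
      simp only [Cov.fn, ← phi_star, ← map_mul]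
      rw [K.sum_q (fun i => phi (F i * star (F' i))), ← hw, ip, map_sum, nsmul_eq_mul, Nat.cast_mul,
        mul_inv, mul_assoc, inv_mul_cancel_left₀ hw0, Nat.cast_ofNat]
    rw [hin, hip, map_intCast] at h
    simp only [ha, ha', map_intCast] at h
    have h2 : ((∑ χ, a χ * a' χ : ℤ) : ℂ) = (n : ℂ) := by
      push_cast; rw [h]; push_cast; ring
    exact_mod_cast h2
  have hdeg : ∀ (F : Fin 48 → ℤ√(-2)) (a : IrrCharacter G → ℤ),
      (∀ χ : IrrCharacter G, classInner (indFun H (K.fn F)) (χ : G → ℂ) = a χ) → F 0 = 0 →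
      ∑ χ, a χ * (charDegree (χ : G → ℂ) : ℤ) = 0 := by
    intro F a ha h0
    have h := congrFun (Char.classFunction_expansion (Char.isClassFunction_indFun H (K.fn F))) 1
    rw [Char.indFun_one, Cov.fn, K.q_one, h0, map_zero, mul_zero, Finset.sum_apply] at h
    have h2 : ((∑ χ, a χ * (charDegree (χ : G → ℂ) : ℤ) : ℤ) : ℂ) = ((0 : ℤ) : ℂ) := by
      rw [Int.cast_sum, Int.cast_zero, h]
      exact Finset.sum_congr rfl fun χ _ => by
        rw [Pi.smul_apply, smul_eq_mul, ha, (Blocks.irr_degree_eq χ).1, Int.cast_mul, Int.cast_natCast]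
    exact_mod_cast h2
  obtain ⟨h11, h22, h44, h55, h12, h15, h25, h41, h42, h45, h31, h32', h35⟩ := gram
  obtain ⟨s1, s2, s4, s5, s3⟩ := with_one
  obtain ⟨o1, o2, o3, o4, o5⟩ := at_one
  have vA := fun i hi => (vanish i hi).1
  have vB := fun i hi => (vanish i hi).2.1
  have vC := fun i hi => (vanish i hi).2.2.1
  have vD := fun i hi => (vanish i hi).2.2.2.1
  have vE := fun i hi => (vanish i hi).2.2.2.2
  set one : IrrCharacter G := Blocks.trivIrr G with hone
  have hval1 : ∀ (F : Fin 48 → ℤ√(-2)) (a : IrrCharacter G → ℤ) (n : ℤ),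
      (∀ χ : IrrCharacter G, (48 : ℂ) * w * a χ = ∑ x : H, phi (F (K.q x)) * conj ((χ : G → ℂ) x)) →
      (∑ i, F i) = ((48 * n : ℤ) : ℤ√(-2)) → a one = n := by
    intro F a n h hs
    have h1 := h one
    simp only [hone, Blocks.trivIrr, map_one, mul_one] at h1
    rw [K.sum_q (fun i => phi (F i)), ← map_sum, hs, map_intCast, Int.cast_mul, nsmul_eq_mul, ← hw] at h1
    have h2 : (a one : ℂ) = (n : ℂ) := by
      refine mul_left_cancel₀ (mul_ne_zero (by norm_num : (48 : ℂ) ≠ 0) hw0) ?_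
      simp only [hone, Blocks.trivIrr]
      push_cast at h1 ⊢
      linear_combination h1
    exact_mod_cast h2
  have gA' := K.isGeneralized gA
  have gB' := K.isGeneralized gB
  have gC' := K.isGeneralized gC
  have gD' := K.isGeneralized gD
  have gE' := K.isGeneralized gE
  have hframe : Frame one a b c d e (fun χ => (charDegree (χ : G → ℂ) : ℤ)) :=
    { aa := hgram _ _ a a 3 hai hai gA' vA vA o1 (by rw [h11]; norm_num)
      bb := hgram _ _ b b 3 hbi hbi gB' vB vB o2 (by rw [h22]; norm_num)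
      dd := hgram _ _ d d 2 hdi hdi gD' vD vD o4 (by rw [h44]; norm_num)
      ee := hgram _ _ e e 4 hei hei gE' vE vE o5 (by rw [h55]; norm_num)
      ab := hgram _ _ a b 1 hai hbi gB' vA vB o1 (by rw [h12]; norm_num)
      ae := hgram _ _ a e 2 hai hei gE' vA vE o1 (by rw [h15]; norm_num)
      be := hgram _ _ b e 2 hbi hei gE' vB vE o2 (by rw [h25]; norm_num)
      da := hgram _ _ d a 0 hdi hai gA' vD vA o4 (by rw [h41]; norm_num)
      db := hgram _ _ d b 0 hdi hbi gB' vD vB o4 (by rw [h42]; norm_num)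
      de := hgram _ _ d e 0 hdi hei gE' vD vE o4 (by rw [h45]; norm_num)
      ca := hgram _ _ c a 0 hci hai gA' vC vA o3 (by rw [h31]; norm_num)
      cb := hgram _ _ c b 0 hci hbi gB' vC vB o3 (by rw [h32']; norm_num)
      ce := hgram _ _ c e (-1) hci hei gE' vC vE o3 (by rw [h35]; norm_num)
      a0 := hval1 _ a 1 ha (by rw [s1]; norm_num)
      b0 := hval1 _ b 0 hb (by rw [s2]; norm_num)
      c0 := hval1 _ c 0 hc (by rw [s3]; norm_num)
      d0 := hval1 _ d 0 hd (by rw [s4]; norm_num)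
      e0 := hval1 _ e 1 he (by rw [s5]; norm_num)
      f0 := by
        have h := (Blocks.irr_degree_eq one).1
        simp only [hone, Blocks.trivIrr] at h ⊢
        exact_mod_cast h.symm
      fpos := fun χ => by exact_mod_cast (Blocks.irr_degree_eq χ).2.ne'
      af := hdeg _ a hai o1
      bf := hdeg _ b hbi o2
      ef := hdeg _ e hei o5 }
  let v : IrrCharacter G → ℤ := fun χ => 3 * a χ + 3 * b χ - 2 * e χ + 2 * d χ
  -- the mean over `u` times the kernel
  have huinv : u⁻¹ = u := inv_eq_of_mul_eq_one_right (by rw [← pow_two, ← K.ou, pow_orderOf_eq_one])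
  have hmean : ∀ χ : IrrCharacter G,
      ∑ x ∈ Finset.univ.filter (fun x : H => K.q x = negI), conj ((χ : G → ℂ) x) = (w : ℂ) * v χ := by
    intro χ
    have h : ∑ x : H, phi (3 * thA (K.q x) + 3 * thB (K.q x) - 2 * thE (K.q x) + 2 * thD (K.q x)) *
        conj ((χ : G → ℂ) x) = (48 : ℂ) *
        ∑ x ∈ Finset.univ.filter (fun x : H => K.q x = negI), conj ((χ : G → ℂ) x) := by
      simp only [at_centre, apply_ite phi, map_zero, ite_mul, zero_mul, ← Finset.sum_filter, map_ofNat,
        ← Finset.mul_sum]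
    simp only [map_add, map_sub, map_mul, map_ofNat, add_mul, sub_mul, mul_assoc, Finset.sum_add_distrib,
      Finset.sum_sub_distrib, ← Finset.mul_sum, ← ha, ← hb, ← hd, ← he] at h
    simp only [v]
    push_cast
    linear_combination (-(1 : ℂ) / 48) * h
  have hB0 : ∀ χ : IrrCharacter G, χ ∈ principalBlock M G → (χ : G → ℂ) u = (v χ : ℂ) := by
    intro χ hχ
    have h := hmean χ
    rw [Finset.sum_congr rfl (g := fun _ => conj ((χ : G → ℂ) u)) fun x hx => ?_, Finset.sum_const,
      K.card_fibre, nsmul_eq_mul] at h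
    · have h1 := mul_left_cancel₀ hw0 h
      rw [← Complex.conj_conj ((χ : G → ℂ) u), h1, map_intCast]
    · have hk : (Cov.us u)⁻¹ * x ∈ K.π.ker := by
        rw [MonoidHom.mem_ker, map_mul, map_inv, ← K.toGL_q, ← K.toGL_q, K.q_u, (Finset.mem_filter.mp hx).2,
          inv_mul_cancel]
      congr 1
      rw [← K.value_u hM hχ hk]
      simp
  obtain ⟨hnz, P, r, i, j, hi0, hj0, hvi, hvj, hfi, hfj, hP0, hP1, hr0, hr1, hA, hE⟩ :=
    hframe.equations_deg v fun _ => rfl
  -- only the principal block meets the frame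
  have hvB : ∀ χ : IrrCharacter G, v χ ≠ 0 → χ ∈ principalBlock M G := by
    have hall := hframe.norm_v v fun _ => rfl
    have h1 := Blocks.sum_principal_norm_sq hM (x := u) ⟨1, by rw [K.ou, pow_one]⟩
    rw [Finset.sum_congr rfl (g := fun χ : IrrCharacter G => ((v χ * v χ : ℤ) : ℂ)) fun χ hχ => by
      rw [hB0 χ (Finset.mem_filter.mp hχ).2, map_intCast, Int.cast_mul]] at h1
    have hge := K.degrees_le hM
    generalize (∑ᶠ ψ ∈ principalBlock M ↥(Subgroup.centralizer ({u} : Set G)),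
      charDegree (ψ : ↥(Subgroup.centralizer ({u} : Set G)) → ℂ) ^ 2) = N at h1 hge
    have h2 : ∑ χ : IrrCharacter G with χ ∈ principalBlock M G, v χ * v χ = (N : ℤ) := by
      rw [← Int.cast_sum] at h1; exact_mod_cast h1
    intro χ hv
    by_contra hχ
    have h3 := Finset.add_sum_erase Finset.univ (fun χ => v χ * v χ) (Finset.mem_univ χ)
    rw [hall] at h3
    have h4 : ∑ ξ : IrrCharacter G with ξ ∈ principalBlock M G, v ξ * v ξ ≤
        ∑ ξ ∈ Finset.univ.erase χ, v ξ * v ξ := by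
      refine Finset.sum_le_sum_of_subset_of_nonneg (fun ξ hξ => ?_) (fun ξ _ _ => mul_self_nonneg _)
      exact Finset.mem_erase.mpr ⟨fun e => hχ (e ▸ (Finset.mem_filter.mp hξ).2), Finset.mem_univ _⟩
    have := mul_self_pos.mpr hv
    omega
  -- the three sums
  obtain ⟨L, hL, hsumL⟩ := K.count_sum hfus
  set g := Nat.card G with hg
  have hg0 : (g : ℂ) ≠ 0 := Nat.cast_ne_zero.mpr Nat.card_pos.ne'
  have hidx : ((Subgroup.centralizer ({u} : Set G)).index : ℂ) = (g : ℂ) / (48 * w) := by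
    have h := (Subgroup.centralizer ({u} : Set G)).card_mul_index
    rw [← hH, hHc, ← hg] at h
    rw [← h, Nat.cast_mul, Nat.cast_mul, Nat.cast_ofNat,
      mul_div_cancel_left₀ _ (mul_ne_zero (by norm_num : (48 : ℂ) ≠ 0) hw0)]
  have hsum : ∀ (F : Fin 48 → ℤ√(-2)) (a : IrrCharacter G → ℤ) (n : ℤ), (∀ i, ¬ special i → F i = 0) →
      (∀ χ, a χ ≠ 0 → v χ ≠ 0) →
      (∀ χ : IrrCharacter G, (48 : ℂ) * w * a χ = ∑ x : H, phi (F (K.q x)) * conj ((χ : G → ℂ) x)) →
      (∑ i, (pairs i : ℤ√(-2)) * F i) = ((n : ℤ) : ℤ√(-2)) →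
      (g : ℂ) * ∑ χ : IrrCharacter G, (a χ : ℂ) * ((v χ : ℤ) : ℂ) ^ 2 /
        (charDegree (χ : G → ℂ) : ℂ) = 48 * w * L ^ 2 * n := by
    intro F a n hv hav hF hs
    have hL2 := hsumL F hv
    rw [hs, map_intCast] at hL2
    have key : ∀ x : H, phi (F (K.q x)) *
        (Nat.card {p : G × G // IsConj u p.1 ∧ IsConj u p.2 ∧ p.1 * p.2 = (x : G)} : ℂ) =
        (g : ℂ) / (48 * w) ^ 2 * ∑ χ : IrrCharacter G, ((χ : G → ℂ) u) ^ 2 /
          (charDegree (χ : G → ℂ) : ℂ) * (phi (F (K.q x)) * conj ((χ : G → ℂ) x)) := by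
      intro x
      rw [Char.class_mult u u (x : G), hidx, ← hg, Finset.mul_sum, Finset.mul_sum, Finset.mul_sum]
      refine Finset.sum_congr rfl fun χ _ => ?_
      rw [(Blocks.irr_degree_eq χ).1]
      have : (charDegree (χ : G → ℂ) : ℂ) ≠ 0 := Nat.cast_ne_zero.mpr (Blocks.irr_degree_eq χ).2.ne'
      field_simp
    rw [Finset.sum_congr rfl fun x _ => key x, ← Finset.mul_sum, Finset.sum_comm] at hL2
    simp only [← Finset.mul_sum, ← hF] at hL2
    have e2 : ∀ χ : IrrCharacter G, ((χ : G → ℂ) u) ^ 2 / (charDegree (χ : G → ℂ) : ℂ) *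
        (48 * w * a χ) = 48 * w * ((a χ : ℂ) * ((v χ : ℤ) : ℂ) ^ 2 / (charDegree (χ : G → ℂ) : ℂ)) := by
      intro χ
      by_cases h0 : a χ = 0
      · simp [h0]
      · rw [hB0 χ (hvB χ (hav χ h0))]; ring
    rw [Finset.sum_congr rfl fun χ _ => e2 χ, ← Finset.mul_sum] at hL2
    push_cast at hL2
    field_simp at hL2
    linear_combination hL2
  obtain ⟨p1, p2, p3⟩ := pairs_sum
  have sA := hsum _ a 192 vA (fun χ h => hnz χ (Or.inl h)) ha (by rw [p1]; norm_num)
  have sB := hsum _ b 192 vB (fun χ h => hnz χ (Or.inr (Or.inl h))) hb (by rw [p2]; norm_num)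
  have sE := hsum _ e 288 vE (fun χ h => hnz χ (Or.inr (Or.inr h))) he (by rw [p3]; norm_num)
  have hA' : ((P : ℂ) * (P + 1)) * ∑ χ, (a χ : ℂ) * ((v χ : ℤ) : ℂ) ^ 2 / (charDegree (χ : G → ℂ) : ℂ) =
      ((P : ℂ) + 4) ^ 2 := by
    have := congrArg (Rat.cast : ℚ → ℂ) hA
    push_cast at this
    exact this
  have hE' : ((r : ℂ) * (r + 1)) * (∑ χ, (e χ : ℂ) * ((v χ : ℤ) : ℂ) ^ 2 / (charDegree (χ : G → ℂ) : ℂ) -
      ∑ χ, (b χ : ℂ) * ((v χ : ℤ) : ℂ) ^ 2 / (charDegree (χ : G → ℂ) : ℂ)) = ((r : ℂ) + 3) ^ 2 := by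
    have := congrArg (Rat.cast : ℚ → ℂ) hE
    push_cast at this
    exact this
  push_cast at sA sB sE
  have e1 : ((g : ℤ) : ℤ) * ((P + 4) * (P + 4)) = 9216 * ((w : ℤ) * (L : ℤ) ^ 2) * (P * (P + 1)) := by
    have : (g : ℂ) * (((P : ℂ) + 4) * ((P : ℂ) + 4)) = 9216 * ((w : ℂ) * (L : ℂ) ^ 2) * ((P : ℂ) * (P + 1)) := by
      linear_combination (-(g : ℂ)) * hA' + ((P : ℂ) * (P + 1)) * sA
    exact_mod_cast this
  have e2 : ((g : ℤ) : ℤ) * ((r + 3) * (r + 3)) = 4608 * ((w : ℤ) * (L : ℤ) ^ 2) * (r * (r + 1)) := by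
    have : (g : ℂ) * (((r : ℂ) + 3) * ((r : ℂ) + 3)) = 4608 * ((w : ℂ) * (L : ℂ) ^ 2) * ((r : ℂ) * (r + 1)) := by
      linear_combination (-(g : ℂ)) * hE' + ((r : ℂ) * (r + 1)) * (sE - sB)
    exact_mod_cast this
  have hwpos : (0 : ℤ) < w := by exact_mod_cast (Nat.card_pos : 0 < Nat.card K.π.ker)
  rcases eliminate (by exact_mod_cast (Nat.card_pos : 0 < Nat.card G))
      (mul_pos hwpos (by positivity)) hr0 hP0 hP1 hr1
      (fun h => h32 (Int.natCast_dvd_natCast.mp h)) e1 e2 with h | h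
  · exact ⟨i, hvB i hvi, hi0, by
      have := (Blocks.irr_degree_eq i).2
      nlinarith⟩
  · exact ⟨j, hvB j hvj, hj0, by
      have := (Blocks.irr_degree_eq j).2
      nlinarith⟩

end CfsgLib.OrderSix.Quat
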