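import Cfsg.Agent.Lib.OrderSix.QuatCover
import Cfsg.Agent.Lib.OrderSix.QuatFrame
import Cfsg.Agent.Lib.SmallCent.Degree
import Cfsg.Agent.Lib.BrauerReynolds.Centralizer
import Cfsg.Agent.Lib.Blocks.AbelianFrobeniusSylow
import Cfsg.Agent.S2916

/-!
Index six with `O_2` a quaternion group: the odd core is trivial, so the group is `L_3(3)` or `M_11`.
-/

set_option autoImplicit false
set_option linter.unusedVariables false
set_option linter.unusedSectionVars false
set_option linter.style.haveILetI false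

namespace CfsgLib.OrderSix

open Cfsg CfsgLib CfsgLib.SelfCent CfsgLib.SCThree
open scoped ComplexConjugate CfsgLib.Char

universe v

section Weights

variable {G : Type v} [Group G] [Fintype G]

/-- An abelian group whose nontrivial linear characters come in orbits of three in a character of degree
below twenty-four, each with multiplicity divisible by eight, acts trivially. -/
theorem eq_degree_of_weights {A : Subgroup G} (hA : ∀ a b : ↥A, a * b = b * a) {c : G}
    (hc : c ^ 3 = 1) (hcA : c ∈ Subgroup.normalizer (A : Set G))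
    (hfpf : ∀ a ∈ A, c * a = a * c → a = 1) {T : Subgroup G} (hT : Nat.card T = 8)
    (hcom : ∀ t ∈ T, ∀ a ∈ A, t * a = a * t) {χ : IrrCharacter G} (hdeg : charDegree (χ : G → ℂ) < 24)
    (hval : ∀ t ∈ T, t ≠ 1 → ∀ a ∈ A, (χ : G → ℂ) (t * a) = (χ : G → ℂ) t) :
    ∀ a ∈ A, (χ : G → ℂ) a = (χ : G → ℂ) 1 := by
  classical
  letI : Fintype ↥A := Fintype.ofFinite _
  letI : Fintype ↥T := Fintype.ofFinite _
  haveI := Blocks.AbelianFrob.finite_hom hA
  letI : Fintype (↥A →* ℂˣ) := Fintype.ofFinite _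
  set d := charDegree (χ : G → ℂ) with hd
  have hA0 : (Fintype.card ↥A : ℂ) ≠ 0 := Nat.cast_ne_zero.mpr Fintype.card_ne_zero
  set S : (↥A →* ℂˣ) → ℂ := fun l => ∑ a : ↥A, ((l a : ℂˣ) : ℂ) * (χ : G → ℂ) a with hS
  have hmult : ∀ l : ↥A →* ℂˣ, ∃ n : ℕ, S l = (Fintype.card ↥A : ℂ) * n ∧ (l ≠ 1 → 8 ∣ n) := by
    intro l
    by_cases hl : l = 1
    · obtain ⟨n, hn⟩ := SmallCent.exists_twisted_sum A.subtype ((Units.coeHom ℂ).comp l)
        (Char.isCharacter_of_isIrr χ.2)
      exact ⟨n, hn, fun h => absurd hl h⟩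
    · let f : ↥T × ↥A →* G := MonoidHom.noncommCoprod T.subtype A.subtype fun t a => hcom t t.2 a a.2
      have hf : ∀ (t : ↥T) (a : ↥A), f (t, a) = (t : G) * a := fun _ _ => rfl
      let L : ↥T × ↥A →* ℂ := (Units.coeHom ℂ).comp (l.comp (MonoidHom.snd _ _))
      obtain ⟨n, hn⟩ := SmallCent.exists_twisted_sum f L (Char.isCharacter_of_isIrr χ.2)
      refine ⟨8 * n, ?_, fun _ => dvd_mul_right 8 n⟩
      rw [Fintype.sum_prod_type, Finset.sum_eq_single (1 : ↥T)] at hn
      · rw [Fintype.card_prod, ← Nat.card_eq_fintype_card (α := ↥T), hT] at hn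
        push_cast at hn ⊢
        simp only [hS]
        rw [show (Fintype.card ↥A : ℂ) * (8 * n) = 8 * (Fintype.card ↥A : ℂ) * n by ring, ← hn]
        exact Finset.sum_congr rfl fun a _ => by rw [hf]; simp [L]
      · intro t _ ht
        rw [Finset.sum_congr rfl (g := fun a : ↥A => ((l a : ℂˣ) : ℂ) * (χ : G → ℂ) t) fun a _ => ?_,
          ← Finset.sum_mul, Blocks.AbelianFrob.sum_apply, if_neg hl, zero_mul]
        rw [hf]
        simp only [L, MonoidHom.coe_comp, Function.comp_apply, MonoidHom.coe_snd, Units.coeHom_apply]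
        rw [hval t t.2 (fun e => ht (Subtype.ext e)) a a.2]
      · exact fun h => absurd (Finset.mem_univ _) h
  choose n hn h8 using hmult
  have htot : ∑ l : ↥A →* ℂˣ, n l = d := by
    have h1 : ∑ l : ↥A →* ℂˣ, S l = (Fintype.card ↥A : ℂ) * (d : ℂ) := by
      simp only [hS]
      rw [Finset.sum_comm]
      simp only [← Finset.sum_mul, Blocks.AbelianFrob.sum_hom_apply hA, ite_mul, zero_mul,
        Finset.sum_ite_eq', Finset.mem_univ, if_true, Nat.card_eq_fintype_card]
      rw [Subgroup.coe_one, (Blocks.irr_degree_eq χ).1]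
    rw [Finset.sum_congr rfl fun l _ => hn l, ← Finset.mul_sum] at h1
    exact_mod_cast mul_left_cancel₀ hA0 h1
  -- the action of `c`
  have hconj : ∀ a ∈ A, c * a * c⁻¹ ∈ A := fun a ha => (Subgroup.mem_normalizer_iff.mp hcA a).mp ha
  have hconj' : ∀ a ∈ A, c⁻¹ * a * c ∈ A := fun a ha => by
    have := (Subgroup.mem_normalizer_iff.mp (inv_mem hcA) a).mp ha
    rwa [inv_inv] at this
  let γ : MulAut ↥A :=
    { toFun := fun a => ⟨c * a * c⁻¹, hconj _ a.2⟩
      invFun := fun a => ⟨c⁻¹ * a * c, hconj' _ a.2⟩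
      left_inv := fun a => Subtype.ext (by simp [mul_assoc])
      right_inv := fun a => Subtype.ext (by simp [mul_assoc])
      map_mul' := fun a b => Subtype.ext (by simp [mul_assoc]) }
  have hγ : ∀ a, γ a = a → a = 1 := fun a e => Subtype.ext (hfpf a a.2
    (mul_inv_eq_iff_eq_mul.mp (congrArg Subtype.val e)))
  have hγ3 : ∀ a, γ (γ (γ a)) = a := fun a => Subtype.ext (by
    show c * (c * (c * (a : G) * c⁻¹) * c⁻¹) * c⁻¹ = a
    have h3 : c * c * c = 1 := by rw [← hc, pow_succ, pow_two]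
    calc _ = c * c * c * (a : G) * (c * c * c)⁻¹ := by group
      _ = a := by rw [h3, one_mul, inv_one, mul_one])
  have hSγ : ∀ l : ↥A →* ℂˣ, n (l.comp γ.toMonoidHom) = n l := by
    intro l
    have e : S (l.comp γ.toMonoidHom) = S l := by
      simp only [hS]
      refine Fintype.sum_equiv γ.toEquiv _ _ fun a => ?_
      show ((l (γ a) : ℂˣ) : ℂ) * _ = ((l (γ a) : ℂˣ) : ℂ) * (χ : G → ℂ) (c * (a : G) * c⁻¹)
      rw [Blocks.irr_classFunction χ (a : G) c]
    rw [hn, hn] at e
    exact_mod_cast mul_left_cancel₀ hA0 e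
  have hzero : ∀ l : ↥A →* ℂˣ, l ≠ 1 → n l = 0 := by
    intro l hl
    by_contra hne
    have h1 : l.comp γ.toMonoidHom ≠ l := fun e => hl (Blocks.AbelianFrob.eq_one_of_comp_eq hA hγ e)
    have h2 : (l.comp γ.toMonoidHom).comp γ.toMonoidHom ≠ l := by
      intro e
      refine hl (Blocks.AbelianFrob.eq_one_of_comp_eq hA (w := γ.trans γ) (fun a e' => hγ a ?_) e)
      have e2 : γ (γ a) = a := e'
      calc γ a = γ (γ (γ a)) := by rw [e2]
        _ = a := hγ3 a
    have h3 : (l.comp γ.toMonoidHom).comp γ.toMonoidHom ≠ l.comp γ.toMonoidHom := by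
      intro e
      refine h1 (MonoidHom.ext fun a => ?_)
      have := DFunLike.congr_fun e (γ (γ a))
      simp only [MonoidHom.comp_apply, MulEquiv.coe_toMonoidHom, hγ3] at this ⊢
      exact this
    have hle : ∑ x ∈ ({l, l.comp γ.toMonoidHom, (l.comp γ.toMonoidHom).comp γ.toMonoidHom} : Finset _),
        n x ≤ d := htot ▸ Finset.sum_le_sum_of_subset (Finset.subset_univ _)
    rw [Finset.sum_insert (by simp only [Finset.mem_insert, Finset.mem_singleton, not_or]; exact ⟨Ne.symm h1, Ne.symm h2⟩),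
      Finset.sum_pair (Ne.symm h3), hSγ (l.comp γ.toMonoidHom), hSγ l] at hle
    have := Nat.le_of_dvd (Nat.pos_of_ne_zero hne) (h8 l hl)
    omega
  have hn1 : n 1 = d := by
    rw [← htot, Finset.sum_eq_single (1 : ↥A →* ℂˣ) (fun l _ hl => hzero l hl)
      (fun h => absurd (Finset.mem_univ _) h)]
  intro a ha
  have hcard : Nat.card (↥A →* ℂˣ) = Nat.card ↥A := by
    letI : CommGroup ↥A := { (inferInstance : Group ↥A) with mul_comm := hA }
    exact Char.card_hom_units _
  have h1 : ∑ l : ↥A →* ℂˣ, ((l (⟨a, ha⟩ : ↥A)⁻¹ : ℂˣ) : ℂ) * S l = (Fintype.card ↥A : ℂ) * (χ : G → ℂ) a := by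
    simp only [hS, Finset.mul_sum]
    rw [Finset.sum_comm]
    rw [Finset.sum_eq_single (⟨a, ha⟩ : ↥A)]
    · simp only [← mul_assoc, ← Units.val_mul, ← map_mul, inv_mul_cancel, map_one, Units.val_one, one_mul,
        Finset.sum_const, Finset.card_univ, nsmul_eq_mul]
      rw [← Nat.card_eq_fintype_card, hcard, Nat.card_eq_fintype_card]
    · intro b _ hb
      simp only [← mul_assoc, ← Units.val_mul, ← map_mul, ← Finset.sum_mul]
      rw [Blocks.AbelianFrob.sum_hom_apply hA, if_neg, zero_mul]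
      rw [inv_mul_eq_one]
      exact fun e => hb e.symm
    · exact fun h => absurd (Finset.mem_univ _) h
  rw [Finset.sum_eq_single (1 : ↥A →* ℂˣ) (fun l _ hl => by rw [hn, hzero l hl, Nat.cast_zero, mul_zero, mul_zero])
    (fun h => absurd (Finset.mem_univ _) h), hn, hn1] at h1
  simp only [MonoidHom.one_apply, Units.val_one, one_mul] at h1
  rw [← mul_left_cancel₀ hA0 h1, (Blocks.irr_degree_eq χ).1]

end Weights

variable {G : Type v} [Group G] [Finite G] {u c : G}

theorem Six.not_thirty_two (h : Six u c) (h6 : idx u = 6) (hu : u ∈ cD u) : ¬ 32 ∣ Nat.card G := by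
  haveI := Fact.mk Nat.prime_two
  intro h32
  have h8 := h.card_eight (Or.inr h6) hu
  obtain ⟨S, -, hS⟩ := exists_sylow_cC h (IsPGroup.of_bot (p := 2)) bot_le
  have h1 : 2 ^ 5 ∣ Nat.card ↥(cC u) :=
    (S.pow_dvd_card_of_pow_dvd_card (by norm_num; exact h32)).trans (Subgroup.card_dvd_of_le hS)
  rw [card_cC, card_cX h, h8, h6] at h1
  have h2 : 2 ∣ 3 * Nat.card (cO u) := by
    obtain ⟨k, hk⟩ := h1
    exact ⟨k, by omega⟩
  rcases Nat.prime_two.dvd_mul.mp h2 with h3 | h3
  · norm_num at h3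
  · exact Nat.not_even_iff_odd.mpr (cO_odd h) (even_iff_two_dvd.mpr h3)

/-- The odd core is trivial. -/
theorem Six.cO_bot (h : Six u c) (h6 : idx u = 6) (hu : u ∈ cD u) : cO u = ⊥ := by
  classical
  letI := Fintype.ofFinite G
  haveI := h.simple
  have hl : Low u := Or.inr h6
  have h8 := h.card_eight hl hu
  obtain ⟨π, hsurj, hker⟩ := h.gl_cover h6 hu
  have hkerO : Nat.card π.ker = Nat.card (cO u) := by
    have e : π.ker = (cO u).subgroupOf (cC u) := by
      ext x; rw [MonoidHom.mem_ker, hker, Subgroup.mem_subgroupOf]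
    rw [e, Nat.card_congr (Subgroup.subgroupOfEquivOfLe (cO_le_cC u)).toEquiv]
  let K : Quat.Cov u := ⟨h.ou, π, hsurj, hkerO ▸ cO_odd h⟩
  obtain ⟨M, hM⟩ := Blocks.exists_isPModular Nat.prime_two
  letI := Fintype.ofFinite ↥(Subgroup.centralizer ({u} : Set G))
  obtain ⟨χ, hχ, hne, hdeg⟩ := K.small_degree hM
    (fun a h2 h1 => h.one u a h.ou (orderOf_two_iff.mpr ⟨h2, h1⟩)) (h.not_thirty_two h6 hu)
  by_contra hO
  haveI : Nontrivial ↥(cO u) := (Subgroup.nontrivial_iff_ne_bot _).mpr hO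
  haveI := cO_isNilpotent h
  set A : Subgroup G := (Subgroup.center ↥(cO u)).map (cO u).subtype with hAdef
  have hAO : A ≤ cO u := Subgroup.map_subtype_le _
  have hA : ∀ a b : ↥A, a * b = b * a := by
    rintro ⟨_, a, ha, rfl⟩ ⟨_, b, hb, rfl⟩
    exact Subtype.ext (congrArg (fun z : ↥(cO u) => (z : G)) (Subgroup.mem_center_iff.mp hb a) :)
  have hcA : c ∈ Subgroup.normalizer (A : Set G) := by
    have key : ∀ g ∈ Subgroup.normalizer (cO u : Set G), ∀ a ∈ A, g * a * g⁻¹ ∈ A := by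
      rintro g hg _ ⟨a, ha, rfl⟩
      refine ⟨⟨g * a * g⁻¹, (Subgroup.mem_normalizer_iff.mp hg _).mp a.2⟩,
        Subgroup.mem_center_iff.mpr fun b => Subtype.ext ?_, rfl⟩
      have hb : g⁻¹ * (b : G) * g⁻¹⁻¹ ∈ cO u := (Subgroup.mem_normalizer_iff.mp (inv_mem hg) _).mp b.2
      have := congrArg Subtype.val (Subgroup.mem_center_iff.mp ha ⟨_, hb⟩)
      simp only [Subgroup.coe_mul, inv_inv] at this
      calc (b : G) * (g * a * g⁻¹) = g * (g⁻¹ * b * g * a) * g⁻¹ := by group
        _ = g * ((a : G) * (g⁻¹ * b * g)) * g⁻¹ := by rw [this]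
        _ = g * a * g⁻¹ * b := by group
    have hcN := cO_normalized h h.c_mem
    rw [Subgroup.mem_normalizer_iff]
    refine fun a => ⟨key c hcN a, fun ha => ?_⟩
    have := key c⁻¹ (inv_mem hcN) _ ha
    simpa [mul_assoc] using this
  have hcom : ∀ t ∈ cT u, ∀ a ∈ A, t * a = a * t := fun t ht a ha => (cO_commute_cT h (hAO ha) ht).symm
  have hval : ∀ t ∈ cT u, t ≠ 1 → ∀ a ∈ A, (χ : G → ℂ) (t * a) = (χ : G → ℂ) t := by
    intro t ht ht1 a ha
    obtain ⟨k, hk⟩ := IsPGroup.iff_orderOf.mp (cT_isPGroup u) ⟨t, ht⟩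
    rw [Subgroup.orderOf_mk] at hk
    have hCt : Subgroup.centralizer ({t} : Set G) ≤ cC u := by
      intro x hx
      rw [Subgroup.mem_centralizer_singleton_iff] at hx
      by_cases hU : t ∈ Subgroup.zpowers u
      · rcases (mem_U h).mp hU with e | e
        · exact absurd e ht1
        · exact mem_cC.mpr (e ▸ hx)
      · rw [mem_cC, ← h.sq_u h8 hu ht hU, ← mul_assoc, hx, mul_assoc, hx, mul_assoc]
    letI := Fintype.ofFinite ↥(Subgroup.centralizer ({t} : Set G))
    set C := Subgroup.centralizer ({t} : Set G)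
    haveI hOn : ((cO u).subgroupOf C).Normal := ⟨fun x hx g => Subgroup.mem_subgroupOf.mpr
      ((Subgroup.mem_normalizer_iff.mp (cO_normalized h (hCt g.2)) _).mp (Subgroup.mem_subgroupOf.mp hx))⟩
    have hOodd : Odd (Nat.card ↥((cO u).subgroupOf C)) := by
      refine (cO_odd h).of_dvd_nat ?_
      rw [← Subgroup.card_map_of_injective C.subtype_injective]
      exact Subgroup.card_dvd_of_le (by rintro _ ⟨x, hx, rfl⟩; exact Subgroup.mem_subgroupOf.mp hx)
    set a' : ↥C := ⟨a, Subgroup.mem_centralizer_singleton_iff.mpr (hcom t ht a ha).symm⟩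
    have hv := Blocks.value_mul_pPrimeCore hM ⟨k, hk⟩ hχ (y := (1 : ↥C)) (v := a')
      (by rw [orderOf_one]; norm_num) (by
        rw [one_mul, ← Subgroup.orderOf_coe]
        exact fun h2 => Nat.not_even_iff_odd.mpr ((mem_cO h).mp (hAO ha)).2 (even_iff_two_dvd.mpr h2))
      (Transfer.le_pPrimeCore hOn hOodd.coprime_two_right (Subgroup.mem_subgroupOf.mpr (hAO ha)))
    simpa [a'] using hv
  have hfix := eq_degree_of_weights hA h.ccc hcA (fun a ha e => cO_fpf h (hAO ha) e) h8 hcom hdeg hval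
  obtain ⟨⟨z, hz⟩, hz1⟩ := Subgroup.ne_bot_iff_exists_ne_one.mp
    (Group.IsNilpotent.center_ne_bot (G := ↥(cO u)))
  have := BrauerReynolds.faithful_of_simple hne (hfix _ ⟨z, hz, rfl⟩)
  exact hz1 (Subtype.ext (Subtype.ext this))

theorem Six.pResidual_two (h : Six u c) : Cfsg.pResidual 2 G = ⊤ := by
  haveI := h.simple
  refine ((Transfer.pResidual_normal 2 G).eq_bot_or_eq_top).resolve_left fun e => ?_
  have h1 : c ∈ Cfsg.pResidual 2 G :=
    Subgroup.subset_closure (show Nat.Coprime (orderOf c) 2 by rw [h.oc]; norm_num)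
  rw [e, Subgroup.mem_bot] at h1
  exact h.c_ne_one h1

/-- **Index six with a quaternion group.** -/
theorem Six.index_six_quat (h : Six u c) (h6 : idx u = 6) (hu : u ∈ cD u) :
    (∃ (F : Type) (_ : Field F) (_ : Fintype F), Fintype.card F = 3 ∧
      Nonempty (G ≃* Matrix.ProjectiveSpecialLinearGroup (Fin 3) F)) ∨ Cfsg.Spor.IsoM11 G := by
  obtain ⟨π, hsurj, hker⟩ := h.gl_cover h6 hu
  have hO := h.cO_bot h6 hu
  refine Cfsg.Agent.S2916.result h.pResidual_two u h.ou ⟨MulEquiv.ofBijective π ⟨?_, hsurj⟩⟩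
  refine (injective_iff_map_eq_one π).mpr fun x hx => Subtype.ext ?_
  have := (hker x).mp hx
  rwa [hO, Subgroup.mem_bot] at this

end CfsgLib.OrderSix
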