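import Cfsg.Agent.Lib.OrderSix.CoreOdd
import Cfsg.Agent.Lib.OrderSix.QuatShape

/-!
Index six with `O_2` a quaternion group: the centralizer covers `GL(2,3)`.
-/

set_option autoImplicit false
set_option linter.unusedVariables false
set_option linter.unusedSectionVars false
set_option linter.style.haveILetI false

namespace CfsgLib.OrderSix

open CfsgLib.SelfCent CfsgLib.SCThree

universe v

variable {G : Type v} [Group G] [Finite G] {u c : G}

theorem Six.not_mem_cT_three (h : Six u c) : c ∉ cT u := fun hc =>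
  c_not_mem_cX h (cT_le_cX u hc)

/-- The centralizer modulo its odd core is `GL(2,3)`. -/
theorem Six.gl_cover (h : Six u c) (h6 : idx u = 6) (hu : u ∈ cD u) :
    ∃ π : ↥(cC u) →* GL (Fin 2) (ZMod 3),
      Function.Surjective π ∧ ∀ x : ↥(cC u), π x = 1 ↔ (x : G) ∈ cO u := by
  have hl : Low u := Or.inr h6
  have h8 := h.card_eight hl hu
  set H := cC u with hH
  set Oc := (cO u).subgroupOf H with hOc
  haveI hOn : Oc.Normal :=
    (Subgroup.normal_subgroupOf_iff_le_normalizer (cO_le_cC u)).mpr (cO_normalized h)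
  set π := QuotientGroup.mk' Oc with hπ
  have hker : ∀ x : ↥H, π x = 1 ↔ (x : G) ∈ cO u := fun x => QuotientGroup.eq_one_iff x
  haveI hTn : ((cT u).subgroupOf H).Normal :=
    (Subgroup.normal_subgroupOf_iff_le_normalizer (cT_le_cC u)).mpr (cT_normalized u)
  set TX := ((cT u).subgroupOf H).map π with hTX
  have hX : Nat.card (↥H ⧸ Oc) = 48 := by
    have h1 := Subgroup.card_eq_card_quotient_mul_card_subgroup Oc
    rw [card_cC, card_cX h, h8, h6, Nat.card_congr (Subgroup.subgroupOfEquivOfLe (cO_le_cC u)).toEquiv] at h1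
    exact Nat.eq_of_mul_eq_mul_right (Nat.card_pos (α := cO u)) (h1.symm.trans (by ring))
  have hTinj : ∀ a b : ↥H, (a : G) ∈ cT u → (b : G) ∈ cT u → π a = π b → a = b := by
    intro a b ha hb e
    have e1 : π (a⁻¹ * b) = 1 := by rw [map_mul, map_inv, e, inv_mul_cancel]
    exact Subtype.ext (inv_mul_eq_one.mp (cT_inf_cO h (mul_mem (inv_mem ha) hb) ((hker _).mp e1)))
  have hT : Nat.card TX = 8 := by
    rw [← h8]
    refine (Nat.card_congr (Equiv.ofBijective
      (fun t : ↥(cT u) => (⟨π ⟨t, cT_le_cC u t.2⟩, ⟨_, Subgroup.mem_subgroupOf.mpr t.2, rfl⟩⟩ : ↥TX))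
      ⟨?_, ?_⟩)).symm
    · intro a b e
      exact Subtype.ext (congrArg (fun w : ↥H => (w : G)) (hTinj _ _ a.2 b.2 (congrArg Subtype.val e)))
    · rintro ⟨_, x, hx, rfl⟩
      exact ⟨⟨x, Subgroup.mem_subgroupOf.mp hx⟩, rfl⟩
  have hmem : ∀ x : ↥H, (x : G) ∈ cX u → π x ∈ TX := by
    intro x hx
    obtain ⟨τ, hτ, o, ho, e⟩ := cX_eq_mul h hx
    refine ⟨⟨τ, cT_le_cC u hτ⟩, Subgroup.mem_subgroupOf.mpr hτ, ?_⟩
    rw [show x = ⟨τ, cT_le_cC u hτ⟩ * ⟨o, cO_le_cC u ho⟩ from Subtype.ext e, map_mul,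
      (hker ⟨o, _⟩).mpr ho, mul_one]
  set us : ↥H := ⟨u, h.u_mem⟩ with hus
  set cs : ↥H := ⟨c, h.c_mem⟩ with hcs
  -- the involution outside
  obtain ⟨S, -, hS⟩ := exists_sylow_cC h (IsPGroup.of_bot (p := 2)) bot_le
  obtain ⟨s, hsS, hs2, hsu⟩ := h.exists_invol S hS
  obtain ⟨hss, hs1⟩ := orderOf_two_iff.mp hs2
  have hsT : s ∉ cT u := fun hst => by
    have hsU : s ∉ Subgroup.zpowers u := fun hh => by
      rcases (mem_U h).mp hh with e | e
      · exact hs1 e
      · exact hsu e
    have := h.sq_u h8 hu hst hsU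
    rw [hss] at this
    exact h.u_ne_one this.symm
  obtain ⟨-, hsR⟩ := two_group_refl h hl S.isPGroup' hS hsS hsT
  set ss : ↥H := ⟨s, hS hsS⟩ with hssdef
  obtain ⟨e⟩ := gl_of_parts TX (hTn.map π (QuotientGroup.mk'_surjective _)) hX hT
    (z := π us) ⟨us, Subgroup.mem_subgroupOf.mpr (u_mem_cT h), rfl⟩
    (fun e => h.u_ne_one (cT_inf_cO h (u_mem_cT h) ((hker us).mp e)))
    (by rw [← map_mul, show us * us = 1 from Subtype.ext h.uu, map_one])
    (fun x => by
      obtain ⟨y, rfl⟩ := QuotientGroup.mk'_surjective Oc x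
      rw [← hπ, ← map_mul, ← map_mul, show y * us = us * y from Subtype.ext (mem_cC.mp y.2)])
    (by
      rintro _ ⟨t, ht, rfl⟩ h1 h2
      rw [← map_mul]
      refine congrArg π (Subtype.ext ?_)
      refine h.sq_u h8 hu (Subgroup.mem_subgroupOf.mp ht) fun hU => ?_
      rcases (mem_U h).mp hU with e | e
      · exact h1 (by rw [show t = 1 from Subtype.ext e, map_one])
      · exact h2 (congrArg π (Subtype.ext e)))
    (s := π ss) (c := π cs)
    (by rw [← map_mul, show ss * ss = 1 from Subtype.ext hss, map_one])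
    (by rw [← map_pow, show cs ^ 3 = 1 from Subtype.ext (by simpa [hcs] using h.ccc), map_one])
    (by
      rintro ⟨t, ht, e⟩
      have h1 : π (t⁻¹ * cs) = 1 := by rw [map_mul, map_inv, e, inv_mul_cancel]
      refine c_not_mem_cX h ?_
      have h2 := mul_mem (cT_le_cX u (Subgroup.mem_subgroupOf.mp ht)) (cO_le_cX u ((hker _).mp h1))
      have e2 : (t : G) * ((t⁻¹ * cs : ↥H) : G) = c := by
        rw [Subgroup.coe_mul, Subgroup.coe_inv, mul_inv_cancel_left]
      rwa [e2] at h2)
    (by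
      rw [← map_inv, ← map_mul, ← map_mul, ← map_mul]
      exact hmem _ hsR.2.2.2)
    (by
      rintro _ ⟨t, ht, rfl⟩ hor
      have ht' : (t : G) ∈ cT u := Subgroup.mem_subgroupOf.mp ht
      set w : ↥H := cs * t * cs⁻¹ * t⁻¹ with hw
      have hwT : (w : G) ∈ cT u :=
        mul_mem ((Subgroup.mem_normalizer_iff.mp (cT_normalized u h.c_mem) _).mp ht') (inv_mem ht')
      rw [← map_inv, ← map_inv, ← map_mul, ← map_mul, ← map_mul, ← hw] at hor
      have hwU : (w : G) ∈ Subgroup.zpowers u := by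
        rcases hor with e | e
        · rw [hTinj w 1 hwT (one_mem _) (e.trans (map_one π).symm)]; exact one_mem _
        · rw [hTinj w us hwT (u_mem_cT h) e]; exact Subgroup.mem_zpowers u
      have hf : (t : G)⁻¹ * (c * t * c⁻¹) ∈ Subgroup.zpowers u := by
        have := (Subgroup.mem_normalizer_iff.mp (U_normalized u (inv_mem t.2)) _).mp hwU
        refine (congrArg (· ∈ Subgroup.zpowers u) ?_).mp this
        simp only [hw, hcs, Subgroup.coe_mul, Subgroup.coe_inv]
        group
      have := fix_mod h (U_le_cT h) (Subgroup.mem_zpowers u) (U_normalized u h.c_mem) ht' hf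
      rcases (mem_U h).mp this with e | e
      · exact Or.inl (by rw [show t = 1 from Subtype.ext e, map_one])
      · exact Or.inr (congrArg π (Subtype.ext e)))
  refine ⟨e.toMonoidHom.comp π, e.surjective.comp (QuotientGroup.mk'_surjective _), fun x => ?_⟩
  rw [MonoidHom.comp_apply, ← hker x]
  exact e.map_eq_one_iff

end CfsgLib.OrderSix
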