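import Cfsg.Agent.Lib.OrderSix.FpfThree
import Cfsg.Agent.Lib.OneToFive.Quot

/-!
Elementary two-groups on which the alternating group of degree five acts with fixed-point-free elements of
order three.
-/

set_option autoImplicit false
set_option linter.unusedVariables false
set_option linter.style.haveILetI false

namespace CfsgLib.OrderSix.Sixty

universe v

/-- The alternating group of degree five. -/
abbrev A5 : Type := ↥(alternatingGroup (Fin 5))

theorem card_A5 : Nat.card A5 = 60 := by
  rw [nat_card_alternatingGroup, Nat.card_fin]; decide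

/-- Every involution has a four-group with an element of order three permuting it. -/
theorem four : ∀ a : A5, a * a = 1 → a ≠ 1 →
    ∃ s : A5, s ^ 3 = 1 ∧ s ≠ 1 ∧ s * a * s⁻¹ ≠ a ∧ a * (s * a * s⁻¹) = s * a * s⁻¹ * a ∧
      s * (s * a * s⁻¹) * s⁻¹ = a * (s * a * s⁻¹) ∧
      ((a * s) ^ 3 = 1 ∧ a * s ≠ 1) ∧ ((s * a * s⁻¹ * s) ^ 3 = 1 ∧ s * a * s⁻¹ * s ≠ 1) ∧
      ((a * (s * a * s⁻¹) * s) ^ 3 = 1 ∧ a * (s * a * s⁻¹) * s ≠ 1) := by
  decide +kernel

/-- Every involution has a conjugate whose product with it has order three. -/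
theorem pair : ∀ a : A5, a * a = 1 → a ≠ 1 →
    ∃ g : A5, (a * (g * a * g⁻¹)) ^ 3 = 1 ∧ a * (g * a * g⁻¹) ≠ 1 := by
  decide +kernel

variable {N : Type v} [CommGroup N] (α : A5 →* MulAut N)

/-- The elements of order three fix only the identity. -/
def Free : Prop := ∀ s : A5, s ^ 3 = 1 → s ≠ 1 → ∀ x : N, α s x = x → x = 1

/-- The fixed points of an element. -/
def fix (a : A5) : Subgroup N := (α a).toMonoidHom.eqLocus (MonoidHom.id N)

variable {α}

theorem mem_fix {a : A5} {x : N} : x ∈ fix α a ↔ α a x = x := Iff.rfl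

theorem Free.three (hf : Free α) {s : A5} (h3 : s ^ 3 = 1) (h1 : s ≠ 1) : Fpf.Three (α s) := by
  refine ⟨fun x => ?_, hf s h3 h1⟩
  rw [← MulAut.mul_apply, ← MulAut.mul_apply, ← map_mul, ← map_mul]
  rw [show s * s * s = 1 by rw [← h3, pow_succ, pow_two]]
  simp

theorem fix_conj {a g : A5} {x : N} : x ∈ fix α (g * a * g⁻¹) ↔ α g⁻¹ x ∈ fix α a := by
  rw [mem_fix, mem_fix, map_mul, map_mul, MulAut.mul_apply, MulAut.mul_apply, map_inv]
  constructor
  · intro e
    conv_rhs => rw [← e]
    simp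
  · intro e
    rw [e]
    simp

theorem card_fix_conj (a g : A5) : Nat.card (fix α (g * a * g⁻¹)) = Nat.card (fix α a) := by
  refine Nat.card_congr ⟨fun x => ⟨α g⁻¹ x, fix_conj.mp x.2⟩, fun x => ⟨α g x, ?_⟩, ?_, ?_⟩
  · rw [fix_conj, ← MulAut.mul_apply, ← map_mul, inv_mul_cancel, map_one]
    exact x.2
  · intro x
    apply Subtype.ext
    show α g (α g⁻¹ x) = x
    rw [← MulAut.mul_apply, ← map_mul, mul_inv_cancel, map_one]; rfl
  · intro x
    apply Subtype.ext
    show α g⁻¹ (α g x) = x
    rw [← MulAut.mul_apply, ← map_mul, inv_mul_cancel, map_one]; rfl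

variable [Finite N]

/-- The identity of the four-group. -/
theorem Free.sum_four (hf : Free α) (h2 : ∀ x : N, x * x = 1) {a b s : A5} (hs3 : s ^ 3 = 1) (hs1 : s ≠ 1)
    (hb : s * a * s⁻¹ = b) (hab : a * b = b * a) (haa : a * a = 1) (hsb : s * b * s⁻¹ = a * b)
    (h1 : (a * s) ^ 3 = 1 ∧ a * s ≠ 1) (h2' : (b * s) ^ 3 = 1 ∧ b * s ≠ 1)
    (h3' : (a * b * s) ^ 3 = 1 ∧ a * b * s ≠ 1) (x : N) :
    x * α a x * α b x * α (a * b) x = 1 := by
  have hbb : b * b = 1 := by
    rw [← hb]
    calc s * a * s⁻¹ * (s * a * s⁻¹) = s * (a * a) * s⁻¹ := by group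
      _ = 1 := by rw [haa]; group
  have hab2 : a * b * (a * b) = 1 := by
    calc a * b * (a * b) = a * b * (b * a) := by rw [← hab]
      _ = a * (b * b) * a := by group
      _ = 1 := by rw [hbb, mul_one, haa]
  -- the squares
  have q1 : a * s * (a * s) = a * b * (s * s) := by rw [← hb]; group
  have q2 : b * s * (b * s) = a * (s * s) := by
    calc b * s * (b * s) = b * (s * b * s⁻¹) * (s * s) := by group
      _ = b * (a * b) * (s * s) := by rw [hsb]
      _ = a * (b * b) * (s * s) := by rw [← mul_assoc b a b, ← hab, mul_assoc a b b]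
      _ = a * (s * s) := by rw [hbb, mul_one]
  have hsab : s * (a * b) * s⁻¹ = a := by
    calc s * (a * b) * s⁻¹ = s * a * s⁻¹ * (s * b * s⁻¹) := by group
      _ = b * (a * b) := by rw [hb, hsb]
      _ = b * (b * a) := by rw [hab]
      _ = a := by rw [← mul_assoc, hbb, one_mul]
  have q3 : a * b * s * (a * b * s) = b * (s * s) := by
    calc a * b * s * (a * b * s) = a * b * (s * (a * b) * s⁻¹) * (s * s) := by group
      _ = a * b * a * (s * s) := by rw [hsab]
      _ = b * (s * s) := by rw [hab, mul_assoc b a a, haa, mul_one]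
  have hss : α (s * s) x = x * α s x := by
    have e := (hf.three hs3 hs1).ident x
    rw [← MulAut.mul_apply, ← map_mul] at e
    rw [mul_eq_one_iff_eq_inv, inv_eq_of_mul_eq_one_right (h2 _)] at e
    exact e.symm
  have key : ∀ p q : A5, p ^ 3 = 1 ∧ p ≠ 1 → p * p = q * (s * s) →
      x * α p x * (α q x * α (q * s) x) = 1 := by
    intro p q hp hq
    have e := (hf.three hp.1 hp.2).ident x
    rw [← MulAut.mul_apply, ← map_mul, hq, map_mul α q (s * s), MulAut.mul_apply, hss, map_mul,
      ← MulAut.mul_apply, ← map_mul] at e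
    exact e
  have k1 := key _ _ h1 q1
  have k2 := key _ _ h2' q2
  have k3 := key _ _ h3' q3
  set A := α (a * s) x
  set B := α (b * s) x
  set C := α (a * b * s) x
  set P := α a x
  set Q := α b x
  set R := α (a * b) x
  have e := congrArg₂ (· * ·) (congrArg₂ (· * ·) k1 k2) k3
  simp only [mul_one] at e
  calc x * P * Q * R = x * P * Q * R * ((A * A) * (B * B) * (C * C) * (x * x)) := by
        simp only [h2, mul_one]
    _ = x * A * (R * C) * (x * B * (P * A)) * (x * C * (Q * B)) := by ac_rfl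
    _ = 1 := e

/-- The fixed points of an involution: their order squared, and an element of order three leaving them invariant. -/
theorem Free.fix_spec (hf : Free α) (h2 : ∀ x : N, x * x = 1) {a : A5} (haa : a * a = 1) (ha : a ≠ 1) :
    Nat.card (fix α a) * Nat.card (fix α a) = Nat.card N ∧
      ∃ s : A5, s ^ 3 = 1 ∧ s ≠ 1 ∧ s * a * s⁻¹ ≠ a ∧ a * (s * a * s⁻¹) = s * a * s⁻¹ * a ∧
        fix α (s * a * s⁻¹) = fix α a ∧ ∀ x ∈ fix α a, α s x ∈ fix α a := by
  obtain ⟨g, hg3, hg1⟩ := pair a haa ha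
  obtain ⟨s, hs3, hs1, hne, hab, hsb, h1, h2', h3'⟩ := four a haa ha
  set b := s * a * s⁻¹ with hb
  set F := fix α a
  have hdisj : F ⊓ fix α (g * a * g⁻¹) = ⊥ := by
    rw [eq_bot_iff]
    rintro x ⟨hx, hx'⟩
    refine Subgroup.mem_bot.mpr (hf _ hg3 hg1 x ?_)
    rw [map_mul, MulAut.mul_apply, mem_fix.mp hx', mem_fix.mp hx]
  have hle : Nat.card F * Nat.card (fix α (g * a * g⁻¹)) ≤ Nat.card N := by
    rw [← Nat.card_prod]
    refine Nat.card_le_card_of_injective (fun p => (p.1 : N) * p.2) ?_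
    rintro ⟨p, q⟩ ⟨p', q'⟩ e
    have e' : (p' : N)⁻¹ * p = q' * (q : N)⁻¹ := by
      rw [eq_mul_inv_iff_mul_eq, mul_assoc, show (p : N) * q = p' * q' from e, inv_mul_cancel_left]
    have h : (p' : N)⁻¹ * p ∈ F ⊓ fix α (g * a * g⁻¹) :=
      Subgroup.mem_inf.mpr ⟨mul_mem (inv_mem p'.2) p.2, e' ▸ mul_mem q'.2 (inv_mem q.2)⟩
    rw [hdisj, Subgroup.mem_bot] at h
    have hq := h ▸ e'
    exact Prod.ext (Subtype.ext (inv_mul_eq_one.mp h).symm) (Subtype.ext (mul_inv_eq_one.mp hq.symm).symm)
  rw [card_fix_conj] at hle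
  let φ : N →* N := MonoidHom.id N * (α a).toMonoidHom
  have hφ : ∀ x, φ x = x * α a x := fun x => rfl
  have hker : φ.ker = F := by
    ext x
    rw [MonoidHom.mem_ker, hφ, mem_fix, mul_eq_one_iff_eq_inv', inv_eq_of_mul_eq_one_right (h2 x)]
  have hcard : Nat.card F * Nat.card φ.range = Nat.card N := by
    rw [← hker, ← Subgroup.index_ker, Subgroup.card_mul_index]
  have hra : φ.range ≤ F := by
    rintro _ ⟨x, rfl⟩
    rw [mem_fix, hφ, map_mul, ← MulAut.mul_apply, ← map_mul, haa, map_one, MulAut.one_apply, mul_comm]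
  have hrb : φ.range ≤ fix α b := by
    rintro _ ⟨x, rfl⟩
    rw [mem_fix, hφ, map_mul, ← MulAut.mul_apply, ← map_mul, ← hab]
    have e := hf.sum_four h2 hs3 hs1 hb.symm hab haa hsb h1 h2' h3' x
    rw [mul_assoc (x * α a x)] at e
    rw [mul_eq_one_iff_eq_inv.mp e, inv_eq_of_mul_eq_one_right (h2 _)]
  have hrF : φ.range = F := Subgroup.eq_of_le_of_card_ge hra (by
    have : Nat.card F * Nat.card F ≤ Nat.card F * Nat.card φ.range := hcard ▸ hle
    exact Nat.le_of_mul_le_mul_left this Nat.card_pos)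
  have hFb : fix α b = F := by
    refine (Subgroup.eq_of_le_of_card_ge (hrF ▸ hrb) ?_).symm
    rw [hb, card_fix_conj]
  refine ⟨hrF ▸ hcard, s, hs3, hs1, hne, hab, hFb, fun x hx => ?_⟩
  rw [← hFb, fix_conj, ← MulAut.mul_apply, ← map_mul, inv_mul_cancel, map_one]
  exact hx

/-- The number of fixed points of an involution is one modulo three. -/
theorem Free.card_fix_mod (hf : Free α) (h2 : ∀ x : N, x * x = 1) {a : A5} (haa : a * a = 1) (ha : a ≠ 1) :
    Nat.card (fix α a) % 3 = 1 := by
  obtain ⟨-, s, hs3, hs1, -, -, -, hinv⟩ := hf.fix_spec h2 haa ha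
  exact (hf.three hs3 hs1).card_mod hinv

/-- With sixteen elements the action is transitive on the others. -/
theorem Free.transitive (hf : Free α) (h2 : ∀ x : N, x * x = 1) (hN : Nat.card N = 16) {x y : N}
    (hx : x ≠ 1) (hy : y ≠ 1) : ∃ g : A5, α g x = y := by
  haveI : Fact (Nat.Prime 3) := ⟨Nat.prime_three⟩
  obtain ⟨a, haa, ha⟩ : ∃ a : A5, a * a = 1 ∧ a ≠ 1 := by decide +kernel
  obtain ⟨hF2, s, hs3, hs1, hne, hab, hFb, -⟩ := hf.fix_spec h2 haa ha
  set b := s * a * s⁻¹ with hb
  have hF4 : Nat.card (fix α a) = 4 := by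
    rw [hN] at hF2
    have : Nat.card (fix α a) ≤ 4 := by nlinarith
    interval_cases Nat.card (fix α a) <;> omega
  haveI : Nontrivial (fix α a) := Finite.one_lt_card_iff_nontrivial.mp (by rw [hF4]; norm_num)
  obtain ⟨⟨z, hz⟩, hz1'⟩ := exists_ne (1 : fix α a)
  have hz1 : z ≠ 1 := fun e => hz1' (Subtype.ext e)
  let St : Subgroup A5 :=
    { carrier := {g | α g z = z}
      one_mem' := by simp
      mul_mem' := fun {p q} (hp : α p z = z) (hq : α q z = z) => by
        show α (p * q) z = z
        rw [map_mul, MulAut.mul_apply, hq, hp]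
      inv_mem' := fun {p} (hp : α p z = z) => by
        show α p⁻¹ z = z
        conv_lhs => rw [← hp]
        rw [← MulAut.mul_apply, ← map_mul, inv_mul_cancel, map_one, MulAut.one_apply] }
  have hbb : b * b = 1 := by
    rw [hb]
    calc s * a * s⁻¹ * (s * a * s⁻¹) = s * (a * a) * s⁻¹ := by group
      _ = 1 := by rw [haa]; group
  let V : Subgroup A5 :=
    { carrier := {1, a, b, a * b}
      one_mem' := by simp
      mul_mem' := by
        have e1 : a * (a * b) = b := by rw [← mul_assoc, haa, one_mul]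
        have e2 : b * (a * b) = a := by rw [hab, ← mul_assoc, hbb, one_mul]
        have e3 : a * b * a = b := by rw [hab, mul_assoc, haa, mul_one]
        have e4 : a * b * b = a := by rw [mul_assoc, hbb, mul_one]
        have e5 : a * b * (a * b) = 1 := by rw [mul_assoc, e2, haa]
        rintro p q (rfl | rfl | rfl | rfl) (rfl | rfl | rfl | rfl) <;>
          simp [haa, hbb, ← hab, e1, e2, e3, e4, e5]
      inv_mem' := by
        have e5 : (a * b)⁻¹ = a * b := by
          rw [mul_inv_rev, inv_eq_of_mul_eq_one_right haa, inv_eq_of_mul_eq_one_right hbb, hab]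
        rintro p (rfl | rfl | rfl | rfl) <;>
          simp [inv_eq_of_mul_eq_one_right haa, inv_eq_of_mul_eq_one_right hbb, e5] }
  have hb1 : b ≠ 1 := fun e => by
    rw [hb, conj_eq_one_iff] at e
    exact ha e
  have hV : Nat.card V = 4 := by
    show Nat.card ({1, a, b, a * b} : Set A5) = 4
    have n1 : a * b ≠ 1 := fun e => hne (by
      rw [mul_eq_one_iff_eq_inv, inv_eq_of_mul_eq_one_right hbb] at e; exact e.symm)
    have n2 : a * b ≠ a := fun e => hb1 (mul_eq_left.mp e)
    have n3 : a * b ≠ b := fun e => ha (mul_eq_right.mp e)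
    rw [Nat.card_coe_set_eq, Set.ncard_insert_of_notMem (by simp [ha.symm, hb1.symm, n1.symm]),
      Set.ncard_insert_of_notMem (by simp [Ne.symm hne, n2.symm]),
      Set.ncard_insert_of_notMem (by simp [n3.symm]), Set.ncard_singleton]
  have hzb : α b z = z := mem_fix.mp (hFb ▸ hz)
  have hVS : V ≤ St := by
    rintro p (rfl | rfl | rfl | rfl)
    · exact one_mem St
    · exact mem_fix.mp hz
    · exact hzb
    · exact mul_mem (mem_fix.mp hz : a ∈ St) (hzb : b ∈ St)
  have h4 := Subgroup.card_dvd_of_le hVS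
  rw [hV] at h4
  have h60 := St.card_subgroup_dvd_card
  rw [card_A5] at h60
  have h3 : ¬ 3 ∣ Nat.card St := by
    intro h3
    obtain ⟨r, hr⟩ := exists_prime_orderOf_dvd_card' (G := St) 3 h3
    refine hz1 (hf (r : A5) ?_ ?_ z r.2)
    · rw [← SubgroupClass.coe_pow, ← hr, pow_orderOf_eq_one, OneMemClass.coe_one]
    · intro e
      rw [← Subgroup.orderOf_coe, e, orderOf_one] at hr
      omega
  have hmi := St.card_mul_index
  rw [card_A5] at hmi
  have hidx : St.index = 15 := by
    have hne3 := CfsgLib.OneToFive.no_index_three (H := St)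
    have hle := Nat.le_of_dvd (by norm_num) h60
    generalize Nat.card St = k at *
    interval_cases k <;> omega
  let f : A5 ⧸ St → {w : N // w ≠ 1} := Quotient.lift (fun g => ⟨α g z, fun e => hz1 ((α g).injective (by rw [e, map_one]))⟩)
    (fun p q hpq => by
      change (QuotientGroup.leftRel St) p q at hpq
      rw [QuotientGroup.leftRel_apply] at hpq
      apply Subtype.ext
      show α p z = α q z
      have : α (p⁻¹ * q) z = z := hpq
      conv_lhs => rw [← this]
      rw [← MulAut.mul_apply, ← map_mul, mul_inv_cancel_left])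
  have hf_inj : Function.Injective f := by
    intro p q e
    induction p using QuotientGroup.induction_on with
    | H p =>
      induction q using QuotientGroup.induction_on with
      | H q =>
        refine QuotientGroup.eq.mpr ?_
        show α (p⁻¹ * q) z = z
        have e' : α p z = α q z := congrArg Subtype.val e
        rw [map_mul, MulAut.mul_apply, ← e', ← MulAut.mul_apply, ← map_mul, inv_mul_cancel, map_one,
          MulAut.one_apply]
  have hc : Nat.card {w : N // w ≠ 1} = 15 := by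
    classical
    letI := Fintype.ofFinite N
    rw [Nat.card_eq_fintype_card, Fintype.card_subtype_compl, Fintype.card_subtype_eq, ← Nat.card_eq_fintype_card, hN]
  have hbij : Function.Bijective f := (Nat.bijective_iff_injective_and_card f).mpr ⟨hf_inj, by
    rw [← Subgroup.index_eq_card, hidx, hc]⟩
  have key : ∀ w : N, w ≠ 1 → ∃ g, α g z = w := fun w hw => by
    obtain ⟨q, hq⟩ := hbij.2 ⟨w, hw⟩
    induction q using QuotientGroup.induction_on with
    | H q => exact ⟨q, congrArg Subtype.val hq⟩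
  obtain ⟨p, rfl⟩ := key x hx
  obtain ⟨q, rfl⟩ := key y hy
  exact ⟨q * p⁻¹, by rw [← MulAut.mul_apply, ← map_mul, inv_mul_cancel_right]⟩

end CfsgLib.OrderSix.Sixty
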