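import Cfsg.Agent.Lib.OrderSix.Bar
import Cfsg.Agent.Lib.OrderSix.SixtyModule
import Cfsg.Agent.S0494

/-!
Index sixty: the centralizer acts on `O_2` modulo the involution as the alternating group of degree five,
with fixed-point-free elements of order three.
-/

set_option autoImplicit false
set_option linter.unusedVariables false
set_option linter.unusedSectionVars false
set_option linter.style.haveILetI false

namespace CfsgLib.OrderSix

open CfsgLib.SelfCent CfsgLib.SCThree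

universe v

variable {G : Type v} [Group G] [Finite G] {u c : G}

theorem Six.shape_sixty (h : Six u c) (h60 : idx u = 60) :
    (core3 (↥(cC u) ⧸ zU u)).index = 60 ∧
      IsSimpleGroup ((↥(cC u) ⧸ zU u) ⧸ core3 (↥(cC u) ⧸ zU u)) ∧
      (∀ a ∈ core3 (↥(cC u) ⧸ zU u), ∀ b ∈ core3 (↥(cC u) ⧸ zU u), a * b = b * a) ∧
      ∀ a ∈ core3 (↥(cC u) ⧸ zU u), a * a = 1 := by
  have hi := index_core3 h
  rw [show (core3 ↥(cC u)).index = idx u from rfl, h60] at hi
  rcases shape_of_selfCent h.sc_quot with (e | e) | e | ⟨e, hc, -⟩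
  · omega
  · omega
  · exact e
  · rw [e, Subgroup.index_bot] at hi
    omega

theorem Six.mk_mem_core (h : Six u c) {a : G} (ha : a ∈ cX u) :
    QuotientGroup.mk (⟨a, cX_le u ha⟩ : ↥(cC u)) ∈ core3 (↥(cC u) ⧸ zU u) := by
  obtain ⟨ha', hm⟩ := mem_cX.mp ha
  rw [← comap_core3 h, Subgroup.mem_comap] at hm
  exact hm

theorem Six.sq_mem_cX (h : Six u c) (h60 : idx u = 60) {a : G} (ha : a ∈ cX u) :
    a * a ∈ Subgroup.zpowers u := by
  have e := (h.shape_sixty h60).2.2.2 _ (h.mk_mem_core ha)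
  rw [← QuotientGroup.mk_mul, QuotientGroup.eq_one_iff, mem_zU h] at e
  exact (mem_U h).mpr e

theorem Six.cX_eq_cT (h : Six u c) (h60 : idx u = 60) : cX u = cT u :=
  le_antisymm (fun a ha => by
    refine mem_cT h ha (n := 2) ?_
    rw [show (2 : ℕ) ^ 2 = 2 * 2 from rfl, pow_mul, pow_two]
    rcases (mem_U h).mp (h.sq_mem_cX h60 ha) with e | e <;> rw [pow_two, e]
    · rw [one_mul]
    · exact h.uu) (cT_le_cX u)

theorem Six.sq_mem (h : Six u c) (h60 : idx u = 60) {a : G} (ha : a ∈ cT u) :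
    a * a ∈ Subgroup.zpowers u :=
  h.sq_mem_cX h60 (cT_le_cX u ha)

theorem Six.comm_mem (h : Six u c) (h60 : idx u = 60) {a b : G} (ha : a ∈ cT u) (hb : b ∈ cT u) :
    a * b * a⁻¹ * b⁻¹ ∈ Subgroup.zpowers u := by
  have e := (h.shape_sixty h60).2.2.1 _ (h.mk_mem_core (cT_le_cX u ha)) _ (h.mk_mem_core (cT_le_cX u hb))
  have e2 : (QuotientGroup.mk (⟨a, cX_le u (cT_le_cX u ha)⟩ * ⟨b, cX_le u (cT_le_cX u hb)⟩ *
      (⟨a, cX_le u (cT_le_cX u ha)⟩ : ↥(cC u))⁻¹ * (⟨b, cX_le u (cT_le_cX u hb)⟩ : ↥(cC u))⁻¹) :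
      ↥(cC u) ⧸ zU u) = 1 := by
    simp only [QuotientGroup.mk_mul, QuotientGroup.mk_inv]
    rw [e]
    group
  rw [QuotientGroup.eq_one_iff, mem_zU h] at e2
  exact (mem_U h).mpr e2

theorem Six.tb_comm_sixty (h : Six u c) (h60 : idx u = 60) (x y : Tb u) : x * y = y * x := by
  obtain ⟨a, ha, rfl⟩ := tb_surj x
  obtain ⟨b, hb, rfl⟩ := tb_surj y
  rw [tb_mul, tb_mul, tb_eq]
  refine (congrArg (· ∈ Subgroup.zpowers u) ?_).mp (h.comm_mem h60 (inv_mem hb) (inv_mem ha))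
  group

theorem Six.tb_sq_sixty (h : Six u c) (h60 : idx u = 60) (x : Tb u) : x * x = 1 := by
  obtain ⟨a, ha, rfl⟩ := tb_surj x
  rw [tb_mul, tb_eq_one]
  exact h.sq_mem h60 ha

/-- The centralizer maps onto the alternating group of degree five with kernel `O_2`. -/
theorem Six.exists_proj (h : Six u c) (h60 : idx u = 60) :
    ∃ π : ↥(cC u) →* Sixty.A5, Function.Surjective π ∧ ∀ g : ↥(cC u), π g = 1 ↔ (g : G) ∈ cT u := by
  obtain ⟨hi, hs, -, -⟩ := h.shape_sixty h60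
  haveI := hs
  obtain ⟨e⟩ := Cfsg.Agent.S0494.result (G := (↥(cC u) ⧸ zU u) ⧸ core3 (↥(cC u) ⧸ zU u))
    (by rw [← Subgroup.index_eq_card, hi])
  refine ⟨e.toMonoidHom.comp ((QuotientGroup.mk' _).comp (QuotientGroup.mk' (zU u))),
    e.surjective.comp ((QuotientGroup.mk'_surjective _).comp (QuotientGroup.mk'_surjective _)), fun g => ?_⟩
  rw [← h.cX_eq_cT h60]
  simp only [MonoidHom.coe_comp, Function.comp_apply, MulEquiv.coe_toMonoidHom, MulEquiv.map_eq_one_iff,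
    QuotientGroup.mk'_apply, QuotientGroup.eq_one_iff]
  constructor
  · intro hg
    exact mem_cX.mpr ⟨g.2, (comap_core3 h).le hg⟩
  · intro hg
    exact h.mk_mem_core hg

/-- Elements of order three modulo `O_2` fix only the involution. -/
theorem Six.fpf_three (h : Six u c) {r m : G} (hr : r ∈ cC u) (hrT : r ∉ cT u) (hr3 : r ^ 3 ∈ cT u)
    (hm : m ∈ cT u) (hf : r * m * r⁻¹ * m⁻¹ ∈ Subgroup.zpowers u) : m ∈ Subgroup.zpowers u := by
  haveI : Fact (Nat.Prime 3) := ⟨Nat.prime_three⟩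
  obtain ⟨n, hn⟩ := isPGroup_two_pow (cT_isPGroup u) hr3
  set s := r ^ 2 ^ n with hs
  have hs3 : orderOf s = 3 := by
    refine orderOf_eq_prime (by rw [hs, ← pow_mul, mul_comm, pow_mul, hn]) ?_
    intro e
    apply hrT
    have hco : Nat.Coprime (2 ^ n) 3 := Nat.Coprime.pow_left n (by norm_num)
    obtain ⟨i, j, hij⟩ : IsCoprime ((2 ^ n : ℕ) : ℤ) ((3 : ℕ) : ℤ) := by
      rw [Int.isCoprime_iff_nat_coprime, Int.natAbs_natCast, Int.natAbs_natCast]
      exact hco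
    have e2 : r = (r ^ 3) ^ j := by
      calc r = r ^ (i * ((2 ^ n : ℕ) : ℤ) + j * ((3 : ℕ) : ℤ)) := by rw [hij, zpow_one]
        _ = (r ^ 3) ^ j := by
          rw [zpow_add, mul_comm i, zpow_mul, zpow_natCast, ← hs, e, one_zpow, one_mul, mul_comm j, zpow_mul,
            zpow_natCast]
    rw [e2]
    exact zpow_mem hr3 j
  have hfs := fixes_pow (U_normalized u hr) hf (2 ^ n)
  rw [← hs] at hfs
  obtain ⟨g, hg, e⟩ := h.three_conj (mem_cC.mp (pow_mem hr _)) hs3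
  have hn' := fun (a : G) (ha : a ∈ cC u) (x : G) (hx : x ∈ Subgroup.zpowers u) =>
    (Subgroup.mem_normalizer_iff.mp (U_normalized u ha) x).mp hx
  have hgT : g⁻¹ * m * g ∈ cT u := by
    simpa using (Subgroup.mem_normalizer_iff.mp (cT_normalized u (inv_mem hg)) m).mp hm
  have key : ∀ d : G, Six u d → s = g * d * g⁻¹ → m ∈ Subgroup.zpowers u := by
    intro d hd e
    have h1 := hn' _ (inv_mem hg) _ hfs
    rw [e] at h1
    have h2 := hn' _ (cT_le_cC u (inv_mem hgT)) _ h1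
    have h2' : (g⁻¹ * m * g)⁻¹ * (d * (g⁻¹ * m * g) * d⁻¹) ∈ Subgroup.zpowers u := by
      refine (congrArg (· ∈ Subgroup.zpowers u) ?_).mp h2
      group
    have h3 := fix_mod hd (U_le_cT h) (Subgroup.mem_zpowers u) (U_normalized u hd.c_mem) hgT h2'
    have := hn' g hg _ h3
    simpa [mul_assoc] using this
  rcases e with e | e
  · exact key c h e
  · exact key c⁻¹ h.inv e

/-- The representation on `O_2` modulo the involution. -/
theorem Six.exists_rep (h : Six u c) (h60 : idx u = 60) (π : ↥(cC u) →* Sixty.A5)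
    (hπ : Function.Surjective π) (hk : ∀ g : ↥(cC u), π g = 1 ↔ (g : G) ∈ cT u) :
    ∃ α : Sixty.A5 →* MulAut (Tb u), (∀ g : ↥(cC u), α (π g) = actT u g g.2) ∧
      ∀ s : Sixty.A5, s ^ 3 = 1 → s ≠ 1 → ∀ x : Tb u, α s x = x → x = 1 := by
  let ρ : ↥(cC u) →* MulAut (Tb u) :=
    MonoidHom.mk' (fun g => actT u g g.2) fun a b => by
      ext x
      obtain ⟨t, ht, rfl⟩ := tb_surj x
      rw [MulAut.mul_apply, actT_tb, actT_tb, actT_tb]
      simp only [Subgroup.coe_mul, mul_inv_rev, mul_assoc]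
  have hle : π.ker ≤ ρ.ker := by
    intro g hg
    rw [MonoidHom.mem_ker] at hg ⊢
    ext x
    obtain ⟨t, ht, rfl⟩ := tb_surj x
    show actT u g g.2 (tb t ht) = tb t ht
    rw [actT_tb, tb_eq]
    have hgT := (hk g).mp hg
    refine (congrArg (· ∈ Subgroup.zpowers u) ?_).mp (h.comm_mem h60 hgT (inv_mem ht))
    group
  refine ⟨π.liftOfSurjective hπ ⟨ρ, hle⟩, fun g => ?_, fun s hs3 hs1 x hx => ?_⟩
  · exact MonoidHom.liftOfRightInverse_comp_apply π _ _ ⟨ρ, hle⟩ g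
  · obtain ⟨g, rfl⟩ := hπ s
    have e : π.liftOfSurjective hπ ⟨ρ, hle⟩ (π g) = actT u g g.2 :=
      MonoidHom.liftOfRightInverse_comp_apply π _ _ ⟨ρ, hle⟩ g
    obtain ⟨t, ht, rfl⟩ := tb_surj x
    rw [e, actT_tb, tb_eq] at hx
    rw [tb_eq_one]
    refine h.fpf_three g.2 (fun hg => hs1 ((hk g).mpr hg)) ?_ ht ?_
    · rw [← SubgroupClass.coe_pow]
      exact (hk _).mp (by rw [map_pow]; exact hs3)
    · have := (Subgroup.mem_normalizer_iff.mp (U_normalized u (cT_le_cC u ht)) _).mp (inv_mem hx)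
      refine (congrArg (· ∈ Subgroup.zpowers u) ?_).mp this
      group

/-- An element of `O_2`-order two modulo `O_2` fixes few elements. -/
theorem Six.fixed_bound (h : Six u c) (h60 : idx u = 60) {g : G} (hg : g ∈ cC u) (hgT : g ∉ cT u)
    (hgg : g * g ∈ cT u) {B : Subgroup G} (hB : B ≤ cT u)
    (hf : ∀ b ∈ B, g * b * g⁻¹ * b⁻¹ ∈ Subgroup.zpowers u) :
    Nat.card B * Nat.card B ≤ 2 * Nat.card (cT u) := by
  obtain ⟨π, hπ, hk⟩ := h.exists_proj h60
  obtain ⟨α, hα, hfree⟩ := h.exists_rep h60 π hπ hk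
  letI : CommGroup (Tb u) := { (inferInstance : Group (Tb u)) with mul_comm := h.tb_comm_sixty h60 }
  have haa : π ⟨g, hg⟩ * π ⟨g, hg⟩ = 1 := by rw [← map_mul]; exact (hk _).mpr hgg
  have ha : π ⟨g, hg⟩ ≠ 1 := fun e => hgT ((hk _).mp e)
  obtain ⟨hsq, -⟩ := Sixty.Free.fix_spec (α := α) hfree (h.tb_sq_sixty h60) haa ha
  set F := Sixty.fix α (π ⟨g, hg⟩)
  let f : ↥B →* Tb u := (QuotientGroup.mk' _).comp (Subgroup.inclusion hB)
  have hmem : f.range ≤ F := by
    rintro _ ⟨b, rfl⟩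
    show α (π ⟨g, hg⟩) (tb (b : G) (hB b.2)) = tb (b : G) (hB b.2)
    rw [hα, actT_tb, tb_eq]
    have := inv_mem ((Subgroup.mem_normalizer_iff.mp
      (U_normalized u (cT_le_cC u (inv_mem (hB b.2)))) _).mp (hf b b.2))
    refine (congrArg (· ∈ Subgroup.zpowers u) ?_).mp this
    group
  have hker : Nat.card f.ker ≤ 2 := by
    rw [← card_U h]
    refine Nat.card_le_card_of_injective (fun x => ⟨((x : ↥B) : G), ?_⟩) ?_
    · exact (tb_eq_one (ha := hB x.1.2)).mp x.2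
    · intro x y e
      exact Subtype.ext (Subtype.ext (congrArg (fun z : ↥(Subgroup.zpowers u) => (z : G)) e))
  have hr := Subgroup.card_le_of_le hmem
  have hc : Nat.card B = Nat.card f.ker * Nat.card f.range := by
    rw [← Subgroup.index_ker, Subgroup.card_mul_index]
  rw [card_tb h]
  rw [hc]
  calc Nat.card f.ker * Nat.card f.range * (Nat.card f.ker * Nat.card f.range)
      ≤ 2 * Nat.card F * (2 * Nat.card F) := by gcongr
    _ = 2 * (2 * (Nat.card F * Nat.card F)) := by ring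
    _ = _ := by rw [hsq]

/-- The order of `O_2`. -/
theorem Six.card_cT_sixty (h : Six u c) (h60 : idx u = 60) :
    Nat.card (cT u) = 2 ∨ Nat.card (cT u) = 32 ∨ 512 ≤ Nat.card (cT u) := by
  haveI := Fact.mk Nat.prime_two
  obtain ⟨π, hπ, hk⟩ := h.exists_proj h60
  obtain ⟨α, hα, hfree⟩ := h.exists_rep h60 π hπ hk
  letI : CommGroup (Tb u) := { (inferInstance : Group (Tb u)) with mul_comm := h.tb_comm_sixty h60 }
  obtain ⟨a, haa, ha⟩ : ∃ a : Sixty.A5, a * a = 1 ∧ a ≠ 1 := by decide +kernel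
  obtain ⟨hsq, -⟩ := Sixty.Free.fix_spec (α := α) hfree (h.tb_sq_sixty h60) haa ha
  have hmod := Sixty.Free.card_fix_mod (α := α) hfree (h.tb_sq_sixty h60) haa ha
  obtain ⟨n, hn⟩ := IsPGroup.iff_card.mp ((tb_isPGroup u).to_subgroup (Sixty.fix α a))
  rw [card_tb h, ← hsq]
  rw [hn] at hmod ⊢
  rcases (show n = 0 ∨ n = 1 ∨ n = 2 ∨ n = 3 ∨ 4 ≤ n by omega) with rfl | rfl | rfl | rfl | hn4
  · left; norm_num
  · norm_num at hmod
  · right; left; norm_num
  · norm_num at hmod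
  · right; right
    have : 2 ^ 4 ≤ 2 ^ n := Nat.pow_le_pow_right (by norm_num) hn4
    nlinarith

/-- With `O_2` of order thirty-two the centralizer is transitive on it modulo the involution. -/
theorem Six.transitive_sixty (h : Six u c) (h60 : idx u = 60) (h32 : Nat.card (cT u) = 32) {x y : G}
    (hx : x ∈ cT u) (hy : y ∈ cT u) (hxU : x ∉ Subgroup.zpowers u) (hyU : y ∉ Subgroup.zpowers u) :
    ∃ g ∈ cC u, (g * x * g⁻¹)⁻¹ * y ∈ Subgroup.zpowers u := by
  obtain ⟨π, hπ, hk⟩ := h.exists_proj h60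
  obtain ⟨α, hα, hfree⟩ := h.exists_rep h60 π hπ hk
  letI : CommGroup (Tb u) := { (inferInstance : Group (Tb u)) with mul_comm := h.tb_comm_sixty h60 }
  have h16 : Nat.card (Tb u) = 16 := by
    have := card_tb h
    omega
  obtain ⟨g, hg⟩ := Sixty.Free.transitive (α := α) hfree (h.tb_sq_sixty h60) h16
    (x := tb x hx) (y := tb y hy) (fun e => hxU (tb_eq_one.mp e)) (fun e => hyU (tb_eq_one.mp e))
  obtain ⟨g, rfl⟩ := hπ g
  rw [hα, actT_tb, tb_eq] at hg
  exact ⟨g, g.2, hg⟩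

end CfsgLib.OrderSix
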