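import Cfsg.Agent.Lib.OrderSix.Sixty
import Cfsg.Agent.Lib.OrderSix.Normal

/-!
Index sixty: `O_2` of the centralizer has order two or thirty-two.
-/

set_option autoImplicit false
set_option linter.unusedVariables false
set_option linter.unusedSectionVars false
set_option linter.style.haveILetI false

namespace CfsgLib.OrderSix

open CfsgLib.SelfCent CfsgLib.SCThree

universe v

variable {G : Type v} [Group G] [Finite G] {u c : G}

/-- Centralizing an element costs at most a factor two when its commutators take two values. -/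
theorem card_le_two_cent {B : Subgroup G} {g v : G}
    (hf : ∀ b ∈ B, g * b * g⁻¹ * b⁻¹ = 1 ∨ g * b * g⁻¹ * b⁻¹ = v) :
    Nat.card B ≤ 2 * Nat.card ↥(B ⊓ Subgroup.centralizer ({g} : Set G)) := by
  classical
  set Z := B ⊓ Subgroup.centralizer ({g} : Set G) with hZ
  by_cases hall : B ≤ Z
  · have := Subgroup.card_le_of_le hall
    omega
  obtain ⟨b0, hb0, hb0Z⟩ := SetLike.not_le_iff_exists.mp hall
  have hout : ∀ b : ↥B, (b : G) ∉ Z → g * (b : G) * g⁻¹ = v * b := by
    intro b hb
    rcases hf b b.2 with e | e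
    · exact absurd (Subgroup.mem_inf.mpr ⟨b.2, Subgroup.mem_centralizer_singleton_iff.mpr
        (mul_inv_eq_iff_eq_mul.mp (mul_inv_eq_one.mp e)).symm⟩) hb
    · exact mul_inv_eq_iff_eq_mul.mp e
  have hdiff : ∀ b : ↥B, (b : G) ∉ Z → b0⁻¹ * (b : G) ∈ Z := by
    intro b hb
    refine Subgroup.mem_inf.mpr ⟨mul_mem (inv_mem hb0) b.2, Subgroup.mem_centralizer_singleton_iff.mpr ?_⟩
    have e : g * (b0⁻¹ * (b : G)) * g⁻¹ = b0⁻¹ * b := by
      calc g * (b0⁻¹ * (b : G)) * g⁻¹ = (g * b0 * g⁻¹)⁻¹ * (g * b * g⁻¹) := by group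
        _ = (v * b0)⁻¹ * (v * b) := by rw [hout ⟨b0, hb0⟩ hb0Z, hout b hb]
        _ = b0⁻¹ * b := by group
    exact (mul_inv_eq_iff_eq_mul.mp e).symm
  let f : ↥B → Bool × ↥Z := fun b =>
    if hb : (b : G) ∈ Z then (false, ⟨b, hb⟩) else (true, ⟨_, hdiff b hb⟩)
  have hfi : Function.Injective f := by
    intro a b e
    simp only [f] at e
    split_ifs at e with h1 h2 h2
    · exact Subtype.ext (congrArg (fun z : Bool × ↥Z => (z.2 : G)) e)
    · exact absurd (congrArg Prod.fst e) (by simp)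
    · exact absurd (congrArg Prod.fst e) (by simp)
    · exact Subtype.ext (mul_left_cancel (congrArg (fun z : Bool × ↥Z => (z.2 : G)) e))
  have := Nat.card_le_card_of_injective f hfi
  rwa [Nat.card_prod, Nat.card_eq_fintype_card (α := Bool), Fintype.card_bool] at this

/-- The data of index sixty at another involution. -/
theorem Six.other (h : Six u c) {x : G} (hx : orderOf x = 2) :
    ∃ d, Six x d ∧ idx x = idx u ∧ Nat.card (cT x) = Nat.card (cT u) := by
  obtain ⟨g, hg⟩ := isConj_iff.mp (h.one u x h.ou hx)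
  refine ⟨g * c * g⁻¹, hg ▸ h.conj g, idx_eq h hx, ?_⟩
  rw [← hg, cT_conj, card_cj]

/-- A two-subgroup of the centralizer meets `O_2` in a subgroup of index at most four. -/
theorem Six.inter_card (h : Six u c) (h60 : idx u = 60) {P : Subgroup G} (hP : IsPGroup 2 P)
    (hle : P ≤ cC u) : Nat.card P ≤ 4 * Nat.card ↥(P ⊓ cT u) := by
  haveI := Fact.mk Nat.prime_two
  obtain ⟨π, hπ, hk⟩ := h.exists_proj h60
  let f : ↥P →* Sixty.A5 := π.comp (Subgroup.inclusion hle)
  have hr : Nat.card f.range ≤ 4 := by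
    obtain ⟨m, hm⟩ := IsPGroup.iff_card.mp (hP.of_surjective f.rangeRestrict f.rangeRestrict_surjective)
    have hd := Subgroup.card_subgroup_dvd_card f.range
    rw [Sixty.card_A5, hm] at hd
    rw [hm]
    rcases (show m ≤ 2 ∨ 3 ≤ m by omega) with e | e
    · exact Nat.pow_le_pow_right (by norm_num) e
    · have : (8 : ℕ) ∣ 60 := (pow_dvd_pow 2 e).trans hd
      norm_num at this
  have hker : Nat.card f.ker ≤ Nat.card ↥(P ⊓ cT u) := by
    refine Nat.card_le_card_of_injective (fun x => ⟨((x : ↥P) : G), Subgroup.mem_inf.mpr ⟨x.1.2, ?_⟩⟩) ?_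
    · exact (hk _).mp x.2
    · intro x y e
      exact Subtype.ext (Subtype.ext (congrArg (fun z : ↥(P ⊓ cT u) => (z : G)) e))
  rw [← f.ker.card_mul_index, Subgroup.index_ker]
  calc Nat.card f.ker * Nat.card f.range ≤ Nat.card ↥(P ⊓ cT u) * 4 := Nat.mul_le_mul hker hr
    _ = _ := by ring

/-- Sylow two-subgroups in index sixty. -/
theorem Six.sylow_dvd (h : Six u c) (h60 : idx u = 60) (S : Sylow 2 G) :
    Nat.card (S : Subgroup G) ∣ 4 * Nat.card (cT u) := by
  haveI := Fact.mk Nat.prime_two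
  obtain ⟨S0, -, hS0⟩ := exists_sylow_cC h (IsPGroup.of_bot (p := 2)) bot_le
  rw [S.card_eq_multiplicity, ← S0.card_eq_multiplicity]
  obtain ⟨m, hm⟩ := IsPGroup.iff_card.mp S0.isPGroup'
  have hd := Subgroup.card_dvd_of_le hS0
  rw [card_cC, h.cX_eq_cT h60, h60, hm] at hd
  rw [hm]
  obtain ⟨n, hn⟩ := IsPGroup.iff_card.mp (cT_isPGroup u)
  rw [hn] at hd ⊢
  have e : 2 ^ n * 60 = (4 * 2 ^ n) * 15 := by ring
  rw [e] at hd
  exact (Nat.Coprime.pow_left m (by norm_num)).dvd_of_dvd_mul_right hd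

/-- The normalizer of `O_2` is the centralizer. -/
theorem Six.normalizer_sixty (h : Six u c) (h60 : idx u = 60) :
    Subgroup.normalizer (cT u : Set G) ≤ cC u := by
  haveI := Fact.mk Nat.prime_two
  haveI : Fact (Nat.Prime 3) := ⟨Nat.prime_three⟩
  set K := Subgroup.normalizer (cT u : Set G) with hKdef
  have hTle : cT u ≤ K := (cT_le_cC u).trans (cT_normalized u)
  have hCle : cC u ≤ K := cT_normalized u
  haveI hTn : ((cT u).subgroupOf K).Normal := Subgroup.normal_subgroupOf_iff_le_normalizer hTle |>.mpr le_rfl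
  have hsc := sc_normalizer h (cT_isPGroup u) (u_mem_cT h) hTle le_rfl (hCle h.c_mem)
  let j : ↥(cC u) →* ↥K ⧸ (cT u).subgroupOf K := (QuotientGroup.mk' _).comp (Subgroup.inclusion hCle)
  have hj : ∀ g : ↥(cC u), j g = 1 ↔ (g : G) ∈ cT u := by
    intro g
    show (QuotientGroup.mk (Subgroup.inclusion hCle g) : ↥K ⧸ (cT u).subgroupOf K) = 1 ↔ _
    rw [QuotientGroup.eq_one_iff, Subgroup.mem_subgroupOf]
    rfl
  obtain ⟨π, hπ, hk⟩ := h.exists_proj h60
  set O := core3 (↥K ⧸ (cT u).subgroupOf K)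
  -- the image of the centralizer meets the core trivially
  have hdisj : ∀ g : ↥(cC u), j g ∈ O → (g : G) ∈ cT u := by
    haveI := alternatingGroup.isSimpleGroup (α := Fin 5) (by simp)
    rcases ((inferInstance : (O.comap j).Normal).map π hπ).eq_bot_or_eq_top with e | e
    · intro g hg
      exact (hk g).mp (Subgroup.mem_bot.mp (e ▸ ⟨g, hg, rfl⟩))
    · exfalso
      obtain ⟨s, hs3, hs1⟩ : ∃ s : Sixty.A5, s ^ 3 = 1 ∧ s ≠ 1 := by decide +kernel
      obtain ⟨g, hg, rfl⟩ := (e ▸ Subgroup.mem_top s : s ∈ (O.comap j).map π)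
      have ho : orderOf (j g) = 3 := by
        refine orderOf_eq_prime ?_ (fun e => hs1 ((hk g).mpr ((hj g).mp e)))
        rw [← map_pow, hj, ← hk, map_pow]
        exact hs3
      exact not_three_dvd_core3 (ho ▸ Subgroup.orderOf_dvd_natCard O hg)
  have hkp : j.ker = π.ker := by
    ext g
    rw [MonoidHom.mem_ker, MonoidHom.mem_ker, hj, hk]
  have hr60 : Nat.card j.range = 60 := by
    rw [← Subgroup.index_ker, hkp, Subgroup.index_ker, MonoidHom.range_eq_top.mpr hπ, Subgroup.card_top,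
      Sixty.card_A5]
  have hOR : Nat.card O * 60 ≤ Nat.card (↥K ⧸ (cT u).subgroupOf K) := by
    rw [← hr60, ← Nat.card_prod]
    refine Nat.card_le_card_of_injective (fun p => (p.1 : ↥K ⧸ (cT u).subgroupOf K) * p.2) ?_
    rintro ⟨o, a, ⟨g, rfl⟩⟩ ⟨o', a', ⟨g', rfl⟩⟩ e
    have e' : (o' : ↥K ⧸ (cT u).subgroupOf K)⁻¹ * o = j (g' * g⁻¹) := by
      rw [map_mul, map_inv, eq_mul_inv_iff_mul_eq, mul_assoc]
      exact inv_mul_eq_iff_eq_mul.mpr e
    have h1 : j (g' * g⁻¹) = 1 := (hj _).mpr (hdisj _ (e' ▸ mul_mem (inv_mem o'.2) o.2))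
    rw [h1] at e'
    rw [map_mul, map_inv, mul_inv_eq_one] at h1
    exact Prod.ext (Subtype.ext (inv_mul_eq_one.mp e').symm) (Subtype.ext h1.symm)
  -- the Sylow bound
  have h8 : ¬ 8 ∣ Nat.card (↥K ⧸ (cT u).subgroupOf K) := by
    intro h8
    obtain ⟨n, hn⟩ := IsPGroup.iff_card.mp (cT_isPGroup u)
    obtain ⟨S⟩ : Nonempty (Sylow 2 G) := inferInstance
    have hK := Subgroup.card_eq_card_quotient_mul_card_subgroup ((cT u).subgroupOf K)
    rw [Nat.card_congr (Subgroup.subgroupOfEquivOfLe hTle).toEquiv, hn] at hK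
    have hG : 2 ^ (n + 3) ∣ Nat.card G := by
      refine dvd_trans ?_ K.card_subgroup_dvd_card
      rw [hK, pow_add, mul_comm (2 ^ n)]
      exact Nat.mul_dvd_mul_right h8 _
    have := (S.pow_dvd_card_of_pow_dvd_card hG).trans (h.sylow_dvd h60 S)
    rw [hn, pow_add] at this
    have h0 : 0 < 2 ^ n := by positivity
    have := Nat.le_of_dvd (by positivity) this
    omega
  have hidx := O.card_mul_index
  have hO0 : 0 < Nat.card O := Nat.card_pos
  rcases shape_of_selfCent hsc with (e | e) | ⟨e, -, -, he⟩ | ⟨e, hc, -⟩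
  · rw [e] at hidx; omega
  · rw [e] at hidx; omega
  · rw [e] at hidx
    have hO2 : IsPGroup 2 O := fun a => ⟨1, Subtype.ext (by
      rw [pow_one, pow_two]; exact he a a.2)⟩
    obtain ⟨m, hm⟩ := IsPGroup.iff_card.mp hO2
    have hm0 : m = 0 := by
      by_contra hne
      apply h8
      rw [← hidx, hm]
      obtain ⟨m', rfl⟩ := Nat.exists_eq_succ_of_ne_zero hne
      exact ⟨2 ^ m' * 15, by rw [pow_succ]; ring⟩
    rw [hm, hm0, pow_zero, one_mul] at hidx
    have htop : j.range = ⊤ := Subgroup.eq_top_of_card_eq _ (by rw [hr60, ← hidx])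
    intro g hg
    obtain ⟨x, hx⟩ := MonoidHom.range_eq_top.mp htop (QuotientGroup.mk (⟨g, hg⟩ : ↥K))
    have hm' := QuotientGroup.eq.mp hx
    rw [Subgroup.mem_subgroupOf] at hm'
    simp only [Subgroup.coe_mul, Subgroup.coe_inv, Subgroup.coe_inclusion] at hm'
    simpa using mul_mem x.2 (cT_le_cC u hm')
  · have : (60 : ℕ) ∣ 168 := by
      rw [← hr60, ← hc]
      exact Subgroup.card_subgroup_dvd_card _
    norm_num at this

/-- The centralizers of different involutions have different `O_2`. -/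
theorem Six.eq_of_cT (h : Six u c) (h60 : idx u = 60) {x : G} (hx : orderOf x = 2) (e : cT x = cT u) :
    x = u := by
  obtain ⟨d, hd, hidx, hcard⟩ := h.other hx
  have hle : cC x ≤ cC u := le_trans (cT_normalized x) (e ▸ h.normalizer_sixty h60)
  have heq : cC x = cC u := Subgroup.eq_of_le_of_card_ge hle (by
    rw [card_cC, card_cC, hidx, h.cX_eq_cT h60, hd.cX_eq_cT (hidx.trans h60), hcard])
  have hcx : c ∈ cC x := heq ▸ h.c_mem
  have hxu : x * u = u * x := mem_cC.mp (hle (mem_cC.mpr rfl))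
  rcases h.eq_of_comm_two hxu (mem_cC.mp hcx).symm (n := 1)
    (by rw [pow_one, pow_two]; exact (orderOf_two_iff.mp hx).1) with e1 | e1
  · exact absurd e1 (orderOf_two_iff.mp hx).2
  · exact e1

/-- `O_2` has an involution other than `u` when it has more than eight elements. -/
theorem Six.exists_invol_cT (h : Six u c) (h60 : idx u = 60) (h8 : 8 < Nat.card (cT u)) :
    ∃ x ∈ cT u, orderOf x = 2 ∧ x ≠ u := by
  by_contra hc
  push Not at hc
  have hU : ∀ x ∈ cT u, x * x = 1 → x = 1 ∨ x = u := fun x hx e => by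
    by_cases h1 : x = 1
    · exact Or.inl h1
    · exact Or.inr (hc x hx (orderOf_two_iff.mpr ⟨e, h1⟩))
  obtain ⟨t, ht, htU⟩ : ∃ t ∈ cT u, t ∉ Subgroup.zpowers u := by
    by_contra hc'
    push Not at hc'
    have := Subgroup.card_le_of_le (show cT u ≤ Subgroup.zpowers u from hc')
    rw [card_U h] at this
    omega
  have htt : t * t = u := by
    rcases (mem_U h).mp (h.sq_mem h60 ht) with e | e
    · exact absurd ((mem_U h).mpr (hU t ht e)) htU
    · exact e
  have hle : Nat.card ↥(cT u ⊓ Subgroup.centralizer ({t} : Set G)) ≤ 4 := by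
    classical
    have hsub : ((cT u ⊓ Subgroup.centralizer ({t} : Set G) : Subgroup G) : Set G) ⊆
        (({1, u, t, u * t} : Finset G) : Set G) := by
      intro s hs
      obtain ⟨hs, hst⟩ := Subgroup.mem_inf.mp hs
      have hst' : s * t = t * s := Subgroup.mem_centralizer_singleton_iff.mp hst
      simp only [Finset.coe_insert, Finset.coe_singleton, Set.mem_insert_iff, Set.mem_singleton_iff]
      rcases (mem_U h).mp (h.sq_mem h60 hs) with e | e
      · rcases hU s hs e with e' | e' <;> simp [e']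
      · have e2 : s * t⁻¹ * (s * t⁻¹) = 1 := by
          rw [((show Commute s t from hst').inv_right).symm.mul_mul_mul_comm, e, ← mul_inv_rev, htt,
            mul_inv_cancel]
        rcases hU _ (mul_mem hs (inv_mem ht)) e2 with e' | e'
        · exact Or.inr (Or.inr (Or.inl (mul_inv_eq_one.mp e')))
        · exact Or.inr (Or.inr (Or.inr (mul_inv_eq_iff_eq_mul.mp e')))
    have h1 := Set.ncard_le_ncard hsub (Finset.finite_toSet _)
    rw [Set.ncard_coe_finset, ← Nat.card_coe_set_eq] at h1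
    exact le_trans h1 Finset.card_le_four
  have := card_le_two_cent (B := cT u) (g := t) (v := u) fun b hb => (mem_U h).mp (h.comm_mem h60 ht hb)
  omega

/-- For large `O_2`: the centre of the centralizer lies in `O_2` of each involution of `O_2`. -/
theorem Six.u_mem_other (h : Six u c) (h60 : idx u = 60) (hbig : 128 < Nat.card (cT u)) {x : G}
    (hxT : x ∈ cT u) (hx : orderOf x = 2) : u ∈ cT x := by
  obtain ⟨d, hd, hidx, hcard⟩ := h.other hx
  by_contra hu
  set P := cT u ⊓ Subgroup.centralizer ({x} : Set G) with hP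
  have h1 : Nat.card (cT u) ≤ 2 * Nat.card P :=
    card_le_two_cent (B := cT u) (g := x) (v := u) fun b hb => (mem_U h).mp (h.comm_mem h60 hxT hb)
  have h2 := hd.inter_card (hidx.trans h60) ((cT_isPGroup u).to_le inf_le_left : IsPGroup 2 P) inf_le_right
  set M := P ⊓ cT x
  have huC : u ∈ cC x := mem_cC.mpr (mem_cC.mp (cT_le_cC u hxT)).symm
  have h3 := hd.fixed_bound (hidx.trans h60) huC hu (by rw [h.uu]; exact one_mem _) (B := M) inf_le_right
    (fun b hb => by
      have hb' : b * u = u * b := mem_cC.mp (cT_le_cC u (inf_le_left (a := cT u) (inf_le_left (a := P) hb)))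
      rw [← hb', mul_inv_cancel_right, mul_inv_cancel]
      exact one_mem _)
  rw [hcard] at h3
  nlinarith

/-- For large `O_2`: a central involution of `O_2` is `u`. -/
theorem Six.central_eq (h : Six u c) (h60 : idx u = 60) (hbig : 128 < Nat.card (cT u)) {x : G}
    (hxT : x ∈ cT u) (hx : orderOf x = 2) (hcen : ∀ t ∈ cT u, t * x = x * t) : x = u := by
  obtain ⟨d, hd, hidx, hcard⟩ := h.other hx
  have hle : cT u ≤ cC x := fun t ht => mem_cC.mpr (hcen t ht)
  by_cases hTT : cT u ≤ cT x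
  · exact h.eq_of_cT h60 hx (Subgroup.eq_of_le_of_card_ge hTT hcard.le).symm
  exfalso
  obtain ⟨g, hg, hgT⟩ := SetLike.not_le_iff_exists.mp hTT
  have h2 := hd.inter_card (hidx.trans h60) (cT_isPGroup u) hle
  set M := cT u ⊓ cT x
  have h3 : Nat.card M ≤ 2 * Nat.card ↥(M ⊓ Subgroup.centralizer ({g} : Set G)) :=
    card_le_two_cent (v := u) fun b hb => (mem_U h).mp (h.comm_mem h60 hg (Subgroup.mem_inf.mp hb).1)
  have h4 := hd.fixed_bound (hidx.trans h60) (hle hg) hgT (by
      rcases (mem_U h).mp (h.sq_mem h60 hg) with e | e <;> rw [e]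
      · exact one_mem _
      · exact h.u_mem_other h60 hbig hxT hx)
    (B := M ⊓ Subgroup.centralizer ({g} : Set G)) (inf_le_left.trans inf_le_right) (fun b hb => by
      have hb' := Subgroup.mem_centralizer_singleton_iff.mp (Subgroup.mem_inf.mp hb).2
      rw [← hb', mul_inv_cancel_right, mul_inv_cancel]
      exact one_mem _)
  rw [hcard] at h4
  nlinarith

/-- An elementary subgroup meeting the centre of `O_2` in `⟨u⟩` is small. -/
theorem Six.elementary_bound (h : Six u c) (h60 : idx u = 60) {M : Subgroup G} (hM : M ≤ cT u)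
    (hab : ∀ a ∈ M, ∀ b ∈ M, a * b = b * a)
    (hz : ∀ a ∈ M, (∀ t ∈ cT u, t * a = a * t) → a ∈ Subgroup.zpowers u) :
    Nat.card M * Nat.card M ≤ 2 * Nat.card (cT u) := by
  classical
  set CM := cT u ⊓ Subgroup.centralizer (M : Set G) with hCM
  let good : Subgroup G → Prop := fun H => CM ≤ H ∧ H ≤ cT u ∧
    Nat.card M * Nat.card CM ≤ Nat.card ↥(M ⊓ Subgroup.centralizer (H : Set G)) * Nat.card H
  have hgood : good CM := by
    refine ⟨le_rfl, inf_le_left, ?_⟩
    refine Nat.mul_le_mul_right _ (Subgroup.card_le_of_le (le_inf le_rfl ?_))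
    intro a ha
    rw [Subgroup.mem_centralizer_iff]
    intro b hb
    exact (Subgroup.mem_centralizer_iff.mp (Subgroup.mem_inf.mp hb).2 a ha).symm
  obtain ⟨H, hH, hmax⟩ := Set.exists_max_image {H : Subgroup G | good H} (fun H => Nat.card H)
    (Set.toFinite _) ⟨CM, hgood⟩
  obtain ⟨hCH, hHT, hineq⟩ := hH
  have hHtop : H = cT u := by
    refine le_antisymm hHT ?_
    by_contra hne
    obtain ⟨a, ha, haH⟩ := SetLike.not_le_iff_exists.mp hne
    set H' := H ⊔ Subgroup.zpowers a
    have hlt : H < H' := lt_of_le_of_ne le_sup_left fun e =>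
      haH (e ▸ (le_sup_right : _ ≤ H') (Subgroup.mem_zpowers a))
    have hcard2 : 2 * Nat.card H ≤ Nat.card H' := by
      obtain ⟨k, hk⟩ := Subgroup.card_dvd_of_le hlt.le
      have hne' : Nat.card H ≠ Nat.card H' := fun e =>
        hlt.ne (Subgroup.eq_of_le_of_card_ge hlt.le e.ge)
      have hpos : 0 < Nat.card H' := Nat.card_pos
      rcases (show k = 0 ∨ k = 1 ∨ 2 ≤ k by omega) with rfl | rfl | hk2
      · omega
      · omega
      · rw [hk, mul_comm 2]; exact Nat.mul_le_mul_left _ hk2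
    set Z := M ⊓ Subgroup.centralizer (H : Set G)
    have h1 : Nat.card Z ≤ 2 * Nat.card ↥(Z ⊓ Subgroup.centralizer ({a} : Set G)) :=
      card_le_two_cent (v := u) fun b hb => (mem_U h).mp (h.comm_mem h60 ha (hM (Subgroup.mem_inf.mp hb).1))
    have h2 : Nat.card ↥(Z ⊓ Subgroup.centralizer ({a} : Set G)) ≤
        Nat.card ↥(M ⊓ Subgroup.centralizer (H' : Set G)) := by
      refine Subgroup.card_le_of_le ?_
      intro b hb
      obtain ⟨hbZ, hba⟩ := Subgroup.mem_inf.mp hb
      obtain ⟨hbM, hbH⟩ := Subgroup.mem_inf.mp hbZ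
      refine Subgroup.mem_inf.mpr ⟨hbM, ?_⟩
      have : H' ≤ Subgroup.centralizer ({b} : Set G) := sup_le
        (fun x hx => Subgroup.mem_centralizer_singleton_iff.mpr (Subgroup.mem_centralizer_iff.mp hbH x hx))
        (Subgroup.zpowers_le.mpr (Subgroup.mem_centralizer_singleton_iff.mpr
          (Subgroup.mem_centralizer_singleton_iff.mp hba).symm))
      exact Subgroup.mem_centralizer_iff.mpr fun x hx => Subgroup.mem_centralizer_singleton_iff.mp (this hx)
    have hg' : good H' := by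
      refine ⟨hCH.trans hlt.le, sup_le hHT (Subgroup.zpowers_le.mpr ha), hineq.trans ?_⟩
      calc Nat.card Z * Nat.card H
          ≤ 2 * Nat.card ↥(M ⊓ Subgroup.centralizer (H' : Set G)) * Nat.card H :=
            Nat.mul_le_mul_right _ (h1.trans (Nat.mul_le_mul_left _ h2))
        _ = Nat.card ↥(M ⊓ Subgroup.centralizer (H' : Set G)) * (2 * Nat.card H) := by ring
        _ ≤ _ := Nat.mul_le_mul_left _ hcard2
    have := hmax H' hg'
    have hpos : 0 < Nat.card H := Nat.card_pos
    omega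
  rw [hHtop] at hineq
  have h2 : Nat.card ↥(M ⊓ Subgroup.centralizer ((cT u : Subgroup G) : Set G)) ≤ 2 := by
    rw [← card_U h]
    refine Subgroup.card_le_of_le fun a ha => ?_
    obtain ⟨haM, hac⟩ := Subgroup.mem_inf.mp ha
    exact hz a haM fun t ht => Subgroup.mem_centralizer_iff.mp hac t ht
  have h3 : Nat.card M ≤ Nat.card CM := Subgroup.card_le_of_le (le_inf hM fun a ha =>
    Subgroup.mem_centralizer_iff.mpr fun b hb => hab b hb a ha)
  calc Nat.card M * Nat.card M ≤ Nat.card M * Nat.card CM := Nat.mul_le_mul_left _ h3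
    _ ≤ _ := hineq.trans (Nat.mul_le_mul_right _ h2)

/-- `O_2` is not large. -/
theorem Six.cT_not_large (h : Six u c) (h60 : idx u = 60) : Nat.card (cT u) ≤ 128 := by
  by_contra hbig
  push Not at hbig
  obtain ⟨x, hxT, hx, hxu⟩ := h.exists_invol_cT h60 (by omega)
  obtain ⟨d, hd, hidx, hcard⟩ := h.other hx
  set P := cT u ⊓ Subgroup.centralizer ({x} : Set G)
  have h1 : Nat.card (cT u) ≤ 2 * Nat.card P :=
    card_le_two_cent (B := cT u) (g := x) (v := u) fun b hb => (mem_U h).mp (h.comm_mem h60 hxT hb)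
  have h2 := hd.inter_card (hidx.trans h60) ((cT_isPGroup u).to_le inf_le_left : IsPGroup 2 P) inf_le_right
  set M := P ⊓ cT x
  have hMT : M ≤ cT u := inf_le_left.trans inf_le_left
  have hsq : ∀ a ∈ M, a * a = 1 := by
    intro a ha
    rcases (mem_U h).mp (h.sq_mem h60 (hMT ha)) with e | e
    · exact e
    · rcases (mem_U hd).mp (hd.sq_mem (hidx.trans h60) (Subgroup.mem_inf.mp ha).2) with e' | e'
      · exact e'
      · exact absurd (e'.symm.trans e) hxu
  have hab : ∀ a ∈ M, ∀ b ∈ M, a * b = b * a := by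
    intro a ha b hb
    calc a * b = (a * b)⁻¹ := eq_inv_of_mul_eq_one_left (hsq _ (mul_mem ha hb))
      _ = b⁻¹ * a⁻¹ := mul_inv_rev _ _
      _ = b * a := by rw [inv_eq_of_mul_eq_one_right (hsq a ha), inv_eq_of_mul_eq_one_right (hsq b hb)]
  have h3 := h.elementary_bound h60 hMT hab (fun a ha hac => by
    by_cases h1 : a = 1
    · rw [h1]; exact one_mem _
    · rw [h.central_eq h60 hbig (hMT ha) (orderOf_two_iff.mpr ⟨hsq a ha, h1⟩) hac]
      exact Subgroup.mem_zpowers u)
  nlinarith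

end CfsgLib.OrderSix
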