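import Cfsg.Agent.Lib.OrderSix.Large

/-!
Large `O_2`: the elementary group `E = ⟨u, x, x^c⟩` and the abelian group spanned by the derived groups.
-/

set_option autoImplicit false
set_option linter.unusedVariables false
set_option linter.unusedSectionVars false
set_option linter.style.haveILetI false

namespace CfsgLib.OrderSix

open CfsgLib.SelfCent CfsgLib.SCThree
open scoped commutatorElement

universe v

variable {G : Type v} [Group G] [Finite G] {u c x d h g : G} {S Sx : Sylow 2 G}

/-- `E = ⟨u, x, x^c⟩`. -/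
abbrev eE (u c x : G) : Subgroup G := Subgroup.closure ({u, x, c * x * c⁻¹} : Set G)

theorem Adm.cx_mem (a : Adm u c x S) : c * x * c⁻¹ ∈ cT u :=
  (Subgroup.mem_normalizer_iff.mp (cT_normalized u a.good.six.c_mem) x).mp a.mem

theorem Adm.cx_two (a : Adm u c x S) : c * x * c⁻¹ * (c * x * c⁻¹) = 1 := by
  rw [show c * x * c⁻¹ * (c * x * c⁻¹) = c * (x * x) * c⁻¹ by group, a.xx]; group

theorem Adm.hUc (a : Adm u c x S) {z : G} (hz : z ∈ Subgroup.zpowers u) : c * z * c⁻¹ = z := by
  rcases (mem_U a.good.six).mp hz with rfl | rfl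
  · group
  · rw [← a.good.six.comm, mul_inv_cancel_right]

theorem Adm.smallT (a : Adm u c x S) {m : G} (hm : m ∈ cT u) : ⁅m, x⁆ ∈ Subgroup.zpowers u :=
  a.fixS m (cT_le_sylow a.good.six S a.sylow hm)

theorem Adm.smallT' (a : Adm u c x S) {m : G} (hm : m ∈ cT u) : ⁅m, c * x * c⁻¹⁆ ∈ Subgroup.zpowers u := by
  have hm' : c⁻¹ * m * c ∈ cT u := by
    simpa using (Subgroup.mem_normalizer_iff.mp (cT_normalized u (inv_mem a.good.six.c_mem)) m).mp hm
  have h1 := a.smallT hm'
  have e : ⁅m, c * x * c⁻¹⁆ = c * ⁅c⁻¹ * m * c, x⁆ * c⁻¹ := by simp only [commutatorElement_def]; group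
  rw [e, a.hUc h1]
  exact h1

theorem Adm.x_comm_cx (a : Adm u c x S) : x * (c * x * c⁻¹) = c * x * c⁻¹ * x := by
  set x' := c * x * c⁻¹ with hx'
  set x'' := c * x' * c⁻¹ with hx''
  have hz := a.good.six.ident_U a.mem
  rw [← hx', ← hx''] at hz
  set z := x * x' * x'' with hzdef
  have e3 : x * x' = z * x''⁻¹ := by rw [hzdef]; group
  have hx''2 : x'' * x'' = 1 := by
    rw [hx'', show c * x' * c⁻¹ * (c * x' * c⁻¹) = c * (x' * x') * c⁻¹ by group, a.cx_two]; group
  have hz2 : z * z = 1 := by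
    rcases (mem_U a.good.six).mp hz with e | e <;> rw [e] <;> simp [a.good.six.uu]
  have hzc : Commute z x''⁻¹ := by
    obtain ⟨k, hk⟩ := Subgroup.mem_zpowers_iff.mp hz
    rw [← hk]
    have hC : x'' ∈ cC u := mul_mem (mul_mem a.good.six.c_mem (cT_le_cC u a.cx_mem)) (inv_mem a.good.six.c_mem)
    exact ((show Commute x'' u from mem_cC.mp hC).symm.inv_right).zpow_left k
  have h4 : x * x' * (x * x') = 1 := by
    rw [e3, hzc.symm.mul_mul_mul_comm, hz2, one_mul, ← mul_inv_rev, hx''2, inv_one]
  have e5 : x * x' = (x * x')⁻¹ := eq_inv_of_mul_eq_one_left h4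
  rw [mul_inv_rev, inv_eq_of_mul_eq_one_left a.xx, inv_eq_of_mul_eq_one_left a.cx_two] at e5
  exact e5

theorem Adm.cx_not_V (a : Adm u c x S) : c * x * c⁻¹ ∉ pV u x := by
  intro hV
  have key : x⁻¹ * (c * x * c⁻¹) ∈ Subgroup.zpowers u → False := fun hh =>
    a.x_not_U (fix_mod a.good.six (U_le_cT a.good.six) (Subgroup.mem_zpowers u)
      (U_normalized u a.good.six.c_mem) a.mem hh)
  have h1 : c * x * c⁻¹ ∉ Subgroup.zpowers u := fun hh => a.x_not_U (by
    have := (Subgroup.mem_normalizer_iff.mp (U_normalized u a.good.six.c_mem) x).mpr hh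
    exact this)
  rcases a.mem_V.mp hV with e | e | e | e
  · exact h1 (e ▸ one_mem _)
  · exact h1 (e ▸ Subgroup.mem_zpowers u)
  · exact key (by rw [e, inv_mul_cancel]; exact one_mem _)
  · refine key ?_
    rw [e, ← a.xu, inv_mul_cancel_left]
    exact Subgroup.mem_zpowers u

theorem Adm.mem_E (a : Adm u c x S) {z : G} :
    z ∈ eE u c x ↔ z ∈ pV u x ∨ z * (c * x * c⁻¹) ∈ pV u x := by
  set x' := c * x * c⁻¹ with hx'
  have hx2 : x' * x' = 1 := a.cx_two
  have hcomm : ∀ v ∈ pV u x, x' * v = v * x' := by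
    intro v hv
    have h1 : x' * u = u * x' := mem_cC.mp (cT_le_cC u a.cx_mem)
    rcases a.mem_V.mp hv with e | e | e | e <;> rw [e]
    · simp
    · exact h1
    · exact a.x_comm_cx.symm
    · rw [← mul_assoc, h1, mul_assoc, ← a.x_comm_cx, ← mul_assoc]
  constructor
  · intro hz
    refine Subgroup.closure_induction (p := fun w _ => w ∈ pV u x ∨ w * x' ∈ pV u x) ?_
      (Or.inl (one_mem _)) ?_ ?_ hz
    · rintro w (rfl | rfl | rfl)
      · exact Or.inl (Subgroup.subset_closure (by simp))
      · exact Or.inl (Subgroup.subset_closure (by simp))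
      · exact Or.inr (by rw [hx2]; exact one_mem _)
    · rintro p q _ _ (hp | hp) (hq | hq)
      · exact Or.inl (mul_mem hp hq)
      · exact Or.inr (by rw [mul_assoc]; exact mul_mem hp hq)
      · refine Or.inr ?_
        have := mul_mem hp hq
        rwa [mul_assoc p x' q, hcomm q hq, ← mul_assoc] at this
      · refine Or.inl ?_
        have e : q * x' = x' * q := by
          have h2 := hcomm _ hq
          calc q * x' = x' * x' * (q * x') := by rw [hx2, one_mul]
            _ = x' * (q * x' * x') := by rw [mul_assoc, h2]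
            _ = x' * q := by rw [mul_assoc q, hx2, mul_one]
        have := mul_mem hp hq
        rwa [e, ← mul_assoc, mul_assoc p x' x', hx2, mul_one] at this
    · rintro p _ (hp | hp)
      · exact Or.inl (inv_mem hp)
      · refine Or.inr ?_
        have h2 := hcomm _ (inv_mem hp)
        rw [mul_inv_rev, inv_eq_of_mul_eq_one_left hx2] at h2
        have := inv_mem hp
        rw [mul_inv_rev, inv_eq_of_mul_eq_one_left hx2] at this
        -- move the generator to the other side
        have e : p⁻¹ * x' = x' * p⁻¹ := by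
          calc p⁻¹ * x' = x' * x' * (p⁻¹ * x') := by rw [hx2, one_mul]
            _ = x' * (x' * p⁻¹ * x') := by group
            _ = x' * (x' * (x' * p⁻¹)) := by rw [← h2]
            _ = _ := by rw [← mul_assoc x' x', hx2, one_mul]
        rw [e]; exact this
  · have hle : pV u x ≤ eE u c x := Subgroup.closure_mono (by
      rintro w (rfl | rfl) <;> simp)
    rintro (hz | hz)
    · exact hle hz
    · have h1 : x' ∈ eE u c x := Subgroup.subset_closure (by simp [hx'])
      have := mul_mem (hle hz) h1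
      rwa [mul_assoc, hx2, mul_one] at this

theorem Adm.card_E (a : Adm u c x S) : Nat.card (eE u c x) = 8 := by
  set x' := c * x * c⁻¹ with hx'
  have hle : pV u x ≤ eE u c x := fun z hz => a.mem_E.mpr (Or.inl hz)
  have hi : (pV u x).relIndex (eE u c x) = 2 := by
    have h1 : ¬ (pV u x).relIndex (eE u c x) = 1 := fun e =>
      a.cx_not_V (Subgroup.relIndex_eq_one.mp e (Subgroup.subset_closure (by simp)))
    have h2 : (pV u x).relIndex (eE u c x) ≤ 2 := by
      let f : Fin 2 → (↥(eE u c x) ⧸ (pV u x).subgroupOf (eE u c x)) :=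
        ![QuotientGroup.mk 1, QuotientGroup.mk ⟨x', Subgroup.subset_closure (by simp [hx'])⟩]
      have hf : Function.Surjective f := by
        intro q
        induction q using QuotientGroup.induction_on with
        | H z =>
          rcases a.mem_E.mp z.2 with hz | hz
          · exact ⟨0, QuotientGroup.eq.mpr (Subgroup.mem_subgroupOf.mpr (by simpa using hz))⟩
          · refine ⟨1, (QuotientGroup.eq.mpr (Subgroup.mem_subgroupOf.mpr ?_)).symm⟩
            show (z : G)⁻¹ * x' ∈ pV u x
            have hzV := inv_mem hz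
            rw [mul_inv_rev, inv_eq_of_mul_eq_one_left a.cx_two] at hzV
            have hzE : (z : G)⁻¹ ∈ eE u c x := inv_mem z.2
            rcases a.mem_E.mp hzE with h0 | h0
            · exfalso
              have h3 := mul_mem hz h0
              -- then the generator would lie in `V`
              have h4 := mul_mem hzV (inv_mem h0)
              rw [inv_inv, mul_assoc, inv_mul_cancel, mul_one] at h4
              exact a.cx_not_V h4
            · exact h0
      have h3 := Nat.card_le_card_of_surjective f hf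
      simpa [Subgroup.relIndex, Subgroup.index] using h3
    have h0 : (pV u x).relIndex (eE u c x) ≠ 0 := Subgroup.index_ne_zero_of_finite
    omega
  rw [← card_relIndex hle, hi, a.card_V]

theorem Adm.E_le_cT (a : Adm u c x S) : eE u c x ≤ cT u := by
  rw [Subgroup.closure_le]
  rintro z (rfl | rfl | rfl)
  · exact u_mem_cT a.good.six
  · exact a.mem
  · exact a.cx_mem

/-- Cores of distinct involutions with derived groups in each other. -/
theorem cD_cross {i j di dj : G} (hi : Six i di) (hj : Six j dj) (hij : i ≠ j) (h1 : cD i ≤ cT j)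
    (h2 : cD j ≤ cT i) {e f : G} (he : e ∈ cD i) (hf : f ∈ cD j) : e * f = f * e := by
  have a1 := comm_mem_U_of_central hi (cD_le i he) (h2 hf) he
  have a2 := comm_U_symm (comm_mem_U_of_central hj (cD_le j hf) (h1 he) hf)
  rcases (mem_U hi).mp a1 with e1 | e1
  · exact commutatorElement_eq_one_iff_mul_comm.mp e1
  · rcases (mem_U hj).mp a2 with e2 | e2
    · exact commutatorElement_eq_one_iff_mul_comm.mp e2
    · exact absurd (e1.symm.trans e2) hij

/-- The join of the three derived groups. -/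
abbrev pQ (u x : G) : Subgroup G := cD u ⊔ cD x ⊔ cD (x * u)

namespace Trio

variable (a : Trio u c x d S Sx h g) (hxD : cD u ≠ Subgroup.zpowers u → x ∈ cD u)
include a hxD

theorem cD_all : cD u ≤ pD u x ∧ cD x ≤ pD u x ∧ cD (x * u) ≤ pD u x := by
  have h1 := a.cD_le_D hxD
  have hrD : cj (rot h g) (pD u x) = pD u x := cj_normalizer (rot_mem_normalizer a.hD a.gD)
  have h2 : cD x ≤ pD u x := by
    rw [← a.rot_act.1, cD_conj, a.rot_act.1, ← hrD]; exact Subgroup.map_mono h1
  refine ⟨h1, h2, ?_⟩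
  rw [← a.rot_act.2.1, cD_conj, ← hrD]
  exact Subgroup.map_mono h2

theorem Q_le_D : pQ u x ≤ pD u x := by
  obtain ⟨h1, h2, h3⟩ := a.cD_all hxD
  exact sup_le (sup_le h1 h2) h3

theorem Q_comm {p q : G} (hp : p ∈ pQ u x) (hq : q ∈ pQ u x) : p * q = q * p := by
  obtain ⟨h1, h2, h3⟩ := a.cD_all hxD
  obtain ⟨d', hd'⟩ := a.pair.adm.good.at_inv a.pair.adm.ux_two
  have su := a.pair.adm.good.six
  have sx := a.pair.goodx.six
  have sxu := hd'.six
  have n1 : u ≠ x := Ne.symm a.pair.adm.ne
  have n2 : u ≠ x * u := fun e => a.pair.adm.x_ne_one (mul_eq_right.mp e.symm)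
  have n3 : x ≠ x * u := fun e => su.u_ne_one (mul_eq_left.mp e.symm)
  have u1 : cD u ≤ cT x := h1.trans (inf_le_left.trans inf_le_right)
  have u2 : cD u ≤ cT (x * u) := h1.trans inf_le_right
  have x1 : cD x ≤ cT u := h2.trans (inf_le_left.trans inf_le_left)
  have x2 : cD x ≤ cT (x * u) := h2.trans inf_le_right
  have y1 : cD (x * u) ≤ cT u := h3.trans (inf_le_left.trans inf_le_left)
  have y2 : cD (x * u) ≤ cT x := h3.trans (inf_le_left.trans inf_le_right)
  have key : ∀ e ∈ (cD u : Set G) ∪ cD x ∪ cD (x * u), ∀ f ∈ (cD u : Set G) ∪ cD x ∪ cD (x * u),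
      Commute e f := by
    rintro e ((he | he) | he) f ((hf | hf) | hf)
    · exact cD_comm su he hf
    · exact cD_cross su sx n1 u1 x1 he hf
    · exact cD_cross su sxu n2 u2 y1 he hf
    · exact (cD_cross su sx n1 u1 x1 hf he).symm
    · exact cD_comm sx he hf
    · exact cD_cross sx sxu n3 x2 y2 he hf
    · exact (cD_cross su sxu n2 u2 y1 hf he).symm
    · exact (cD_cross sx sxu n3 x2 y2 hf he).symm
    · exact cD_comm sxu he hf
  have hgen : pQ u x = Subgroup.closure ((cD u : Set G) ∪ cD x ∪ cD (x * u)) := by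
    rw [Subgroup.closure_union, Subgroup.closure_union, Subgroup.closure_eq, Subgroup.closure_eq,
      Subgroup.closure_eq]
  rw [hgen] at hp hq
  have : ∀ e ∈ (cD u : Set G) ∪ cD x ∪ cD (x * u), Commute e q := fun e he =>
    Subgroup.closure_induction (p := fun w _ => Commute e w) (fun w hw => key e he w hw) (Commute.one_right e)
      (fun _ _ _ _ h1 h2 => h1.mul_right h2) (fun _ _ h1 => h1.inv_right) hq
  exact (Subgroup.closure_induction (p := fun w _ => Commute w q) (fun w hw => this w hw) (Commute.one_left q)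
    (fun _ _ _ _ h1 h2 => h1.mul_left h2) (fun _ _ h1 => h1.inv_left) hp).eq

theorem hQ : h ∈ Subgroup.normalizer (pQ u x : Set G) := by
  refine normalizer_of_cj ?_
  show Subgroup.map _ _ = _
  rw [Subgroup.map_sup, Subgroup.map_sup]
  show cj h (cD u) ⊔ cj h (cD x) ⊔ cj h (cD (x * u)) = _
  rw [← cD_conj, ← cD_conj, ← cD_conj, a.h_u, a.h_x, a.h_xu, sup_right_comm]

theorem gQ : g ∈ Subgroup.normalizer (pQ u x : Set G) := by
  refine normalizer_of_cj ?_
  show Subgroup.map _ _ = _
  rw [Subgroup.map_sup, Subgroup.map_sup]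
  show cj g (cD u) ⊔ cj g (cD x) ⊔ cj g (cD (x * u)) = _
  rw [← cD_conj, ← cD_conj, ← cD_conj, a.g_u, a.g_x, a.g_xu]
  show _ = cD u ⊔ cD x ⊔ cD (x * u)
  rw [← a.pair.adm.xu]
  ac_rfl

/-- `D` is `Q` times fixed points of the rotation. -/
theorem D_cover : (∀ y ∈ pD u x, ∃ z ∈ fixR h g (pD u x), y⁻¹ * z ∈ pQ u x) ∧
    Nat.card (pD u x) ≤ 2 * Nat.card (pQ u x) := by
  obtain ⟨h1, h2, -⟩ := a.cD_all hxD
  refine a.trick (isPGroup_cT_le (inf_le_left.trans inf_le_left : pD u x ≤ cT u)) (a.Q_le_D hxD) a.hD a.gD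
    (a.hQ hxD) (a.gQ hxD) ?_ ?_ ?_
  · intro y hy
    refine normalizer_of_cj (Subgroup.eq_of_le_of_card_ge ?_ (card_cj y _).ge)
    have hy' : y ∈ cT u ∧ y ∈ cT x ∧ y ∈ cT (x * u) :=
      ⟨(Subgroup.mem_inf.mp (Subgroup.mem_inf.mp hy).1).1, (Subgroup.mem_inf.mp (Subgroup.mem_inf.mp hy).1).2,
        (Subgroup.mem_inf.mp hy).2⟩
    show Subgroup.map _ _ ≤ _
    rw [Subgroup.map_sup, Subgroup.map_sup]
    show cj y (cD u) ⊔ cj y (cD x) ⊔ cj y (cD (x * u)) ≤ _
    rw [cj_normalizer (cD_normalized u (cT_le_cC u hy'.1)), cj_normalizer (cD_normalized x (cT_le_cC x hy'.2.1)),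
      cj_normalizer (cD_normalized _ (cT_le_cC _ hy'.2.2))]
  · intro y hy
    exact Subgroup.mem_sup_left (Subgroup.mem_sup_left
      (Subgroup.commutator_mem_commutator a.hT (Subgroup.mem_inf.mp (Subgroup.mem_inf.mp hy).1).1))
  · intro y hy
    exact Subgroup.mem_sup_left (Subgroup.mem_sup_right
      (Subgroup.commutator_mem_commutator a.gT (Subgroup.mem_inf.mp (Subgroup.mem_inf.mp hy).1).2))

end Trio

end CfsgLib.OrderSix
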