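import Cfsg.Agent.Lib.OrderSix.Adm

/-!
Large `O_2`: the element permuting `u`, `x` and `ux` cyclically.
-/

set_option autoImplicit false
set_option linter.unusedVariables false
set_option linter.unusedSectionVars false
set_option linter.style.haveILetI false

namespace CfsgLib.OrderSix

open CfsgLib.SelfCent CfsgLib.SCThree
open scoped commutatorElement

universe v

variable {G : Type v} [Group G] [Finite G] {u c x d : G}

/-- The centralizer of `x` in the Sylow subgroup. -/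
abbrev pP (x : G) (S : Sylow 2 G) : Subgroup G := (S : Subgroup G) ⊓ Subgroup.centralizer ({x} : Set G)

theorem mem_pP {x g : G} {S : Sylow 2 G} : g ∈ pP x S ↔ g ∈ (S : Subgroup G) ∧ g * x = x * g := by
  rw [Subgroup.mem_inf, Subgroup.mem_centralizer_singleton_iff]

/-- The meet of three cores. -/
abbrev pD (u x : G) : Subgroup G := cT u ⊓ cT x ⊓ cT (x * u)

/-- The pair of Sylow subgroups. -/
structure Pair (u c x d : G) (S Sx : Sylow 2 G) : Prop where
  adm : Adm u c x S
  goodx : Good x d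
  sylx : (Sx : Subgroup G) ≤ cC x
  le : pP x S ≤ (Sx : Subgroup G)

variable {S Sx : Sylow 2 G}

theorem Adm.xx (a : Adm u c x S) : x * x = 1 := (orderOf_two_iff.mp a.two).1

theorem Adm.x_ne_one (a : Adm u c x S) : x ≠ 1 := (orderOf_two_iff.mp a.two).2

theorem Adm.xu (a : Adm u c x S) : x * u = u * x := mem_cC.mp (cT_le_cC u a.mem)

theorem Adm.x_not_U (a : Adm u c x S) : x ∉ Subgroup.zpowers u := fun hh => by
  rcases (mem_U a.good.six).mp hh with e | e
  · exact a.x_ne_one e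
  · exact a.ne e

theorem Adm.exists_pair (a : Adm u c x S) : ∃ d, ∃ Sx : Sylow 2 G, Pair u c x d S Sx := by
  obtain ⟨d, hd⟩ := a.good.at_inv a.two
  obtain ⟨Sx, h1, h2⟩ := exists_sylow_cC hd.six (S.isPGroup'.to_le (inf_le_left : pP x S ≤ _))
    (fun g hg => mem_cC.mpr (mem_pP.mp hg).2)
  exact ⟨d, Sx, a, hd, h2, h1⟩

theorem Adm.moved_iff (a : Adm u c x S) {g : G} (hg : g ∈ (S : Subgroup G)) (hgP : g ∉ pP x S) :
    g * x * g⁻¹ = x * u := by
  rcases (mem_U a.good.six).mp (a.fixS g hg) with e | e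
  · exact absurd (mem_pP.mpr ⟨hg, commutatorElement_eq_one_iff_mul_comm.mp e⟩) hgP
  · rw [commutatorElement_def, mul_inv_eq_iff_eq_mul] at e
    rw [e, a.xu]

theorem Adm.moved (a : Adm u c x S) : ∃ g ∈ cT u, g ∉ pP x S := by
  by_contra hc
  push Not at hc
  exact a.ne (a.good.omega_center a.mem (fun t ht => (mem_pP.mp (hc t ht)).2) a.two)

theorem Adm.relIndex_pP (a : Adm u c x S) : (pP x S).relIndex (S : Subgroup G) = 2 := by
  let χ : ↥(S : Subgroup G) →* ↥(Subgroup.zpowers u) :=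
    MonoidHom.mk' (fun m => ⟨⁅(m : G), x⁆, a.fixS m m.2⟩) (fun m n => Subtype.ext (by
      show ⁅(m : G) * n, x⁆ = ⁅(m : G), x⁆ * ⁅(n : G), x⁆
      have hcm : ∀ b ∈ cC u, Commute ⁅(n : G), x⁆ b := fun b hb => by
        obtain ⟨k, hk⟩ := Subgroup.mem_zpowers_iff.mp (a.fixS n n.2)
        rw [← hk]
        exact ((show Commute b u from mem_cC.mp hb).symm).zpow_left k
      have hmC := a.sylow m.2
      have hxC := cT_le_cC u a.mem
      calc ⁅(m : G) * n, x⁆ = (m : G) * ⁅(n : G), x⁆ * (x * (m : G)⁻¹ * x⁻¹) := by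
            simp only [commutatorElement_def]; group
        _ = ⁅(n : G), x⁆ * ⁅(m : G), x⁆ := by
            rw [← (hcm m hmC).eq]; simp only [commutatorElement_def]; group
        _ = _ := (hcm _ (mul_mem (mul_mem (mul_mem hmC hxC) (inv_mem hmC)) (inv_mem hxC))).eq))
  have e : (pP x S).subgroupOf (S : Subgroup G) = χ.ker := by
    ext m
    rw [Subgroup.mem_subgroupOf, mem_pP, MonoidHom.mem_ker]
    refine ⟨fun hm => Subtype.ext (commutatorElement_eq_one_iff_mul_comm.mpr hm.2), fun hm => ?_⟩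
    exact ⟨m.2, commutatorElement_eq_one_iff_mul_comm.mp (congrArg Subtype.val hm)⟩
  have hle : (pP x S).relIndex (S : Subgroup G) ≤ 2 := by
    rw [Subgroup.relIndex, e, Subgroup.index_ker]
    exact (Subgroup.card_le_card_group _).trans (le_of_eq (card_U a.good.six))
  have hne : (pP x S).relIndex (S : Subgroup G) ≠ 1 := by
    rw [Ne, Subgroup.relIndex_eq_one]
    intro hh
    obtain ⟨g, hg, hgP⟩ := a.moved
    exact hgP (hh (cT_le_sylow a.good.six S a.sylow hg))
  have h0 : (pP x S).relIndex (S : Subgroup G) ≠ 0 := Subgroup.index_ne_zero_of_finite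
  omega

theorem normal_two {A B : Subgroup G} (hi : A.relIndex B = 2) {g : G} (hg : g ∈ B)
    (hle : A ≤ B) : g ∈ Subgroup.normalizer (A : Set G) := by
  have hn : (A.subgroupOf B).Normal := Subgroup.normal_of_index_eq_two hi
  exact (Subgroup.normal_subgroupOf_iff_le_normalizer hle).mp hn hg

theorem sq_mem_two {A B : Subgroup G} (hi : A.relIndex B = 2) {g : G} (hg : g ∈ B) : g * g ∈ A := by
  have := Subgroup.mul_self_mem_of_index_two (H := A.subgroupOf B) hi ⟨g, hg⟩
  simpa [Subgroup.mem_subgroupOf] using this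

theorem two_coset {A B : Subgroup G} (hi : A.relIndex B = 2) {g k : G} (hg : g ∈ B) (hgA : g ∉ A)
    (hk : k ∈ B) (hkA : k ∉ A) : g⁻¹ * k ∈ A := by
  have := (Subgroup.mul_mem_iff_of_index_two (H := A.subgroupOf B) hi
    (a := (⟨g, hg⟩ : ↥B)⁻¹) (b := ⟨k, hk⟩)).mpr (by simp [Subgroup.mem_subgroupOf, hgA, hkA])
  simpa [Subgroup.mem_subgroupOf] using this

theorem card_relIndex {A B : Subgroup G} (hle : A ≤ B) : Nat.card A * A.relIndex B = Nat.card B := by
  have := (A.subgroupOf B).card_mul_index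
  rwa [Nat.card_congr (Subgroup.subgroupOfEquivOfLe hle).toEquiv] at this

theorem card_sylow_eq (S Sx : Sylow 2 G) : Nat.card (S : Subgroup G) = Nat.card (Sx : Subgroup G) := by
  haveI := Fact.mk Nat.prime_two
  exact (Sylow.card_eq_multiplicity S).trans (Sylow.card_eq_multiplicity Sx).symm

theorem Pair.relIndex_x (a : Pair u c x d S Sx) : (pP x S).relIndex (Sx : Subgroup G) = 2 := by
  have h1 := card_relIndex (inf_le_left : pP x S ≤ (S : Subgroup G))
  rw [a.adm.relIndex_pP] at h1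
  have h2 := card_relIndex a.le
  rw [← card_sylow_eq S Sx, ← h1] at h2
  exact Nat.eq_of_mul_eq_mul_left Nat.card_pos h2

theorem Pair.u_mem_P (a : Pair u c x d S Sx) : u ∈ pP x S :=
  mem_pP.mpr ⟨cT_le_sylow a.adm.good.six S a.adm.sylow (u_mem_cT a.adm.good.six), a.adm.xu.symm⟩

/-- An element outside the common part maps `u` to `ux`. -/
theorem Pair.movedx (a : Pair u c x d S Sx) {g : G} (hg : g ∈ (Sx : Subgroup G)) (hgP : g ∉ pP x S) :
    g * u * g⁻¹ = u * x := by
  have hu := a.u_mem_P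
  have hN := Subgroup.mem_normalizer_iff.mp (normal_two a.relIndex_x hg a.le)
  have hu' : g * u * g⁻¹ ∈ pP x S := (hN u).mp hu
  have huP : ∀ p ∈ pP x S, p * u = u * p := fun p hp => mem_cC.mp (a.adm.sylow (mem_pP.mp hp).1)
  have hu'P : ∀ p ∈ pP x S, p * (g * u * g⁻¹) = g * u * g⁻¹ * p := by
    intro p hp
    have hp' : g⁻¹ * p * g ∈ pP x S := (hN _).mpr (by simpa [mul_assoc] using hp)
    calc p * (g * u * g⁻¹) = g * (g⁻¹ * p * g * u) * g⁻¹ := by group
      _ = g * (u * (g⁻¹ * p * g)) * g⁻¹ := by rw [huP _ hp']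
      _ = _ := by group
  set w := u * (g * u * g⁻¹) with hw
  have hwP : ∀ p ∈ pP x S, Commute p w := fun p hp => Commute.mul_right (huP p hp) (hu'P p hp)
  have hwg : Commute g w := by
    refine (mul_inv_eq_iff_eq_mul.mp ?_)
    have h2 := sq_mem_two a.relIndex_x hg
    calc g * w * g⁻¹ = g * u * g⁻¹ * ((g * g) * u * (g * g)⁻¹) := by rw [hw]; group
      _ = g * u * g⁻¹ * u := by rw [huP _ h2, mul_inv_cancel_right]
      _ = w := (hu'P u hu).symm
  have hwS : ∀ s ∈ (Sx : Subgroup G), s * w = w * s := by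
    intro s hs
    by_cases hsP : s ∈ pP x S
    · exact hwP s hsP
    · have e : s = g * (g⁻¹ * s) := by group
      rw [e]
      exact (hwg.mul_left (hwP _ (two_coset a.relIndex_x hg hgP hs hsP))).eq
  have hww : w * w = 1 := by
    rw [hw, (show Commute (g * u * g⁻¹) u from (hu'P u hu).symm).mul_mul_mul_comm,
      show g * u * g⁻¹ * (g * u * g⁻¹) = g * (u * u) * g⁻¹ by group, a.adm.good.six.uu]
    group
  by_cases hw1 : w = 1
  · exfalso
    have hgu : g * u = u * g := by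
      have : g * u * g⁻¹ = u := by
        rw [hw] at hw1; rw [eq_inv_of_mul_eq_one_right hw1, a.adm.good.six.u_inv]
      exact mul_inv_eq_iff_eq_mul.mp this
    have hle : (Sx : Subgroup G) ≤ cC u := fun s hs => by
      by_cases hsP : s ∈ pP x S
      · exact mem_cC.mpr (huP s hsP)
      · have e : s = g * (g⁻¹ * s) := by group
        rw [e]
        exact mul_mem (mem_cC.mpr hgu) (mem_cC.mpr (huP _ (two_coset a.relIndex_x hg hgP hs hsP)))
    exact a.adm.ne (a.adm.good.sylow_center Sx hle a.adm.two fun s hs => mem_cC.mp (a.sylx hs))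
  · have := a.goodx.sylow_center Sx a.sylx (orderOf_two_iff.mpr ⟨hww, hw1⟩) hwS
    rw [hw] at this
    rw [eq_inv_mul_of_mul_eq this, a.adm.good.six.u_inv]

theorem Pair.u_mem_Tx (a : Pair u c x d S Sx) : u ∈ cT x := by
  have hu := a.u_mem_P
  by_contra hn
  refine a.goodx.refl_not_centralize
    (two_group_refl a.goodx.six a.goodx.low Sx.isPGroup' a.sylx (a.le hu) hn).2
    (B := cT x ⊓ pP x S) inf_le_left ?_ (fun b hb => (mem_cC.mp (a.adm.sylow hb.2.1)).symm)
  rw [Subgroup.inf_relIndex_left, ← a.relIndex_x]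
  exact Subgroup.relIndex_le_of_le_right (cT_le_sylow a.goodx.six Sx a.sylx) Subgroup.index_ne_zero_of_finite

theorem Pair.exists_g (a : Pair u c x d S Sx) : ∃ g ∈ cT x, g ∉ pP x S := by
  by_contra hc
  push Not at hc
  exact a.adm.ne (a.goodx.omega_center a.u_mem_Tx
    (fun t ht => mem_cC.mp (a.adm.sylow (hc t ht).1)) a.adm.good.six.ou).symm

/-- Two elements generating the permutations of `u`, `x`, `ux`. -/
structure Trio (u c x d : G) (S Sx : Sylow 2 G) (h g : G) : Prop where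
  pair : Pair u c x d S Sx
  hT : h ∈ cT u
  hP : h ∉ pP x S
  gT : g ∈ cT x
  gP : g ∉ pP x S

variable {h g : G}

theorem Pair.exists_trio (a : Pair u c x d S Sx) : ∃ h g, Trio u c x d S Sx h g := by
  obtain ⟨h, hh, hhP⟩ := a.adm.moved
  obtain ⟨g, hg, hgP⟩ := a.exists_g
  exact ⟨h, g, a, hh, hhP, hg, hgP⟩

namespace Trio

variable (a : Trio u c x d S Sx h g)
include a

theorem hS : h ∈ (S : Subgroup G) := cT_le_sylow a.pair.adm.good.six S a.pair.adm.sylow a.hT

theorem gS : g ∈ (Sx : Subgroup G) := cT_le_sylow a.pair.goodx.six Sx a.pair.sylx a.gT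

theorem h_x : h * x * h⁻¹ = x * u := a.pair.adm.moved_iff a.hS a.hP

theorem h_u : h * u * h⁻¹ = u := by rw [mem_cC.mp (cT_le_cC u a.hT), mul_inv_cancel_right]

theorem h_xu : h * (x * u) * h⁻¹ = x := by
  rw [show h * (x * u) * h⁻¹ = (h * x * h⁻¹) * (h * u * h⁻¹) by group, a.h_x, a.h_u, mul_assoc,
    a.pair.adm.good.six.uu, mul_one]

theorem g_u : g * u * g⁻¹ = u * x := a.pair.movedx a.gS a.gP

theorem g_x : g * x * g⁻¹ = x := by rw [mem_cC.mp (cT_le_cC x a.gT), mul_inv_cancel_right]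

theorem g_xu : g * (x * u) * g⁻¹ = u := by
  rw [show g * (x * u) * g⁻¹ = (g * x * g⁻¹) * (g * u * g⁻¹) by group, a.g_x, a.g_u, a.pair.adm.xu.symm,
    ← mul_assoc, a.pair.adm.xx, one_mul]

theorem w_u : (h * g) * u * (h * g)⁻¹ = x := by
  rw [show h * g * u * (h * g)⁻¹ = h * (g * u * g⁻¹) * h⁻¹ by group, a.g_u, ← a.pair.adm.xu, a.h_xu]

theorem w_x : (h * g) * x * (h * g)⁻¹ = x * u := by
  rw [show h * g * x * (h * g)⁻¹ = h * (g * x * g⁻¹) * h⁻¹ by group, a.g_x, a.h_x]

theorem hN : h ∈ Subgroup.normalizer (pP x S : Set G) := normal_two a.pair.adm.relIndex_pP a.hS inf_le_left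

theorem gN : g ∈ Subgroup.normalizer (pP x S : Set G) := normal_two a.pair.relIndex_x a.gS a.pair.le

end Trio

/-- The element of order a power of three. -/
noncomputable def rot (h g : G) : G :=
  (h * g) ^ ((orderOf (h * g) / 3 ^ (orderOf (h * g)).factorization 3) ^ 2)

theorem rot_pow (h g : G) : ∃ n, rot h g = (h * g) ^ n := ⟨_, rfl⟩

theorem orderOf_rot (h g : G) : ∃ k : ℕ, orderOf (rot h g) ∣ 3 ^ k := by
  refine ⟨(orderOf (h * g)).factorization 3, orderOf_dvd_of_pow_eq_one ?_⟩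
  rw [rot, ← pow_mul, pow_two, mul_assoc, Nat.div_mul_cancel (Nat.ordProj_dvd _ 3), mul_comm, pow_mul,
    pow_orderOf_eq_one, one_pow]

theorem Trio.rot_act (a : Trio u c x d S Sx h g) :
    rot h g * u * (rot h g)⁻¹ = x ∧ rot h g * x * (rot h g)⁻¹ = x * u ∧
      rot h g * (x * u) * (rot h g)⁻¹ = u := by
  set w := h * g with hw
  have e3 : w * (x * u) * w⁻¹ = u := by
    rw [show w * (x * u) * w⁻¹ = (w * x * w⁻¹) * (w * u * w⁻¹) by group, a.w_x, a.w_u,
      show x * u * x = x * x * u by rw [mul_assoc, ← a.pair.adm.xu, ← mul_assoc], a.pair.adm.xx, one_mul]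
  have h3 : ∀ y, (y = u ∨ y = x ∨ y = x * u) → ∀ n : ℕ, w ^ (3 * n) * y * (w ^ (3 * n))⁻¹ = y := by
    intro y hy n
    induction n with
    | zero => simp
    | succ n ih =>
      have e : w ^ (3 * (n + 1)) * y * (w ^ (3 * (n + 1)))⁻¹ =
          w ^ (3 * n) * (w * (w * (w * y * w⁻¹) * w⁻¹) * w⁻¹) * (w ^ (3 * n))⁻¹ := by
        rw [show 3 * (n + 1) = 3 * n + 3 by ring, pow_add, pow_succ, pow_two]; group
      have e' : w * (w * (w * y * w⁻¹) * w⁻¹) * w⁻¹ = y := by
        rcases hy with rfl | rfl | rfl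
        · rw [a.w_u, a.w_x, e3]
        · rw [a.w_x, e3, a.w_u]
        · rw [e3, a.w_u, a.w_x]
      rw [e, e', ih]
  -- the exponent is one modulo three
  set o := orderOf w with ho
  set m := o / 3 ^ o.factorization 3 with hm
  have hm3 : m ^ 2 % 3 = 1 := by
    have hn : ¬ 3 ∣ m := Nat.not_dvd_ordCompl Nat.prime_three (orderOf_pos w).ne'
    rw [Nat.pow_mod]
    have : m % 3 = 1 ∨ m % 3 = 2 := by omega
    rcases this with e | e <;> simp [e]
  have hr : rot h g = w * w ^ (3 * (m ^ 2 / 3)) := by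
    rw [← pow_succ']
    show w ^ (m ^ 2) = _
    congr 1
    omega
  have key : ∀ y, (y = u ∨ y = x ∨ y = x * u) → rot h g * y * (rot h g)⁻¹ = w * y * w⁻¹ := by
    intro y hy
    rw [hr]
    calc w * w ^ (3 * (m ^ 2 / 3)) * y * (w * w ^ (3 * (m ^ 2 / 3)))⁻¹
        = w * (w ^ (3 * (m ^ 2 / 3)) * y * (w ^ (3 * (m ^ 2 / 3)))⁻¹) * w⁻¹ := by group
      _ = _ := by rw [h3 y hy]
  exact ⟨by rw [key u (Or.inl rfl), a.w_u], by rw [key x (Or.inr (Or.inl rfl)), a.w_x],
    by rw [key _ (Or.inr (Or.inr rfl)), e3]⟩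

theorem Trio.rot_ne_one (a : Trio u c x d S Sx h g) : rot h g ≠ 1 := by
  intro e
  have := a.rot_act.1
  rw [e] at this
  simp at this
  exact a.pair.adm.ne this.symm

theorem rot_mem_normalizer {N : Subgroup G} (hh : h ∈ Subgroup.normalizer (N : Set G))
    (hg : g ∈ Subgroup.normalizer (N : Set G)) : rot h g ∈ Subgroup.normalizer (N : Set G) :=
  pow_mem (mul_mem hh hg) _

/-- The rotation is inverted modulo the common part. -/
theorem Trio.rot_inverted (a : Trio u c x d S Sx h g) {k : G} (hk : k = h ∨ k = g) :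
    k * rot h g * k⁻¹ * rot h g ∈ pP x S := by
  set P := pP x S
  have hh2 : h * h ∈ P := sq_mem_two a.pair.adm.relIndex_pP a.hS
  have hg2 : g * g ∈ P := sq_mem_two a.pair.relIndex_x a.gS
  have hkw : k * (h * g) * k⁻¹ * (h * g) ∈ P := by
    rcases hk with rfl | rfl
    · have := mul_mem hh2 hg2
      refine (congrArg (· ∈ P) ?_).mp this
      group
    · have := mul_mem ((Subgroup.mem_normalizer_iff.mp a.gN _).mp hh2) hg2
      refine (congrArg (· ∈ P) ?_).mp this
      group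
  have hkN : k ∈ Subgroup.normalizer (P : Set G) := by rcases hk with rfl | rfl; exacts [a.hN, a.gN]
  have hwN : h * g ∈ Subgroup.normalizer (P : Set G) := mul_mem a.hN a.gN
  obtain ⟨n, hn⟩ := rot_pow h g
  rw [hn]
  clear hn
  induction n with
  | zero => simp
  | succ n ih =>
    have hA : k * (h * g) * k⁻¹ ∈ Subgroup.normalizer (P : Set G) := mul_mem (mul_mem hkN hwN) (inv_mem hkN)
    have := mul_mem ((Subgroup.mem_normalizer_iff.mp hA _).mp ih) hkw
    refine (congrArg (· ∈ P) ?_).mp this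
    rw [pow_succ' (h * g) n]
    generalize h * g = w
    calc k * w * k⁻¹ * (k * w ^ n * k⁻¹ * w ^ n) * (k * w * k⁻¹)⁻¹ *
          (k * w * k⁻¹ * w)
        = k * (w * w ^ n) * k⁻¹ * (w ^ n * w) := by group
      _ = _ := by rw [← pow_succ, ← pow_succ']

/-- A two-group centralized by a non-trivial three-element. -/
theorem two_group_cent (h0 : Six u c) (hl : Low u) {A : Subgroup G} (hA : IsPGroup 2 A) {r : G}
    (hr : r ≠ 1) {k : ℕ} (hk : orderOf r ∣ 3 ^ k) (hc : ∀ a ∈ A, r * a = a * r) :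
    A = ⊥ ∨ (Nat.card A = 2 ∧ orderOf r = 3) := by
  haveI := Fact.mk Nat.prime_two
  by_cases hAb : A = ⊥
  · exact Or.inl hAb
  right
  haveI : Nontrivial A := (Subgroup.nontrivial_iff_ne_bot _).mpr hAb
  haveI := hA.center_nontrivial
  obtain ⟨n, hn⟩ := IsPGroup.iff_card.mp (hA.to_subgroup (Subgroup.center A))
  obtain ⟨i, hi⟩ := exists_prime_orderOf_dvd_card' (G := Subgroup.center A) 2 (by
    rw [hn]
    refine dvd_pow_self 2 ?_
    rintro rfl
    have h1 : 1 < 2 ^ 0 := hn ▸ Finite.one_lt_card (α := Subgroup.center A)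
    simp at h1)
  have hi2 : orderOf ((i : A) : G) = 2 := by rw [Subgroup.orderOf_coe, Subgroup.orderOf_coe, hi]
  have hir : r * ((i : A) : G) = (i : A) * r := hc _ (i : A).2
  have hr3 : orderOf r = 3 := by
    obtain ⟨j, hj, e⟩ := (Nat.dvd_prime_pow Nat.prime_three).mp hk
    have hj0 : j ≠ 0 := fun e0 => hr (orderOf_eq_one_iff.mp (by rw [e, e0, pow_zero]))
    by_contra hne
    have hj2 : 2 ≤ j := by
      by_contra hh
      exact hne (by rw [e, show j = 1 by omega, pow_one])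
    have h9 : 9 ∣ Nat.card (cC ((i : A) : G)) := by
      refine dvd_trans ?_ (Subgroup.orderOf_dvd_natCard _ (mem_cC.mpr hir))
      rw [e, show 9 = 3 ^ 2 from rfl]
      exact pow_dvd_pow 3 hj2
    exact not_nine_dvd_cC (hl.of_idx_eq (idx_eq h0 hi2)) h9
  have hsix := h0.of_commute hi2 hr3 hir.symm
  refine ⟨?_, hr3⟩
  have hsub : ∀ a ∈ A, a = 1 ∨ a = ((i : A) : G) := by
    intro a ha
    obtain ⟨m, hm⟩ := isPGroup_two_pow hA ha
    exact hsix.eq_of_comm_two (congrArg Subtype.val (Subgroup.mem_center_iff.mp i.2 ⟨a, ha⟩)) (hc a ha).symm hm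
  have e : A = Subgroup.zpowers ((i : A) : G) :=
    le_antisymm (fun a ha => by
      rcases hsub a ha with e | e <;> rw [e]
      · exact one_mem _
      · exact Subgroup.mem_zpowers _) (Subgroup.zpowers_le.mpr (i : A).2)
  rw [e, Nat.card_zpowers, hi2]

/-- The fixed points of the rotation in a subgroup. -/
abbrev fixR (h g : G) (D : Subgroup G) : Subgroup G := D ⊓ Subgroup.centralizer ({rot h g} : Set G)

theorem mem_fixR {h g y : G} {D : Subgroup G} : y ∈ fixR h g D ↔ y ∈ D ∧ y * rot h g = rot h g * y := by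
  rw [Subgroup.mem_inf, Subgroup.mem_centralizer_singleton_iff]

theorem Trio.card_fixR (a : Trio u c x d S Sx h g) {D : Subgroup G} (hD : IsPGroup 2 D) :
    Nat.card (fixR h g D) ≤ 2 := by
  obtain ⟨k, hk⟩ := orderOf_rot h g
  rcases two_group_cent a.pair.adm.good.six a.pair.adm.good.low (hD.to_le (inf_le_left : fixR h g D ≤ D))
    a.rot_ne_one hk (fun y hy => (mem_fixR.mp hy).2.symm) with e | ⟨e, -⟩
  · show Nat.card ↥(D ⊓ Subgroup.centralizer ({rot h g} : Set G)) ≤ 2
    rw [e, Subgroup.card_bot]; norm_num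
  · show Nat.card ↥(D ⊓ Subgroup.centralizer ({rot h g} : Set G)) ≤ 2
    rw [e]

/-- A fixed coset meets the fixed points. -/
theorem Trio.coset_fixR (a : Trio u c x d S Sx h g) {N D : Subgroup G} (hD : IsPGroup 2 D) (hND : N ≤ D)
    (hrD : rot h g ∈ Subgroup.normalizer (D : Set G)) (hrN : rot h g ∈ Subgroup.normalizer (N : Set G))
    {y : G} (hy : y ∈ D) (hf : y⁻¹ * (rot h g * y * (rot h g)⁻¹) ∈ N) :
    ∃ z ∈ fixR h g D, y⁻¹ * z ∈ N := by
  obtain ⟨k, hk⟩ := orderOf_rot h g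
  obtain ⟨n, hn⟩ := IsPGroup.iff_card.mp hD
  obtain ⟨z, hz, hzc, hzN⟩ := FixedGen.exists_fixed_coset (pow_orderOf_eq_one (rot h g)) hrD
    (by
      rw [hn]
      exact (Nat.Coprime.pow n k (show Nat.Coprime 2 3 by norm_num)).coprime_dvd_right hk) hND hrN hy hf
  exact ⟨z, mem_fixR.mpr ⟨hz, hzc.symm⟩, hzN⟩

/-- If both generators act trivially on a section, it is covered by fixed points. -/
theorem Trio.trick (a : Trio u c x d S Sx h g) {N D : Subgroup G} (hD : IsPGroup 2 D) (hND : N ≤ D)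
    (hhD : h ∈ Subgroup.normalizer (D : Set G)) (hgD : g ∈ Subgroup.normalizer (D : Set G))
    (hhN : h ∈ Subgroup.normalizer (N : Set G)) (hgN : g ∈ Subgroup.normalizer (N : Set G))
    (hNN : D ≤ Subgroup.normalizer (N : Set G))
    (hh : ∀ y ∈ D, h * y * h⁻¹ * y⁻¹ ∈ N) (hg : ∀ y ∈ D, g * y * g⁻¹ * y⁻¹ ∈ N) :
    (∀ y ∈ D, ∃ z ∈ fixR h g D, y⁻¹ * z ∈ N) ∧ Nat.card D ≤ 2 * Nat.card N := by
  have key : ∀ y ∈ D, ∃ z ∈ fixR h g D, y⁻¹ * z ∈ N := by
    intro y hy
    refine a.coset_fixR hD hND (rot_mem_normalizer hhD hgD) (rot_mem_normalizer hhN hgN) hy ?_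
    obtain ⟨n, hn⟩ := rot_pow h g
    have h1 := fixes_pow (mul_mem hhN hgN) (fixes_mul hhN (hh y hy) (hg y hy)) n
    rw [← hn] at h1
    have := (Subgroup.mem_normalizer_iff.mp (hNN (inv_mem hy)) _).mp h1
    refine (congrArg (· ∈ N) ?_).mp this
    group
  refine ⟨key, ?_⟩
  let f : ↥(fixR h g D) → ↥D ⧸ N.subgroupOf D := fun z => QuotientGroup.mk ⟨z, (mem_fixR.mp z.2).1⟩
  have hf : Function.Surjective f := by
    intro q
    induction q using QuotientGroup.induction_on with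
    | H y =>
      obtain ⟨z, hz, hzN⟩ := key y y.2
      refine ⟨⟨z, hz⟩, (QuotientGroup.eq.mpr ?_).symm⟩
      exact Subgroup.mem_subgroupOf.mpr hzN
  have h1 := Nat.card_le_card_of_surjective f hf
  rw [← card_relIndex hND, mul_comm 2]
  exact Nat.mul_le_mul_left _ (h1.trans (a.card_fixR hD))

end CfsgLib.OrderSix
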